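import Mathlib
import Cfsg.Agent.Lib.helper15.NearField
import Cfsg.Agent.Lib.helper15.Sharp2NF
import Cfsg.Agent.Lib.helper7.ProjLine

/-!
# Sharply triply transitive groups of odd degree are `PGL(2, 2^f)`
-/

set_option autoImplicit false
set_option linter.style.haveILetI false

namespace Cfsg.Agent.Lib.helper16

open Cfsg.Agent.Lib.helper15.NearField

section NF

variable {K : Type*} [Cfsg.NearField K]

/-- Nonzero elements of a near-field are units of the multiplicative monoid. -/
theorem nf_isUnit {x : K} (hx : x ≠ 0) : IsUnit x := by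
  obtain ⟨y, -, h1, h2⟩ := nf_exists_inv x hx
  exact ⟨⟨x, y, h1, h2⟩, rfl⟩

theorem nf_unit_ne_zero (u : Kˣ) : (u : K) ≠ 0 := by
  intro h
  have h1 : (u : K) * ((u⁻¹ : Kˣ) : K) = 1 := u.mul_inv
  rw [h, nf_zero_mul] at h1
  exact nf_zero_ne_one h1

/-- A finite near-field with a multiplicative involution of the non-zero elements fixing only `1`
has commutative multiplication, and the involution is inversion. -/
theorem nf_comm_of_involution [Finite K] (τ : K → K)
    (hne : ∀ x : K, x ≠ 0 → τ x ≠ 0)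
    (hmul : ∀ x a : K, x ≠ 0 → a ≠ 0 → τ (x * a) = τ x * τ a)
    (hinv : ∀ x : K, x ≠ 0 → τ (τ x) = x)
    (hfix : ∀ x : K, x ≠ 0 → τ x = x → x = 1) :
    (∀ x y : K, x * y = y * x) ∧ ∀ x : K, x ≠ 0 → x * τ x = 1 := by
  have h1ne : (1 : K) ≠ 0 := fun h => nf_zero_ne_one h.symm
  have hτ1 : τ 1 = 1 := by
    have h := hmul 1 1 h1ne h1ne
    rw [one_mul] at h
    obtain ⟨y, -, h2, -⟩ := nf_exists_inv (τ 1) (hne 1 h1ne)
    calc τ 1 = τ 1 * (τ 1 * y) := by rw [h2, mul_one]
      _ = τ 1 * τ 1 * y := (mul_assoc _ _ _).symm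
      _ = τ 1 * y := by rw [← h]
      _ = 1 := h2
  let φ : Kˣ →* Kˣ :=
    { toFun := fun u => ⟨τ u, τ ((u⁻¹ : Kˣ) : K),
        by rw [← hmul _ _ (nf_unit_ne_zero u) (nf_unit_ne_zero u⁻¹), u.mul_inv, hτ1],
        by rw [← hmul _ _ (nf_unit_ne_zero u⁻¹) (nf_unit_ne_zero u), u.inv_mul, hτ1]⟩
      map_one' := Units.ext hτ1
      map_mul' := fun u v => Units.ext (by
        show τ ((u : K) * (v : K)) = τ u * τ v
        exact hmul _ _ (nf_unit_ne_zero u) (nf_unit_ne_zero v)) }
  have hφval : ∀ u : Kˣ, ((φ u : Kˣ) : K) = τ u := fun u => rfl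
  have hfpf : MonoidHom.FixedPointFree φ := by
    intro u hu
    apply Units.ext
    have h2 : τ (u : K) = u := by rw [← hφval, hu]
    exact hfix _ (nf_unit_ne_zero u) h2
  have hinvol : Function.Involutive φ := by
    intro u
    apply Units.ext
    rw [hφval, hφval]
    exact hinv _ (nf_unit_ne_zero u)
  have hcomm := fun u v : Kˣ => hfpf.commute_all_of_involutive hinvol u v
  have hcoe := hfpf.coe_eq_inv_of_involutive hinvol
  constructor
  · intro x y
    by_cases hx : x = 0
    · rw [hx, nf_zero_mul, nf_mul_zero]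
    by_cases hy : y = 0
    · rw [hy, nf_zero_mul, nf_mul_zero]
    obtain ⟨u, rfl⟩ := nf_isUnit hx
    obtain ⟨v, rfl⟩ := nf_isUnit hy
    have h := (hcomm u v).eq
    exact congrArg Units.val h
  · intro x hx
    obtain ⟨u, rfl⟩ := nf_isUnit hx
    have h : φ u = u⁻¹ := congrFun hcoe u
    rw [← hφval, h]
    exact u.mul_inv

/-- The commutative ring structure on a near-field with commutative operations. -/
@[reducible] def commRingOfNearField (hadd : ∀ x y : K, x + y = y + x)
    (hmul : ∀ x y : K, x * y = y * x) : CommRing K :=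
  { (inferInstance : AddGroup K), (inferInstance : Monoid K) with
    add_comm := hadd
    left_distrib := fun a b c => by
      rw [hmul a (b + c), nf_right_distrib, hmul b a, hmul c a]
    right_distrib := nf_right_distrib
    zero_mul := nf_zero_mul
    mul_zero := nf_mul_zero
    mul_comm := hmul }

/-- A finite near-field with commutative multiplication is, up to a bijection respecting the
operations, a finite field living in `Type`. -/
theorem exists_field_equiv [Finite K] (hmul : ∀ x y : K, x * y = y * x) :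
    ∃ (F : Type) (_ : Field F) (_ : Fintype F) (e : K ≃ F),
      (∀ x y : K, e (x * y) = e x * e y) ∧ (∀ x y : K, e (x + y) = e x + e y) ∧
      e 0 = 0 ∧ e 1 = 1 ∧ Fintype.card F = Nat.card K ∧
      ∃ p : ℕ, p.Prime ∧ CharP F p := by
  classical
  obtain ⟨p, j, hp, hj, hcard, hadd, hchar⟩ := finite_nearField (F := K)
  letI cr : CommRing K := commRingOfNearField hadd hmul
  have hisf : IsField K :=
    { exists_pair_ne := ⟨0, 1, nf_zero_ne_one⟩
      mul_comm := hmul
      mul_inv_cancel := fun {a} ha => by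
        obtain ⟨b, -, h1, -⟩ := nf_exists_inv a ha
        exact ⟨b, h1⟩ }
  letI fld : Field K := hisf.toField
  haveI : Fintype K := Fintype.ofFinite K
  haveI : Fact p.Prime := ⟨hp⟩
  haveI hcp : CharP K p := by
    apply (CharP.charP_iff_prime_eq_zero hp).mpr
    rw [← nsmul_one]
    exact hchar 1
  letI : Algebra (ZMod p) K := ZMod.algebra K p
  have hc2 : Fintype.card K = p ^ j := by rw [← Nat.card_eq_fintype_card]; exact hcard
  let e' := GaloisField.algEquivGaloisFieldOfFintype p j hc2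
  haveI : Fintype (GaloisField p j) := Fintype.ofFinite _
  refine ⟨GaloisField p j, inferInstance, inferInstance, e'.toEquiv, ?_, ?_, ?_, ?_, ?_, p, hp, inferInstance⟩
  · intro x y; exact map_mul e' x y
  · intro x y; exact map_add e' x y
  · exact map_zero e'
  · exact map_one e'
  · rw [← Nat.card_eq_fintype_card, GaloisField.card p j (by omega), hcard]

end NF

section Sharp3

open MulAction SubMulAction

variable {α : Type*} [Fintype α] [DecidableEq α] {G : Type*} [Group G] [Finite G] [MulAction G α]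

/-- In a sharply triply transitive group of odd degree, the stabiliser of a point is the affine
group of a near-field with commutative multiplication on the remaining points, and the involution
swapping `∞` and `0` and fixing `1` is inversion. -/
theorem exists_nearField_of_sharp3
    (move3 : ∀ (p0 p1 p2 q0 q1 q2 : α), p0 ≠ p1 → p0 ≠ p2 → p1 ≠ p2 → q0 ≠ q1 → q0 ≠ q2 →
      q1 ≠ q2 → ∃ k : G, k • p0 = q0 ∧ k • p1 = q1 ∧ k • p2 = q2)
    (fix3 : ∀ (g : G) (p0 p1 p2 : α), p0 ≠ p1 → p0 ≠ p2 → p1 ≠ p2 →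
      g • p0 = p0 → g • p1 = p1 → g • p2 = p2 → g = 1)
    (hodd : Odd (Fintype.card α)) (h3 : 3 ≤ Fintype.card α) (inf : α) :
    ∃ (_ : Cfsg.NearField (ofStabilizer G inf)) (s : G),
      (∀ x y : ofStabilizer G inf, x * y = y * x) ∧
      (∀ g : stabilizer G inf, ∃ a b : ofStabilizer G inf, a ≠ 0 ∧
        ∀ x : ofStabilizer G inf, g • x = x * a + b) ∧
      (∀ a b : ofStabilizer G inf, a ≠ 0 → ∃ g : stabilizer G inf,
        ∀ x : ofStabilizer G inf, g • x = x * a + b) ∧
      s • inf = ((0 : ofStabilizer G inf) : α) ∧ s • ((0 : ofStabilizer G inf) : α) = inf ∧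
      (∀ x : ofStabilizer G inf, x ≠ 0 → ∃ y : ofStabilizer G inf,
        (y : α) = s • (x : α) ∧ x * y = 1) := by
  classical
  haveI : Fintype (ofStabilizer G inf) := Fintype.ofFinite _
  have hcardK : Fintype.card (ofStabilizer G inf) + 1 = Fintype.card α := by
    have h := nat_card_ofStabilizer_add_one_eq G inf
    rwa [Nat.card_eq_fintype_card, Nat.card_eq_fintype_card] at h
  have hK2 : 2 ≤ Fintype.card (ofStabilizer G inf) := by omega
  have hmemK : ∀ x : ofStabilizer G inf, (x : α) ≠ inf := fun x => x.prop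
  have h2t : ∀ a b c d : ofStabilizer G inf, a ≠ b → c ≠ d →
      ∃ g : stabilizer G inf, g • a = c ∧ g • b = d := by
    intro a b c d hab hcd
    obtain ⟨g, h0, h1, h2⟩ := move3 inf a b inf c d (hmemK a).symm (hmemK b).symm
      (fun h => hab (Subtype.ext h)) (hmemK c).symm (hmemK d).symm (fun h => hcd (Subtype.ext h))
    exact ⟨⟨g, h0⟩, Subtype.ext h1, Subtype.ext h2⟩
  have hsh : ∀ (g : stabilizer G inf) (a b : ofStabilizer G inf), a ≠ b → g • a = a →
      g • b = b → g = 1 := by
    intro g a b hab ha hb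
    apply Subtype.ext
    exact fix3 g inf a b (hmemK a).symm (hmemK b).symm (fun h => hab (Subtype.ext h))
      (mem_stabilizer_iff.mp g.2) (congrArg Subtype.val ha) (congrArg Subtype.val hb)
  obtain ⟨nf, hG, hG'⟩ := Cfsg.Agent.Lib.helper15.Sharp2NF.exists_nearField h2t hsh hK2
  letI := nf
  obtain ⟨o, ho⟩ : ∃ o : ofStabilizer G inf, o = 0 := ⟨_, rfl⟩
  obtain ⟨e, he⟩ : ∃ e : ofStabilizer G inf, e = 1 := ⟨_, rfl⟩
  have hoe : (o : α) ≠ e := fun h => nf_zero_ne_one (by rw [← ho, ← he]; exact Subtype.ext h)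
  obtain ⟨s, hs1, hs2, hs3⟩ := move3 inf o e o inf e (hmemK o).symm (hmemK e).symm hoe
    (hmemK o) hoe (hmemK e).symm
  have hss : s * s = 1 := by
    apply fix3 (s * s) inf o e (hmemK o).symm (hmemK e).symm hoe
    · rw [mul_smul, hs1, hs2]
    · rw [mul_smul, hs2, hs1]
    · rw [mul_smul, hs3, hs3]
  have hs_ne : s ≠ 1 := by
    intro h
    rw [h, one_smul] at hs1
    exact (hmemK o) hs1.symm
  -- the involution `s` fixes only `1`
  have hfixs : ∀ y : α, s • y = y → y = e := by
    intro y hy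
    by_contra hne
    have hσ : (MulAction.toPerm s : Equiv.Perm α) ^ 2 ^ 1 = 1 := by
      ext z
      simp only [pow_one, pow_two, Equiv.Perm.coe_mul, Function.comp_apply, MulAction.toPerm_apply,
        Equiv.Perm.coe_one, id_eq]
      rw [← mul_smul, hss, one_smul]
    haveI : Fact (Nat.Prime 2) := ⟨Nat.prime_two⟩
    have hmod := Equiv.Perm.card_compl_support_modEq (p := 2) hσ
    have hoddF : Odd ((MulAction.toPerm s : Equiv.Perm α).support)ᶜ.card := by
      rw [Nat.odd_iff]
      have h1 : Fintype.card α % 2 = 1 := Nat.odd_iff.mp hodd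
      rw [← h1]
      exact hmod
    have hmemF : ∀ z : α, z ∈ ((MulAction.toPerm s : Equiv.Perm α).support)ᶜ ↔ s • z = z := by
      intro z
      rw [Finset.mem_compl, Equiv.Perm.mem_support, not_not, MulAction.toPerm_apply]
    have h2 : 1 < ((MulAction.toPerm s : Equiv.Perm α).support)ᶜ.card :=
      Finset.one_lt_card.mpr ⟨y, (hmemF y).mpr hy, e, (hmemF e).mpr hs3, hne⟩
    have h3' : 2 < ((MulAction.toPerm s : Equiv.Perm α).support)ᶜ.card := by
      rcases hoddF with ⟨k, hk⟩
      omega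
    obtain ⟨a, b, c, ha, hb, hc, hab, hac, hbc⟩ := Finset.two_lt_card_iff.mp h3'
    exact hs_ne (fix3 s a b c hab hac hbc ((hmemF a).mp ha) ((hmemF b).mp hb) ((hmemF c).mp hc))
  have hsinf : ∀ x : ofStabilizer G inf, x ≠ 0 → s • (x : α) ≠ inf := by
    intro x hx h
    apply hx
    rw [← ho]
    apply Subtype.ext
    have h1 : s • (x : α) = s • (o : α) := by rw [h, hs2]
    exact smul_left_cancel s h1
  let τ : ofStabilizer G inf → ofStabilizer G inf := fun x =>
    if h : s • (x : α) = inf then 0 else ⟨s • (x : α), (mem_ofStabilizer_iff G inf).mpr h⟩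
  have hτval : ∀ x : ofStabilizer G inf, x ≠ 0 →
      ((τ x : ofStabilizer G inf) : α) = s • (x : α) := by
    intro x hx
    simp only [τ, dif_neg (hsinf x hx)]
  have hτne : ∀ x : ofStabilizer G inf, x ≠ 0 → τ x ≠ 0 := by
    intro x hx h
    have h1 := hτval x hx
    rw [h, ← ho] at h1
    have h2 : s • (o : α) = (x : α) := by rw [h1, ← mul_smul, hss, one_smul]
    rw [hs2] at h2
    exact hmemK x h2.symm
  have hτmul : ∀ x a : ofStabilizer G inf, x ≠ 0 → a ≠ 0 → τ (x * a) = τ x * τ a := by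
    intro x a hx ha
    obtain ⟨g, hg⟩ := hG' a 0 ha
    have hgo : (g : G) • (o : α) = (o : α) := by
      have h := hg o
      rw [ho, nf_zero_mul, add_zero] at h
      rw [ho]
      exact congrArg Subtype.val h
    have hg'inf : (s * g * s) • inf = inf := by
      rw [mul_smul, mul_smul, hs1, hgo, hs2]
    obtain ⟨a', b', ha', hg'⟩ := hG ⟨s * g * s, hg'inf⟩
    have hg'o : (s * g * s) • (o : α) = (o : α) := by
      rw [mul_smul, mul_smul, hs2, mem_stabilizer_iff.mp g.2, hs1]
    have hb' : b' = 0 := by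
      have h := hg' o
      rw [ho, nf_zero_mul, zero_add] at h
      rw [← h, ← ho]
      exact Subtype.ext hg'o
    have hge : (g : G) • (e : α) = (a : α) := by
      have h := hg e
      rw [he, one_mul, add_zero] at h
      rw [he]
      exact congrArg Subtype.val h
    have ha'τ : a' = τ a := by
      have h := hg' e
      rw [he, one_mul, hb', add_zero] at h
      rw [← h, ← he]
      apply Subtype.ext
      show (s * g * s) • (e : α) = _
      rw [hτval a ha, mul_smul, mul_smul, hs3, hge]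
    apply Subtype.ext
    have hxa : x * a ≠ 0 := nf_mul_ne_zero x a hx ha
    rw [hτval _ hxa]
    have h1 : ((x * a : ofStabilizer G inf) : α) = (g : G) • (x : α) := by
      have h := hg x
      rw [add_zero] at h
      exact (congrArg Subtype.val h).symm
    rw [h1]
    have h2 := hg' (τ x)
    rw [hb', add_zero, ha'τ] at h2
    rw [← h2]
    show s • (g : G) • (x : α) = (s * g * s) • ((τ x : ofStabilizer G inf) : α)
    rw [hτval x hx, mul_smul, mul_smul, ← mul_smul s s, hss, one_smul]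
  have hτinv : ∀ x : ofStabilizer G inf, x ≠ 0 → τ (τ x) = x := by
    intro x hx
    apply Subtype.ext
    rw [hτval _ (hτne x hx), hτval x hx, ← mul_smul, hss, one_smul]
  have hτfix : ∀ x : ofStabilizer G inf, x ≠ 0 → τ x = x → x = 1 := by
    intro x hx h
    rw [← he]
    apply Subtype.ext
    apply hfixs
    rw [← hτval x hx, h]
  obtain ⟨hcomm, hinvτ⟩ := nf_comm_of_involution τ hτne hτmul hτinv hτfix
  refine ⟨nf, s, hcomm, hG, hG', ?_, ?_, ?_⟩
  · rw [← ho]; exact hs1
  · rw [← ho]; exact hs2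
  · intro x hx
    exact ⟨τ x, hτval x hx, hinvτ x hx⟩

end Sharp3

section ProjLine

open Matrix Projectivization Cfsg.Agent.Lib.helper7
open scoped LinearAlgebra.Projectivization

variable {F : Type*} [Field F]

theorem pt_vec_ne (c : F) : (![c, 1] : Fin 2 → F) ≠ 0 := fun h => by
  have := congrFun h 1
  simp at this

/-- The affine point `[c : 1]` of the projective line. -/
noncomputable def pt (c : F) : ℙ F (Fin 2 → F) := mk F ![c, 1] (pt_vec_ne c)

theorem pt_injective : Function.Injective (pt : F → ℙ F (Fin 2 → F)) := by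
  intro c c' h
  unfold pt at h
  rw [mk_eq_mk_iff'] at h
  obtain ⟨a, ha⟩ := h
  have h1 := congrFun ha 1
  have h0 := congrFun ha 0
  simp at h1 h0
  rw [h1, one_mul] at h0
  exact h0.symm

theorem pt_ne_p1 (c : F) : pt c ≠ (p1 : ℙ F (Fin 2 → F)) := by
  intro h
  unfold pt p1 at h
  rw [mk_eq_mk_iff'] at h
  obtain ⟨a, ha⟩ := h
  have h1 := congrFun ha 1
  simp [e1] at h1

theorem p2_eq_pt : (p2 : ℙ F (Fin 2 → F)) = pt 0 := rfl

theorem p12_eq_pt : (p12 : ℙ F (Fin 2 → F)) = pt 1 := rfl

theorem eq_p1_or_pt (q : ℙ F (Fin 2 → F)) : q = p1 ∨ ∃ c : F, q = pt c := by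
  induction q using Projectivization.ind with | _ v hv
  by_cases h1 : v 1 = 0
  · left
    unfold p1
    rw [mk_eq_mk_iff']
    refine ⟨v 0, ?_⟩
    ext i
    fin_cases i
    · simp [e1]
    · simp [e1, h1]
  · right
    refine ⟨v 0 / v 1, ?_⟩
    unfold pt
    rw [mk_eq_mk_iff']
    refine ⟨v 1, ?_⟩
    ext i
    fin_cases i
    · simp
      field_simp
    · simp

/-- The affine matrix `x ↦ a x + b`. -/
noncomputable def affMat (a b : F) (ha : a ≠ 0) : GL (Fin 2) F :=
  Matrix.GeneralLinearGroup.mkOfDetNeZero !![a, b; 0, 1] (by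
    rw [det_fin_two_of]
    simpa using ha)

/-- The matrix of `x ↦ 1 / x`. -/
noncomputable def swapMat : GL (Fin 2) F :=
  Matrix.GeneralLinearGroup.mkOfDetNeZero !![0, 1; 1, 0] (by
    rw [det_fin_two_of]
    simp)

theorem affMat_smul_p1 (a b : F) (ha : a ≠ 0) :
    (Matrix.ProjGenLinGroup.mk (affMat a b ha) : Matrix.ProjGenLinGroup (Fin 2) F) •
      (p1 : ℙ F (Fin 2 → F)) = p1 := by
  unfold p1
  rw [mk_smul_mk_eq_iff]
  refine ⟨a, ?_⟩
  unfold affMat
  rw [Matrix.GeneralLinearGroup.val_mkOfDetNeZero, mulVec_e1]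
  ext i
  fin_cases i <;> simp [e1]

theorem affMat_smul_pt (a b : F) (ha : a ≠ 0) (c : F) :
    (Matrix.ProjGenLinGroup.mk (affMat a b ha) : Matrix.ProjGenLinGroup (Fin 2) F) • pt c =
      pt (c * a + b) := by
  unfold pt
  rw [mk_smul_mk_eq_iff]
  refine ⟨1, ?_⟩
  unfold affMat
  rw [Matrix.GeneralLinearGroup.val_mkOfDetNeZero, one_smul]
  ext i
  fin_cases i
  · simp [Matrix.mulVec, dotProduct, Fin.sum_univ_two, mul_comm]
  · simp [Matrix.mulVec, dotProduct, Fin.sum_univ_two]

theorem swapMat_smul_p1 :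
    (Matrix.ProjGenLinGroup.mk swapMat : Matrix.ProjGenLinGroup (Fin 2) F) •
      (p1 : ℙ F (Fin 2 → F)) = pt 0 := by
  unfold p1 pt
  rw [mk_smul_mk_eq_iff]
  refine ⟨1, ?_⟩
  unfold swapMat
  rw [Matrix.GeneralLinearGroup.val_mkOfDetNeZero, mulVec_e1, one_smul]
  ext i
  fin_cases i <;> simp

theorem swapMat_smul_pt_zero :
    (Matrix.ProjGenLinGroup.mk swapMat : Matrix.ProjGenLinGroup (Fin 2) F) • pt (0 : F) = p1 := by
  unfold p1 pt
  rw [mk_smul_mk_eq_iff]
  refine ⟨1, ?_⟩
  unfold swapMat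
  rw [Matrix.GeneralLinearGroup.val_mkOfDetNeZero, one_smul]
  ext i
  fin_cases i <;> simp [Matrix.mulVec, dotProduct, Fin.sum_univ_two, e1]

theorem swapMat_smul_pt (c : F) (hc : c ≠ 0) :
    (Matrix.ProjGenLinGroup.mk swapMat : Matrix.ProjGenLinGroup (Fin 2) F) • pt c = pt c⁻¹ := by
  unfold pt
  rw [mk_smul_mk_eq_iff]
  refine ⟨c, ?_⟩
  unfold swapMat
  rw [Matrix.GeneralLinearGroup.val_mkOfDetNeZero]
  ext i
  fin_cases i
  · simp [Matrix.mulVec, dotProduct, Fin.sum_univ_two, hc]
  · simp [Matrix.mulVec, dotProduct, Fin.sum_univ_two]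

end ProjLine

section Main

open MulAction SubMulAction Matrix Projectivization Cfsg.Agent.Lib.helper7
open scoped LinearAlgebra.Projectivization

variable {α : Type*} [Fintype α] [DecidableEq α] {G : Type*} [Group G] [Finite G] [MulAction G α]

/-- A finite sharply triply transitive group of odd degree is `PGL(2, F)` for a finite field `F`
of characteristic 2 with `|F| + 1` equal to the degree. -/
theorem sharp3_odd_iso [FaithfulSMul G α]
    (move3 : ∀ (p0 p1 p2 q0 q1 q2 : α), p0 ≠ p1 → p0 ≠ p2 → p1 ≠ p2 → q0 ≠ q1 → q0 ≠ q2 →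
      q1 ≠ q2 → ∃ k : G, k • p0 = q0 ∧ k • p1 = q1 ∧ k • p2 = q2)
    (fix3 : ∀ (g : G) (p0 p1 p2 : α), p0 ≠ p1 → p0 ≠ p2 → p1 ≠ p2 →
      g • p0 = p0 → g • p1 = p1 → g • p2 = p2 → g = 1)
    (hodd : Odd (Fintype.card α)) (h3 : 3 ≤ Fintype.card α) :
    ∃ (F : Type) (_ : Field F) (_ : Fintype F), Fintype.card F + 1 = Fintype.card α ∧
      CharP F 2 ∧ Nonempty (G ≃* Matrix.ProjGenLinGroup (Fin 2) F) := by
  classical
  have hne : Nonempty α := Fintype.card_pos_iff.mp (by omega)
  obtain ⟨inf⟩ := hne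
  obtain ⟨nf, s, hcomm, hG, hG', hs1, hs2, hs⟩ :=
    exists_nearField_of_sharp3 move3 fix3 hodd h3 inf
  letI := nf
  obtain ⟨F, fF, ftF, e, hemul, headd, he0, he1, hecard, p, hp, hcp⟩ :=
    exists_field_equiv (K := ofStabilizer G inf) hcomm
  have hcardF : Fintype.card F + 1 = Fintype.card α := by
    rw [hecard, nat_card_ofStabilizer_add_one_eq G inf, Nat.card_eq_fintype_card]
  have hchar2 : CharP F 2 := by
    obtain ⟨n, -, hn⟩ := FiniteField.card F p
    have heven : Even (p ^ (n : ℕ)) := by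
      rw [← hn]
      rcases hodd with ⟨k, hk⟩
      exact ⟨k, by omega⟩
    have hp2 : p = 2 := (Nat.Prime.even_iff hp).mp ((Nat.even_pow.mp heven).1)
    rw [← hp2]
    exact hcp
  refine ⟨F, fF, ftF, hcardF, hchar2, ?_⟩
  have hmemK : ∀ x : ofStabilizer G inf, (x : α) ≠ inf := fun x => x.prop
  -- the coordinate map
  let φ : α → ℙ F (Fin 2 → F) := fun y =>
    if h : y = inf then p1 else pt (e ⟨y, (mem_ofStabilizer_iff G inf).mpr h⟩)
  have hφinf : φ inf = p1 := by simp only [φ, dif_pos rfl]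
  have hφK : ∀ x : ofStabilizer G inf, φ (x : α) = pt (e x) := by
    intro x
    simp only [φ, dif_neg (hmemK x)]
  have hcases : ∀ y : α, y = inf ∨ ∃ x : ofStabilizer G inf, (x : α) = y := by
    intro y
    by_cases h : y = inf
    · exact Or.inl h
    · exact Or.inr ⟨⟨y, (mem_ofStabilizer_iff G inf).mpr h⟩, rfl⟩
  have hφinj : Function.Injective φ := by
    intro y y' h
    rcases hcases y with rfl | ⟨x, rfl⟩ <;> rcases hcases y' with rfl | ⟨x', rfl⟩
    · rfl
    · rw [hφinf, hφK] at h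
      exact absurd h.symm (pt_ne_p1 _)
    · rw [hφinf, hφK] at h
      exact absurd h (pt_ne_p1 _)
    · rw [hφK, hφK] at h
      rw [e.injective (pt_injective h)]
  have hφsurj : Function.Surjective φ := by
    intro q
    rcases eq_p1_or_pt q with rfl | ⟨c, rfl⟩
    · exact ⟨inf, hφinf⟩
    · refine ⟨(e.symm c : ofStabilizer G inf), ?_⟩
      rw [hφK, Equiv.apply_symm_apply]
  have he_ne : ∀ a : ofStabilizer G inf, a ≠ 0 → e a ≠ 0 := by
    intro a ha h
    apply ha
    apply e.injective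
    rw [h, he0]
  -- the subgroup of elements acting as Moebius maps
  let M : Subgroup G :=
    { carrier := {g | ∃ m : Matrix.ProjGenLinGroup (Fin 2) F, ∀ y : α, φ (g • y) = m • φ y}
      one_mem' := ⟨1, fun y => by rw [one_smul, one_smul]⟩
      mul_mem' := by
        rintro g g' ⟨m, hm⟩ ⟨m', hm'⟩
        exact ⟨m * m', fun y => by rw [mul_smul, hm, hm', mul_smul]⟩
      inv_mem' := by
        rintro g ⟨m, hm⟩
        exact ⟨m⁻¹, fun y => by rw [eq_inv_smul_iff, ← hm, smul_inv_smul]⟩ }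
  have hstabM : ∀ g : G, g • inf = inf → g ∈ M := by
    intro g hg
    obtain ⟨a, b, ha, hgx⟩ := hG ⟨g, hg⟩
    refine ⟨Matrix.ProjGenLinGroup.mk (affMat (e a) (e b) (he_ne a ha)), ?_⟩
    intro y
    rcases hcases y with rfl | ⟨x, rfl⟩
    · rw [hg, hφinf, affMat_smul_p1]
    · have h1 : g • (x : α) = ((x * a + b : ofStabilizer G inf) : α) := by
        rw [← hgx x]
        rfl
      rw [h1, hφK, hφK, affMat_smul_pt, headd, hemul]
  have hsM : s ∈ M := by
    refine ⟨Matrix.ProjGenLinGroup.mk swapMat, ?_⟩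
    intro y
    rcases hcases y with rfl | ⟨x, rfl⟩
    · rw [hs1, hφK, hφinf, swapMat_smul_p1, he0]
    · by_cases hx : x = 0
      · rw [hx, hs2, hφinf, hφK, he0, swapMat_smul_pt_zero]
      · obtain ⟨y', hy', hxy⟩ := hs x hx
        rw [← hy', hφK, hφK, swapMat_smul_pt _ (he_ne x hx)]
        congr 1
        have h2 : e x * e y' = 1 := by rw [← hemul, hxy, he1]
        exact eq_inv_of_mul_eq_one_right h2
  have hMtop : ∀ g : G, g ∈ M := by
    intro g
    by_cases hg : g • inf = inf
    · exact hstabM g hg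
    · obtain ⟨x, hx⟩ : ∃ x : ofStabilizer G inf, (x : α) = g • inf :=
        ⟨⟨g • inf, (mem_ofStabilizer_iff G inf).mpr hg⟩, rfl⟩
      have h1ne : (1 : ofStabilizer G inf) ≠ 0 := fun h => nf_zero_ne_one h.symm
      obtain ⟨t, ht⟩ := hG' 1 (-x) h1ne
      have htx : (t : G) • (x : α) = ((0 : ofStabilizer G inf) : α) := by
        have h := ht x
        rw [mul_one, add_neg_cancel] at h
        exact congrArg Subtype.val h
      have h2 : (s * (t : G) * g) • inf = inf := by
        rw [mul_smul, mul_smul, ← hx, htx, hs2]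
      have h3 : g = (t : G)⁻¹ * s⁻¹ * (s * (t : G) * g) := by group
      rw [h3]
      exact M.mul_mem (M.mul_mem (M.inv_mem (hstabM t (mem_stabilizer_iff.mp t.2)))
        (M.inv_mem hsM)) (hstabM _ h2)
  have hPGLfaith : ∀ m m' : Matrix.ProjGenLinGroup (Fin 2) F,
      (∀ q : ℙ F (Fin 2 → F), m • q = m' • q) → m = m' := by
    intro m m' h
    have h1 : m'⁻¹ * m = 1 := by
      apply eq_one_of_fix_std
      · rw [mul_smul, h, inv_smul_smul]
      · rw [mul_smul, h, inv_smul_smul]
      · rw [mul_smul, h, inv_smul_smul]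
    exact (inv_mul_eq_one.mp h1).symm
  choose ψ hψ using hMtop
  have hψuniq : ∀ (g : G) (m : Matrix.ProjGenLinGroup (Fin 2) F),
      (∀ y, φ (g • y) = m • φ y) → ψ g = m := by
    intro g m hm
    apply hPGLfaith
    intro q
    obtain ⟨y, rfl⟩ := hφsurj q
    rw [← hψ g y, hm y]
  let Ψ : G →* Matrix.ProjGenLinGroup (Fin 2) F :=
    { toFun := ψ
      map_one' := hψuniq 1 1 (fun y => by rw [one_smul, one_smul])
      map_mul' := fun g g' => hψuniq _ _ (fun y => by rw [mul_smul, hψ, hψ, mul_smul]) }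
  have hΨ : ∀ g y, φ (g • y) = Ψ g • φ y := hψ
  have hinj : Function.Injective Ψ := by
    rw [injective_iff_map_eq_one]
    intro g hg
    apply FaithfulSMul.eq_of_smul_eq_smul (α := α)
    intro y
    rw [one_smul]
    apply hφinj
    rw [hΨ, hg, one_smul]
  have hsurj : Function.Surjective Ψ := by
    intro m
    obtain ⟨y1, hy1⟩ := hφsurj (m • p1)
    obtain ⟨y2, hy2⟩ := hφsurj (m • pt 0)
    obtain ⟨y3, hy3⟩ := hφsurj (m • pt 1)
    have h01 : (0 : F) ≠ 1 := zero_ne_one
    have h12 : y1 ≠ y2 := by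
      intro h
      rw [h, hy2] at hy1
      exact pt_ne_p1 _ (smul_left_cancel m hy1)
    have h13 : y1 ≠ y3 := by
      intro h
      rw [h, hy3] at hy1
      exact pt_ne_p1 _ (smul_left_cancel m hy1)
    have h23 : y2 ≠ y3 := by
      intro h
      rw [h, hy3] at hy2
      exact h01 (pt_injective (smul_left_cancel m hy2)).symm
    have hoe : ((0 : ofStabilizer G inf) : α) ≠ ((1 : ofStabilizer G inf) : α) :=
      fun h => nf_zero_ne_one (Subtype.ext h)
    obtain ⟨g, hg1, hg2, hg3⟩ := move3 inf ((0 : ofStabilizer G inf) : α)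
      ((1 : ofStabilizer G inf) : α) y1 y2 y3 (hmemK 0).symm (hmemK 1).symm hoe h12 h13 h23
    refine ⟨g, ?_⟩
    have h1 : (Ψ g)⁻¹ * m = 1 := by
      apply eq_one_of_fix_std
      · rw [mul_smul, ← hy1, ← hg1, hΨ, inv_smul_smul, hφinf]
      · rw [p2_eq_pt, mul_smul, ← hy2, ← hg2, hΨ, inv_smul_smul, hφK, he0]
      · rw [p12_eq_pt, mul_smul, ← hy3, ← hg3, hΨ, inv_smul_smul, hφK, he1]
    exact inv_mul_eq_one.mp h1
  exact ⟨MulEquiv.ofBijective Ψ ⟨hinj, hsurj⟩⟩

end Main

section SLPGL

/-- In characteristic 2, `SL(2, F) ≅ PGL(2, F)` for a finite field `F`. -/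
theorem sl2_mulEquiv_pgl2 (F : Type*) [Field F] [Finite F] [CharP F 2] :
    Nonempty (Matrix.SpecialLinearGroup (Fin 2) F ≃* Matrix.ProjGenLinGroup (Fin 2) F) := by
  have h2 : (2 : F) = 0 := by
    have := CharP.cast_eq_zero F 2
    exact_mod_cast this
  have hinj : Function.Injective (Matrix.SpecialLinearGroup.toPGL (n := Fin 2) (R := F)) := by
    rw [injective_iff_map_eq_one]
    intro A hA
    have hker : A ∈ (Matrix.SpecialLinearGroup.toPGL (n := Fin 2) (R := F)).ker := hA
    rw [Matrix.SpecialLinearGroup.toPGL_ker, Matrix.SpecialLinearGroup.mem_center_iff] at hker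
    obtain ⟨r, hr, hrA⟩ := hker
    have hr' : r ^ 2 = 1 := by simpa using hr
    have hr1 : r = 1 := by
      have h3 : (r - 1) ^ 2 = 0 := by linear_combination hr' - (r - 1) * h2
      exact sub_eq_zero.mp ((pow_eq_zero_iff (two_ne_zero)).mp h3)
    apply Subtype.ext
    rw [← hrA, hr1]
    simp
  have hsurj : Function.Surjective (Matrix.SpecialLinearGroup.toPGL (n := Fin 2) (R := F)) := by
    intro m
    obtain ⟨X, hX⟩ := Matrix.ProjectiveSpecialLinearGroup.toPGL_surj_of_roots
      (n := Fin 2) (R := F) (by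
        intro r
        obtain ⟨k, hk⟩ := FiniteField.isSquare_of_char_two (ringChar.eq F 2) (r : F)
        have hk0 : k ≠ 0 := by
          rintro rfl
          rw [mul_zero] at hk
          exact r.ne_zero hk
        refine ⟨Units.mk0 k hk0, ?_⟩
        apply Units.ext
        simp [pow_two, hk]) m
    induction X using QuotientGroup.induction_on with
    | H A => exact ⟨A, hX⟩
  exact ⟨MulEquiv.ofBijective _ ⟨hinj, hsurj⟩⟩

end SLPGL

end Cfsg.Agent.Lib.helper16
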