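import Mathlib
import Cfsg.Agent.Lib.helper58.SU3Sylow

/-!
# S1903: shared definitions (groups of order 320 of `U₃(4)`-involution-centralizer type)

Abstract side: the relations `Rel u x` (two generators) and the expanded generator data `Gens`;
the intermediate structures `D1`, `D2`, `D3` for a group `G` of order 320 with `|G'| = 64` and
`Z(G')` a four-group.  Concrete side: the involution `tauE` and the diagonal element `dE` of
`SU 3 F 4` (`|F| = 16`) and the facts `CentData` about the centralizer of `tauE`.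
-/

set_option autoImplicit false
set_option linter.unusedSectionVars false

namespace Cfsg.Agent.Lib.helper16.U34C

open Cfsg
open scoped commutatorElement

section Abstract

variable {H : Type*} [Group H]

/-- `x^i u x^{-i}`. -/
def cj (x u : H) (i : ℕ) : H := x ^ i * u * x⁻¹ ^ i

/-- `[u, x u x⁻¹]`. -/
def ca (u x : H) : H := ⁅u, x * u * x⁻¹⁆

/-- `[u, x² u x⁻²]`. -/
def cb (u x : H) : H := ⁅u, x ^ 2 * u * x⁻¹ ^ 2⁆

/-- The defining relations (on two generators `u`, `x`) of the group `2^{2+4} : 5`. -/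
structure Rel (u x : H) : Prop where
  x5 : x ^ 5 = 1
  ux5 : (u * x) ^ 5 = 1
  a2 : ca u x ^ 2 = 1
  b2 : cb u x ^ 2 = 1
  au : Commute (ca u x) u
  ax : Commute (ca u x) x
  bu : Commute (cb u x) u
  bx : Commute (cb u x) x
  u2 : u ^ 2 = ca u x * cb u x

/-- Expanded generator data: `u0..u3` generate the normal 2-subgroup modulo the central `a, b`. -/
structure Gens (u0 u1 u2 u3 a b x : H) : Prop where
  a2 : a ^ 2 = 1
  b2 : b ^ 2 = 1
  ac : ∀ g : H, Commute a g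
  bc : ∀ g : H, Commute b g
  sq0 : u0 ^ 2 = a * b
  sq1 : u1 ^ 2 = a * b
  sq2 : u2 ^ 2 = a * b
  sq3 : u3 ^ 2 = a * b
  c01 : u1 * u0 = u0 * u1 * a
  c02 : u2 * u0 = u0 * u2 * b
  c03 : u3 * u0 = u0 * u3 * b
  c12 : u2 * u1 = u1 * u2 * a
  c13 : u3 * u1 = u1 * u3 * b
  c23 : u3 * u2 = u2 * u3 * a
  x5 : x ^ 5 = 1
  x0 : x * u0 * x⁻¹ = u1
  x1 : x * u1 * x⁻¹ = u2
  x2 : x * u2 * x⁻¹ = u3
  x3 : x * u3 * x⁻¹ = (u0 * u1 * u2 * u3)⁻¹

/-- First layer of structure: an element `x` of order 5 and the central four-group `Z`. -/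
structure D1 (x : H) (Z : Subgroup H) : Prop where
  x5 : x ^ 5 = 1
  xne : x ≠ 1
  ZP : Z ≤ commutator H
  cardZ : Nat.card Z = 4
  Zc : ∀ z ∈ Z, ∀ g : H, z * g = g * z
  Z2 : ∀ z ∈ Z, z ^ 2 = 1
  gen : ∀ g : H, ∃ p ∈ commutator H, ∃ k : ℕ, g = p * x ^ k
  cen : ∀ g ∈ commutator H, (∀ h ∈ commutator H, g * h = h * g) → g ∈ Z

/-- Second layer: `C_{G'}(x) = Z` and the only `x`-invariant subgroups between are `Z`, `G'`. -/
structure D2 (x : H) (Z : Subgroup H) : Prop where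
  fix : ∀ g ∈ commutator H, x * g * x⁻¹ = g → g ∈ Z
  inv : ∀ K : Subgroup H, Z ≤ K → K ≤ commutator H → (∀ k ∈ K, x * k * x⁻¹ ∈ K) →
    K = Z ∨ K = commutator H

/-- Third layer: `G'/Z` is elementary abelian and `x` acts on it without fixed points. -/
structure D3 (x : H) (Z : Subgroup H) : Prop where
  comm : ∀ g ∈ commutator H, ∀ h ∈ commutator H, ⁅g, h⁆ ∈ Z
  sq : ∀ g ∈ commutator H, g ^ 2 ∈ Z
  fpf : ∀ g ∈ commutator H, g⁻¹ * (x * g * x⁻¹) ∈ Z → g ∈ Z

end Abstract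

section Concrete

open Cfsg.Agent.Lib.helper58 Cfsg.Agent.Lib.helper7 Matrix

variable {F : Type*} [Field F] [Fintype F]

theorem card16 (hF : Fintype.card F = 16) : Fintype.card F = 4 ^ 2 := by rw [hF]; norm_num

theorem two0 (hF : Fintype.card F = 16) : (2 : F) = 0 :=
  two_eq_zero_of_even (card16 hF) (by decide)

/-- The diagonal matrix `diag(l, l, l³)`. -/
def dM (l : F) : Matrix (Fin 3) (Fin 3) F := !![l, 0, 0; 0, l, 0; 0, 0, l ^ 3]

theorem dM_det (l : F) (hl : l ^ 5 = 1) : (dM l).det = 1 := by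
  rw [Matrix.det_fin_three]
  simp [dM]
  linear_combination hl

theorem dM_isIsom (l : F) (hl : l ^ 5 = 1) : IsIsom 3 4 (dM l) := by
  intro u v
  unfold hermForm
  simp only [Fin.sum_univ_three]
  have e0 : (dM l *ᵥ u) 0 = l * u 0 := by
    simp [dM, Matrix.mulVec, dotProduct, Fin.sum_univ_three]
  have e1 : (dM l *ᵥ u) 1 = l * u 1 := by
    simp [dM, Matrix.mulVec, dotProduct, Fin.sum_univ_three]
  have e2 : (dM l *ᵥ u) 2 = l ^ 3 * u 2 := by
    simp [dM, Matrix.mulVec, dotProduct, Fin.sum_univ_three]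
  have f0 : (dM l *ᵥ v) 0 = l * v 0 := by
    simp [dM, Matrix.mulVec, dotProduct, Fin.sum_univ_three]
  have f1 : (dM l *ᵥ v) 1 = l * v 1 := by
    simp [dM, Matrix.mulVec, dotProduct, Fin.sum_univ_three]
  have f2 : (dM l *ᵥ v) 2 = l ^ 3 * v 2 := by
    simp [dM, Matrix.mulVec, dotProduct, Fin.sum_univ_three]
  rw [e0, e1, e2, f0, f1, f2]
  have h15 : l ^ 15 = 1 := by
    have : l ^ 15 = (l ^ 5) ^ 3 := by ring
    rw [this, hl, one_pow]
  linear_combination (u 0 * v 0 ^ 4 + u 1 * v 1 ^ 4) * hl + (u 2 * v 2 ^ 4) * h15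

/-- The element `diag(l, l, l³)` of `SU 3 F 4` (for `l⁵ = 1`). -/
def dE (l : F) (hl : l ^ 5 = 1) : ↥(SU 3 F 4) :=
  ⟨⟨dM l, dM_det l hl⟩, (mem_SU_iff 3 _).2 (dM_isIsom l hl)⟩

theorem dE_val (l : F) (hl : l ^ 5 = 1) :
    ((dE l hl).1.1 : Matrix (Fin 3) (Fin 3) F) = dM l := rfl

theorem tau_rel (hF : Fintype.card F = 16) : (1 : F) + 1 ^ 4 = 0 * 0 ^ 4 := by
  have := two0 hF
  rw [one_pow, zero_mul]
  linear_combination this

/-- The involution `su3M 0 1` (the permutation matrix of the transposition `(0 1)`). -/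
def tauE (hF : Fintype.card F = 16) : ↥(SU 3 F 4) :=
  su3E (card16 hF) (two0 hF) 0 1 (tau_rel hF)

/-- The explicit Sylow 2-subgroup of `SU 3 F 4`. -/
abbrev UU (hF : Fintype.card F = 16) : Subgroup ↥(SU 3 F 4) := su3U (card16 hF) (two0 hF)

/-- The facts about the centralizer of `tauE` in `SU 3 F 4`. -/
structure CentData (hF : Fintype.card F = 16) (l : F) (hl : l ^ 5 = 1) : Prop where
  t2 : orderOf (tauE hF) = 2
  tc : ∀ v ∈ UU hF, v * tauE hF = tauE hF * v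
  dc : dE l hl * tauE hF = tauE hF * dE l hl
  d5 : dE l hl ^ 5 = 1
  conj : ∀ (a b : F) (hab : b + b ^ 4 = a * a ^ 4), ∃ hab' : b + b ^ 4 = (l ^ 2 * a) * (l ^ 2 * a) ^ 4,
    dE l hl * su3E (card16 hF) (two0 hF) a b hab * (dE l hl)⁻¹ =
      su3E (card16 hF) (two0 hF) (l ^ 2 * a) b hab'
  up : ∀ g : ↥(SU 3 F 4), g * tauE hF = tauE hF * g →
    ∃ k : ℕ, ∃ v ∈ UU hF, g = dE l hl ^ k * v

end Concrete

end Cfsg.Agent.Lib.helper16.U34C
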