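import Mathlib
import Cfsg.Agent.Lib.helper59.UniqueOrderP
import Cfsg.Agent.Lib.helper59.TwoGroups
import Cfsg.Agent.Lib.helper59.AutQ8

/-!
Automorphisms of odd order of `2`-groups with a unique involution (helper16).

* `modEq_one_of_pow_odd` : `i ^ m ≡ 1 [MOD 2 ^ j]`, `m` odd, gives `i ≡ 1`.
* `uniqueOrderP_of` : criterion for `UniqueOrderP p R`.
* `aut_odd` : an automorphism `α` with `α ^ m = 1`, `m` odd, of a `2`-group with a unique subgroup of
  order `2` is trivial, unless the group is quaternion of order `8` and `α` has order `3`.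
* `normalizer_odd` : the same for an element normalizing a `2`-subgroup.
* `nonempty_equiv_q8`, `card_mulAut_eq` : recognition of the quaternion group of order `8`.
-/

set_option autoImplicit false
set_option linter.style.haveILetI false

namespace Cfsg.Agent.Lib.helper16.QuatAut

open Subgroup Cfsg.Agent.Lib.helper59

lemma modEq_one_of_pow_odd (i j m : ℕ) (hm : Odd m) (h : i ^ m ≡ 1 [MOD 2 ^ j]) :
    i ≡ 1 [MOD 2 ^ j] := by
  rcases Nat.eq_zero_or_pos j with rfl | hj
  · simp [Nat.modEq_one]
  haveI : NeZero (2 ^ j) := ⟨by positivity⟩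
  have h1 : ((i : ZMod (2 ^ j))) ^ m = 1 := by
    have := (ZMod.natCast_eq_natCast_iff (i ^ m) 1 (2 ^ j)).mpr h
    simpa using this
  have hm0 : m ≠ 0 := by rcases hm with ⟨k, rfl⟩; omega
  have hu : IsUnit (i : ZMod (2 ^ j)) := IsUnit.of_pow_eq_one h1 hm0
  obtain ⟨u, hu⟩ := hu
  have hum : u ^ m = 1 := by
    apply Units.ext
    rw [Units.val_pow_eq_pow_val, hu, h1]; rfl
  have hcard : Nat.card (ZMod (2 ^ j))ˣ = 2 ^ (j - 1) := by
    rw [Nat.card_eq_fintype_card, ZMod.card_units_eq_totient,
      Nat.totient_prime_pow Nat.prime_two hj]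
    simp
  have ho1 : orderOf u ∣ m := orderOf_dvd_of_pow_eq_one hum
  have ho2 : orderOf u ∣ 2 ^ (j - 1) := by rw [← hcard]; exact orderOf_dvd_natCard u
  have ho : orderOf u = 1 := by
    obtain ⟨k, _, hk⟩ := (Nat.dvd_prime_pow Nat.prime_two).mp ho2
    rw [hk] at ho1
    rcases Nat.eq_zero_or_pos k with rfl | hk0
    · simpa using hk
    · exfalso
      have h2 : 2 ∣ m := dvd_trans (dvd_pow_self 2 hk0.ne') ho1
      exact (Nat.not_even_iff_odd.mpr hm) (even_iff_two_dvd.mpr h2)
  have hu1 : u = 1 := orderOf_eq_one_iff.mp ho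
  have h3 : (i : ZMod (2 ^ j)) = ((1 : ℕ) : ZMod (2 ^ j)) := by rw [← hu, hu1]; simp
  exact (ZMod.natCast_eq_natCast_iff i 1 (2 ^ j)).mp h3

/-- criterion for uniqueness of the subgroup of order `p` -/
lemma uniqueOrderP_of (p : ℕ) [hp : Fact p.Prime] (R : Type*) [Group R]
    (h : ∀ x y : R, x ≠ 1 → y ≠ 1 → x ^ p = 1 → y ^ p = 1 → y ∈ zpowers x) :
    UniqueOrderP p R := by
  have key : ∀ A B : Subgroup R, Nat.card A = p → Nat.card B = p → B ≤ A := by
    intro A B hA hB
    have hp1 : 1 < p := hp.out.one_lt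
    have hAne : A ≠ ⊥ := by
      intro h0; rw [h0, Subgroup.card_bot] at hA; omega
    obtain ⟨⟨x, hxA⟩, hx1⟩ := (Subgroup.ne_bot_iff_exists_ne_one).mp hAne
    have hx1' : x ≠ 1 := fun e => hx1 (Subtype.ext e)
    have hxp : x ^ p = 1 := by
      have := pow_card_eq_one' (G := A) (x := ⟨x, hxA⟩)
      rw [hA] at this
      exact congrArg Subtype.val this
    intro y hyB
    by_cases hy1 : y = 1
    · rw [hy1]; exact A.one_mem
    have hyp : y ^ p = 1 := by
      have := pow_card_eq_one' (G := B) (x := ⟨y, hyB⟩)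
      rw [hB] at this
      exact congrArg Subtype.val this
    exact (Subgroup.zpowers_le.mpr hxA) (h x y hx1' hy1 hxp hyp)
  intro A B hA hB
  exact le_antisymm (key B A hB hA) (key A B hA hB)

lemma aut_fix_of_mem_zpowers {R : Type*} [Group R] (a : R) (j : ℕ) (ha : orderOf a = 2 ^ j)
    (α : MulAut R) (hα : α a ∈ zpowers a) (m : ℕ) (hm : Odd m) (hαm : α ^ m = 1) : α a = a := by
  have hfin : IsOfFinOrder a := by
    rw [← orderOf_pos_iff, ha]; positivity
  obtain ⟨i, hi⟩ : ∃ i : ℕ, a ^ i = α a :=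
    (Submonoid.mem_powers_iff _ _).mp ((hfin.mem_powers_iff_mem_zpowers).mpr hα)
  have hpow : ∀ k : ℕ, (α ^ k) a = a ^ (i ^ k) := by
    intro k
    induction k with
    | zero => simp
    | succ k ih =>
      rw [pow_succ', MulAut.mul_apply, ih, map_pow, ← hi, ← pow_mul, pow_succ']
  have h1 := hpow m
  rw [hαm, MulAut.one_apply] at h1
  have h2 : i ^ m ≡ 1 [MOD 2 ^ j] := by
    rw [← ha]
    exact (pow_eq_pow_iff_modEq).mp (by rw [pow_one]; exact h1.symm)
  have h3 := modEq_one_of_pow_odd i j m hm h2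
  rw [← hi]
  have h4 := (pow_eq_pow_iff_modEq (x := a) (n := i) (m := 1)).mpr (by rw [ha]; exact h3)
  simpa using h4

/-- an automorphism of odd order of a `2`-group with a unique subgroup of order `2` is trivial,
or the group is (non-commutative) of order `8` and the automorphism has order `3` -/
theorem aut_odd {R : Type*} [Group R] [Finite R] (hR : IsPGroup 2 R) (hU : UniqueOrderP 2 R)
    (α : MulAut R) (m : ℕ) (hm : Odd m) (hαm : α ^ m = 1) :
    α = 1 ∨ (Nat.card R = 8 ∧ (¬ ∀ x y : R, x * y = y * x) ∧ 3 ∣ m ∧ α ^ 3 = 1) := by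
  rcases cyclic_or_quaternion_rel_of_uniqueOrderP hR hU with
    hc | ⟨n, a, b, ha, hcard, hb, hb2, hrel⟩
  · left
    obtain ⟨a, ha⟩ := hc.exists_generator
    obtain ⟨j, hj⟩ : ∃ j, orderOf a = 2 ^ j := by
      obtain ⟨k, hk⟩ := hR a
      obtain ⟨j, _, hj⟩ := (Nat.dvd_prime_pow Nat.prime_two).mp (orderOf_dvd_of_pow_eq_one hk)
      exact ⟨j, hj⟩
    have h1 := aut_fix_of_mem_zpowers a j hj α (ha _) m hm hαm
    ext x
    obtain ⟨k, rfl⟩ := Subgroup.mem_zpowers_iff.mp (ha x)
    simp [map_zpow, h1]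
  · have hA2 : (zpowers a).index = 2 := by
      have h1 := (zpowers a).card_mul_index
      rw [Nat.card_zpowers, ha, hcard] at h1
      have h2 : 2 ^ (n + 2) * (zpowers a).index = 2 ^ (n + 2) * 2 := by rw [h1]; ring
      exact Nat.eq_of_mul_eq_mul_left (by positivity) h2
    have hout : ∀ x : R, x ∉ zpowers a → b⁻¹ * x ∈ zpowers a := by
      intro x hx
      rw [Subgroup.mul_mem_iff_of_index_two hA2, Subgroup.inv_mem_iff]
      exact ⟨fun h => absurd h hb, fun h => absurd h hx⟩
    rcases Nat.eq_zero_or_pos n with rfl | hn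
    · by_cases hα1 : α = 1
      · left; exact hα1
      right
      obtain ⟨e⟩ := quaternion_equiv_of_rel 2 a b (by simpa using ha) (by simpa using hcard) hb
        (by simpa using hb2) hrel
      have hc24 : Nat.card (MulAut R) = 24 := by
        rw [Nat.card_congr (MulAut.congr e).toEquiv]; exact AutQ8.card_mulAut
      have ho1 : orderOf α ∣ m := orderOf_dvd_of_pow_eq_one hαm
      have ho2 : orderOf α ∣ 24 := by rw [← hc24]; exact orderOf_dvd_natCard α
      have hodd : Odd (orderOf α) := Odd.of_dvd_nat hm ho1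
      have hcop : Nat.Coprime (orderOf α) 8 := by
        have : Nat.Coprime (orderOf α) 2 := Nat.coprime_two_right.mpr hodd
        exact Nat.Coprime.pow_right 3 this
      have ho3 : orderOf α ∣ 3 := hcop.dvd_of_dvd_mul_left (by simpa using ho2)
      have ho : orderOf α = 3 := by
        rcases (Nat.dvd_prime Nat.prime_three).mp ho3 with h | h
        · exact absurd (orderOf_eq_one_iff.mp h) hα1
        · exact h
      refine ⟨by simpa using hcard, ?_, ho ▸ ho1, ?_⟩
      · intro hcomm
        have h1 : b * a * b⁻¹ = a := by rw [hcomm b a]; group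
        rw [hrel] at h1
        have h2 : a ^ 2 = 1 := by
          rw [pow_two]; nth_rewrite 1 [← h1]; group
        have h3 := orderOf_dvd_of_pow_eq_one h2
        rw [ha] at h3
        have := Nat.le_of_dvd (by norm_num) h3
        norm_num at this
      · rw [← ho]; exact pow_orderOf_eq_one α
    · left
      have hconj : ∀ k : ℤ, b * a ^ k * b⁻¹ = (a ^ k)⁻¹ := by
        intro k
        have h1 : b * a ^ k * b⁻¹ = (b * a * b⁻¹) ^ k := by
          rw [conj_zpow]
        rw [h1, hrel, inv_zpow]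
      have hb2' : b * b = a ^ (2 ^ (n + 1)) := by rw [← pow_two]; exact hb2
      have hb4 : ∀ x : R, x ∉ zpowers a → x ^ 4 = 1 := by
        intro x hx
        obtain ⟨k, hk⟩ := Subgroup.mem_zpowers_iff.mp (hout x hx)
        have hx' : x = b * a ^ k := by rw [hk]; group
        have hsq : x ^ 2 = b ^ 2 := by
          rw [hx', pow_two, pow_two]
          calc b * a ^ k * (b * a ^ k) = (b * a ^ k * b⁻¹) * (b * b) * a ^ k := by group
            _ = (a ^ k)⁻¹ * a ^ (2 ^ (n + 1)) * a ^ k := by rw [hconj, hb2']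
            _ = a ^ (2 ^ (n + 1)) := by
                rw [← zpow_natCast, ← zpow_neg, ← zpow_add, ← zpow_add]
                congr 1; ring
            _ = b * b := hb2'.symm
        calc x ^ 4 = (x ^ 2) ^ 2 := by rw [← pow_mul]
          _ = (b ^ 2) ^ 2 := by rw [hsq]
          _ = (a ^ (2 ^ (n + 1))) ^ 2 := by rw [hb2]
          _ = a ^ (2 ^ (n + 2)) := by rw [← pow_mul, pow_succ 2 (n + 1)]
          _ = 1 := by rw [← ha]; exact pow_orderOf_eq_one a
      have hαa : α a ∈ zpowers a := by
        by_contra hx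
        have h4 := hb4 _ hx
        rw [← map_pow] at h4
        have h5 : a ^ 4 = 1 := by
          have := congrArg α.symm h4
          simpa using this
        have h6 := orderOf_dvd_of_pow_eq_one h5
        rw [ha] at h6
        have h7 := Nat.le_of_dvd (by norm_num) h6
        have h8 : 2 ^ 3 ≤ 2 ^ (n + 2) := Nat.pow_le_pow_right (by norm_num) (by omega)
        omega
      have hfa : α a = a := aut_fix_of_mem_zpowers a (n + 2) ha α hαa m hm hαm
      have hfz : ∀ k : ℤ, α (a ^ k) = a ^ k := by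
        intro k; rw [map_zpow, hfa]
      have hαb : α b ∉ zpowers a := by
        intro hx
        obtain ⟨k, hk⟩ := Subgroup.mem_zpowers_iff.mp hx
        have h1 : α b = α (a ^ k) := by rw [hfz, hk]
        have h2 : b = a ^ k := α.injective h1
        exact hb (h2 ▸ Subgroup.zpow_mem_zpowers a k)
      obtain ⟨k, hk⟩ := Subgroup.mem_zpowers_iff.mp (hout _ hαb)
      have hαb' : α b = b * a ^ k := by rw [hk]; group
      have hpow : ∀ i : ℕ, (α ^ i) b = b * (a ^ k) ^ i := by
        intro i
        induction i with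
        | zero => simp
        | succ i ih =>
          rw [pow_succ', MulAut.mul_apply, ih, map_mul, map_pow, hfz, hαb', pow_succ']
          group
      have h1 := hpow m
      rw [hαm, MulAut.one_apply] at h1
      have h2 : (a ^ k) ^ m = 1 := by
        have : b * 1 = b * (a ^ k) ^ m := by rw [mul_one]; exact h1
        exact (mul_left_cancel this).symm
      have h3 : orderOf (a ^ k) ∣ m := orderOf_dvd_of_pow_eq_one h2
      have h4 : orderOf (a ^ k) ∣ 2 ^ (n + 2) := by
        rw [← ha]; exact orderOf_dvd_of_mem_zpowers (Subgroup.zpow_mem_zpowers a k)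
      have h5 : orderOf (a ^ k) = 1 := by
        obtain ⟨l, _, hl⟩ := (Nat.dvd_prime_pow Nat.prime_two).mp h4
        rw [hl] at h3
        rcases Nat.eq_zero_or_pos l with rfl | hl0
        · simpa using hl
        · exfalso
          have h2' : 2 ∣ m := dvd_trans (dvd_pow_self 2 hl0.ne') h3
          exact (Nat.not_even_iff_odd.mpr hm) (even_iff_two_dvd.mpr h2')
      have h6 : a ^ k = 1 := orderOf_eq_one_iff.mp h5
      have hfb : α b = b := by rw [hαb', h6, mul_one]
      ext x
      by_cases hx : x ∈ zpowers a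
      · obtain ⟨l, rfl⟩ := Subgroup.mem_zpowers_iff.mp hx
        simp [hfz]
      · obtain ⟨l, hl⟩ := Subgroup.mem_zpowers_iff.mp (hout x hx)
        have hx' : x = b * a ^ l := by rw [hl]; group
        rw [hx', map_mul, hfz, hfb]
        rfl

/-- the same for an element normalizing a `2`-subgroup -/
theorem normalizer_odd {X : Type*} [Group X] (R : Subgroup X) [Finite R] (hR : IsPGroup 2 R)
    (hU : UniqueOrderP 2 R) (g : X) (hg : g ∈ normalizer (R : Set X)) (m : ℕ) (hm : Odd m)
    (hgm : g ^ m = 1) :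
    g ∈ centralizer (R : Set X) ∨ (Nat.card R = 8 ∧ (¬ ∀ x y : R, x * y = y * x) ∧ 3 ∣ m ∧
      g ^ 3 ∈ centralizer (R : Set X)) := by
  have key := aut_odd hR hU (R.normalizerMonoidHom ⟨g, hg⟩) m hm (by
    rw [← map_pow]
    have : (⟨g, hg⟩ : normalizer (R : Set X)) ^ m = 1 := Subtype.ext (by simpa using hgm)
    rw [this, map_one])
  have hker : ∀ y : normalizer (R : Set X),
      R.normalizerMonoidHom y = 1 ↔ (y : X) ∈ centralizer (R : Set X) := by
    intro y
    rw [← MonoidHom.mem_ker, normalizerMonoidHom_ker, mem_subgroupOf]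
  rcases key with h | ⟨h8, hnc, h3, hc⟩
  · left; exact (hker _).mp h
  · right
    refine ⟨h8, hnc, h3, ?_⟩
    have := (hker (⟨g, hg⟩ ^ 3)).mp (by rw [map_pow]; exact hc)
    simpa using this

/-- a non-commutative group of order `8` with a unique subgroup of order `2` is quaternion -/
theorem nonempty_equiv_q8 {R : Type*} [Group R] [Finite R] (hU : UniqueOrderP 2 R)
    (h8 : Nat.card R = 8) (hnc : ¬ ∀ x y : R, x * y = y * x) :
    Nonempty (R ≃* QuaternionGroup 2) := by
  haveI : Fact (Nat.Prime 2) := ⟨Nat.prime_two⟩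
  have hR : IsPGroup 2 R := IsPGroup.of_card (n := 3) (by rw [h8]; norm_num)
  rcases cyclic_or_quaternion_rel_of_uniqueOrderP hR hU with
    hc | ⟨n, a, b, ha, hcard, hb, hb2, hrel⟩
  · exfalso
    apply hnc
    intro x y
    obtain ⟨a, ha⟩ := hc.exists_generator
    obtain ⟨k, rfl⟩ := Subgroup.mem_zpowers_iff.mp (ha x)
    obtain ⟨l, rfl⟩ := Subgroup.mem_zpowers_iff.mp (ha y)
    rw [← zpow_add, ← zpow_add, add_comm]
  · have hn : n = 0 := by
      rw [h8] at hcard
      have h1 : 2 ^ 3 = 2 ^ (n + 3) := by rw [← hcard]; norm_num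
      have := Nat.pow_right_injective (le_refl 2) h1
      omega
    subst hn
    exact quaternion_equiv_of_rel 2 a b (by simpa using ha) (by simpa using hcard) hb
      (by simpa using hb2) hrel

theorem card_mulAut_eq {R : Type*} [Group R] [Finite R] (hU : UniqueOrderP 2 R)
    (h8 : Nat.card R = 8) (hnc : ¬ ∀ x y : R, x * y = y * x) : Nat.card (MulAut R) = 24 := by
  obtain ⟨e⟩ := nonempty_equiv_q8 hU h8 hnc
  rw [Nat.card_congr (MulAut.congr e).toEquiv]; exact AutQ8.card_mulAut

/-- central elements of such a group square to `1` -/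
theorem central_sq_eq_one {R : Type*} [Group R] [Finite R] (hU : UniqueOrderP 2 R)
    (h8 : Nat.card R = 8) (hnc : ¬ ∀ x y : R, x * y = y * x) (x : R)
    (hx : ∀ y : R, x * y = y * x) : x * x = 1 := by
  obtain ⟨e⟩ := nonempty_equiv_q8 hU h8 hnc
  have key : ∀ q : QuaternionGroup 2, (∀ y : QuaternionGroup 2, q * y = y * q) → q * q = 1 := by
    decide
  have h1 := key (e x) (by
    intro y
    obtain ⟨y', rfl⟩ := e.surjective y
    rw [← map_mul, ← map_mul, hx])
  apply e.injective
  rw [map_mul, h1, map_one]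

end Cfsg.Agent.Lib.helper16.QuatAut
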