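-- helper16: odd-order Z-groups with an involutory automorphism; used for Zassenhaus groups whose
-- two-point stabiliser has odd order (S0739 and friends).
import Mathlib

set_option autoImplicit false

namespace Cfsg.Agent.Lib.helper16.ZassOdd

/-- An endomorphism of a cyclic group of odd prime power order whose square is the identity is the
identity or inversion. -/
theorem cyc_invol {Q : Type*} [Group Q] [Finite Q] [IsCyclic Q] {q : ℕ} (hq : q.Prime)
    (hq2 : q ≠ 2) (hQ : IsPGroup q Q) (ψ : Q →* Q) (hψ : ∀ y, ψ (ψ y) = y) :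
    (∀ y, ψ y = y) ∨ (∀ y, ψ y = y⁻¹) := by
  obtain ⟨c, hc⟩ := IsCyclic.exists_generator (α := Q)
  obtain ⟨k, hk⟩ := Subgroup.mem_zpowers_iff.mp (hc (ψ c))
  have hall : ∀ y, ψ y = y ^ k := by
    intro y
    obtain ⟨j, rfl⟩ := Subgroup.mem_zpowers_iff.mp (hc y)
    rw [map_zpow, ← hk, ← zpow_mul, ← zpow_mul, mul_comm]
  have h1 : c ^ (k * k - 1) = 1 := by
    have := hψ c
    rw [hall, hall, ← zpow_mul] at this
    rw [zpow_sub, this, zpow_one, mul_inv_cancel]
  have h2 : (orderOf c : ℤ) ∣ k * k - 1 := orderOf_dvd_iff_zpow_eq_one.mpr h1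
  have : Fact q.Prime := ⟨hq⟩
  obtain ⟨m, hm⟩ := hQ.exists_card_eq
  have hoc : orderOf c = q ^ m := by rw [orderOf_eq_card_of_forall_mem_zpowers hc, hm]
  rw [hoc] at h2
  have hfac : k * k - 1 = (k - 1) * (k + 1) := by ring
  rw [hfac] at h2
  have hqi : Prime (q : ℤ) := Nat.prime_iff_prime_int.mp hq
  push_cast at h2
  by_cases hd : (q : ℤ) ∣ k - 1
  · left
    have hnd : ¬ (q : ℤ) ∣ k + 1 := by
      intro h
      have h3 : (q : ℤ) ∣ 2 := by
        have := dvd_sub h hd
        simpa using this
      have h4 : q ∣ 2 := by exact_mod_cast h3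
      have h5 := Nat.le_of_dvd (by norm_num) h4
      have h6 := hq.two_le
      omega
    have hcop : IsCoprime ((q : ℤ) ^ m) (k + 1) :=
      IsCoprime.pow_left ((hqi.irreducible.coprime_iff_not_dvd).mpr hnd)
    have h7 : ((q : ℤ) ^ m) ∣ k - 1 := hcop.dvd_of_dvd_mul_right h2
    have h8 : c ^ (k - 1) = 1 := by
      apply orderOf_dvd_iff_zpow_eq_one.mp
      rw [hoc]; exact_mod_cast h7
    intro y
    obtain ⟨j, rfl⟩ := Subgroup.mem_zpowers_iff.mp (hc y)
    rw [hall, ← zpow_mul, mul_comm, zpow_mul]
    have : c ^ k = c := by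
      have : c ^ k = c ^ (k - 1) * c := by rw [← zpow_add_one]; ring_nf
      rw [this, h8, one_mul]
    rw [this]
  · right
    have hcop : IsCoprime ((q : ℤ) ^ m) (k - 1) :=
      IsCoprime.pow_left ((hqi.irreducible.coprime_iff_not_dvd).mpr hd)
    have h7 : ((q : ℤ) ^ m) ∣ k + 1 := hcop.dvd_of_dvd_mul_left h2
    have h8 : c ^ (k + 1) = 1 := by
      apply orderOf_dvd_iff_zpow_eq_one.mp
      rw [hoc]; exact_mod_cast h7
    intro y
    obtain ⟨j, rfl⟩ := Subgroup.mem_zpowers_iff.mp (hc y)
    rw [hall, ← zpow_mul, mul_comm, zpow_mul]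
    have : c ^ k = c⁻¹ := by
      rw [zpow_add_one] at h8
      exact eq_inv_of_mul_eq_one_left h8
    rw [this, inv_zpow]

/-- A Z-group `E` of odd order with an involutory automorphism `φ`, such that for every prime `q`
dividing `|E|` some Sylow `q`-subgroup `Q` is not centralised by its normaliser in `E ⋊ ⟨φ⟩`:
then `φ` inverts `E` modulo the commutator subgroup. -/
theorem mul_map_mem_commutator {E : Type*} [Group E] [Finite E] [IsZGroup E]
    (hodd : Odd (Nat.card E)) (φ : E ≃* E) (hφ : ∀ x, φ (φ x) = x)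
    (hS : ∀ q : ℕ, q.Prime → q ∣ Nat.card E →
      ∃ Q : Subgroup E, Nat.card Q = q ^ (Nat.card E).factorization q ∧
        ((∃ x ∈ Subgroup.normalizer (Q : Set E), ∃ y ∈ Q, x * y * x⁻¹ ≠ y) ∨
        (∃ x : E, (∀ y, y ∈ Q ↔ x * φ y * x⁻¹ ∈ Q) ∧ ∃ y ∈ Q, x * φ y * x⁻¹ ≠ y))) :
    ∀ x : E, x * φ x ∈ commutator E := by
  classical
  obtain ⟨ν, hν⟩ : ∃ ν : E →* Abelianization E,
      ∀ x, ν x = Abelianization.of x * Abelianization.of (φ x) :=
    ⟨Abelianization.of * (Abelianization.of.comp φ.toMonoidHom), fun _ => rfl⟩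
  have hAker : commutator E ≤ ν.ker := Abelianization.commutator_subset_ker ν
  have hcop := IsZGroup.coprime_commutator_index E
  have hEpos : Nat.card E ≠ 0 := Nat.card_pos.ne'
  have hKpos : Nat.card ν.ker ≠ 0 := Nat.card_pos.ne'
  have hApos : Nat.card (commutator E) ≠ 0 := Nat.card_pos.ne'
  have hdvd : Nat.card E ∣ Nat.card ν.ker := by
    rw [← Nat.factorization_le_iff_dvd hEpos hKpos]
    intro q
    by_cases hq : q.Prime
    swap
    · rw [Nat.factorization_eq_zero_of_not_prime _ hq]; exact Nat.zero_le _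
    have : Fact q.Prime := ⟨hq⟩
    by_cases hqA : q ∣ Nat.card (commutator E)
    · have hqi : ¬ q ∣ (commutator E).index := fun h =>
        hq.one_lt.ne' (Nat.eq_one_of_dvd_coprimes hcop hqA h)
      have h1 : Nat.card E = Nat.card (commutator E) * (commutator E).index :=
        (Subgroup.card_mul_index _).symm
      have hi0 : (commutator E).index ≠ 0 := Subgroup.index_ne_zero_of_finite
      have h2 : (Nat.card E).factorization q = (Nat.card (commutator E)).factorization q := by
        rw [h1, Nat.factorization_mul hApos hi0]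
        simp [Nat.factorization_eq_zero_of_not_dvd hqi]
      rw [h2]
      exact (Nat.factorization_le_iff_dvd hApos hKpos).mpr (Subgroup.card_dvd_of_le hAker) q
    · by_cases hqE : q ∣ Nat.card E
      swap
      · rw [Nat.factorization_eq_zero_of_not_dvd hqE]; exact Nat.zero_le _
      obtain ⟨Q, hQcard, hQ⟩ := hS q hq hqE
      suffices hle : Q ≤ ν.ker by
        have := Subgroup.card_dvd_of_le hle
        rw [hQcard] at this
        exact (hq.pow_dvd_iff_le_factorization hKpos).mp this
      have hq2 : q ≠ 2 := by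
        rintro rfl
        exact (Nat.not_even_iff_odd.mpr hodd) (even_iff_two_dvd.mpr hqE)
      let P : Sylow q E := Sylow.ofCard Q hQcard
      have hPQ : (P : Subgroup E) = Q := Sylow.coe_ofCard Q hQcard
      have hcyc : IsCyclic (P : Subgroup E) := inferInstance
      rw [hPQ] at hcyc
      have hPG : IsPGroup q Q := hPQ ▸ P.isPGroup'
      have hN : Subgroup.normalizer (Q : Set E) ≤ Subgroup.centralizer (Q : Set E) := by
        rcases Sylow.normalizer_le_centralizer_or_le_commutator P with h | h
        · exact h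
        · exfalso
          have h' : Q ≤ commutator E := h
          have h3 := Subgroup.card_dvd_of_le h'
          rw [hQcard] at h3
          apply hqA
          refine dvd_trans ?_ h3
          exact dvd_pow_self q (hq.factorization_pos_of_dvd hEpos hqE).ne'
      rcases hQ with ⟨x, hx, y, hy, hne⟩ | ⟨x, hx, y₀, hy₀, hne⟩
      · exfalso
        apply hne
        have := (Subgroup.mem_centralizer_iff.mp (hN hx)) y hy
        rw [← this]; group
      · have hc : ∀ h : E, x * φ (x * φ h * x⁻¹) * x⁻¹ = (x * φ x) * h * (x * φ x)⁻¹ := by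
          intro h
          rw [map_mul, map_mul, hφ, map_inv]; group
        have hcn : x * φ x ∈ Subgroup.normalizer (Q : Set E) := by
          rw [Subgroup.mem_normalizer_iff]
          intro h
          rw [← hc, ← hx, ← hx]
        have hcc : ∀ y ∈ Q, (x * φ x) * y * (x * φ x)⁻¹ = y := by
          intro y hy
          have := (Subgroup.mem_centralizer_iff.mp (hN hcn)) y hy
          rw [← this]; group
        let ψ : Q →* Q :=
          { toFun := fun y => ⟨x * φ y * x⁻¹, (hx y).mp y.2⟩
            map_one' := by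
              apply Subtype.ext
              simp
            map_mul' := by
              intro y z
              apply Subtype.ext
              simp only [Subgroup.coe_mul, map_mul]
              group }
        have hψ : ∀ y : Q, ((ψ y : Q) : E) = x * φ y * x⁻¹ := fun _ => rfl
        have hψψ : ∀ y, ψ (ψ y) = y := by
          intro y
          apply Subtype.ext
          rw [hψ, hψ, hc, hcc y y.2]
        rcases cyc_invol hq hq2 hPG ψ hψψ with h | h
        · exfalso
          apply hne
          have := congrArg Subtype.val (h ⟨y₀, hy₀⟩)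
          rw [hψ] at this
          exact this
        · intro y hy
          rw [MonoidHom.mem_ker, hν]
          have h4 := congrArg Subtype.val (h ⟨y, hy⟩)
          rw [hψ] at h4
          simp only [Subgroup.coe_inv] at h4
          have h5 := congrArg Abelianization.of h4
          rw [map_mul, map_mul, map_inv, map_inv, mul_comm, ← mul_assoc, inv_mul_cancel,
            one_mul] at h5
          rw [h5, mul_inv_cancel]
  have hker : ν.ker = ⊤ :=
    Subgroup.eq_top_of_le_card _ (Nat.le_of_dvd Nat.card_pos hdvd)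
  intro x
  have h1 : x ∈ ν.ker := hker ▸ Subgroup.mem_top x
  rw [MonoidHom.mem_ker, hν, ← map_mul] at h1
  rw [← Abelianization.ker_of]
  exact h1

/-- If `φ` inverts an odd-order Z-group `E` modulo its commutator subgroup, then `E` is commutative and
`φ` is inversion. -/
theorem comm_of_mul_map_mem_commutator {E : Type*} [Group E] [Finite E] [IsZGroup E]
    (hodd : Odd (Nat.card E)) (φ : E ≃* E) (hinv : ∀ x : E, x * φ x ∈ commutator E) :
    (∀ x y : E, x * y = y * x) ∧ ∀ x, φ x = x⁻¹ := by
  have hAc : IsCyclic (commutator E) := IsZGroup.isCyclic_commutator E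
  have hchar : (commutator E).Characteristic := by
    rw [commutator_def]; infer_instance
  have hφA : ∀ a, a ∈ commutator E ↔ φ a ∈ commutator E := by
    intro a
    have := Subgroup.characteristic_iff_comap_eq.mp hchar φ
    conv_lhs => rw [← this]
    rfl
  have hAn : (commutator E).Normal := inferInstance
  obtain ⟨c, hc⟩ := IsCyclic.exists_generator (α := commutator E)
  have hgen : ∀ a ∈ commutator E, ∃ j : ℤ, (c : E) ^ j = a := by
    intro a ha
    obtain ⟨j, hj⟩ := Subgroup.mem_zpowers_iff.mp (hc ⟨a, ha⟩)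
    exact ⟨j, by simpa using congrArg Subtype.val hj⟩
  have hAcomm : ∀ a ∈ commutator E, ∀ b ∈ commutator E, a * b = b * a := by
    intro a ha b hb
    obtain ⟨i, rfl⟩ := hgen a ha
    obtain ⟨j, rfl⟩ := hgen b hb
    rw [← zpow_add, ← zpow_add, add_comm]
  obtain ⟨m, hm⟩ := hgen (φ c) ((hφA c).mp c.2)
  -- conjugation and `φ` commute on the commutator subgroup
  have key : ∀ x : E, ∀ b ∈ commutator E, φ (x * b * x⁻¹) = x * φ b * x⁻¹ := by
    intro x b hb
    obtain ⟨k, hk⟩ := hgen (x * c * x⁻¹) (hAn.conj_mem c c.2 x)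
    obtain ⟨j, rfl⟩ := hgen b hb
    rw [← conj_zpow, ← hk, map_zpow, map_zpow, map_zpow, ← hm, ← conj_zpow, ← conj_zpow, ← hk]
    simp only [← zpow_mul]
    congr 1
    ring
  -- squares centralise the commutator subgroup
  have hsq : ∀ x : E, ∀ b ∈ commutator E, (x * x) * b = b * (x * x) := by
    intro x b hb
    have h1 := key x (φ.symm b) ((hφA _).mpr (by simpa using hb))
    rw [map_mul, map_mul, map_inv, MulEquiv.apply_symm_apply] at h1
    have h2 : φ x = x⁻¹ * (x * φ x) := by group
    have h3 : x⁻¹ * (x * φ x) * b * (x⁻¹ * (x * φ x))⁻¹ = x⁻¹ * b * x := by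
      have := hAcomm _ (hinv x) b hb
      calc x⁻¹ * (x * φ x) * b * (x⁻¹ * (x * φ x))⁻¹
          = x⁻¹ * ((x * φ x) * b) * (x * φ x)⁻¹ * x := by group
        _ = x⁻¹ * (b * (x * φ x)) * (x * φ x)⁻¹ * x := by rw [this]
        _ = x⁻¹ * b * x := by group
    rw [h2, h3] at h1
    calc x * x * b = x * (x * b * x⁻¹) * x := by group
      _ = x * (x⁻¹ * b * x) * x := by rw [h1]
      _ = b * (x * x) := by group
  -- every element is a square
  obtain ⟨r, hr⟩ := hodd
  have hsqr : ∀ y : E, y = y ^ (r + 1) * y ^ (r + 1) := by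
    intro y
    have h1 : y ^ (2 * r + 1) = 1 := by rw [← hr]; exact pow_card_eq_one'
    calc y = y ^ (2 * r + 1) * y := by rw [h1, one_mul]
      _ = y ^ (r + 1) * y ^ (r + 1) := by rw [← pow_succ, ← pow_add]; congr 1; ring
  have hcent : commutator E ≤ Subgroup.center E := by
    intro b hb
    rw [Subgroup.mem_center_iff]
    intro y
    rw [hsqr y]
    exact hsq _ b hb
  have hcomm : ∀ x y : E, x * y = y * x := by
    intro x y
    exact (MonoidHom.isMulCommutative_of_isCyclic_of_ker_le_center (Abelianization.of (G := E))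
      (by rw [Abelianization.ker_of]; exact hcent)).is_comm.comm x y
  refine ⟨hcomm, ?_⟩
  have hbot : commutator E = ⊥ := by
    rw [commutator_def, Subgroup.commutator_eq_bot_iff_le_centralizer]
    intro x _
    rw [Subgroup.mem_centralizer_iff]
    intro y _
    exact hcomm y x
  intro x
  have h1 := hinv x
  rw [hbot, Subgroup.mem_bot] at h1
  exact eq_inv_of_mul_eq_one_right h1

end Cfsg.Agent.Lib.helper16.ZassOdd
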