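-- helper16: Zassenhaus groups whose two-point stabiliser has odd order: group-level facts.
import Mathlib
import Cfsg.Prelude.Def_LieExceptional
import Cfsg.Agent.Lib.helper19.Zass
import Cfsg.Agent.Lib.helper19.ZassCount
import Cfsg.Agent.Lib.helper75.FpfRank
import Cfsg.Agent.Lib.helper16.ZassOdd

set_option autoImplicit false
set_option linter.style.haveILetI false

namespace Cfsg.Agent.Lib.helper16.ZassOdd

open Cfsg.Agent.Lib.helper19 Cfsg.Agent.Lib.helper75

variable {G Ω : Type*} [Group G] [MulAction G Ω]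

theorem mem_two_stab {a b : Ω} (x : G) :
    x ∈ MulAction.stabilizer G a ⊓ MulAction.stabilizer G b ↔ x • a = a ∧ x • b = b := by
  rw [Subgroup.mem_inf, MulAction.mem_stabilizer_iff, MulAction.mem_stabilizer_iff]

/-- In a Zassenhaus group, the stabiliser of `b` in the point stabiliser `G_a` is a Frobenius
complement. -/
theorem zass_frob [Finite G] [Finite Ω] (hZ : Cfsg.IsZassenhausGroup G Ω) {a b : Ω} (hab : a ≠ b) :
    Cfsg.IsFrobeniusComplement
      ((MulAction.stabilizer G a ⊓ MulAction.stabilizer G b).subgroupOf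
        (MulAction.stabilizer G a)) := by
  classical
  have : Fintype Ω := Fintype.ofFinite Ω
  rw [isFrobeniusComplement_iff]
  refine ⟨?_, ?_, ?_⟩
  · obtain ⟨x, hx1, hxa, hxb⟩ := zass_exists_fix_two hZ hab
    intro h
    apply hx1
    have hmem : (⟨x, hxa⟩ : MulAction.stabilizer G a) ∈
        (MulAction.stabilizer G a ⊓ MulAction.stabilizer G b).subgroupOf
          (MulAction.stabilizer G a) := by
      rw [Subgroup.mem_subgroupOf, mem_two_stab]
      exact ⟨hxa, hxb⟩
    rw [h, Subgroup.mem_bot] at hmem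
    exact congrArg Subtype.val hmem
  · have h3 := zass_three_le_card hZ (Ω := Ω)
    rw [Nat.card_eq_fintype_card] at h3
    obtain ⟨c, hca, hcb⟩ : ∃ c : Ω, c ≠ a ∧ c ≠ b := by
      by_contra hcon
      push Not at hcon
      have : (Finset.univ : Finset Ω) ⊆ {a, b} := by
        intro c _
        by_cases h : c = a
        · simp [h]
        · simp [hcon c h]
      have := Finset.card_le_card this
      rw [Finset.card_univ] at this
      have h2 : ({a, b} : Finset Ω).card ≤ 2 := Finset.card_le_two
      omega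
    obtain ⟨g, hga, hgb⟩ := zass_two_trans hZ hab (Ne.symm hca)
    intro h
    have hmem : (⟨g, hga⟩ : MulAction.stabilizer G a) ∈
        (MulAction.stabilizer G a ⊓ MulAction.stabilizer G b).subgroupOf
          (MulAction.stabilizer G a) := by
      rw [h]; trivial
    rw [Subgroup.mem_subgroupOf, mem_two_stab] at hmem
    exact hcb (hgb.symm.trans hmem.2)
  · intro g hg x hx hgx
    rw [Subgroup.mem_subgroupOf, mem_two_stab] at hg hx hgx
    have hga : (g : G) • a = a := g.2
    have hgb : (g : G) • b ≠ b := fun h => hg ⟨hga, h⟩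
    have hgx' : ((g : G) * (x : G) * (g : G)⁻¹) • b = b := by
      have := hgx.2
      simpa using this
    have h1 : (x : G) • ((g : G)⁻¹ • b) = (g : G)⁻¹ • b := by
      have := congrArg (fun w => (g : G)⁻¹ • w) hgx'
      simp only [mul_smul, inv_smul_smul] at this
      exact this
    have h2 : (g : G)⁻¹ • b ≠ b := by
      intro h
      apply hgb
      have := congrArg (fun w => (g : G) • w) h
      simp only [smul_inv_smul] at this
      exact this.symm
    have h3 : (g : G)⁻¹ • b ≠ a := by
      intro h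
      have := congrArg (fun w => (g : G) • w) h
      simp only [smul_inv_smul] at this
      rw [hga] at this
      exact hab this.symm
    by_contra hx1
    have hx1' : (x : G) ≠ 1 := fun h => hx1 (Subtype.ext h)
    rcases zass_fix_unique hZ hx1' hab hx.1 hx.2 h1 with h | h
    · exact h3 h
    · exact h2 h

/-- In a Zassenhaus group with two-point stabiliser of odd order, this stabiliser is a Z-group. -/
theorem zass_stab_isZGroup [Finite G] [Finite Ω] (hZ : Cfsg.IsZassenhausGroup G Ω) {a b : Ω}
    (hab : a ≠ b)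
    (hodd : Odd (Nat.card ↥(MulAction.stabilizer G a ⊓ MulAction.stabilizer G b))) :
    IsZGroup ↥(MulAction.stabilizer G a ⊓ MulAction.stabilizer G b) := by
  have hF := zass_frob hZ hab
  have hle : MulAction.stabilizer G a ⊓ MulAction.stabilizer G b ≤ MulAction.stabilizer G a :=
    inf_le_left
  have e := Subgroup.subgroupOfEquivOfLe hle
  have hodd' : Odd (Nat.card ↥((MulAction.stabilizer G a ⊓ MulAction.stabilizer G b).subgroupOf
        (MulAction.stabilizer G a))) := by
    rw [Nat.card_congr e.toEquiv]; exact hodd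
  have hZ' : IsZGroup ↥((MulAction.stabilizer G a ⊓ MulAction.stabilizer G b).subgroupOf
        (MulAction.stabilizer G a)) := by
    refine ⟨fun p hp P => ?_⟩
    have : Fact p.Prime := ⟨hp⟩
    rcases frob_sylow_cyclic_or_quat _ hF p P with h | ⟨rfl, -⟩
    · exact h
    · have h1 : Nat.card ↥P ∣ Nat.card ↥((MulAction.stabilizer G a ⊓
          MulAction.stabilizer G b).subgroupOf (MulAction.stabilizer G a)) :=
        Subgroup.card_subgroup_dvd_card _
      obtain ⟨k, hk⟩ := P.isPGroup'.exists_card_eq
      replace hk : Nat.card ↥P = 2 ^ k := hk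
      have h2 : Nat.card ↥P = 1 := by
        rcases Nat.eq_zero_or_pos k with rfl | hkpos
        · rw [hk, pow_zero]
        · exfalso
          have h3 : 2 ∣ Nat.card ↥P := by
            rw [hk]; exact dvd_pow_self 2 hkpos.ne'
          exact (Nat.not_even_iff_odd.mpr hodd') (even_iff_two_dvd.mpr (dvd_trans h3 h1))
      have : Subsingleton ↥P := (Nat.card_eq_one_iff_unique.mp h2).1
      exact isCyclic_of_subsingleton
  exact IsZGroup.of_injective (f := e.symm.toMonoidHom) e.symm.injective

/-- For an odd prime `q` dividing the order `d` of the two-point stabiliser of a Zassenhaus group,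
the `q`-parts of `|G|` and `d` agree. -/
theorem zass_factorization_eq [Finite G] [Finite Ω] (hZ : Cfsg.IsZassenhausGroup G Ω) {a b : Ω}
    (hab : a ≠ b) (q : ℕ) (hq : q.Prime) (hq2 : q ≠ 2)
    (hqd : q ∣ Nat.card ↥(MulAction.stabilizer G a ⊓ MulAction.stabilizer G b)) :
    (Nat.card G).factorization q
      = (Nat.card ↥(MulAction.stabilizer G a ⊓ MulAction.stabilizer G b)).factorization q := by
  classical
  have : Fact q.Prime := ⟨hq⟩
  have : Fintype Ω := Fintype.ofFinite Ω
  obtain ⟨x, hx⟩ := exists_prime_orderOf_dvd_card' q hqd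
  have hxo : orderOf (x : G) = q := by rw [Subgroup.orderOf_coe]; exact hx
  have hx1 : (x : G) ≠ 1 := by
    intro h
    rw [h, orderOf_one] at hxo
    exact hq.one_lt.ne hxo
  have hxE := (mem_two_stab (x : G)).mp x.2
  have hP : IsPGroup q (Subgroup.zpowers (x : G)) :=
    IsPGroup.of_card (n := 1) (by rw [Nat.card_zpowers, hxo, pow_one])
  have hmod := hP.card_modEq_card_fixedPoints Ω
  have hfix : MulAction.fixedPoints (Subgroup.zpowers (x : G)) Ω = {a, b} := by
    ext c
    rw [MulAction.mem_fixedPoints]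
    constructor
    · intro h
      have hc : (x : G) • c = c := h ⟨(x : G), Subgroup.mem_zpowers _⟩
      rcases zass_fix_unique hZ hx1 hab hxE.1 hxE.2 hc with h | h
      · simp [h]
      · simp [h]
    · intro h g
      have hg : (g : G) ∈ MulAction.stabilizer G a ⊓ MulAction.stabilizer G b :=
        (Subgroup.zpowers_le.mpr x.2) g.2
      rw [mem_two_stab] at hg
      rcases h with rfl | rfl
      · exact hg.1
      · exact hg.2
  rw [hfix] at hmod
  have h2 : Nat.card (({a, b} : Set Ω)) = 2 := by
    rw [Nat.card_coe_set_eq]; exact Set.ncard_pair hab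
  rw [h2] at hmod
  have h3 := zass_three_le_card hZ (Ω := Ω)
  have hcard := zass_card_eq hZ hab
  have hn1 : ¬ q ∣ Nat.card Ω := by
    intro h
    have : q ∣ 2 := (Nat.modEq_zero_iff_dvd).mp (hmod.symm.trans ((Nat.modEq_zero_iff_dvd).mpr h))
    have h5 := Nat.le_of_dvd (by norm_num) this
    have h6 := hq.two_le
    omega
  have hn2 : ¬ q ∣ Nat.card Ω - 1 := by
    intro h
    have h4 : Nat.card Ω - 1 + 1 = Nat.card Ω := by omega
    have h5 : Nat.card Ω - 1 + 1 ≡ 2 [MOD q] := by rw [h4]; exact hmod
    have h6 : Nat.card Ω - 1 + 1 ≡ 0 + 1 [MOD q] :=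
      Nat.ModEq.add_right 1 ((Nat.modEq_zero_iff_dvd).mpr h)
    have h7 : (2 : ℕ) ≡ 1 [MOD q] := h5.symm.trans h6
    have h8 : q ∣ 2 - 1 := (Nat.modEq_iff_dvd' (by norm_num)).mp h7.symm
    have h9 := Nat.le_of_dvd (by norm_num) h8
    have h10 := hq.two_le
    omega
  have hd0 : Nat.card ↥(MulAction.stabilizer G a ⊓ MulAction.stabilizer G b) ≠ 0 :=
    Nat.card_pos.ne'
  have hn0 : Nat.card Ω ≠ 0 := by omega
  have hn10 : Nat.card Ω - 1 ≠ 0 := by omega
  rw [hcard, Nat.factorization_mul (Nat.mul_ne_zero hn0 hn10) hd0,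
    Nat.factorization_mul hn0 hn10]
  simp only [Finsupp.coe_add, Pi.add_apply]
  rw [Nat.factorization_eq_zero_of_not_dvd hn1, Nat.factorization_eq_zero_of_not_dvd hn2]
  omega

/-- If the two-point stabiliser has odd order, some involution swaps the two points. -/
theorem zass_exists_swap_involution [Finite G] (hZ : Cfsg.IsZassenhausGroup G Ω) {a b : Ω}
    (hab : a ≠ b)
    (hodd : Odd (Nat.card ↥(MulAction.stabilizer G a ⊓ MulAction.stabilizer G b))) :
    ∃ t : G, t * t = 1 ∧ t • a = b ∧ t • b = a := by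
  obtain ⟨s, hsa, hsb⟩ := zass_two_trans hZ hab hab.symm
  have hs2 : s * s ∈ MulAction.stabilizer G a ⊓ MulAction.stabilizer G b := by
    rw [mem_two_stab, mul_smul, mul_smul, hsa, hsb, hsa]
    exact ⟨rfl, rfl⟩
  obtain ⟨r, hr⟩ := hodd
  have hpow : (s * s) ^ (2 * r + 1) = 1 := by
    have : (⟨s * s, hs2⟩ : ↥(MulAction.stabilizer G a ⊓ MulAction.stabilizer G b)) ^ (2 * r + 1)
        = 1 := by rw [← hr]; exact pow_card_eq_one'
    exact congrArg Subtype.val this
  have hfix : ∀ j : ℕ, (s * s) ^ j ∈ MulAction.stabilizer G a ⊓ MulAction.stabilizer G b :=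
    fun j => Subgroup.pow_mem _ hs2 j
  refine ⟨s ^ (2 * r + 1), ?_, ?_, ?_⟩
  · rw [← (Commute.refl s).mul_pow, hpow]
  · have h1 : s ^ (2 * r + 1) = (s * s) ^ r * s := by
      rw [pow_succ, pow_mul, pow_two]
    have h2 := (mem_two_stab _).mp (hfix r)
    rw [h1, mul_smul, hsa, h2.2]
  · have h1 : s ^ (2 * r + 1) = (s * s) ^ r * s := by
      rw [pow_succ, pow_mul, pow_two]
    have h2 := (mem_two_stab _).mp (hfix r)
    rw [h1, mul_smul, hsb, h2.1]

end Cfsg.Agent.Lib.helper16.ZassOdd
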