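-- helper16: simple Zassenhaus groups whose two-point stabiliser has odd order: involutions.
import Mathlib
import Cfsg.Prelude.Def_LieExceptional
import Cfsg.Agent.S0739

set_option autoImplicit false
set_option linter.style.haveILetI false

namespace Cfsg.Agent.Lib.helper16.ZassSimple

open Cfsg.Agent.Lib.helper19 Cfsg.Agent.Lib.helper16.ZassOdd

variable {G Ω : Type*} [Group G] [MulAction G Ω]

theorem natCard_subtype_eq_card_filter {α : Type*} [Fintype α] (p : α → Prop) [DecidablePred p] :
    Nat.card {x // p x} = (Finset.univ.filter p).card := by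
  rw [Nat.card_eq_fintype_card, Fintype.card_subtype]

/-- In a subgroup of odd order, an element of square one is trivial. -/
theorem eq_one_of_mul_self_of_odd [Finite G] {K : Subgroup G} (hodd : Odd (Nat.card K)) {x : G}
    (hx : x ∈ K) (h : x * x = 1) : x = 1 := by
  obtain ⟨r, hr⟩ := hodd
  have h5 : (⟨x, hx⟩ : ↥K) ^ (2 * r + 1) = 1 := by rw [← hr]; exact pow_card_eq_one'
  have h6 : x ^ (2 * r + 1) = 1 := congrArg Subtype.val h5
  rw [pow_succ, pow_mul, pow_two, h, one_pow, one_mul] at h6
  exact h6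

/-- All two-point stabilisers of a Zassenhaus group have the same order. -/
theorem card_two_stab_eq [Finite G] [Finite Ω] (hZ : Cfsg.IsZassenhausGroup G Ω) {a b c d : Ω}
    (hab : a ≠ b) (hcd : c ≠ d) :
    Nat.card ↥(MulAction.stabilizer G c ⊓ MulAction.stabilizer G d)
      = Nat.card ↥(MulAction.stabilizer G a ⊓ MulAction.stabilizer G b) := by
  have h1 := zass_card_eq hZ hab
  have h2 := zass_card_eq hZ hcd
  have h3 := zass_three_le_card hZ (Ω := Ω)
  rw [h1] at h2
  have hpos : 0 < Nat.card Ω * (Nat.card Ω - 1) := Nat.mul_pos (by omega) (by omega)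
  exact (Nat.eq_of_mul_eq_mul_left hpos h2).symm

/-- A simple Zassenhaus group with a two-point stabiliser of odd order has no normal
`q`-complements for the primes dividing that order. -/
theorem simple_hnil [Finite G] [Finite Ω] [IsSimpleGroup G] (hZ : Cfsg.IsZassenhausGroup G Ω)
    {c d : Ω} (hcd : c ≠ d)
    (hodd : Odd (Nat.card ↥(MulAction.stabilizer G c ⊓ MulAction.stabilizer G d))) :
    ∀ q : ℕ, q.Prime → q ∣ Nat.card ↥(MulAction.stabilizer G c ⊓ MulAction.stabilizer G d) →
      ¬ ∃ N : Subgroup G, N.Normal ∧ N.index = q ^ (Nat.card G).factorization q := by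
  rintro q hq hqd ⟨N, hN, hidx⟩
  have hcard := zass_card_eq hZ hcd
  have h3 := zass_three_le_card hZ (Ω := Ω)
  have hqG : q ∣ Nat.card G := by rw [hcard]; exact Dvd.dvd.mul_left hqd _
  have hGpos : Nat.card G ≠ 0 := Nat.card_pos.ne'
  have hk : 0 < (Nat.card G).factorization q := hq.factorization_pos_of_dvd hGpos hqG
  rcases hN.eq_bot_or_eq_top with rfl | rfl
  · rw [Subgroup.index_bot] at hidx
    have h2 : 2 ∣ Nat.card G := by
      rw [hcard]
      have : 2 ∣ Nat.card Ω * (Nat.card Ω - 1) := by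
        rcases Nat.even_or_odd (Nat.card Ω) with h | h
        · exact Dvd.dvd.mul_right h.two_dvd _
        · have : Even (Nat.card Ω - 1) := by
            obtain ⟨k, hk⟩ := h
            exact ⟨k, by omega⟩
          exact Dvd.dvd.mul_left this.two_dvd _
      exact Dvd.dvd.mul_right this _
    rw [hidx] at h2
    have h2q : 2 ∣ q := Nat.prime_two.dvd_of_dvd_pow h2
    have : q = 2 := ((Nat.prime_dvd_prime_iff_eq Nat.prime_two hq).mp h2q).symm
    subst this
    exact (Nat.not_even_iff_odd.mpr hodd) (even_iff_two_dvd.mpr hqd)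
  · rw [Subgroup.index_top] at hidx
    have : 1 < q ^ (Nat.card G).factorization q := Nat.one_lt_pow hk.ne' hq.one_lt
    omega

/-- Structure of the two-point stabiliser in the simple case. -/
theorem simple_struct [Finite G] [Fintype Ω] [IsSimpleGroup G] (hZ : Cfsg.IsZassenhausGroup G Ω)
    {c d : Ω} (hcd : c ≠ d)
    (hodd : Odd (Nat.card ↥(MulAction.stabilizer G c ⊓ MulAction.stabilizer G d))) :
    IsCyclic ↥(MulAction.stabilizer G c ⊓ MulAction.stabilizer G d) ∧
    Subgroup.centralizer ((MulAction.stabilizer G c ⊓ MulAction.stabilizer G d : Subgroup G) : Set G)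
      = MulAction.stabilizer G c ⊓ MulAction.stabilizer G d ∧
    ∀ s : G, s • c = d → s • d = c →
      ∀ h ∈ MulAction.stabilizer G c ⊓ MulAction.stabilizer G d, s * h * s⁻¹ = h⁻¹ :=
  Cfsg.Agent.S0739.result hZ hcd hodd (simple_hnil hZ hcd hodd)

/-- The two-point stabiliser is abelian. -/
theorem simple_comm [Finite G] [Fintype Ω] [IsSimpleGroup G] (hZ : Cfsg.IsZassenhausGroup G Ω)
    {c d : Ω} (hcd : c ≠ d)
    (hodd : Odd (Nat.card ↥(MulAction.stabilizer G c ⊓ MulAction.stabilizer G d))) :
    ∀ x ∈ MulAction.stabilizer G c ⊓ MulAction.stabilizer G d,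
      ∀ y ∈ MulAction.stabilizer G c ⊓ MulAction.stabilizer G d, x * y = y * x := by
  intro x hx y hy
  have h := (simple_struct hZ hcd hodd).2.1
  have hx' : x ∈ Subgroup.centralizer
      ((MulAction.stabilizer G c ⊓ MulAction.stabilizer G d : Subgroup G) : Set G) := by
    rw [h]; exact hx
  exact ((Subgroup.mem_centralizer_iff.mp hx') y hy).symm

/-- Every element swapping two points is an involution. -/
theorem swap_mul_self [Finite G] [Fintype Ω] [IsSimpleGroup G] (hZ : Cfsg.IsZassenhausGroup G Ω)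
    {c d : Ω} (hcd : c ≠ d)
    (hodd : Odd (Nat.card ↥(MulAction.stabilizer G c ⊓ MulAction.stabilizer G d)))
    {s : G} (hsc : s • c = d) (hsd : s • d = c) : s * s = 1 := by
  have hmem : s * s ∈ MulAction.stabilizer G c ⊓ MulAction.stabilizer G d := by
    rw [mem_two_stab, mul_smul, mul_smul, hsc, hsd, hsc]
    exact ⟨rfl, rfl⟩
  have h := (simple_struct hZ hcd hodd).2.2 s hsc hsd (s * s) hmem
  have h2 : s * (s * s) * s⁻¹ = s * s := by group
  rw [h2] at h
  apply eq_one_of_mul_self_of_odd hodd hmem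
  calc s * s * (s * s) = s * s * (s * s)⁻¹ := by rw [← h]
    _ = 1 := mul_inv_cancel _

theorem swap_orderOf [Finite G] [Fintype Ω] [IsSimpleGroup G] (hZ : Cfsg.IsZassenhausGroup G Ω)
    {c d : Ω} (hcd : c ≠ d)
    (hodd : Odd (Nat.card ↥(MulAction.stabilizer G c ⊓ MulAction.stabilizer G d)))
    {s : G} (hsc : s • c = d) (hsd : s • d = c) : orderOf s = 2 := by
  have h := swap_mul_self hZ hcd hodd hsc hsd
  apply orderOf_eq_prime
  · rw [pow_two]; exact h
  · intro h1
    rw [h1, one_smul] at hsc
    exact hcd hsc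

/-- The number of elements swapping two given points is the order of the two-point stabiliser. -/
theorem card_swaps [Finite G] (hZ : Cfsg.IsZassenhausGroup G Ω) {c d : Ω} (hcd : c ≠ d) :
    Nat.card {x : G // x • c = d ∧ x • d = c}
      = Nat.card ↥(MulAction.stabilizer G c ⊓ MulAction.stabilizer G d) := by
  obtain ⟨s, hsc, hsd⟩ := zass_two_trans hZ hcd hcd.symm
  have hsc' : s⁻¹ • d = c := by rw [← hsc, inv_smul_smul]
  have hsd' : s⁻¹ • c = d := by rw [← hsd, inv_smul_smul]
  refine Nat.card_congr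
    { toFun := fun x => ⟨s⁻¹ * x.1, ?_⟩
      invFun := fun y => ⟨s * y.1, ?_⟩
      left_inv := fun x => Subtype.ext (by simp)
      right_inv := fun y => Subtype.ext (by simp) }
  · rw [mem_two_stab, mul_smul, mul_smul, x.2.1, x.2.2]
    exact ⟨hsc', hsd'⟩
  · have hy := (mem_two_stab (y : G)).mp y.2
    rw [mul_smul, mul_smul, hy.1, hy.2]
    exact ⟨hsc, hsd⟩

/-- An involution fixes at most one point when the two-point stabilisers have odd order. -/
theorem invol_fix_unique [Finite G]
    (hoddall : ∀ c d : Ω, c ≠ d →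
      Odd (Nat.card ↥(MulAction.stabilizer G c ⊓ MulAction.stabilizer G d)))
    {x : G} (hx : orderOf x = 2) {c d : Ω} (hc : x • c = c) (hd : x • d = d) : c = d := by
  by_contra hcd
  have hmem : x ∈ MulAction.stabilizer G c ⊓ MulAction.stabilizer G d :=
    (mem_two_stab x).mpr ⟨hc, hd⟩
  have h1 : orderOf (⟨x, hmem⟩ : ↥(MulAction.stabilizer G c ⊓ MulAction.stabilizer G d)) = 2 := by
    rw [← hx, ← Subgroup.orderOf_coe]
  have h2 := orderOf_dvd_natCard
    (⟨x, hmem⟩ : ↥(MulAction.stabilizer G c ⊓ MulAction.stabilizer G d))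
  rw [h1] at h2
  exact (Nat.not_even_iff_odd.mpr (hoddall c d hcd)) (even_iff_two_dvd.mpr h2)

/-- The number of fixed points of an involution. -/
theorem invol_card_fixed [Finite G] [Fintype Ω] [DecidableEq Ω]
    (hoddall : ∀ c d : Ω, c ≠ d →
      Odd (Nat.card ↥(MulAction.stabilizer G c ⊓ MulAction.stabilizer G d)))
    {x : G} (hx : orderOf x = 2) :
    (Finset.univ.filter (fun c : Ω => x • c = c)).card
      = if Even (Fintype.card Ω) then 0 else 1 := by
  have hle : (Finset.univ.filter (fun c : Ω => x • c = c)).card ≤ 1 := by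
    rw [Finset.card_le_one]
    intro c hc d hd
    rw [Finset.mem_filter] at hc hd
    exact invol_fix_unique hoddall hx hc.2 hd.2
  have hx2 : x * x = 1 := by
    have := pow_orderOf_eq_one x
    rwa [hx, pow_two] at this
  have : Fact (Nat.Prime 2) := ⟨Nat.prime_two⟩
  have hf : (MulAction.toPermHom G Ω x) ^ 2 ^ 1 = 1 := by
    rw [pow_one, ← map_pow, pow_two, hx2, map_one]
  have hmod := (Equiv.Perm.card_compl_support_modEq (p := 2) (n := 1) hf).symm
  have hfs : (MulAction.toPermHom G Ω x).supportᶜ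
      = Finset.univ.filter (fun c : Ω => x • c = c) := by
    ext c
    simp [Equiv.Perm.mem_support]
  rw [hfs] at hmod
  by_cases hn : Even (Fintype.card Ω)
  · rw [if_pos hn]
    have h0 : Fintype.card Ω % 2 = 0 := Nat.even_iff.mp hn
    have := hmod
    unfold Nat.ModEq at this
    omega
  · rw [if_neg hn]
    have h0 : Fintype.card Ω % 2 = 1 := Nat.odd_iff.mp (Nat.not_even_iff_odd.mp hn)
    have := hmod
    unfold Nat.ModEq at this
    omega

end Cfsg.Agent.Lib.helper16.ZassSimple
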