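-- helper16: simple Zassenhaus groups whose two-point stabiliser has odd order: involutions, II.
import Mathlib
import Cfsg.Prelude.Def_LieExceptional
import Cfsg.Agent.S0882

set_option autoImplicit false
set_option linter.style.haveILetI false

namespace Cfsg.Agent.Lib.helper16.ZassSimple

open Cfsg.Agent.Lib.helper19 Cfsg.Agent.Lib.helper16.ZassOdd

variable {G Ω : Type*} [Group G] [MulAction G Ω]

theorem conj_orderOf (w x : G) : orderOf (w * x * w⁻¹) = orderOf x := by
  rw [← MulAut.conj_apply]; exact (MulAut.conj w).orderOf_eq x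

theorem mul_self_of_orderOf_two {x : G} (hx : orderOf x = 2) : x * x = 1 := by
  have := pow_orderOf_eq_one x
  rwa [hx, pow_two] at this

/-- The "Frobenius kernel" `H` of a point stabiliser contains every element fixing only `a`. -/
theorem mem_kernel_of_fix_only [Finite G] [Fintype Ω] (hZ : Cfsg.IsZassenhausGroup G Ω) (a : Ω)
    (H : Subgroup G) (hHa : H ≤ MulAction.stabilizer G a)
    (hHcard : Nat.card H + 1 = Fintype.card Ω)
    (hHfix : ∀ u ∈ H, u ≠ 1 → ∀ c : Ω, u • c = c → c = a) {g : G} (hg1 : g ≠ 1)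
    (hga : g • a = a) (hgfix : ∀ c : Ω, g • c = c → c = a) : g ∈ H := by
  classical
  have hn : Nat.card Ω = Fintype.card Ω := Nat.card_eq_fintype_card
  have hn3 := zass_three_le_card hZ (Ω := Ω)
  have hB := zass_card_fix_only hZ a
  set B : Set G := {g : G | g ≠ 1 ∧ g • a = a ∧ ∀ c : Ω, g • c = c → c = a} with hBdef
  have hBcard : B.ncard + 2 = Nat.card Ω := by
    rw [← hB, ← Nat.card_coe_set_eq]
    rfl
  set H1 : Set G := (H : Set G) \ {1} with hH1
  have hH1B : H1 ⊆ B := by
    rintro u ⟨hu, hu1⟩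
    exact ⟨hu1, hHa hu, hHfix u hu hu1⟩
  have hH1card : H1.ncard + 1 = Nat.card H := by
    rw [hH1, Set.ncard_sdiff_singleton_add_one (H.one_mem) (Set.toFinite _)]
    exact (Nat.card_coe_set_eq (H : Set G))
  have hBH1 : H1 = B := by
    apply Set.eq_of_subset_of_ncard_le hH1B _ (Set.toFinite _)
    omega
  have hg : g ∈ B := ⟨hg1, hga, hgfix⟩
  rw [← hBH1] at hg
  exact hg.1

section Simple

variable [Finite G] [Fintype Ω] [IsSimpleGroup G] (hZ : Cfsg.IsZassenhausGroup G Ω) {a b : Ω}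
  (hab : a ≠ b) (e : ℕ)
  (he : Nat.card ↥(MulAction.stabilizer G a ⊓ MulAction.stabilizer G b : Subgroup G) = e)
  (hodd : Odd e)

include hZ hab he hodd

omit [IsSimpleGroup G] hodd in
theorem card_stab_all (c d : Ω) (hcd : c ≠ d) :
    Nat.card ↥(MulAction.stabilizer G c ⊓ MulAction.stabilizer G d) = e := by
  rw [card_two_stab_eq hZ hab hcd, he]

omit [IsSimpleGroup G] in
theorem odd_stab_all (c d : Ω) (hcd : c ≠ d) :
    Odd (Nat.card ↥(MulAction.stabilizer G c ⊓ MulAction.stabilizer G d)) := by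
  rw [card_stab_all hZ hab e he c d hcd]; exact hodd

/-- The number of involutions mapping `c` to `d`. -/
theorem card_invol_map {c d : Ω} (hcd : c ≠ d) :
    Nat.card {x : G // orderOf x = 2 ∧ x • c = d} = e := by
  rw [← card_stab_all hZ hab e he c d hcd, ← card_swaps hZ hcd]
  refine Nat.card_congr (Equiv.subtypeEquivRight ?_)
  intro x
  constructor
  · rintro ⟨hx, hxc⟩
    refine ⟨hxc, ?_⟩
    rw [← hxc, ← mul_smul, mul_self_of_orderOf_two hx, one_smul]
  · rintro ⟨hxc, hxd⟩
    exact ⟨swap_orderOf hZ hcd (odd_stab_all hZ hab e he hodd c d hcd) hxc hxd, hxc⟩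

/-- The number of involutions moving a given point. -/
theorem card_invol_moving (c : Ω) :
    Nat.card {x : G // orderOf x = 2 ∧ x • c ≠ c} = (Fintype.card Ω - 1) * e := by
  classical
  have : Fintype G := Fintype.ofFinite G
  rw [natCard_subtype_eq_card_filter]
  have hmaps : ((Finset.univ.filter (fun x : G => orderOf x = 2 ∧ x • c ≠ c) : Finset G) :
      Set G).MapsTo (fun x => x • c) ((Finset.univ.erase c : Finset Ω) : Set Ω) := by
    intro x hx
    have hx' : x ∈ Finset.univ.filter (fun x : G => orderOf x = 2 ∧ x • c ≠ c) := hx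
    rw [Finset.mem_filter] at hx'
    show x • c ∈ Finset.univ.erase c
    rw [Finset.mem_erase]
    exact ⟨hx'.2.2, Finset.mem_univ _⟩
  rw [Finset.card_eq_sum_card_fiberwise hmaps]
  have hfib : ∀ d ∈ Finset.univ.erase c,
      ((Finset.univ.filter (fun x : G => orderOf x = 2 ∧ x • c ≠ c)).filter
        (fun x => x • c = d)).card = e := by
    intro d hd
    rw [Finset.mem_erase] at hd
    rw [← card_invol_map hZ hab e he hodd (Ne.symm hd.1), natCard_subtype_eq_card_filter]
    congr 1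
    ext x
    simp only [Finset.mem_filter, Finset.mem_univ, true_and]
    constructor
    · rintro ⟨⟨hx, -⟩, hxd⟩
      exact ⟨hx, hxd⟩
    · rintro ⟨hx, hxd⟩
      exact ⟨⟨hx, by rw [hxd]; exact hd.1⟩, hxd⟩
  rw [Finset.sum_congr rfl hfib, Finset.sum_const, Finset.card_erase_of_mem (Finset.mem_univ c),
    Finset.card_univ, smul_eq_mul]

variable (h : ℕ) (hh : Fintype.card Ω = h + 1) (hlt : 2 * e < h - 1)

include hh hlt

/-- If the degree is odd, exactly `e` involutions fix a given point. -/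
theorem card_invol_fixing (hev : Even h) :
    Nat.card {x : G // orderOf x = 2 ∧ x • a = a} = e := by
  classical
  have : Fintype G := Fintype.ofFinite G
  have htot := (Cfsg.Agent.S0882.result hZ hab h e hh he hodd hlt).2
  rw [if_pos hev] at htot
  have hmov := card_invol_moving hZ hab e he hodd a
  rw [natCard_subtype_eq_card_filter] at htot hmov ⊢
  have hsplit := Finset.card_filter_add_card_filter_not
    (s := Finset.univ.filter (fun x : G => orderOf x = 2)) (fun x : G => x • a = a)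
  rw [Finset.filter_filter, Finset.filter_filter, htot] at hsplit
  have h1 : (Finset.univ.filter (fun x : G => orderOf x = 2 ∧ ¬ x • a = a)).card
      = (Fintype.card Ω - 1) * e := hmov
  rw [h1, hh] at hsplit
  have h2 : h + 1 - 1 = h := by omega
  rw [h2] at hsplit
  have h3 : e * (h + 1) = e + h * e := by ring
  omega

/-- If the degree is odd, the two-point stabiliser permutes the involutions fixing `a`
transitively. -/
theorem invol_fixing_conj (hev : Even h) {x₀ x : G} (hx₀ : orderOf x₀ = 2) (hx₀a : x₀ • a = a)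
    (hx : orderOf x = 2) (hxa : x • a = a) :
    ∃ w ∈ MulAction.stabilizer G a ⊓ MulAction.stabilizer G b, x = w * x₀ * w⁻¹ := by
  have hoddall := odd_stab_all hZ hab e he hodd
  have hmemf : ∀ w : ↥(MulAction.stabilizer G a ⊓ MulAction.stabilizer G b),
      orderOf ((w : G) * x₀ * (w : G)⁻¹) = 2 ∧ ((w : G) * x₀ * (w : G)⁻¹) • a = a := by
    intro w
    have hw := (mem_two_stab (w : G)).mp w.2
    refine ⟨by rw [conj_orderOf, hx₀], ?_⟩
    have hwi : (w : G)⁻¹ • a = a := inv_smul_eq_iff.mpr hw.1.symm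
    rw [mul_smul, mul_smul, hwi, hx₀a, hw.1]
  obtain ⟨f, hf⟩ : ∃ f : ↥(MulAction.stabilizer G a ⊓ MulAction.stabilizer G b) →
      {x : G // orderOf x = 2 ∧ x • a = a}, ∀ w, ((f w : _) : G) = (w : G) * x₀ * (w : G)⁻¹ :=
    ⟨fun w => ⟨(w : G) * x₀ * (w : G)⁻¹, hmemf w⟩, fun _ => rfl⟩
  have hinj : Function.Injective f := by
    intro w w' hww
    have h1 : (w : G) * x₀ * (w : G)⁻¹ = (w' : G) * x₀ * (w' : G)⁻¹ := by
      rw [← hf, ← hf, hww]
    by_contra hne
    obtain ⟨v, hv⟩ : ∃ v : G, v = (w' : G)⁻¹ * (w : G) := ⟨_, rfl⟩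
    have hvE : v ∈ MulAction.stabilizer G a ⊓ MulAction.stabilizer G b := by
      rw [hv]; exact Subgroup.mul_mem _ (Subgroup.inv_mem _ w'.2) w.2
    have hv1 : v ≠ 1 := by
      intro h1'
      apply hne
      apply Subtype.ext
      rw [hv] at h1'
      have : (w : G) = (w' : G) * ((w' : G)⁻¹ * (w : G)) := by group
      rw [this, h1', mul_one]
    have hvx : x₀ * v * x₀⁻¹ = v := by
      have h2 : v * x₀ * v⁻¹ = x₀ := by
        rw [hv]
        calc (w' : G)⁻¹ * (w : G) * x₀ * ((w' : G)⁻¹ * (w : G))⁻¹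
            = (w' : G)⁻¹ * ((w : G) * x₀ * (w : G)⁻¹) * (w' : G) := by group
          _ = x₀ := by rw [h1]; group
      calc x₀ * v * x₀⁻¹ = (v * x₀ * v⁻¹) * v * x₀⁻¹ := by rw [h2]
        _ = v := by group
    have hvE' := (mem_two_stab v).mp hvE
    rcases zass_conj_perm hZ hab hv1 hvE'.1 hvE'.2 (by rw [hvx]; exact hvE'.1)
      (by rw [hvx]; exact hvE'.2) with ⟨-, hb⟩ | ⟨ha', -⟩
    · exact hab (invol_fix_unique hoddall hx₀ hx₀a hb)
    · exact hab (hx₀a.symm.trans ha')
  have hcard : Nat.card {x : G // orderOf x = 2 ∧ x • a = a}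
      ≤ Nat.card ↥(MulAction.stabilizer G a ⊓ MulAction.stabilizer G b) := by
    rw [card_invol_fixing hZ hab e he hodd h hh hlt hev, he]
  obtain ⟨w, hw⟩ := (hinj.bijective_of_nat_card_le hcard).2 ⟨x, hx, hxa⟩
  refine ⟨(w : G), w.2, ?_⟩
  rw [← hf, hw]

/-- If the degree is odd, any two involutions fixing `a` commute. -/
theorem invol_fixing_commute (hev : Even h) (H : Subgroup G)
    (hHa : H ≤ MulAction.stabilizer G a) (hHcard : Nat.card H + 1 = Fintype.card Ω)
    (hHfix : ∀ u ∈ H, u ≠ 1 → ∀ c : Ω, u • c = c → c = a) {x y : G} (hx : orderOf x = 2)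
    (hxa : x • a = a) (hy : orderOf y = 2) (hya : y • a = a) : y * x * y⁻¹ = x := by
  have hoddall := odd_stab_all hZ hab e he hodd
  have hyi : y⁻¹ • a = a := inv_smul_eq_iff.mpr hya.symm
  have hyx : orderOf (y * x * y⁻¹) = 2 ∧ (y * x * y⁻¹) • a = a :=
    ⟨by rw [conj_orderOf, hx], by rw [mul_smul, mul_smul, hyi, hxa, hya]⟩
  obtain ⟨w, hwE, hw⟩ := invol_fixing_conj hZ hab e he hodd h hh hlt hev hx hxa hyx.1 hyx.2
  have hwE' := (mem_two_stab w).mp hwE
  by_cases hw1 : w = 1
  · rw [hw, hw1]; group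
  exfalso
  obtain ⟨v, hv⟩ : ∃ v : G, v = w⁻¹ * y := ⟨_, rfl⟩
  have hwi : w⁻¹ • a = a := inv_smul_eq_iff.mpr hwE'.1.symm
  have hva : v • a = a := by rw [hv, mul_smul, hya, hwi]
  have hvx : v * x * v⁻¹ = x := by
    rw [hv]
    calc w⁻¹ * y * x * (w⁻¹ * y)⁻¹ = w⁻¹ * (y * x * y⁻¹) * w := by group
      _ = x := by rw [hw]; group
  have hxv : x * v * x⁻¹ = v := by
    calc x * v * x⁻¹ = (v * x * v⁻¹) * v * x⁻¹ := by rw [hvx]
      _ = v := by group
  -- `y` fixes only `a`
  have hyfix : ∀ c : Ω, y • c = c → c = a := fun c hc => invol_fix_unique hoddall hy hc hya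
  have hy1 : y ≠ 1 := by
    intro h1
    rw [h1, orderOf_one] at hy
    exact absurd hy (by norm_num)
  have hyH : y ∈ H := mem_kernel_of_fix_only hZ a H hHa hHcard hHfix hy1 hya hyfix
  have hv1 : v ≠ 1 := by
    intro h1
    have hyw : y = w := by
      have : y = w * (w⁻¹ * y) := by group
      rw [this, ← hv, h1, mul_one]
    rw [hyw] at hy
    exact hab (invol_fix_unique hoddall hy hwE'.1 hwE'.2)
  have hvfix : ∀ c : Ω, v • c = c → c = a := by
    intro c hc
    by_contra hca
    rcases zass_conj_perm hZ (Ne.symm hca) hv1 hva hc (by rw [hxv]; exact hva)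
      (by rw [hxv]; exact hc) with ⟨-, hxc⟩ | ⟨hxa', -⟩
    · exact hca (invol_fix_unique hoddall hx hxc hxa)
    · exact hca (hxa'.symm.trans hxa)
  have hvH : v ∈ H := mem_kernel_of_fix_only hZ a H hHa hHcard hHfix hv1 hva hvfix
  have hwH : w ∈ H := by
    have : w = y * v⁻¹ := by rw [hv]; group
    rw [this]
    exact H.mul_mem hyH (H.inv_mem hvH)
  exact hab (hHfix w hwH hw1 b hwE'.2).symm

end Simple

end Cfsg.Agent.Lib.helper16.ZassSimple
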