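import Mathlib
import Cfsg.Agent.Lib.helper4.CharDecomp
import Cfsg.Agent.Lib.helper4.RepEquiv

/-!
# Central idempotents of a complex representation (isotypic projections)

`isoIdem ρ χ = ∑ g, (χ 1 / |G|) * conj (χ g) • ρ g`.  For irreducible characters `χ` these are
orthogonal idempotents summing to `1`, commuting with every `G`-endomorphism; the range of
`isoIdem ρ χ` carries the character `⟨ρ.character, χ⟩ • χ`.
-/

set_option autoImplicit false
open Cfsg

namespace Cfsg.Agent.Lib.helper16

open Cfsg.Agent.Lib.helper4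
open scoped ComplexConjugate

section Idem

universe u v

variable {G : Type u} [Group G] [Fintype G]

/-- The coefficient function of the central idempotent of `χ`. -/
noncomputable def idemFun (χ : G → ℂ) : G → ℂ := fun g => χ 1 / (Nat.card G : ℂ) * conj (χ g)

omit [Fintype G] in
theorem isClassFunction_idemFun {χ : G → ℂ} (hχ : IsClassFunction G χ) :
    IsClassFunction G (idemFun χ) := by
  intro g h
  unfold idemFun
  rw [hχ g h]

/-- The central idempotent (isotypic projection) of `χ` in the representation `ρ`. -/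
noncomputable def isoIdem {V : Type*} [AddCommGroup V] [Module ℂ V] (ρ : Representation ℂ G V)
    (χ : G → ℂ) : Module.End ℂ V := opSum ρ (idemFun χ)

theorem isoIdem_toRepresentation {V : Type*} [AddCommGroup V] [Module ℂ V]
    (ρ : Representation ℂ G V) (W : Subrepresentation ρ) (χ : G → ℂ) (w : W.toSubmodule) :
    (isoIdem W.toRepresentation χ w : V) = isoIdem ρ χ w :=
  opSum_toRepresentation ρ W (idemFun χ) w

theorem isoIdem_comm_rep {V : Type*} [AddCommGroup V] [Module ℂ V]
    (ρ : Representation ℂ G V) {χ : G → ℂ} (hχ : IsClassFunction G χ) (h : G) :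
    isoIdem ρ χ ∘ₗ ρ h = ρ h ∘ₗ isoIdem ρ χ :=
  opSum_comm ρ (isClassFunction_idemFun hχ) h

theorem isoIdem_comm {V : Type*} [AddCommGroup V] [Module ℂ V]
    (ρ : Representation ℂ G V) (χ : G → ℂ) (S : Module.End ℂ V)
    (hS : ∀ g, S ∘ₗ ρ g = ρ g ∘ₗ S) : S ∘ₗ isoIdem ρ χ = isoIdem ρ χ ∘ₗ S := by
  apply LinearMap.ext
  intro v
  simp only [LinearMap.comp_apply, isoIdem, opSum_apply, map_sum, map_smul]
  apply Finset.sum_congr rfl
  intro g _
  have := LinearMap.congr_fun (hS g) v
  simp only [LinearMap.comp_apply] at this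
  rw [this]

theorem trace_isoIdem {V : Type*} [AddCommGroup V] [Module ℂ V]
    (ρ : Representation ℂ G V) (χ : G → ℂ) :
    LinearMap.trace ℂ V (isoIdem ρ χ) = χ 1 * classInner ρ.character χ := by
  unfold isoIdem
  rw [trace_opSum]
  unfold idemFun classInner
  rw [Finset.mul_sum, Finset.mul_sum]
  apply Finset.sum_congr rfl
  intro g _
  ring

/-- On an irreducible representation the central idempotent of `χ` is `1` or `0`. -/
theorem isoIdem_of_irr {V : Type*} [AddCommGroup V] [Module ℂ V] [FiniteDimensional ℂ V]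
    (ρ : Representation ℂ G V) [ρ.IsIrreducible] {χ : G → ℂ} (hχ : IsIrrCharacter G χ)
    [Decidable (ρ.character = χ)] :
    isoIdem ρ χ = if ρ.character = χ then 1 else 0 := by
  have hρ := isIrrCharacter_of_rep ρ
  have htr : ∑ g, idemFun χ g * ρ.character g = χ 1 * classInner ρ.character χ := by
    rw [← trace_isoIdem, isoIdem, trace_opSum]
  unfold isoIdem
  rw [opSum_eq_of_irr ρ (isClassFunction_idemFun (isClassFunction_of_isIrrCharacter hχ)), htr]
  split_ifs with h
  · have h1 : χ 1 = (Module.finrank ℂ V : ℂ) := by rw [← h, Representation.char_one]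
    have hne : (Module.finrank ℂ V : ℂ) ≠ 0 := by
      have := nontrivial_of_isIrreducible ρ
      exact_mod_cast (Module.finrank_pos (R := ℂ) (M := V)).ne'
    rw [h, classInner_irr_self hχ, mul_one, h1, div_self hne, one_smul]
    rfl
  · rw [classInner_irr_ne hρ hχ h, mul_zero, zero_div, zero_smul]

/-- Induction principle: an endomorphism defined naturally for all finite-dimensional
representations, compatible with subrepresentations and vanishing on irreducible ones,
vanishes. -/
theorem natural_end_eq_zero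
    (F : ∀ (V : Type v) [AddCommGroup V] [Module ℂ V] [FiniteDimensional ℂ V],
      Representation ℂ G V → Module.End ℂ V)
    (hnat : ∀ (V : Type v) [AddCommGroup V] [Module ℂ V] [FiniteDimensional ℂ V]
      (ρ : Representation ℂ G V) (W : Subrepresentation ρ) (w : W.toSubmodule),
      ((F W.toSubmodule W.toRepresentation w : W.toSubmodule) : V) = F V ρ w)
    (hirr : ∀ (V : Type v) [AddCommGroup V] [Module ℂ V] [FiniteDimensional ℂ V]
      (ρ : Representation ℂ G V), ρ.IsIrreducible → F V ρ = 0)
    (V : Type v) [AddCommGroup V] [Module ℂ V] [FiniteDimensional ℂ V]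
    (ρ : Representation ℂ G V) : F V ρ = 0 := by
  have : NeZero (Nat.card G : ℂ) := ⟨card_ne_zero_complex'⟩
  revert ρ
  refine rep_induction (k := ℂ) (G := G) (P := fun V _ _ _ ρ => F V ρ = 0) ?_ ?_ V
  · intro V _ _ _ ρ hV
    exact LinearMap.ext fun v => Subsingleton.elim _ _
  · intro V _ _ _ ρ W W' hc hirr' hW'
    have hW : F W.toSubmodule W.toRepresentation = 0 := hirr _ _ hirr'
    apply LinearMap.ext
    intro v
    have hv : v ∈ W.toSubmodule ⊔ W'.toSubmodule := by rw [hc.sup_eq_top]; trivial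
    obtain ⟨w, hw, w', hw', rfl⟩ := Submodule.mem_sup.mp hv
    have e1 := hnat V ρ W ⟨w, hw⟩
    have e2 := hnat V ρ W' ⟨w', hw'⟩
    rw [hW] at e1
    rw [hW'] at e2
    simp only [LinearMap.zero_apply, ZeroMemClass.coe_zero] at e1 e2
    rw [map_add, ← e1, ← e2]
    simp


/-- The central idempotents are idempotent. -/
theorem isoIdem_idem {χ : G → ℂ} (hχ : IsIrrCharacter G χ)
    {V : Type v} [AddCommGroup V] [Module ℂ V] [FiniteDimensional ℂ V]
    (ρ : Representation ℂ G V) : isoIdem ρ χ ∘ₗ isoIdem ρ χ = isoIdem ρ χ := by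
  classical
  rw [← sub_eq_zero]
  refine natural_end_eq_zero (G := G)
    (fun V _ _ _ ρ => isoIdem ρ χ ∘ₗ isoIdem ρ χ - isoIdem ρ χ) ?_ ?_ V ρ
  · intro V _ _ _ ρ W w
    simp only [LinearMap.sub_apply, LinearMap.comp_apply, Submodule.coe_sub]
    rw [isoIdem_toRepresentation, isoIdem_toRepresentation]
  · intro V _ _ _ ρ hirr
    have := hirr
    rw [isoIdem_of_irr ρ hχ]
    split_ifs
    · exact LinearMap.ext fun v => by simp
    · exact LinearMap.ext fun v => by simp

/-- The central idempotents of distinct irreducible characters are orthogonal. -/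
theorem isoIdem_orth {χ ψ : G → ℂ} (hχ : IsIrrCharacter G χ) (hψ : IsIrrCharacter G ψ)
    (hne : χ ≠ ψ) {V : Type v} [AddCommGroup V] [Module ℂ V] [FiniteDimensional ℂ V]
    (ρ : Representation ℂ G V) : isoIdem ρ χ ∘ₗ isoIdem ρ ψ = 0 := by
  classical
  refine natural_end_eq_zero (G := G)
    (fun V _ _ _ ρ => isoIdem ρ χ ∘ₗ isoIdem ρ ψ) ?_ ?_ V ρ
  · intro V _ _ _ ρ W w
    simp only [LinearMap.comp_apply]
    rw [isoIdem_toRepresentation, isoIdem_toRepresentation]
  · intro V _ _ _ ρ hirr
    have := hirr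
    rw [isoIdem_of_irr ρ hχ, isoIdem_of_irr ρ hψ]
    by_cases h1 : ρ.character = χ
    · have h2 : ρ.character ≠ ψ := fun h => hne (h1.symm.trans h)
      rw [if_neg h2]; simp
    · rw [if_neg h1]; simp

/-- The central idempotents sum to the identity. -/
theorem sum_isoIdem [Fintype (IrrCharacter G)]
    {V : Type v} [AddCommGroup V] [Module ℂ V] [FiniteDimensional ℂ V]
    (ρ : Representation ℂ G V) : ∑ χ : IrrCharacter G, isoIdem ρ (χ : G → ℂ) = 1 := by
  classical
  rw [← sub_eq_zero]
  refine natural_end_eq_zero (G := G)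
    (fun V _ _ _ ρ => ∑ χ : IrrCharacter G, isoIdem ρ (χ : G → ℂ) - 1) ?_ ?_ V ρ
  · intro V _ _ _ ρ W w
    simp only [LinearMap.sub_apply, LinearMap.sum_apply, Submodule.coe_sub, Submodule.coe_sum,
      Module.End.one_apply]
    congr 1
    apply Finset.sum_congr rfl
    intro χ _
    rw [isoIdem_toRepresentation]
  · intro V _ _ _ ρ hirr
    have := hirr
    rw [sub_eq_zero]
    rw [Finset.sum_eq_single (⟨ρ.character, isIrrCharacter_of_rep ρ⟩ : IrrCharacter G)]
    · rw [isoIdem_of_irr ρ (isIrrCharacter_of_rep ρ), if_pos rfl]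
    · intro χ _ hne
      rw [isoIdem_of_irr ρ χ.2, if_neg (fun h => hne (Subtype.ext h.symm))]
    · intro h
      exact absurd (Finset.mem_univ _) h

/-- If the central idempotent of `χ` is the identity, so it is on every subrepresentation. -/
theorem isoIdem_sub_eq_one {V : Type*} [AddCommGroup V] [Module ℂ V]
    (ρ : Representation ℂ G V) (χ : G → ℂ) (h : isoIdem ρ χ = 1) (U : Subrepresentation ρ) :
    isoIdem U.toRepresentation χ = 1 := by
  apply LinearMap.ext
  intro w
  apply Subtype.ext
  rw [isoIdem_toRepresentation, h]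
  rfl

/-- An irreducible representation on which the central idempotent of `χ` is the identity has
character `χ`. -/
theorem char_eq_of_irr_of_isoIdem_eq_one {V : Type*} [AddCommGroup V] [Module ℂ V]
    [FiniteDimensional ℂ V] (ρ : Representation ℂ G V) [ρ.IsIrreducible] {χ : G → ℂ}
    (hχ : IsIrrCharacter G χ) (h : isoIdem ρ χ = 1) : ρ.character = χ := by
  classical
  have h2 := isoIdem_of_irr ρ hχ
  rw [h] at h2
  by_contra hne
  rw [if_neg hne] at h2
  have := nontrivial_of_isIrreducible ρ
  obtain ⟨w, hw⟩ := exists_ne (0 : V)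
  exact hw (by simpa using LinearMap.congr_fun h2 w)

/-- A representation on which the central idempotent of `χ` is the identity has character a
multiple of `χ`. -/
theorem char_eq_nsmul_of_isoIdem_eq_one {χ : G → ℂ} (hχ : IsIrrCharacter G χ)
    {V : Type v} [AddCommGroup V] [Module ℂ V] [FiniteDimensional ℂ V]
    (ρ : Representation ℂ G V) (h : isoIdem ρ χ = 1) : ∃ n : ℕ, ρ.character = n • χ := by
  have : NeZero (Nat.card G : ℂ) := ⟨card_ne_zero_complex'⟩
  revert ρ
  refine rep_induction (k := ℂ) (G := G)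
    (P := fun V _ _ _ ρ => isoIdem ρ χ = 1 → ∃ n : ℕ, ρ.character = n • χ) ?_ ?_ V
  · intro V _ _ _ ρ hV _
    exact ⟨0, by rw [zero_smul]; exact char_eq_zero_of_subsingleton ρ⟩
  · intro V _ _ _ ρ W W' hc hirr hW' h1
    obtain ⟨n, hn⟩ := hW' (isoIdem_sub_eq_one ρ χ h1 W')
    have := hirr
    have hWχ : W.toRepresentation.character = χ :=
      char_eq_of_irr_of_isoIdem_eq_one _ hχ (isoIdem_sub_eq_one ρ χ h1 W)
    refine ⟨n + 1, ?_⟩
    funext g
    rw [char_eq_add_of_isCompl ρ W W' hc g, hWχ, hn]
    simp only [Pi.smul_apply, nsmul_eq_mul]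
    push_cast
    ring


/-- The isotypic component of `χ`: the range of the central idempotent. -/
noncomputable def isoComp {V : Type*} [AddCommGroup V] [Module ℂ V] (ρ : Representation ℂ G V)
    {χ : G → ℂ} (hχ : IsClassFunction G χ) : Subrepresentation ρ where
  toSubmodule := LinearMap.range (isoIdem ρ χ)
  apply_mem_toSubmodule g v hv := by
    obtain ⟨u, rfl⟩ := hv
    refine ⟨ρ g u, ?_⟩
    have := LinearMap.congr_fun (isoIdem_comm_rep ρ hχ g) u
    simpa using this

theorem mem_isoComp {V : Type*} [AddCommGroup V] [Module ℂ V] (ρ : Representation ℂ G V)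
    {χ : G → ℂ} (hχ : IsClassFunction G χ) (v : V) :
    v ∈ (isoComp ρ hχ).toSubmodule ↔ ∃ u, isoIdem ρ χ u = v := Iff.rfl

/-- The central idempotent fixes its range. -/
theorem isoIdem_apply_of_mem {χ : G → ℂ} (hχ : IsIrrCharacter G χ)
    {V : Type v} [AddCommGroup V] [Module ℂ V] [FiniteDimensional ℂ V]
    (ρ : Representation ℂ G V) {v : V}
    (hv : v ∈ (isoComp ρ (isClassFunction_of_isIrrCharacter hχ)).toSubmodule) :
    isoIdem ρ χ v = v := by
  obtain ⟨u, rfl⟩ := hv
  exact LinearMap.congr_fun (isoIdem_idem hχ ρ) u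

/-- The central idempotent of `χ` is the identity on the isotypic component. -/
theorem isoIdem_isoComp {χ : G → ℂ} (hχ : IsIrrCharacter G χ)
    {V : Type v} [AddCommGroup V] [Module ℂ V] [FiniteDimensional ℂ V]
    (ρ : Representation ℂ G V) :
    isoIdem (isoComp ρ (isClassFunction_of_isIrrCharacter hχ)).toRepresentation χ = 1 := by
  apply LinearMap.ext
  intro w
  apply Subtype.ext
  rw [isoIdem_toRepresentation]
  exact isoIdem_apply_of_mem hχ ρ w.2

/-- The dimension of the isotypic component. -/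
theorem finrank_isoComp {χ : G → ℂ} (hχ : IsIrrCharacter G χ)
    {V : Type v} [AddCommGroup V] [Module ℂ V] [FiniteDimensional ℂ V]
    (ρ : Representation ℂ G V) :
    (Module.finrank ℂ (isoComp ρ (isClassFunction_of_isIrrCharacter hχ)).toSubmodule : ℂ) =
      χ 1 * classInner ρ.character χ := by
  have he : IsIdempotentElem (isoIdem ρ χ) := isoIdem_idem hχ ρ
  rw [← trace_isoIdem, (LinearMap.IsIdempotentElem.isProj_range _ he).trace]
  rfl

/-- The character of the isotypic component. -/
theorem isoComp_character {χ : G → ℂ} (hχ : IsIrrCharacter G χ)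
    {V : Type v} [AddCommGroup V] [Module ℂ V] [FiniteDimensional ℂ V]
    (ρ : Representation ℂ G V) :
    (isoComp ρ (isClassFunction_of_isIrrCharacter hχ)).toRepresentation.character =
      classInner ρ.character χ • χ := by
  obtain ⟨n, hn⟩ := char_eq_nsmul_of_isoIdem_eq_one hχ _ (isoIdem_isoComp hχ ρ)
  have h1 := congrFun hn 1
  rw [Representation.char_one, finrank_isoComp hχ ρ] at h1
  simp only [Pi.smul_apply, nsmul_eq_mul] at h1
  have hne := irr_degree_ne_zero hχ
  have h2 : classInner ρ.character χ = (n : ℂ) := by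
    have h3 : χ 1 * classInner ρ.character χ = χ 1 * (n : ℂ) := by rw [h1]; ring
    exact mul_left_cancel₀ hne h3
  rw [hn, h2]
  funext g
  simp

/-- The central idempotent of a non-constituent vanishes. -/
theorem isoIdem_eq_zero {χ : G → ℂ} (hχ : IsIrrCharacter G χ)
    {V : Type v} [AddCommGroup V] [Module ℂ V] [FiniteDimensional ℂ V]
    (ρ : Representation ℂ G V) (h0 : classInner ρ.character χ = 0) : isoIdem ρ χ = 0 := by
  have he : IsIdempotentElem (isoIdem ρ χ) := isoIdem_idem hχ ρ
  apply (LinearMap.IsIdempotentElem.trace_eq_zero_iff he).mp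
  rw [trace_isoIdem, h0, mul_zero]

/-- The isotypic component of a constituent of multiplicity one is irreducible. -/
theorem isIrreducible_isoComp {χ : G → ℂ} (hχ : IsIrrCharacter G χ)
    {V : Type v} [AddCommGroup V] [Module ℂ V] [FiniteDimensional ℂ V]
    (ρ : Representation ℂ G V) (h1 : classInner ρ.character χ = 1) :
    (isoComp ρ (isClassFunction_of_isIrrCharacter hχ)).toRepresentation.IsIrreducible := by
  have hc := isoComp_character hχ ρ
  rw [h1, one_smul] at hc
  obtain ⟨n, τ, hτ, hτχ⟩ := hχ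
  obtain ⟨e⟩ := nonempty_equiv_of_character_eq τ
    (isoComp ρ (isClassFunction_of_isIrrCharacter ⟨n, τ, hτ, hτχ⟩)).toRepresentation
    (hτχ.trans hc.symm)
  exact isIrreducible_of_equiv e hτ

/-- Schur: an equivariant endomorphism acts as a scalar on the isotypic component of a
constituent of multiplicity one. -/
theorem exists_smul_isoIdem {χ : G → ℂ} (hχ : IsIrrCharacter G χ)
    {V : Type v} [AddCommGroup V] [Module ℂ V] [FiniteDimensional ℂ V]
    (ρ : Representation ℂ G V) (h1 : classInner ρ.character χ = 1)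
    (S : Module.End ℂ V) (hS : ∀ g, S ∘ₗ ρ g = ρ g ∘ₗ S) :
    ∃ c : ℂ, S ∘ₗ isoIdem ρ χ = c • isoIdem ρ χ := by
  have hirr := isIrreducible_isoComp hχ ρ h1
  have hmaps : Set.MapsTo S (isoComp ρ (isClassFunction_of_isIrrCharacter hχ)).toSubmodule
      (isoComp ρ (isClassFunction_of_isIrrCharacter hχ)).toSubmodule := by
    rintro v ⟨u, rfl⟩
    refine ⟨S u, ?_⟩
    exact (LinearMap.congr_fun (isoIdem_comm ρ χ S hS) u).symm
  obtain ⟨c, hc⟩ := exists_eq_smul_id_of_comm
    (isoComp ρ (isClassFunction_of_isIrrCharacter hχ)).toRepresentation (S.restrict hmaps)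
    (by
      intro g
      apply LinearMap.ext
      intro w
      apply Subtype.ext
      exact LinearMap.congr_fun (hS g) w.1)
  refine ⟨c, ?_⟩
  apply LinearMap.ext
  intro v
  have h2 := LinearMap.congr_fun hc ⟨isoIdem ρ χ v, ⟨v, rfl⟩⟩
  have h3 : S (isoIdem ρ χ v) = c • isoIdem ρ χ v := congrArg Subtype.val h2
  exact h3

/-- In a multiplicity-free representation every equivariant endomorphism is a combination of
the central idempotents. -/
theorem exists_coeff_of_multFree [Fintype (IrrCharacter G)]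
    {V : Type v} [AddCommGroup V] [Module ℂ V] [FiniteDimensional ℂ V]
    (ρ : Representation ℂ G V)
    (hmf : ∀ χ : IrrCharacter G, classInner ρ.character (χ : G → ℂ) = 0 ∨
      classInner ρ.character (χ : G → ℂ) = 1)
    (S : Module.End ℂ V) (hS : ∀ g, S ∘ₗ ρ g = ρ g ∘ₗ S) :
    ∃ c : IrrCharacter G → ℂ, S = ∑ χ : IrrCharacter G, c χ • isoIdem ρ (χ : G → ℂ) := by
  have key : ∀ χ : IrrCharacter G, ∃ c : ℂ,
      S ∘ₗ isoIdem ρ (χ : G → ℂ) = c • isoIdem ρ (χ : G → ℂ) := by
    intro χ
    rcases hmf χ with h | h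
    · exact ⟨0, by rw [isoIdem_eq_zero χ.2 ρ h]; simp⟩
    · exact exists_smul_isoIdem χ.2 ρ h S hS
  choose c hc using key
  refine ⟨c, ?_⟩
  calc S = S ∘ₗ (1 : Module.End ℂ V) := rfl
    _ = S ∘ₗ ∑ χ : IrrCharacter G, isoIdem ρ (χ : G → ℂ) := by rw [sum_isoIdem]
    _ = ∑ χ : IrrCharacter G, S ∘ₗ isoIdem ρ (χ : G → ℂ) := by
        apply LinearMap.ext
        intro v
        simp [LinearMap.sum_apply]
    _ = ∑ χ : IrrCharacter G, c χ • isoIdem ρ (χ : G → ℂ) :=
        Finset.sum_congr rfl (fun χ _ => hc χ)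

/-- In a multiplicity-free representation equivariant endomorphisms commute. -/
theorem comm_of_multFree [Fintype (IrrCharacter G)]
    {V : Type v} [AddCommGroup V] [Module ℂ V] [FiniteDimensional ℂ V]
    (ρ : Representation ℂ G V)
    (hmf : ∀ χ : IrrCharacter G, classInner ρ.character (χ : G → ℂ) = 0 ∨
      classInner ρ.character (χ : G → ℂ) = 1)
    (S T : Module.End ℂ V) (hS : ∀ g, S ∘ₗ ρ g = ρ g ∘ₗ S) (hT : ∀ g, T ∘ₗ ρ g = ρ g ∘ₗ T) :
    S ∘ₗ T = T ∘ₗ S := by
  obtain ⟨c, hc⟩ := exists_coeff_of_multFree ρ hmf S hS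
  rw [hc]
  apply LinearMap.ext
  intro v
  simp only [LinearMap.comp_apply, LinearMap.sum_apply, LinearMap.smul_apply, map_sum, map_smul]
  apply Finset.sum_congr rfl
  intro χ _
  have := LinearMap.congr_fun (isoIdem_comm ρ (χ : G → ℂ) T hT) v
  simp only [LinearMap.comp_apply] at this
  rw [this]


/-- In a representation with character `m • χ`, `m ≥ 2`, on which the central idempotent of
`χ` is the identity, there are non-commuting equivariant endomorphisms. -/
theorem exists_not_comm_of_isotypic {χ : G → ℂ} (hχ : IsIrrCharacter G χ)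
    {X : Type v} [AddCommGroup X] [Module ℂ X] [FiniteDimensional ℂ X]
    (σ : Representation ℂ G X) (h1 : isoIdem σ χ = 1) (m : ℕ) (hm : 2 ≤ m)
    (hchar : σ.character = m • χ) :
    ∃ S T : Module.End ℂ X, (∀ g, S ∘ₗ σ g = σ g ∘ₗ S) ∧ (∀ g, T ∘ₗ σ g = σ g ∘ₗ T) ∧
      S ∘ₗ T ≠ T ∘ₗ S := by
  have : NeZero (Nat.card G : ℂ) := ⟨card_ne_zero_complex'⟩
  have hne := irr_degree_ne_zero hχ
  have hX : Nontrivial X := by
    rw [← Module.finrank_pos_iff (R := ℂ)]
    have h2 := congrFun hchar 1
    rw [Representation.char_one] at h2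
    simp only [Pi.smul_apply, nsmul_eq_mul] at h2
    by_contra h0
    have h3 : Module.finrank ℂ X = 0 := by omega
    rw [h3] at h2
    have h4 : (m : ℂ) * χ 1 = 0 := by rw [← h2]; simp
    rcases mul_eq_zero.mp h4 with h | h
    · have : m = 0 := by exact_mod_cast h
      omega
    · exact hne h
  obtain ⟨W, W', hc, hirr, _⟩ := exists_irreducible_isCompl σ
  have hWχ : W.toRepresentation.character = χ :=
    char_eq_of_irr_of_isoIdem_eq_one _ hχ (isoIdem_sub_eq_one σ χ h1 W)
  have hW'char : W'.toRepresentation.character 1 = ((m : ℂ) - 1) * χ 1 := by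
    have h2 := char_eq_add_of_isCompl σ W W' hc 1
    rw [hchar, hWχ] at h2
    simp only [Pi.smul_apply, nsmul_eq_mul] at h2
    linear_combination -h2
  have hW'nt : Nontrivial W'.toSubmodule := by
    rw [← Module.finrank_pos_iff (R := ℂ)]
    rw [Representation.char_one] at hW'char
    by_contra h0
    have h3 : Module.finrank ℂ W'.toSubmodule = 0 := by omega
    rw [h3] at hW'char
    have h4 : ((m : ℂ) - 1) * χ 1 = 0 := by rw [← hW'char]; simp
    rcases mul_eq_zero.mp h4 with h | h
    · have h5 : (m : ℂ) = 1 := by linear_combination h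
      have : m = 1 := by exact_mod_cast h5
      omega
    · exact hne h
  obtain ⟨W₂, W₂', hc₂, hirr₂, _⟩ := exists_irreducible_isCompl W'.toRepresentation
  have hW₂χ : W₂.toRepresentation.character = χ :=
    char_eq_of_irr_of_isoIdem_eq_one _ hχ
      (isoIdem_sub_eq_one _ χ (isoIdem_sub_eq_one σ χ h1 W') W₂)
  obtain ⟨φ⟩ := nonempty_equiv_of_character_eq W.toRepresentation W₂.toRepresentation
    (hWχ.trans hW₂χ.symm)
  let P : X →ₗ[ℂ] W.toSubmodule :=
    Submodule.projectionOnto W.toSubmodule W'.toSubmodule hc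
  have hP : ∀ g x, P (σ g x) = W.toRepresentation g (P x) := by
    intro g x
    have hx : x = (P x : X) + (x - (P x : X)) := by abel
    have hx' : x - (P x : X) ∈ W'.toSubmodule := by
      rw [← Submodule.ker_projectionOnto hc, LinearMap.mem_ker, map_sub,
        Submodule.projectionOnto_apply_left hc]
      exact sub_self _
    have e1 : P (σ g (P x : X)) = W.toRepresentation g (P x) := by
      have h5 : σ g (P x : X) = ((W.toRepresentation g (P x) : W.toSubmodule) : X) := rfl
      rw [h5]
      exact Submodule.projectionOnto_apply_left hc _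
    have e2 : P (σ g (x - (P x : X))) = 0 :=
      Submodule.projectionOnto_apply_of_mem_right hc (W'.apply_mem_toSubmodule g hx')
    calc P (σ g x) = P (σ g ((P x : X) + (x - (P x : X)))) := by rw [← hx]
      _ = P (σ g (P x : X)) + P (σ g (x - (P x : X))) := by rw [map_add, map_add]
      _ = W.toRepresentation g (P x) := by rw [e1, e2, add_zero]
  let φL : W.toSubmodule →ₗ[ℂ] W₂.toSubmodule := φ.toLinearEquiv.toLinearMap
  have hφ : ∀ g w, φL (W.toRepresentation g w) = W₂.toRepresentation g (φL w) :=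
    fun g w => Representation.IntertwiningMap.isIntertwining _ _ φ.toIntertwiningMap g w
  let S : Module.End ℂ X := W.toSubmodule.subtype ∘ₗ P
  let T : Module.End ℂ X := W'.toSubmodule.subtype ∘ₗ W₂.toSubmodule.subtype ∘ₗ φL ∘ₗ P
  refine ⟨S, T, ?_, ?_, ?_⟩
  · intro g
    apply LinearMap.ext
    intro x
    show ((P (σ g x) : W.toSubmodule) : X) = σ g (P x : X)
    rw [hP]
    rfl
  · intro g
    apply LinearMap.ext
    intro x
    show (((φL (P (σ g x)) : W₂.toSubmodule) : W'.toSubmodule) : X) =
      σ g (((φL (P x) : W₂.toSubmodule) : W'.toSubmodule) : X)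
    rw [hP, hφ]
    rfl
  · intro hST
    have := nontrivial_of_isIrreducible W.toRepresentation
    obtain ⟨w, hw⟩ := exists_ne (0 : W.toSubmodule)
    have h2 := LinearMap.congr_fun hST (w : X)
    have hl : (S ∘ₗ T) (w : X) = 0 := by
      show ((P (((φL (P (w : X)) : W₂.toSubmodule) : W'.toSubmodule) : X) : W.toSubmodule) : X) = 0
      have h6 : P (((φL (P (w : X)) : W₂.toSubmodule) : W'.toSubmodule) : X) = 0 :=
        Submodule.projectionOnto_apply_of_mem_right hc (Subtype.mem _)
      rw [h6]
      rfl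
    have hr : (T ∘ₗ S) (w : X) = (((φL w : W₂.toSubmodule) : W'.toSubmodule) : X) := by
      show (((φL (P ((P (w : X) : W.toSubmodule) : X)) : W₂.toSubmodule) : W'.toSubmodule) : X) = _
      have h6 : P (w : X) = w := Submodule.projectionOnto_apply_left hc w
      rw [h6, h6]
    rw [hl, hr] at h2
    apply hw
    have h3 : φL w = 0 := by
      apply Subtype.ext
      apply Subtype.ext
      exact h2.symm
    have h4 : φ.toLinearEquiv w = φ.toLinearEquiv 0 := by
      rw [map_zero]
      exact h3
    exact φ.toLinearEquiv.injective h4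

/-- A constituent of multiplicity at least two gives non-commuting equivariant
endomorphisms. -/
theorem exists_not_comm_of_mult_ge_two {χ : G → ℂ} (hχ : IsIrrCharacter G χ)
    {V : Type v} [AddCommGroup V] [Module ℂ V] [FiniteDimensional ℂ V]
    (ρ : Representation ℂ G V) (m : ℕ) (hm : 2 ≤ m) (hmult : classInner ρ.character χ = m) :
    ∃ S T : Module.End ℂ V, (∀ g, S ∘ₗ ρ g = ρ g ∘ₗ S) ∧ (∀ g, T ∘ₗ ρ g = ρ g ∘ₗ T) ∧
      S ∘ₗ T ≠ T ∘ₗ S := by
  have hchar : (isoComp ρ (isClassFunction_of_isIrrCharacter hχ)).toRepresentation.character =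
      m • χ := by
    rw [isoComp_character hχ ρ, hmult]
    funext g
    simp
  obtain ⟨S', T', hS', hT', hne⟩ := exists_not_comm_of_isotypic hχ
    (isoComp ρ (isClassFunction_of_isIrrCharacter hχ)).toRepresentation
    (isoIdem_isoComp hχ ρ) m hm hchar
  let e' : V →ₗ[ℂ] (isoComp ρ (isClassFunction_of_isIrrCharacter hχ)).toSubmodule :=
    LinearMap.codRestrict (isoComp ρ (isClassFunction_of_isIrrCharacter hχ)).toSubmodule
      (isoIdem ρ χ) (fun v => ⟨v, rfl⟩)
  have he'1 : ∀ x : (isoComp ρ (isClassFunction_of_isIrrCharacter hχ)).toSubmodule,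
      e' (x : V) = x := by
    intro x
    apply Subtype.ext
    exact isoIdem_apply_of_mem hχ ρ x.2
  have he'g : ∀ g v, e' (ρ g v) =
      (isoComp ρ (isClassFunction_of_isIrrCharacter hχ)).toRepresentation g (e' v) := by
    intro g v
    apply Subtype.ext
    exact LinearMap.congr_fun (isoIdem_comm_rep ρ (isClassFunction_of_isIrrCharacter hχ) g) v
  refine ⟨(isoComp ρ (isClassFunction_of_isIrrCharacter hχ)).toSubmodule.subtype ∘ₗ S' ∘ₗ e',
    (isoComp ρ (isClassFunction_of_isIrrCharacter hχ)).toSubmodule.subtype ∘ₗ T' ∘ₗ e', ?_, ?_, ?_⟩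
  · intro g
    apply LinearMap.ext
    intro v
    show ((S' (e' (ρ g v)) : (isoComp ρ (isClassFunction_of_isIrrCharacter hχ)).toSubmodule) : V) =
      ρ g ((S' (e' v) : (isoComp ρ (isClassFunction_of_isIrrCharacter hχ)).toSubmodule) : V)
    rw [he'g]
    have h5 := LinearMap.congr_fun (hS' g) (e' v)
    simp only [LinearMap.comp_apply] at h5
    rw [h5]
    rfl
  · intro g
    apply LinearMap.ext
    intro v
    show ((T' (e' (ρ g v)) : (isoComp ρ (isClassFunction_of_isIrrCharacter hχ)).toSubmodule) : V) =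
      ρ g ((T' (e' v) : (isoComp ρ (isClassFunction_of_isIrrCharacter hχ)).toSubmodule) : V)
    rw [he'g]
    have h5 := LinearMap.congr_fun (hT' g) (e' v)
    simp only [LinearMap.comp_apply] at h5
    rw [h5]
    rfl
  · intro hST
    apply hne
    apply LinearMap.ext
    intro x
    have h2 := LinearMap.congr_fun hST (x : V)
    have h3 : ((S' (e' ((T' (e' (x : V)) :
        (isoComp ρ (isClassFunction_of_isIrrCharacter hχ)).toSubmodule) : V)) :
        (isoComp ρ (isClassFunction_of_isIrrCharacter hχ)).toSubmodule) : V) =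
        ((T' (e' ((S' (e' (x : V)) :
        (isoComp ρ (isClassFunction_of_isIrrCharacter hχ)).toSubmodule) : V)) :
        (isoComp ρ (isClassFunction_of_isIrrCharacter hχ)).toSubmodule) : V) := h2
    rw [he'1, he'1, he'1] at h3
    exact Subtype.ext h3

end Idem

end Cfsg.Agent.Lib.helper16
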