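import Mathlib
import Cfsg.Agent.Lib.helper4.CharDecomp
import Cfsg.Prelude.Def_Perm

/-!
# Permutation characters: traces of commuting operators

General lemma: if `B` commutes with a complex representation `σ` of a finite group, the
eigenvalues of `B` are algebraic integers and `f` divides the degree of every irreducible
constituent of `σ`, then `trace B = f * θ` for an algebraic integer `θ`.
-/

set_option autoImplicit false
open Cfsg

namespace Cfsg.Agent.Lib.helper16

open Cfsg.Agent.Lib.helper4

section General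

variable {G : Type*} [Group G] [Fintype G] {U : Type*} [AddCommGroup U] [Module ℂ U]
  [FiniteDimensional ℂ U]

/-- A constituent of a subrepresentation is a constituent of the representation. -/
theorem classInner_ne_zero_of_subrep (σ : Representation ℂ G U) (W : Subrepresentation σ)
    {χ : G → ℂ} (hχ : IsIrrCharacter G χ)
    (h : classInner W.toRepresentation.character χ ≠ 0) : classInner σ.character χ ≠ 0 := by
  have : NeZero (Nat.card G : ℂ) := ⟨card_ne_zero_complex'⟩
  obtain ⟨W', hW'⟩ := exists_isCompl_subrep σ W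
  have hsum : σ.character = W.toRepresentation.character + W'.toRepresentation.character := by
    funext g; exact char_eq_add_of_isCompl σ W W' hW' g
  obtain ⟨n, hn⟩ := exists_nat_classInner_irr (isCharacter_of_rep W.toRepresentation) hχ
  obtain ⟨m, hm⟩ := exists_nat_classInner_irr (isCharacter_of_rep W'.toRepresentation) hχ
  rw [hsum, classInner_add_left, hn, hm]
  rw [hn] at h
  have hn0 : n ≠ 0 := by rintro rfl; simp at h
  exact_mod_cast (by omega : n + m ≠ 0)

/-- A member of a list of irreducible characters is a constituent of the sum of the list. -/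
theorem classInner_list_ne_zero (l : List (IrrCharacter G)) (χ : IrrCharacter G) (hχ : χ ∈ l) :
    classInner (l.map Subtype.val).sum (χ : G → ℂ) ≠ 0 := by
  induction l with
  | nil => simp at hχ
  | cons a t ih =>
    rw [List.map_cons, List.sum_cons, classInner_add_left]
    obtain ⟨m, hm⟩ := exists_nat_classInner_list_irr t χ.2
    rw [hm]
    by_cases ha : a = χ
    · subst ha
      rw [classInner_irr_self a.2]
      exact_mod_cast (by omega : 1 + m ≠ 0)
    · have hmem : χ ∈ t := by
        rcases List.mem_cons.mp hχ with h | h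
        · exact absurd h.symm ha
        · exact h
      have := ih hmem
      rw [hm] at this
      rw [classInner_irr_ne a.2 χ.2 (fun h => ha (Subtype.ext h)), zero_add]
      exact this

/-- If `f` divides the degree of every irreducible constituent of a representation, then it
divides its dimension. -/
theorem dvd_finrank_of_dvd_constituents (σ : Representation ℂ G U) (f : ℕ)
    (hf : ∀ χ : G → ℂ, IsIrrCharacter G χ → classInner σ.character χ ≠ 0 →
      ∃ m : ℕ, χ 1 = (f : ℂ) * m) :
    f ∣ Module.finrank ℂ U := by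
  obtain ⟨l, hl⟩ := exists_irr_list_of_isCharacter (isCharacter_of_rep σ)
  have key : ∀ l' : List (IrrCharacter G),
      (∀ χ ∈ l', ∃ m : ℕ, (χ : G → ℂ) 1 = (f : ℂ) * m) →
      ∃ M : ℕ, (l'.map Subtype.val).sum 1 = (f : ℂ) * M := by
    intro l'
    induction l' with
    | nil => intro _; exact ⟨0, by simp⟩
    | cons a t ih =>
      intro h
      obtain ⟨M, hM⟩ := ih (fun χ hχ => h χ (List.mem_cons_of_mem _ hχ))
      obtain ⟨m, hm⟩ := h a List.mem_cons_self
      refine ⟨m + M, ?_⟩
      simp only [List.map_cons, List.sum_cons, Pi.add_apply]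
      rw [hM, hm]; push_cast; ring
  have hmem : ∀ χ ∈ l, ∃ m : ℕ, (χ : G → ℂ) 1 = (f : ℂ) * m := by
    intro χ hχ
    apply hf χ χ.2
    rw [hl]
    exact classInner_list_ne_zero l χ hχ
  obtain ⟨M, hM⟩ := key l hmem
  rw [← hl, Representation.char_one] at hM
  exact ⟨M, by exact_mod_cast hM⟩

/-- If `B` commutes with a complex representation `σ` of a finite group, the eigenvalues of
`B` are algebraic integers and `f` divides the degree of every irreducible constituent of `σ`,
then `trace B = f * θ` for an algebraic integer `θ`. -/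
theorem trace_eq_mul_integral (σ : Representation ℂ G U) (B : Module.End ℂ U)
    (hcomm : ∀ g, Commute B (σ g))
    (hB : ∀ μ, B.HasEigenvalue μ → IsIntegral ℤ μ) (f : ℕ)
    (hf : ∀ χ : G → ℂ, IsIrrCharacter G χ → classInner σ.character χ ≠ 0 →
      ∃ m : ℕ, χ 1 = (f : ℂ) * m) :
    ∃ θ : ℂ, IsIntegral ℤ θ ∧ LinearMap.trace ℂ U B = f * θ := by
  classical
  have hds := DirectSum.isInternal_submodule_of_iSupIndep_of_iSup_eq_top
      B.independent_maxGenEigenspace B.iSup_maxGenEigenspace_eq_top
  have h_fin : {μ | B.maxGenEigenspace μ ≠ ⊥}.Finite :=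
      WellFoundedGT.finite_ne_bot_of_iSupIndep B.independent_maxGenEigenspace
  have hmaps : ∀ μ, Set.MapsTo B (B.maxGenEigenspace μ) (B.maxGenEigenspace μ) :=
    fun μ => B.mapsTo_maxGenEigenspace_of_comm rfl μ
  have htr := LinearMap.trace_eq_sum_trace_restrict' hds h_fin hmaps
  have hterm : ∀ μ, ∃ M : ℕ,
      LinearMap.trace ℂ _ (B.restrict (hmaps μ)) = (f : ℂ) * (μ * M) := by
    intro μ
    let W : Subrepresentation σ :=
      ⟨B.maxGenEigenspace μ, fun g v hv => B.mapsTo_maxGenEigenspace_of_comm (hcomm g) μ hv⟩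
    have hdvd : f ∣ Module.finrank ℂ (B.maxGenEigenspace μ) :=
      dvd_finrank_of_dvd_constituents W.toRepresentation f
        (fun χ hχ h => hf χ hχ (classInner_ne_zero_of_subrep σ W hχ h))
    obtain ⟨M, hM⟩ := hdvd
    refine ⟨M, ?_⟩
    have hnil := B.isNilpotent_restrict_maxGenEigenspace_sub_algebraMap μ
    have h1 := LinearMap.trace_comp_eq_mul_of_commute_of_isNilpotent
      (f := (1 : Module.End ℂ (B.maxGenEigenspace μ))) (g := B.restrict (hmaps μ)) μ
      (Commute.one_left _) (by convert hnil using 1; ext x; rfl)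
    rw [show (1 : Module.End ℂ _) ∘ₗ B.restrict (hmaps μ) = B.restrict (hmaps μ) from rfl,
      LinearMap.trace_one, hM] at h1
    rw [h1]; push_cast; ring
  choose M hM using hterm
  refine ⟨∑ μ ∈ h_fin.toFinset, μ * M μ, ?_, ?_⟩
  · apply IsIntegral.sum
    intro μ hμ
    refine IsIntegral.mul (hB μ ?_) (by simpa using isIntegral_algebraMap (R := ℤ) (A := ℂ) (x := (M μ : ℤ)))
    have h0 : B.maxGenEigenspace μ ≠ ⊥ := by simpa using hμ
    exact (Module.End.hasUnifEigenvalue_iff_hasUnifEigenvalue_one (by simp)).mp h0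
  · rw [htr, Finset.mul_sum]
    exact Finset.sum_congr rfl (fun μ _ => hM μ)

end General


section Perm

variable {G : Type*} [Group G] {Ω : Type*} [Fintype Ω] [MulAction G Ω]

/-- The character of the permutation representation counts fixed points. -/
theorem permRep_character (g : G) :
    (Cfsg.permRep ℂ G Ω).character g = (Nat.card (MulAction.fixedBy Ω g) : ℂ) := by
  classical
  have hc : Nat.card (MulAction.fixedBy Ω g) =
      (Finset.univ.filter (fun x : Ω => g • x = x)).card := by
    rw [← Nat.card_eq_finsetCard]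
    exact Nat.card_congr (Equiv.subtypeEquivRight (fun x => by simp [MulAction.mem_fixedBy]))
  have hdiag : ∀ x : Ω, (Cfsg.permRep ℂ G Ω g (Pi.single x 1)) x = if g • x = x then 1 else 0 := by
    intro x
    show (Pi.single x (1 : ℂ) : Ω → ℂ) (g⁻¹ • x) = _
    by_cases h : g • x = x
    · rw [if_pos h]
      have : g⁻¹ • x = x := by rw [inv_smul_eq_iff]; exact h.symm
      rw [this]; simp
    · rw [if_neg h]
      apply Pi.single_eq_of_ne
      intro h'
      exact h (by rw [inv_smul_eq_iff] at h'; exact h'.symm)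
  unfold Representation.character
  rw [LinearMap.trace_eq_matrix_trace ℂ (Pi.basisFun ℂ Ω)]
  simp only [Matrix.trace, Matrix.diag_apply, LinearMap.toMatrix_apply, Pi.basisFun_apply,
    Pi.basisFun_repr]
  simp_rw [hdiag]
  rw [Finset.sum_boole, hc]

open Classical in
/-- The integer adjacency matrix of a relation. -/
noncomputable def adjZ (R : Ω → Ω → Prop) : Matrix Ω Ω ℤ :=
  Matrix.of fun x y => if R x y then 1 else 0

open Classical in
/-- The adjacency operator of a relation on the space of complex functions. -/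
noncomputable def adjOp (R : Ω → Ω → Prop) : Module.End ℂ (Ω → ℂ) :=
  Matrix.toLin' ((adjZ R).map (Int.castRingHom ℂ))

open Classical in
theorem adjOp_apply (R : Ω → Ω → Prop) (φ : Ω → ℂ) (x : Ω) :
    adjOp R φ x = ∑ y, if R x y then φ y else 0 := by
  unfold adjOp adjZ
  rw [Matrix.toLin'_apply]
  simp only [Matrix.mulVec, dotProduct, Matrix.map_apply, Matrix.of_apply]
  apply Finset.sum_congr rfl
  intro y _
  split_ifs <;> simp

open Classical in
theorem adjOp_trace (R : Ω → Ω → Prop) :
    LinearMap.trace ℂ (Ω → ℂ) (adjOp R) = ∑ x, if R x x then (1 : ℂ) else 0 := by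
  unfold adjOp adjZ
  rw [Matrix.trace_toLin'_eq]
  simp only [Matrix.trace, Matrix.diag_apply, Matrix.map_apply, Matrix.of_apply]
  apply Finset.sum_congr rfl
  intro y _
  split_ifs <;> simp

/-- Eigenvalues of the adjacency operator are algebraic integers. -/
theorem adjOp_isIntegral (R : Ω → Ω → Prop) (μ : ℂ) (h : (adjOp R).HasEigenvalue μ) :
    IsIntegral ℤ μ := by
  classical
  rw [Module.End.hasEigenvalue_iff_isRoot_charpoly] at h
  unfold adjOp at h
  rw [Matrix.charpoly_toLin', Matrix.charpoly_map] at h
  refine ⟨(adjZ R).charpoly, Matrix.charpoly_monic _, ?_⟩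
  rw [← Polynomial.eval_map]
  exact h

/-- The adjacency operator of an invariant relation commutes with the permutation
representation. -/
theorem adjOp_commute (R : Ω → Ω → Prop) (hR : ∀ (g : G) (x y : Ω), R (g • x) (g • y) ↔ R x y)
    (g : G) : Commute (adjOp R) (Cfsg.permRep ℂ G Ω g) := by
  classical
  show adjOp R * Cfsg.permRep ℂ G Ω g = Cfsg.permRep ℂ G Ω g * adjOp R
  refine LinearMap.ext fun φ => funext fun x => ?_
  show adjOp R (Cfsg.permRep ℂ G Ω g φ) x = (adjOp R φ) (g⁻¹ • x)
  rw [adjOp_apply, adjOp_apply]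
  show ∑ y, (if R x y then φ (g⁻¹ • y) else 0) = _
  rw [← Equiv.sum_comp (MulAction.toPerm g⁻¹) (fun y => if R (g⁻¹ • x) y then φ y else 0)]
  apply Finset.sum_congr rfl
  intro y _
  show _ = if R (g⁻¹ • x) (g⁻¹ • y) then φ (g⁻¹ • y) else 0
  rw [hR g⁻¹ x y]


omit [Fintype Ω] in
/-- For an invariant relation of a transitive action, the number of neighbours is constant. -/
theorem card_rel_eq [MulAction.IsPretransitive G Ω] (R : Ω → Ω → Prop)
    (hR : ∀ (g : G) (x y : Ω), R (g • x) (g • y) ↔ R x y) (x x' : Ω) :
    Nat.card {y // R x y} = Nat.card {y // R x' y} := by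
  obtain ⟨g, rfl⟩ := MulAction.exists_smul_eq G x x'
  exact Nat.card_congr ((MulAction.toPerm g).subtypeEquiv (fun y => (hR g x y).symm))

open Classical in
theorem sum_ite_one_eq_card (p : Ω → Prop) :
    (∑ y, if p y then (1 : ℂ) else 0) = (Nat.card {y // p y} : ℂ) := by
  rw [Finset.sum_boole, Nat.card_eq_fintype_card, Fintype.card_subtype]

/-- The adjacency operator multiplies the constant function `1` by the valency. -/
theorem adjOp_one [MulAction.IsPretransitive G Ω] (R : Ω → Ω → Prop)
    (hR : ∀ (g : G) (x y : Ω), R (g • x) (g • y) ↔ R x y) (a : Ω) :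
    adjOp R (fun _ => (1 : ℂ)) = (Nat.card {y // R a y} : ℂ) • (fun _ : Ω => (1 : ℂ)) := by
  classical
  funext x
  rw [adjOp_apply]
  simp only [Pi.smul_apply, smul_eq_mul, mul_one]
  rw [sum_ite_one_eq_card, card_rel_eq (G := G) R hR x a]

/-- The adjacency operator of an invariant relation of a transitive action preserves the
functions of sum zero. -/
theorem adjOp_mapsTo_sumZero [MulAction.IsPretransitive G Ω] (R : Ω → Ω → Prop)
    (hR : ∀ (g : G) (x y : Ω), R (g • x) (g • y) ↔ R x y) :
    Set.MapsTo (adjOp R) (Cfsg.permSumZero ℂ G Ω).toSubmodule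
      (Cfsg.permSumZero ℂ G Ω).toSubmodule := by
  classical
  intro φ hφ
  have hφ' : ∑ x, φ x = 0 := hφ
  show ∑ x, adjOp R φ x = 0
  simp_rw [adjOp_apply]
  rw [Finset.sum_comm]
  rcases isEmpty_or_nonempty Ω with hΩ | ⟨⟨a⟩⟩
  · simp
  have hcol : ∀ y : Ω, (∑ x, if R x y then φ y else 0) =
      (Nat.card {x // R x a} : ℂ) * φ y := by
    intro y
    have h1 : (∑ x, if R x y then φ y else 0) = (∑ x, if R x y then (1 : ℂ) else 0) * φ y := by
      rw [Finset.sum_mul]
      apply Finset.sum_congr rfl
      intro x _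
      split_ifs <;> simp
    rw [h1, sum_ite_one_eq_card,
      card_rel_eq (G := G) (fun x y => R y x) (fun g x y => hR g y x) y a]
  simp_rw [hcol]
  rw [← Finset.mul_sum, hφ', mul_zero]

variable (G Ω) in
theorem isCompl_constants_sumZero [Nonempty Ω] :
    IsCompl (Cfsg.permConstants ℂ G Ω).toSubmodule (Cfsg.permSumZero ℂ G Ω).toSubmodule := by
  have hn : (Fintype.card Ω : ℂ) ≠ 0 := by exact_mod_cast Fintype.card_ne_zero
  constructor
  · rw [Submodule.disjoint_def]
    intro φ h1 h2
    change φ ∈ Submodule.span ℂ {fun _ => (1 : ℂ)} at h1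
    rw [Submodule.mem_span_singleton] at h1
    obtain ⟨c, rfl⟩ := h1
    have h2' : ∑ x : Ω, (c • (fun _ : Ω => (1 : ℂ))) x = 0 := h2
    simp only [Pi.smul_apply, smul_eq_mul, mul_one, Finset.sum_const, Finset.card_univ,
      nsmul_eq_mul] at h2'
    have hc : c = 0 := by
      rcases mul_eq_zero.mp h2' with h | h
      · exact absurd h hn
      · exact h
    rw [hc, zero_smul]
  · rw [codisjoint_iff, eq_top_iff]
    intro φ _
    rw [Submodule.mem_sup]
    refine ⟨(fun _ => (∑ x, φ x) / Fintype.card Ω), ?_,
      φ - (fun _ => (∑ x, φ x) / Fintype.card Ω), ?_, by simp⟩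
    · change _ ∈ Submodule.span ℂ {fun _ => (1 : ℂ)}
      rw [Submodule.mem_span_singleton]
      exact ⟨(∑ x, φ x) / Fintype.card Ω, by funext x; simp⟩
    · show ∑ x, ((φ - fun _ => (∑ x, φ x) / (Fintype.card Ω : ℂ)) : Ω → ℂ) x = 0
      simp only [Pi.sub_apply, Finset.sum_sub_distrib, Finset.sum_const, Finset.card_univ,
        nsmul_eq_mul]
      field_simp
      ring

/-- Additivity of the trace over complementary invariant subspaces. -/
theorem trace_eq_add_of_isCompl {V : Type*} [AddCommGroup V] [Module ℂ V] [FiniteDimensional ℂ V]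
    (p q : Submodule ℂ V) (h : IsCompl p q) (A : Module.End ℂ V) (hp : Set.MapsTo A p p)
    (hq : Set.MapsTo A q q) :
    LinearMap.trace ℂ V A =
      LinearMap.trace ℂ p (A.restrict hp) + LinearMap.trace ℂ q (A.restrict hq) := by
  classical
  let N : Bool → Submodule ℂ V := fun b => bif b then p else q
  have hint : DirectSum.IsInternal N := by
    rw [DirectSum.isInternal_submodule_iff_isCompl N (i := true) (j := false) (by simp)
      (by ext b; cases b <;> simp)]
    exact h
  have hmaps : ∀ b, Set.MapsTo A (N b) (N b) := by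
    intro b
    cases b
    · exact hq
    · exact hp
  have hfin : ∀ b, Module.Finite ℂ (N b) := by
    intro b; cases b <;> infer_instance
  have hfree : ∀ b, Module.Free ℂ (N b) := by
    intro b; cases b <;> infer_instance
  have := LinearMap.trace_eq_sum_trace_restrict hint hmaps
  rw [this, Fintype.sum_bool]
  rfl

/-- An operator acting as the scalar `k` on the constants has trace `k` there. -/
theorem trace_restrict_constants [Nonempty Ω] (A : Module.End ℂ (Ω → ℂ)) (k : ℂ)
    (hA : A (fun _ => (1 : ℂ)) = k • (fun _ : Ω => (1 : ℂ))) :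
    ∃ hp : Set.MapsTo A (Cfsg.permConstants ℂ G Ω).toSubmodule
      (Cfsg.permConstants ℂ G Ω).toSubmodule,
      LinearMap.trace ℂ _ (A.restrict hp) = k := by
  have hval : ∀ v ∈ (Cfsg.permConstants ℂ G Ω).toSubmodule, A v = k • v := by
    intro v hv
    change v ∈ Submodule.span ℂ {fun _ => (1 : ℂ)} at hv
    rw [Submodule.mem_span_singleton] at hv
    obtain ⟨c, rfl⟩ := hv
    rw [map_smul, hA, smul_comm]
  have hp : Set.MapsTo A (Cfsg.permConstants ℂ G Ω).toSubmodule
      (Cfsg.permConstants ℂ G Ω).toSubmodule := by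
    intro v hv
    have := hval v hv
    simp only [SetLike.mem_coe] at hv ⊢
    rw [this]
    exact Submodule.smul_mem _ _ hv
  refine ⟨hp, ?_⟩
  have hres : A.restrict hp = k • (1 : Module.End ℂ (Cfsg.permConstants ℂ G Ω).toSubmodule) := by
    apply LinearMap.ext
    intro v
    apply Subtype.ext
    exact hval v.1 v.2
  have hfr : Module.finrank ℂ (Cfsg.permConstants ℂ G Ω).toSubmodule = 1 := by
    change Module.finrank ℂ (Submodule.span ℂ {fun _ : Ω => (1 : ℂ)}) = 1
    apply finrank_span_singleton
    intro h0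
    obtain ⟨a⟩ := ‹Nonempty Ω›
    have := congrFun h0 a
    simp at this
  rw [hres, map_smul, LinearMap.trace_one, hfr]
  simp


/-- The trivial character is irreducible. -/
theorem isIrrCharacter_one' [Fintype G] : IsIrrCharacter G (fun _ => (1 : ℂ)) := by
  apply isIrrCharacter_of_isCharacter_of_norm_one isCharacter_one
  unfold classInner
  simp only [map_one, mul_one, Finset.sum_const, Finset.card_univ, nsmul_eq_mul]
  rw [Nat.card_eq_fintype_card]
  have : (Fintype.card G : ℂ) ≠ 0 := by exact_mod_cast Fintype.card_ne_zero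
  field_simp

/-- Burnside: the permutation character of a transitive action contains the trivial character
exactly once. -/
theorem classInner_perm_one [Fintype G] [MulAction.IsPretransitive G Ω] [Nonempty Ω] :
    classInner (fun g : G => (Nat.card (MulAction.fixedBy Ω g) : ℂ)) (fun _ => 1) = 1 := by
  classical
  unfold classInner
  have hB := MulAction.sum_card_fixedBy_eq_card_orbits_mul_card_group G Ω
  have h1 : Fintype.card (MulAction.orbitRel.Quotient G Ω) = 1 := by
    have hs : Subsingleton (MulAction.orbitRel.Quotient G Ω) :=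
      (MulAction.pretransitive_iff_subsingleton_quotient G Ω).mp inferInstance
    obtain ⟨a⟩ := ‹Nonempty Ω›
    have hne : Nonempty (MulAction.orbitRel.Quotient G Ω) := ⟨Quotient.mk'' a⟩
    exact Fintype.card_eq_one_iff.mpr ⟨Quotient.mk'' a, fun y => Subsingleton.elim _ _⟩
  rw [h1, one_mul] at hB
  simp only [map_one, mul_one]
  have h2 : (∑ g : G, (Nat.card (MulAction.fixedBy Ω g) : ℂ)) = (Fintype.card G : ℂ) := by
    rw [← hB]
    push_cast
    apply Finset.sum_congr rfl
    intro g _
    rw [Nat.card_eq_fintype_card]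
  rw [h2, Nat.card_eq_fintype_card]
  have : (Fintype.card G : ℂ) ≠ 0 := by exact_mod_cast Fintype.card_ne_zero
  field_simp

/-- The character of the constants is the trivial character. -/
theorem char_permConstants [Nonempty Ω] (g : G) :
    (Cfsg.permConstants ℂ G Ω).toRepresentation.character g = 1 := by
  have hres : (Cfsg.permConstants ℂ G Ω).toRepresentation g = 1 := by
    apply LinearMap.ext
    intro v
    apply Subtype.ext
    obtain ⟨v, hv⟩ := v
    change v ∈ Submodule.span ℂ {fun _ => (1 : ℂ)} at hv
    rw [Submodule.mem_span_singleton] at hv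
    obtain ⟨c, rfl⟩ := hv
    rfl
  have hfr : Module.finrank ℂ (Cfsg.permConstants ℂ G Ω).toSubmodule = 1 := by
    change Module.finrank ℂ (Submodule.span ℂ {fun _ : Ω => (1 : ℂ)}) = 1
    apply finrank_span_singleton
    intro h0
    obtain ⟨a⟩ := ‹Nonempty Ω›
    have := congrFun h0 a
    simp at this
  unfold Representation.character
  rw [hres, LinearMap.trace_one, hfr]
  simp

omit [Fintype Ω] in
/-- A natural number `k` with `k + f θ = 0` for an algebraic integer `θ` is divisible by `f`. -/
theorem nat_dvd_of_add_mul_integral (k f : ℕ) (θ : ℂ) (hθ : IsIntegral ℤ θ)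
    (h : (k : ℂ) + f * θ = 0) : f ∣ k := by
  rcases Nat.eq_zero_or_pos f with rfl | hfpos
  · simp at h
    simp [h]
  have hf0 : (f : ℂ) ≠ 0 := by exact_mod_cast hfpos.ne'
  have hθ' : θ = ((-(k : ℚ) / f : ℚ) : ℂ) := by
    push_cast
    field_simp
    linear_combination h
  rw [hθ'] at hθ
  have hq : IsIntegral ℤ (-(k : ℚ) / f : ℚ) := by
    have := (isIntegral_algebraMap_iff (R := ℤ) (A := ℚ) (B := ℂ)
      (algebraMap ℚ ℂ).injective (x := (-(k : ℚ) / f : ℚ))).mp
    exact this (by simpa using hθ)
  obtain ⟨y, hy⟩ := IsIntegrallyClosed.isIntegral_iff.mp hq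
  have hfq : (f : ℚ) ≠ 0 := by exact_mod_cast hfpos.ne'
  have hy' : (k : ℚ) = -(f : ℚ) * y := by
    have : (y : ℚ) = -(k : ℚ) / f := by simpa using hy
    rw [this]; field_simp
  have hz : (k : ℤ) = -(f : ℤ) * y := by exact_mod_cast hy'
  have : (f : ℤ) ∣ (k : ℤ) := ⟨-y, by rw [hz]; ring⟩
  exact Int.natCast_dvd_natCast.mp this

/-- **Main lemma.** For an irreflexive invariant relation of a transitive action, a common
divisor of the degrees of the non-principal constituents of the permutation character divides
the valency. -/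
theorem dvd_card_of_invariant_rel [Fintype G] [MulAction.IsPretransitive G Ω] (R : Ω → Ω → Prop)
    (hR : ∀ (g : G) (x y : Ω), R (g • x) (g • y) ↔ R x y) (hirr : ∀ x, ¬ R x x) (a : Ω) (f : ℕ)
    (hf : ∀ χ : G → ℂ, IsIrrCharacter G χ → χ ≠ (fun _ => 1) →
      classInner (fun g : G => (Nat.card (MulAction.fixedBy Ω g) : ℂ)) χ ≠ 0 →
      ∃ m : ℕ, χ 1 = (f : ℂ) * m) :
    f ∣ Nat.card {y // R a y} := by
  classical
  have hne : Nonempty Ω := ⟨a⟩
  set k := Nat.card {y // R a y} with hk
  have hA1 := adjOp_one (G := G) R hR a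
  obtain ⟨hp, htrp⟩ := trace_restrict_constants (G := G) (adjOp R) (k : ℂ) hA1
  have hq := adjOp_mapsTo_sumZero (G := G) R hR
  have hcompl := isCompl_constants_sumZero G Ω
  have htr := trace_eq_add_of_isCompl _ _ hcompl (adjOp R) hp hq
  have htr0 : LinearMap.trace ℂ (Ω → ℂ) (adjOp R) = 0 := by
    rw [adjOp_trace]
    apply Finset.sum_eq_zero
    intro x _
    rw [if_neg (hirr x)]
  -- the permutation character
  have hπ : (fun g : G => (Nat.card (MulAction.fixedBy Ω g) : ℂ)) =
      (Cfsg.permRep ℂ G Ω).character := by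
    funext g; exact (permRep_character g).symm
  have hsplit : (Cfsg.permRep ℂ G Ω).character =
      (fun _ => (1 : ℂ)) + (Cfsg.permSumZero ℂ G Ω).toRepresentation.character := by
    funext g
    rw [char_eq_add_of_isCompl _ _ _ hcompl g, char_permConstants]
    rfl
  have h0 : classInner (Cfsg.permSumZero ℂ G Ω).toRepresentation.character (fun _ => (1 : ℂ)) = 0 := by
    have h1 := classInner_perm_one (G := G) (Ω := Ω)
    rw [hπ, hsplit, classInner_add_left, classInner_irr_self isIrrCharacter_one'] at h1
    linear_combination h1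
  obtain ⟨θ, hθ, hθtr⟩ := trace_eq_mul_integral (Cfsg.permSumZero ℂ G Ω).toRepresentation
    ((adjOp R).restrict hq)
    (by
      intro g
      show (adjOp R).restrict hq * (Cfsg.permSumZero ℂ G Ω).toRepresentation g =
        (Cfsg.permSumZero ℂ G Ω).toRepresentation g * (adjOp R).restrict hq
      apply LinearMap.ext
      intro v
      apply Subtype.ext
      exact congrArg (fun T : Module.End ℂ (Ω → ℂ) => T v.1) (adjOp_commute R hR g).eq)
    (by
      intro μ hμ
      apply adjOp_isIntegral R μ
      obtain ⟨w, hw⟩ := hμ.exists_hasEigenvector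
      apply Module.End.hasEigenvalue_of_hasEigenvector (x := (w : Ω → ℂ))
      refine ⟨?_, fun h => hw.2 (Subtype.ext h)⟩
      rw [Module.End.mem_eigenspace_iff]
      have := Module.End.mem_eigenspace_iff.mp hw.1
      exact congrArg Subtype.val this)
    f
    (by
      intro χ hχ hne0
      have hχ1 : χ ≠ (fun _ => (1 : ℂ)) := by
        rintro rfl
        exact hne0 h0
      apply hf χ hχ hχ1
      rw [hπ, hsplit, classInner_add_left, classInner_irr_ne isIrrCharacter_one' hχ (Ne.symm hχ1),
        zero_add]
      exact hne0)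
  rw [htr0, htrp, hθtr] at htr
  exact nat_dvd_of_add_mul_integral k f θ hθ htr.symm

end Perm

end Cfsg.Agent.Lib.helper16
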