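import Mathlib
import Cfsg.Agent.Lib.helper16.Idem
import Cfsg.Agent.Lib.helper16.PermChar

/-!
# Matrix entries of equivariant endomorphisms of the permutation module
-/

set_option autoImplicit false
open Cfsg

namespace Cfsg.Agent.Lib.helper16

open Cfsg.Agent.Lib.helper4
open scoped ComplexConjugate

section PermEntry

variable {G : Type*} [Group G] {Ω : Type*} [Fintype Ω] [MulAction G Ω]

/-- Endomorphisms of the function space with equal matrix entries are equal. -/
theorem ext_single [DecidableEq Ω] {S T : Module.End ℂ (Ω → ℂ)}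
    (h : ∀ x y, S (Pi.single y 1) x = T (Pi.single y 1) x) : S = T := by
  apply LinearMap.pi_ext
  intro y c
  have h1 : (Pi.single y c : Ω → ℂ) = c • Pi.single y 1 := by
    ext z
    simp [Pi.single_apply]
  rw [h1, map_smul, map_smul]
  congr 1
  funext x
  exact h x y

omit [Fintype Ω] in
theorem permRep_single [DecidableEq Ω] (g : G) (y : Ω) :
    Cfsg.permRep ℂ G Ω g (Pi.single y 1) = Pi.single (g • y) 1 := by
  funext x
  show (Pi.single y (1 : ℂ) : Ω → ℂ) (g⁻¹ • x) = _
  simp only [Pi.single_apply]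
  by_cases h : g⁻¹ • x = y
  · rw [if_pos h, if_pos (by rw [← h, smul_inv_smul])]
  · rw [if_neg h, if_neg (fun h' => h (by rw [h', inv_smul_smul]))]

omit [Fintype Ω] in
/-- Matrix entries of an equivariant endomorphism are invariant. -/
theorem entry_smul_smul [DecidableEq Ω] (S : Module.End ℂ (Ω → ℂ))
    (hS : ∀ g, S ∘ₗ Cfsg.permRep ℂ G Ω g = Cfsg.permRep ℂ G Ω g ∘ₗ S) (g : G) (x y : Ω) :
    S (Pi.single (g • y) 1) (g • x) = S (Pi.single y 1) x := by
  rw [← permRep_single g y]
  have h1 := LinearMap.congr_fun (hS g) (Pi.single y 1)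
  simp only [LinearMap.comp_apply] at h1
  rw [h1]
  show (S (Pi.single y 1)) (g⁻¹ • g • x) = _
  rw [inv_smul_smul]

theorem apply_eq_sum_single [DecidableEq Ω] (S : Module.End ℂ (Ω → ℂ)) (f : Ω → ℂ) (x : Ω) :
    S f x = ∑ z, f z * S (Pi.single z 1) x := by
  have hf : f = ∑ z, f z • (Pi.single z 1 : Ω → ℂ) := by
    funext w
    simp [Finset.sum_apply, Pi.single_apply]
  conv_lhs => rw [hf]
  rw [map_sum]
  simp [Finset.sum_apply, map_smul]

omit [Fintype Ω] in
/-- Matrix entries of the central idempotents of the permutation module. -/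
theorem isoIdem_perm_entry [Fintype G] [DecidableEq Ω] (χ : G → ℂ) (x y : Ω) :
    (isoIdem (Cfsg.permRep ℂ G Ω) χ (Pi.single y 1)) x =
      ∑ g : G, if g • y = x then idemFun χ g else 0 := by
  unfold isoIdem
  rw [opSum_apply]
  simp only [Finset.sum_apply, Pi.smul_apply, smul_eq_mul, permRep_single, Pi.single_apply]
  apply Finset.sum_congr rfl
  intro g _
  by_cases h : g • y = x
  · rw [if_pos h, if_pos h.symm, mul_one]
  · rw [if_neg h, if_neg (fun h' => h h'.symm), mul_zero]

omit [Fintype Ω] in
/-- The transpose of the central idempotent of `χ` is the central idempotent of `conj χ`. -/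
theorem isoIdem_perm_entry_symm [Fintype G] [DecidableEq Ω] {χ : G → ℂ}
    (hχ : IsIrrCharacter G χ) (x y : Ω) :
    (isoIdem (Cfsg.permRep ℂ G Ω) χ (Pi.single x 1)) y =
      (isoIdem (Cfsg.permRep ℂ G Ω) (fun g => conj (χ g)) (Pi.single y 1)) x := by
  rw [isoIdem_perm_entry, isoIdem_perm_entry]
  conv_rhs => rw [← Equiv.sum_comp (Equiv.inv G)]
  apply Finset.sum_congr rfl
  intro g _
  show _ = if g⁻¹ • y = x then idemFun (fun g => conj (χ g)) g⁻¹ else 0
  have hval : idemFun (fun g => conj (χ g)) g⁻¹ = idemFun χ g := by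
    unfold idemFun
    obtain ⟨d, hd⟩ := exists_nat_degree (isCharacter_of_isIrrCharacter hχ)
    obtain ⟨n, ρ', _, rfl⟩ := hχ
    show (starRingEnd ℂ) (ρ'.character 1) / ↑(Nat.card G) *
      (starRingEnd ℂ) ((starRingEnd ℂ) (ρ'.character g⁻¹)) =
      ρ'.character 1 / ↑(Nat.card G) * (starRingEnd ℂ) (ρ'.character g)
    rw [char_inv ρ' g, hd]
    simp
  rw [hval]
  by_cases h : g • x = y
  · rw [if_pos h, if_pos (by rw [← h, inv_smul_smul])]
  · rw [if_neg h, if_neg (fun h' => h (by rw [← h', smul_inv_smul]))]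

omit [Fintype Ω] [MulAction G Ω] in
/-- The complex conjugate of an irreducible character is irreducible. -/
theorem isIrrCharacter_conj [Fintype G] {χ : G → ℂ} (hχ : IsIrrCharacter G χ) :
    IsIrrCharacter G (fun g => conj (χ g)) := by
  apply isIrrCharacter_of_isCharacter_of_norm_one
    (isCharacter_conj (isCharacter_of_isIrrCharacter hχ))
  have h1 := classInner_irr_self hχ
  unfold classInner at h1 ⊢
  rw [← h1]
  congr 1
  apply Finset.sum_congr rfl
  intro g _
  simp [mul_comm]

open Classical in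
/-- Matrix entries of the adjacency operator. -/
theorem adjOp_entry (R : Ω → Ω → Prop) (x y : Ω) :
    adjOp R (Pi.single y 1) x = if R x y then 1 else 0 := by
  rw [adjOp_apply]
  simp only [Pi.single_apply]
  rw [Finset.sum_eq_single y]
  · simp
  · intro z _ hz
    simp [hz]
  · intro h
    exact absurd (Finset.mem_univ _) h

end PermEntry

end Cfsg.Agent.Lib.helper16
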