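-- helper16: Zassenhaus groups: the kernel of a point stabiliser as a TI Frobenius kernel.
import Mathlib
import Cfsg.Prelude.Def_LieExceptional
import Cfsg.Agent.Lib.helper16.ZassSimple2
import Cfsg.Agent.Lib.helper32.Sib2

set_option autoImplicit false
set_option linter.style.haveILetI false
set_option linter.unusedSectionVars false
set_option linter.unusedVariables false

namespace Cfsg.Agent.Lib.helper16.Feit

open Cfsg Cfsg.Agent.Lib.helper19 Cfsg.Agent.Lib.helper16.ZassOdd
  Cfsg.Agent.Lib.helper16.ZassSimple Cfsg.Agent.Lib.helper32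

universe u

section Kernel

variable {G : Type u} {Ω : Type*} [Group G] [MulAction G Ω] [Finite G] [Fintype Ω]
  (hZ : Cfsg.IsZassenhausGroup G Ω) {a : Ω} (H : Subgroup G)
  (hHa : H ≤ MulAction.stabilizer G a) (hHcard : Nat.card H + 1 = Fintype.card Ω)
  (hHfix : ∀ u ∈ H, u ≠ 1 → ∀ c : Ω, u • c = c → c = a)

include hZ hHa hHcard hHfix

theorem zk_normal : ∀ x ∈ MulAction.stabilizer G a, ∀ u ∈ H, x * u * x⁻¹ ∈ H := by
  intro x hx u hu
  by_cases hu1 : u = 1
  · subst hu1
    rw [mul_one, mul_inv_cancel]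
    exact H.one_mem
  have hxa : x • a = a := hx
  have hxia : x⁻¹ • a = a := by rw [inv_smul_eq_iff, hxa]
  have hua : u • a = a := hHa hu
  apply mem_kernel_of_fix_only hZ a H hHa hHcard hHfix
  · intro h
    apply hu1
    have e : u = x⁻¹ * (x * u * x⁻¹) * x := by group
    rw [e, h]; group
  · rw [mul_smul, mul_smul, hxia, hua, hxa]
  · intro c hc
    rw [mul_smul, mul_smul] at hc
    have h2 := congrArg (fun q => x⁻¹ • q) hc
    simp only [inv_smul_smul] at h2
    have h3 := hHfix u hu hu1 _ h2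
    have h4 : c = x • a := by rw [← h3, smul_inv_smul]
    rw [h4, hxa]

theorem zk_second : ∀ x ∈ MulAction.stabilizer G a, x ∉ H → ∃ c : Ω, c ≠ a ∧ x • c = c := by
  intro x hx hxH
  by_contra hcon
  push Not at hcon
  apply hxH
  have hx1 : x ≠ 1 := fun h => hxH (h ▸ H.one_mem)
  exact mem_kernel_of_fix_only hZ a H hHa hHcard hHfix hx1 hx
    (fun c hc => by
      by_contra hca
      exact hcon c hca hc)

theorem zk_cent : ∀ u ∈ H, u ≠ 1 → ∀ x ∈ MulAction.stabilizer G a, x * u = u * x → x ∈ H := by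
  intro u hu hu1 x hx hcomm
  by_contra hxH
  obtain ⟨c, hca, hxc⟩ := zk_second hZ H hHa hHcard hHfix x hx hxH
  have hx1 : x ≠ 1 := fun h => hxH (h ▸ H.one_mem)
  have hua : u • a = a := hHa hu
  have huc : u • c ≠ c := fun h => hca (hHfix u hu hu1 c h)
  have huca : u • c ≠ a := by
    intro h
    apply hca
    have h4 : c = u⁻¹ • a := by rw [← h, inv_smul_smul]
    rw [h4, inv_smul_eq_iff, hua]
  have hxuc : x • (u • c) = u • c := by
    rw [← mul_smul, hcomm, mul_smul, hxc]
  exact hx1 (hZ.2.2.1 x a c (u • c) (Ne.symm hca) (Ne.symm huc) (Ne.symm huca) hx hxc hxuc)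

theorem zk_three_le : 3 ≤ Fintype.card Ω := by
  have h3 := zass_three_le_card hZ (Ω := Ω)
  rwa [Nat.card_eq_fintype_card] at h3

theorem zk_exists_ne_one : ∃ u ∈ H, u ≠ 1 := by
  have h3 := zk_three_le hZ H hHa hHcard hHfix
  have h2 : 1 < Nat.card H := by omega
  haveI : Nontrivial H := Finite.one_lt_card_iff_nontrivial.mp h2
  obtain ⟨u, hu⟩ := exists_ne (1 : H)
  exact ⟨u, u.2, fun h => hu (Subtype.ext h)⟩

theorem zk_conj_fix {g u : G} (hu : u ∈ H) (hu1 : u ≠ 1) (hg : g * u * g⁻¹ ∈ H) :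
    g • a = a := by
  have hne : g * u * g⁻¹ ≠ 1 := by
    intro h
    apply hu1
    have e : u = g⁻¹ * (g * u * g⁻¹) * g := by group
    rw [e, h]; group
  have hua : u • a = a := hHa hu
  have hfix : (g * u * g⁻¹) • (g • a) = g • a := by
    rw [mul_smul, mul_smul, inv_smul_smul, hua]
  exact hHfix _ hg hne _ hfix

theorem zk_norm : Subgroup.normalizer (H : Set G) = MulAction.stabilizer G a := by
  apply le_antisymm
  · intro g hg
    obtain ⟨u, hu, hu1⟩ := zk_exists_ne_one hZ H hHa hHcard hHfix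
    have hg' : g * u * g⁻¹ ∈ H := (Subgroup.mem_normalizer_iff.mp hg u).mp hu
    exact zk_conj_fix hZ H hHa hHcard hHfix hu hu1 hg'
  · intro x hx
    rw [Subgroup.mem_normalizer_iff]
    intro u
    constructor
    · exact zk_normal hZ H hHa hHcard hHfix x hx u
    · intro h
      have hxi : x⁻¹ ∈ MulAction.stabilizer G a := Subgroup.inv_mem _ hx
      have h2 := zk_normal hZ H hHa hHcard hHfix x⁻¹ hxi _ h
      have e : x⁻¹ * (x * u * x⁻¹) * x⁻¹⁻¹ = u := by group
      rw [e] at h2
      exact h2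

theorem zk_ti : IsTISubset (H : Set G) := by
  intro g hg x hx hgx
  by_contra hx1
  apply hg
  rw [zk_norm hZ H hHa hHcard hHfix]
  exact zk_conj_fix hZ H hHa hHcard hHfix hx hx1 hgx

theorem zk_lt : H < MulAction.stabilizer G a := by
  refine lt_of_le_of_ne hHa ?_
  intro heq
  have h3 := zk_three_le hZ H hHa hHcard hHfix
  obtain ⟨b, hb⟩ := Fintype.exists_ne_of_one_lt_card (by omega : 1 < Fintype.card Ω) a
  obtain ⟨x, hx1, hxa, hxb⟩ := zass_exists_fix_two hZ (Ne.symm hb)
  have hxH : x ∈ H := by rw [heq]; exact hxa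
  exact hb (hHfix x hxH hx1 b hxb)

theorem frobTI_of_zass : FrobTI H (MulAction.stabilizer G a) where
  lt := zk_lt hZ H hHa hHcard hHfix
  ne_bot := by
    obtain ⟨u, hu, hu1⟩ := zk_exists_ne_one hZ H hHa hHcard hHfix
    intro h
    rw [h, Subgroup.mem_bot] at hu
    exact hu1 hu
  normal := zk_normal hZ H hHa hHcard hHfix
  cent := zk_cent hZ H hHa hHcard hHfix
  ti := zk_ti hZ H hHa hHcard hHfix
  norm := zk_norm hZ H hHa hHcard hHfix

theorem zk_trans {c d : Ω} (hc : c ≠ a) (hd : d ≠ a) : ∃ u ∈ H, u • c = d := by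
  classical
  have hmem : ∀ u : H, (u : G) • c ≠ a := by
    intro u h
    apply hc
    have hua : (u : G) • a = a := hHa u.2
    have h4 : c = (u : G)⁻¹ • a := by rw [← h, inv_smul_smul]
    rw [h4, inv_smul_eq_iff, hua]
  have hinj : Function.Injective
      (fun u : H => (⟨(u : G) • c, hmem u⟩ : {d : Ω // d ≠ a})) := by
    intro u v huv
    have h1 : (u : G) • c = (v : G) • c := congrArg Subtype.val huv
    have h2 : ((v : G)⁻¹ * (u : G)) • c = c := by
      rw [mul_smul, h1, inv_smul_smul]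
    by_contra hne
    have h3 : (v : G)⁻¹ * (u : G) ≠ 1 := by
      intro h
      apply hne
      apply Subtype.ext
      have e : (u : G) = (v : G) * ((v : G)⁻¹ * (u : G)) := by group
      rw [e, h, mul_one]
    exact hc (hHfix _ (H.mul_mem (H.inv_mem v.2) u.2) h3 c h2)
  have hcard : Nat.card H = Nat.card {d : Ω // d ≠ a} := by
    have h1 : Nat.card {d : Ω // d ≠ a} = Fintype.card Ω - 1 := by
      rw [Nat.card_eq_fintype_card, Fintype.card_subtype, Finset.filter_ne',
        Finset.card_erase_of_mem (Finset.mem_univ a), Finset.card_univ]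
    rw [h1]; omega
  have hbij := (Nat.bijective_iff_injective_and_card _).mpr ⟨hinj, hcard⟩
  obtain ⟨u, hu⟩ := hbij.2 ⟨d, hd⟩
  exact ⟨u, u.2, congrArg Subtype.val hu⟩

theorem zk_conj_two {b : Ω} (hb : b ≠ a) : ∀ x ∈ MulAction.stabilizer G a, x ∉ H →
    ∃ u ∈ H, (u * x * u⁻¹) • b = b := by
  intro x hx hxH
  obtain ⟨c, hca, hxc⟩ := zk_second hZ H hHa hHcard hHfix x hx hxH
  obtain ⟨u, hu, huc⟩ := zk_trans hZ H hHa hHcard hHfix hca hb
  refine ⟨u, hu, ?_⟩
  rw [mul_smul, mul_smul, ← huc, inv_smul_smul, hxc]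

theorem zk_card_stab {b : Ω} (hb : b ≠ a) :
    Nat.card (MulAction.stabilizer G a) = Nat.card H *
      Nat.card ↥(MulAction.stabilizer G a ⊓ MulAction.stabilizer G b) := by
  have h1 := zass_card_eq hZ (Ne.symm hb)
  have : MulAction.IsPretransitive G Ω :=
    @MulAction.isPretransitive_of_is_two_pretransitive G Ω _ _ hZ.2.1
  have h2 := Subgroup.card_mul_index (MulAction.stabilizer G a)
  rw [MulAction.index_stabilizer_of_transitive G a] at h2
  have h3 : Nat.card Ω = Fintype.card Ω := Nat.card_eq_fintype_card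
  have h4 : Nat.card Ω - 1 = Nat.card H := by omega
  rw [h1, h4] at h2
  have hpos : 0 < Nat.card Ω := by omega
  have h5 : Nat.card Ω * Nat.card (MulAction.stabilizer G a) = Nat.card Ω * (Nat.card H *
      Nat.card ↥(MulAction.stabilizer G a ⊓ MulAction.stabilizer G b)) := by
    rw [mul_comm, h2, mul_assoc]
  exact Nat.eq_of_mul_eq_mul_left hpos h5

theorem zk_index {b : Ω} (hb : b ≠ a) :
    (H.subgroupOf (MulAction.stabilizer G a)).index
      = Nat.card ↥(MulAction.stabilizer G a ⊓ MulAction.stabilizer G b) := by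
  have h1 := zk_card_stab hZ H hHa hHcard hHfix hb
  have h2 := Subgroup.card_mul_index (H.subgroupOf (MulAction.stabilizer G a))
  have h3 : Nat.card (H.subgroupOf (MulAction.stabilizer G a)) = Nat.card H :=
    Nat.card_congr (Subgroup.subgroupOfEquivOfLe hHa).toEquiv
  rw [h3, h1] at h2
  have hpos : 0 < Nat.card H := Nat.card_pos
  exact Nat.eq_of_mul_eq_mul_left hpos h2

end Kernel

end Cfsg.Agent.Lib.helper16.Feit
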