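-- helper16: induced linear characters from a point stabiliser of a Zassenhaus group.
import Mathlib
import Cfsg.Prelude.Def_LieExceptional
import Cfsg.Prelude.Def_Characters
import Cfsg.Agent.Lib.helper16.ZassSimple2
import Cfsg.Agent.Lib.helper4.Induction
import Cfsg.Agent.Lib.helper4.CharDecomp
import Cfsg.Agent.Lib.helper19.LinChar

set_option autoImplicit false
set_option linter.style.haveILetI false

namespace Cfsg.Agent.Lib.helper16.ZassInd

open Cfsg.Agent.Lib.helper19 Cfsg.Agent.Lib.helper16.ZassOdd Cfsg.Agent.Lib.helper16.ZassSimple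

variable {G Ω : Type*} [Group G] [MulAction G Ω] [Fintype G]

/-- The number of group elements mapping `a` to `p`. -/
theorem card_filter_map [DecidableEq Ω] (a p : Ω) (k : G) (hk : k • a = p) :
    (Finset.univ.filter (fun g : G => g • a = p)).card = Nat.card (MulAction.stabilizer G a) := by
  rw [← natCard_subtype_eq_card_filter]
  symm
  refine Nat.card_congr
    { toFun := fun n => ⟨k * n.1, ?_⟩
      invFun := fun g => ⟨k⁻¹ * g.1, ?_⟩
      left_inv := fun n => Subtype.ext (by simp)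
      right_inv := fun g => Subtype.ext (by simp) }
  · rw [mul_smul, MulAction.mem_stabilizer_iff.mp n.2, hk]
  · rw [MulAction.mem_stabilizer_iff, mul_smul, g.2, ← hk, inv_smul_smul]

/-- The contribution to an induced linear character of the coset mapping `a` to `p`. -/
theorem sum_coset_extend [DecidableEq Ω] (a p : Ω) (f : MulAction.stabilizer G a →* ℂˣ)
    (x k : G) (hk : k • a = p) (hy : k⁻¹ * x * k ∈ MulAction.stabilizer G a) :
    ∑ g ∈ Finset.univ.filter (fun g : G => g • a = p),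
        Cfsg.extendByZero (MulAction.stabilizer G a) (fun y => ((f y : ℂˣ) : ℂ)) (g⁻¹ * x * g)
      = (Nat.card (MulAction.stabilizer G a) : ℂ) * ((f ⟨k⁻¹ * x * k, hy⟩ : ℂˣ) : ℂ) := by
  have hterm : ∀ g ∈ Finset.univ.filter (fun g : G => g • a = p),
      Cfsg.extendByZero (MulAction.stabilizer G a) (fun y => ((f y : ℂˣ) : ℂ)) (g⁻¹ * x * g)
        = ((f ⟨k⁻¹ * x * k, hy⟩ : ℂˣ) : ℂ) := by
    intro g hg
    rw [Finset.mem_filter] at hg
    have hn : k⁻¹ * g ∈ MulAction.stabilizer G a := by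
      rw [MulAction.mem_stabilizer_iff, mul_smul, hg.2, ← hk, inv_smul_smul]
    have hmem : g⁻¹ * x * g ∈ MulAction.stabilizer G a := by
      have : g⁻¹ * x * g = (k⁻¹ * g)⁻¹ * (k⁻¹ * x * k) * (k⁻¹ * g) := by group
      rw [this]
      exact Subgroup.mul_mem _ (Subgroup.mul_mem _ (Subgroup.inv_mem _ hn) hy) hn
    rw [extendByZero_of_mem _ _ _ hmem]
    have heq : (⟨g⁻¹ * x * g, hmem⟩ : MulAction.stabilizer G a)
        = (⟨k⁻¹ * g, hn⟩ : MulAction.stabilizer G a)⁻¹ * ⟨k⁻¹ * x * k, hy⟩ * ⟨k⁻¹ * g, hn⟩ := by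
      apply Subtype.ext
      simp only [Subgroup.coe_mul, Subgroup.coe_inv]
      group
    rw [heq, map_mul, map_mul, map_inv, mul_comm, ← mul_assoc, mul_inv_cancel, one_mul]
  rw [Finset.sum_congr rfl hterm, Finset.sum_const, nsmul_eq_mul, card_filter_map a p k hk]

/-- An induced linear character at an element whose only fixed point is `a`. -/
theorem indFun_of_fix_only [DecidableEq Ω] (a : Ω) (f : MulAction.stabilizer G a →* ℂˣ) (x : G)
    (hxa : x • a = a) (hfix : ∀ c : Ω, x • c = c → c = a) :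
    Cfsg.indFun (MulAction.stabilizer G a) (fun y => ((f y : ℂˣ) : ℂ)) x
      = ((f ⟨x, hxa⟩ : ℂˣ) : ℂ) := by
  have hN0 : (Nat.card (MulAction.stabilizer G a) : ℂ) ≠ 0 := by
    exact_mod_cast (Nat.card_pos (α := MulAction.stabilizer G a)).ne'
  rw [indFun_apply]
  have hsub : ∑ g ∈ Finset.univ.filter (fun g : G => g • a = a),
      Cfsg.extendByZero (MulAction.stabilizer G a) (fun y => ((f y : ℂˣ) : ℂ)) (g⁻¹ * x * g)
      = ∑ g : G,
      Cfsg.extendByZero (MulAction.stabilizer G a) (fun y => ((f y : ℂˣ) : ℂ)) (g⁻¹ * x * g) := by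
    apply Finset.sum_subset (Finset.filter_subset _ _)
    intro g _ hg
    apply extendByZero_of_not_mem
    intro hmem
    apply hg
    rw [Finset.mem_filter]
    refine ⟨Finset.mem_univ _, hfix _ ?_⟩
    rw [MulAction.mem_stabilizer_iff, mul_smul, mul_smul] at hmem
    have := congrArg (fun q => g • q) hmem
    simp only [smul_inv_smul] at this
    exact this
  have hy : (1 : G)⁻¹ * x * 1 ∈ MulAction.stabilizer G a := by
    rw [inv_one, one_mul, mul_one]; exact hxa
  have hsx : (⟨(1 : G)⁻¹ * x * 1, hy⟩ : MulAction.stabilizer G a) = ⟨x, hxa⟩ :=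
    Subtype.ext (by simp)
  rw [← hsub, sum_coset_extend a a f x 1 (one_smul _ _) hy, ← mul_assoc, inv_mul_cancel₀ hN0,
    one_mul, hsx]

/-- An induced linear character at an element with exactly two fixed points `a` and `c`. -/
theorem indFun_of_fix_two [DecidableEq Ω] (a c : Ω) (hac : a ≠ c)
    (f : MulAction.stabilizer G a →* ℂˣ) (x k : G) (hxa : x • a = a)
    (hfix : ∀ p : Ω, x • p = p → p = a ∨ p = c) (hka : k • a = c)
    (hy : k⁻¹ * x * k ∈ MulAction.stabilizer G a) :
    Cfsg.indFun (MulAction.stabilizer G a) (fun y => ((f y : ℂˣ) : ℂ)) x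
      = ((f ⟨x, hxa⟩ : ℂˣ) : ℂ) + ((f ⟨k⁻¹ * x * k, hy⟩ : ℂˣ) : ℂ) := by
  classical
  have hN0 : (Nat.card (MulAction.stabilizer G a) : ℂ) ≠ 0 := by
    exact_mod_cast (Nat.card_pos (α := MulAction.stabilizer G a)).ne'
  rw [indFun_apply]
  have hsub : ∑ g ∈ Finset.univ.filter (fun g : G => g • a = a) ∪
        Finset.univ.filter (fun g : G => g • a = c),
      Cfsg.extendByZero (MulAction.stabilizer G a) (fun y => ((f y : ℂˣ) : ℂ)) (g⁻¹ * x * g)
      = ∑ g : G,
      Cfsg.extendByZero (MulAction.stabilizer G a) (fun y => ((f y : ℂˣ) : ℂ)) (g⁻¹ * x * g) := by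
    apply Finset.sum_subset (Finset.subset_univ _)
    intro g _ hg
    apply extendByZero_of_not_mem
    intro hmem
    apply hg
    rw [Finset.mem_union, Finset.mem_filter, Finset.mem_filter]
    rw [MulAction.mem_stabilizer_iff, mul_smul, mul_smul] at hmem
    have := congrArg (fun q => g • q) hmem
    simp only [smul_inv_smul] at this
    rcases hfix _ this with h | h
    · exact Or.inl ⟨Finset.mem_univ _, h⟩
    · exact Or.inr ⟨Finset.mem_univ _, h⟩
  have hdisj : Disjoint (Finset.univ.filter (fun g : G => g • a = a))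
      (Finset.univ.filter (fun g : G => g • a = c)) := by
    rw [Finset.disjoint_left]
    intro g hg1 hg2
    rw [Finset.mem_filter] at hg1 hg2
    exact hac (hg1.2.symm.trans hg2.2)
  have hy1 : (1 : G)⁻¹ * x * 1 ∈ MulAction.stabilizer G a := by
    rw [inv_one, one_mul, mul_one]; exact hxa
  have hsx : (⟨(1 : G)⁻¹ * x * 1, hy1⟩ : MulAction.stabilizer G a) = ⟨x, hxa⟩ :=
    Subtype.ext (by simp)
  rw [← hsub, Finset.sum_union hdisj, sum_coset_extend a a f x 1 (one_smul _ _) hy1,
    sum_coset_extend a c f x k hka hy, ← mul_add, ← mul_assoc, inv_mul_cancel₀ hN0, one_mul, hsx]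

/-- An induced function at the identity. -/
theorem indFun_one_of_one (N : Subgroup G) (μ : N → ℂ) (hμ : μ 1 = 1) :
    Cfsg.indFun N μ 1 = (Nat.card N : ℂ)⁻¹ * (Fintype.card G : ℂ) := by
  rw [indFun_apply]
  congr 1
  have : ∀ g : G, Cfsg.extendByZero N μ (g⁻¹ * 1 * g) = 1 := by
    intro g
    have h1 : g⁻¹ * 1 * g = ((1 : N) : G) := by simp
    rw [h1, extendByZero_coe, hμ]
  rw [Finset.sum_congr rfl (fun g _ => this g), Finset.sum_const, Finset.card_univ, nsmul_eq_mul,
    mul_one]

end Cfsg.Agent.Lib.helper16.ZassInd
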