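-- helper16: Feit's inequality for Zassenhaus groups: character theory of the point stabiliser.
import Mathlib
import Cfsg.Prelude.Def_LieExceptional
import Cfsg.Prelude.Def_Characters
import Cfsg.Prelude.Def_OddOrderChar
import Cfsg.Agent.Lib.helper16.FeitA
import Cfsg.Agent.Lib.helper16.ZassInd
import Cfsg.Agent.Lib.helper32.Sib7
import Cfsg.Agent.Lib.helper32.CN2
import Cfsg.Agent.Lib.helper19.AbelianOver

set_option autoImplicit false
set_option linter.style.haveILetI false
set_option linter.unusedSectionVars false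
set_option linter.unusedVariables false

namespace Cfsg.Agent.Lib.helper16.Feit

open Cfsg Cfsg.Agent.Lib.helper16.ZassOdd
  Cfsg.Agent.Lib.helper16.ZassSimple Cfsg.Agent.Lib.helper16.ZassInd
  Cfsg.Agent.Lib.helper32 Cfsg.Agent.Lib.helper4
open scoped ComplexConjugate

universe u

section General

variable {G : Type u} [Group G] [Fintype G] {H L : Subgroup G} [Fintype L]

/-- Frobenius reciprocity with the induced function on the right. -/
theorem classInner_ind_right (L : Subgroup G) [Fintype L] (χ : G → ℂ)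
    (hχ : IsClassFunction G χ) (α : L → ℂ) :
    classInner χ (indFun L α) = classInner (fun x : L => χ x) α := by
  rw [← classInner_conj_symm, frobenius_reciprocity L α hχ, classInner_conj_symm]

/-- An irreducible character of `G` orthogonal to the exceptional characters of a coherent TI
Frobenius kernel `H` and whose restriction to `L` has no constituent trivial on `H` has degree
divisible by `|H| - 1`. -/
theorem other_degree (F : FrobTI H L) (τ₁ : (L → ℂ) → (G → ℂ))
    (hτ₁ : IsLinearIsometryOn (zspan (inducedIrrAbove (H.subgroupOf L) ⊥)) τ₁)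
    (hτ₁α : ∀ α ∈ zspanOn (inducedIrrAbove (H.subgroupOf L) ⊥) {1}ᶜ, τ₁ α = indFun L α)
    (ξ₀ : L → ℂ) (hξ₀ : ξ₀ ∈ inducedIrrAbove (H.subgroupOf L) ⊥)
    (hξ₀1 : ξ₀ 1 = ((H.subgroupOf L).index : ℂ))
    (χ : G → ℂ) (hχ : IsIrrCharacter G χ)
    (h1 : ∀ ξ ∈ inducedIrrAbove (H.subgroupOf L) ⊥, classInner χ (τ₁ ξ) = 0)
    (h2 : ∀ η : L → ℂ, IsIrrCharacter L η → η ∉ inducedIrrAbove (H.subgroupOf L) ⊥ →
      classInner (fun x : L => χ x) η = 0) :
    ∃ m : ℕ, χ 1 = (m : ℂ) * ((Nat.card H : ℂ) - 1) := by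
  classical
  have _iK := F.normalK
  have _iI : Fintype (IrrCharacter L) := Fintype.ofFinite _
  have hirr := frobTI_irr F
  have hτ' : IsLinearIsometryOn ((Submodule.span ℤ (inducedIrrAbove (H.subgroupOf L) ⊥) :
      Submodule ℤ (L → ℂ)) : Set (L → ℂ)) τ₁ := hτ₁
  have hχc : IsCharacter G χ := isCharacter_of_isIrrCharacter hχ
  have hχcl : IsClassFunction G χ := isClassFunction_of_isCharacter hχc
  have hφc : IsCharacter L (fun x : L => χ x) := isCharacter_restrict L hχc
  have hφcl : IsClassFunction L (fun x : L => χ x) := isClassFunction_of_isCharacter hφc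
  obtain ⟨m, hm⟩ := exists_nat_classInner_irr hφc (hirr ξ₀ hξ₀)
  have hidx0 : ((H.subgroupOf L).index : ℂ) ≠ 0 := by
    exact_mod_cast (Subgroup.index_ne_zero_of_finite (H := H.subgroupOf L))
  have hmem0 : ξ₀ ∈ (Submodule.span ℤ (inducedIrrAbove (H.subgroupOf L) ⊥) :
      Submodule ℤ (L → ℂ)) := Submodule.subset_span hξ₀
  have hprop : ∀ ξ ∈ inducedIrrAbove (H.subgroupOf L) ⊥,
      classInner (fun x : L => χ x) ξ = ((m : ℂ) / ((H.subgroupOf L).index : ℂ)) * ξ 1 := by
    intro ξ hξ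
    obtain ⟨d, hd, hd1⟩ := exists_pos_nat_degree (hirr ξ hξ)
    have hmemξ : ξ ∈ (Submodule.span ℤ (inducedIrrAbove (H.subgroupOf L) ⊥) :
        Submodule ℤ (L → ℂ)) := Submodule.subset_span hξ
    have hm1 := Submodule.smul_mem _ (((H.subgroupOf L).index : ℕ) : ℤ) hmemξ
    have hm2 := Submodule.smul_mem _ ((d : ℕ) : ℤ) hmem0
    have hαmem : (((H.subgroupOf L).index : ℕ) : ℤ) • ξ - ((d : ℕ) : ℤ) • ξ₀ ∈
        zspanOn (inducedIrrAbove (H.subgroupOf L) ⊥) {1}ᶜ := by
      refine ⟨Submodule.sub_mem _ hm1 hm2, ?_⟩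
      intro x hx
      have hx1 : x = 1 := by simpa using hx
      subst hx1
      rw [Pi.sub_apply, Pi.smul_apply, Pi.smul_apply, hd1, hξ₀1, zsmul_eq_mul, zsmul_eq_mul]
      push_cast
      ring
    have hτα := hτ₁α _ hαmem
    have hlin : τ₁ ((((H.subgroupOf L).index : ℕ) : ℤ) • ξ - ((d : ℕ) : ℤ) • ξ₀)
        = (((H.subgroupOf L).index : ℕ) : ℤ) • τ₁ ξ - ((d : ℕ) : ℤ) • τ₁ ξ₀ := by
      rw [lio_sub hτ' hm1 hm2, lio_zsmul hτ' hmemξ, lio_zsmul hτ' hmem0]
    have e1 : classInner χ (indFun L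
        ((((H.subgroupOf L).index : ℕ) : ℤ) • ξ - ((d : ℕ) : ℤ) • ξ₀)) = 0 := by
      rw [← hτα, hlin, classInner_sub_right, classInner_zsmul_right, classInner_zsmul_right,
        h1 ξ hξ, h1 ξ₀ hξ₀]
      ring
    rw [classInner_ind_right L χ hχcl, classInner_sub_right, classInner_zsmul_right,
      classInner_zsmul_right, hm] at e1
    rw [hd1]
    have e2 : ((H.subgroupOf L).index : ℂ) * classInner (fun x : L => χ x) ξ
        = (d : ℂ) * (m : ℂ) := by
      push_cast at e1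
      linear_combination e1
    field_simp
    linear_combination e2
  have hval : ∀ y : L, (y : G) ∈ H → y ≠ 1 →
      χ (y : G) = χ 1 - (m : ℂ) / ((H.subgroupOf L).index : ℂ) * (Nat.card L : ℂ) := by
    intro y hy hy1
    have h := frobTI_values F (fun x : L => χ x) hφcl ξ₀ hξ₀ 0
      ((m : ℂ) / ((H.subgroupOf L).index : ℂ)) (by
        intro ξ hξ
        rw [hprop ξ hξ]
        simp) y hy hy1
    simpa using h
  have hsumK : ∑ k : (H.subgroupOf L), χ ((k : L) : G) = 0 := by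
    have hexp := classFunction_eq_sum_irr hφcl
    have hpt : ∀ k : (H.subgroupOf L), χ ((k : L) : G) =
        ∑ η : IrrCharacter L,
          classInner (fun x : L => χ x) (η : L → ℂ) * (η : L → ℂ) (k : L) := by
      intro k
      have h := congrFun hexp (k : L)
      rw [Finset.sum_apply] at h
      simpa [Pi.smul_apply, smul_eq_mul] using h
    rw [Finset.sum_congr rfl (fun k _ => hpt k), Finset.sum_comm]
    apply Finset.sum_eq_zero
    intro η _
    rw [← Finset.mul_sum]
    by_cases hη : (η : L → ℂ) ∈ inducedIrrAbove (H.subgroupOf L) ⊥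
    · have hrel : ∃ k ∈ H.subgroupOf L, (η : L → ℂ) k ≠ (η : L → ℂ) 1 := by
        have h3 : (η : L → ℂ) ∈
            {χ : L → ℂ | IsIrrCharacter L χ ∧ ∃ x : L, (x : G) ∈ H ∧ χ x ≠ χ 1} := by
          rw [frobTI_relevant_eq F]; exact hη
        obtain ⟨-, x, hx, hne⟩ := h3
        exact ⟨x, Subgroup.mem_subgroupOf.mpr hx, hne⟩
      rw [relevant_sum_eq_zero (H.subgroupOf L) F.centK' η.2 hrel, mul_zero]
    · rw [h2 η η.2 hη, zero_mul]
  have hcardK : Fintype.card (H.subgroupOf L) = Nat.card H := by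
    rw [← Nat.card_eq_fintype_card]
    exact Nat.card_congr (Subgroup.subgroupOfEquivOfLe F.lt.le).toEquiv
  have hHpos : 0 < Nat.card H := Nat.card_pos
  have hsplit : ∑ k : (H.subgroupOf L), χ ((k : L) : G) = χ 1 + ((Nat.card H : ℂ) - 1) *
      (χ 1 - (m : ℂ) / ((H.subgroupOf L).index : ℂ) * (Nat.card L : ℂ)) := by
    rw [← Finset.add_sum_erase Finset.univ _ (Finset.mem_univ (1 : (H.subgroupOf L)))]
    have h1' : χ (((1 : (H.subgroupOf L)) : L) : G) = χ 1 := rfl
    rw [h1', Finset.sum_congr rfl (fun (k : ↥(H.subgroupOf L)) hk =>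
      hval (k : L) (Subgroup.mem_subgroupOf.mp k.2)
      (fun h => (Finset.ne_of_mem_erase hk) (Subtype.ext h)))]
    rw [Finset.sum_const, Finset.card_erase_of_mem (Finset.mem_univ _), Finset.card_univ,
      nsmul_eq_mul, hcardK, Nat.cast_sub hHpos, Nat.cast_one]
  have hcardL : (Nat.card L : ℂ) = ((H.subgroupOf L).index : ℂ) * (Nat.card H : ℂ) := by
    have h3 := Subgroup.index_mul_card (H.subgroupOf L)
    rw [Nat.card_congr (Subgroup.subgroupOfEquivOfLe F.lt.le).toEquiv] at h3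
    exact_mod_cast h3.symm
  refine ⟨m, ?_⟩
  have hK0 : (Nat.card H : ℂ) ≠ 0 := by exact_mod_cast hHpos.ne'
  rw [hsplit, hcardL] at hsumK
  have e3 : (m : ℂ) / ((H.subgroupOf L).index : ℂ) *
      (((H.subgroupOf L).index : ℂ) * (Nat.card H : ℂ)) = (m : ℂ) * (Nat.card H : ℂ) := by
    field_simp
  rw [e3] at hsumK
  have e4 : (Nat.card H : ℂ) * (χ 1 - (m : ℂ) * ((Nat.card H : ℂ) - 1)) = 0 := by
    linear_combination hsumK
  rcases mul_eq_zero.mp e4 with h | h
  · exact absurd h hK0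
  · exact sub_eq_zero.mp h

/-- The sum of the values of a linear character. -/
theorem sum_hom {L : Type*} [Group L] [Fintype L] (φ : L →* ℂˣ) :
    ∑ x : L, ((φ x : ℂˣ) : ℂ) = if φ = 1 then (Nat.card L : ℂ) else 0 := by
  classical
  by_cases h : φ = 1
  · rw [if_pos h, h]
    simp [Nat.card_eq_fintype_card]
  · rw [if_neg h]
    obtain ⟨x₀, hx₀⟩ : ∃ x₀ : L, φ x₀ ≠ 1 := by
      by_contra hcon
      push Not at hcon
      exact h (MonoidHom.ext fun x => by rw [hcon x]; rfl)
    have hre : ∑ x : L, ((φ (x₀ * x) : ℂˣ) : ℂ) = ∑ x : L, ((φ x : ℂˣ) : ℂ) :=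
      Fintype.sum_equiv (Equiv.mulLeft x₀) _ _ (fun x => rfl)
    have h4 : ((φ x₀ : ℂˣ) : ℂ) * ∑ x : L, ((φ x : ℂˣ) : ℂ)
        = ∑ x : L, ((φ (x₀ * x) : ℂˣ) : ℂ) := by
      rw [Finset.mul_sum]
      apply Finset.sum_congr rfl
      intro x _
      rw [map_mul, Units.val_mul]
    have h3 : (((φ x₀ : ℂˣ) : ℂ) - 1) * ∑ x : L, ((φ x : ℂˣ) : ℂ) = 0 := by
      rw [sub_mul, h4, hre, one_mul, sub_self]
    rcases mul_eq_zero.mp h3 with h5 | h5
    · exfalso
      apply hx₀
      apply Units.ext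
      rw [Units.val_one]
      exact sub_eq_zero.mp h5
    · exact h5

end General

end Cfsg.Agent.Lib.helper16.Feit
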