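-- helper16: Feit's inequality for Zassenhaus groups: induced linear characters (simple case).
import Mathlib
import Cfsg.Prelude.Def_LieExceptional
import Cfsg.Prelude.Def_Characters
import Cfsg.Prelude.Def_OddOrderChar
import Cfsg.Agent.Lib.helper16.FeitB
import Cfsg.Agent.Lib.helper32.CN4
import Cfsg.Agent.S0881

set_option autoImplicit false
set_option linter.style.haveILetI false
set_option linter.unusedSectionVars false
set_option linter.unusedVariables false

namespace Cfsg.Agent.Lib.helper16.Feit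

open Cfsg Cfsg.Agent.Lib.helper16.ZassOdd
  Cfsg.Agent.Lib.helper16.ZassSimple Cfsg.Agent.Lib.helper16.ZassInd
  Cfsg.Agent.Lib.helper32 Cfsg.Agent.Lib.helper4
open scoped ComplexConjugate

universe u

theorem hom_fun_ne_one {L : Type*} [Group L] (f : L →* ℂˣ) (hf1 : f ≠ 1) :
    (fun y : L => ((f y : ℂˣ) : ℂ)) ≠ fun _ => 1 := by
  intro h
  apply hf1
  apply MonoidHom.ext
  intro y
  apply Units.ext
  have := congrFun h y
  simpa using this

section Simple

variable {G : Type u} {Ω : Type*} [Group G] [MulAction G Ω] [Fintype G] [Fintype Ω]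
  [IsSimpleGroup G] (hZ : Cfsg.IsZassenhausGroup G Ω) {a b : Ω} (hab : a ≠ b)
  (hodd : Odd (Nat.card ↥(MulAction.stabilizer G a ⊓ MulAction.stabilizer G b : Subgroup G)))
  (H : Subgroup G) (hHa : H ≤ MulAction.stabilizer G a)
  (hHcard : Nat.card H + 1 = Fintype.card Ω)
  (hHfix : ∀ u ∈ H, u ≠ 1 → ∀ c : Ω, u • c = c → c = a)

include hZ hab hodd hHa hHcard hHfix

open Classical in
/-- Pointwise evaluation on the point stabiliser of a linear character trivial on `H` times the
conjugate of its induced function. -/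
theorem ind_pointwise (f : MulAction.stabilizer G a →* ℂˣ)
    (hfH : ∀ x : MulAction.stabilizer G a, (x : G) ∈ H → ((f x : ℂˣ) : ℂ) = 1)
    (x : MulAction.stabilizer G a) :
    ((f x : ℂˣ) : ℂ) * conj (Cfsg.indFun (MulAction.stabilizer G a)
        (fun y => ((f y : ℂˣ) : ℂ)) (x : G))
      = 1 + ((f x : ℂˣ) : ℂ) ^ 2 - (if (x : G) ∈ H then 1 else 0)
        + (if x = 1 then ((Fintype.card Ω : ℂ) - 1) else 0) := by
  have hoddall := odd_stab_all hZ hab _ rfl hodd
  have part2 : ∀ u ∈ H, u ≠ 1 →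
      Cfsg.indFun (MulAction.stabilizer G a) (fun y => ((f y : ℂˣ) : ℂ)) u = 1 := by
    intro u hu hu1
    have hua : u • a = a := hHa hu
    rw [indFun_of_fix_only a f u hua (hHfix u hu hu1)]
    exact hfH ⟨u, hua⟩ hu
  have hN0 : (Nat.card (MulAction.stabilizer G a) : ℂ) ≠ 0 := by
    exact_mod_cast (Nat.card_pos (α := MulAction.stabilizer G a)).ne'
  have : MulAction.IsPretransitive G Ω :=
    @MulAction.isPretransitive_of_is_two_pretransitive G Ω _ _ hZ.2.1
  have hcardG : (Fintype.card G : ℂ)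
      = (Nat.card (MulAction.stabilizer G a) : ℂ) * (Fintype.card Ω : ℂ) := by
    have h1 := Subgroup.card_mul_index (MulAction.stabilizer G a)
    rw [MulAction.index_stabilizer_of_transitive G a, Nat.card_eq_fintype_card (α := G),
      Nat.card_eq_fintype_card (α := Ω)] at h1
    exact_mod_cast h1.symm
  have hnorm : ∀ x : MulAction.stabilizer G a, ‖((f x : ℂˣ) : ℂ)‖ = 1 := by
    intro x
    apply Complex.norm_eq_one_of_pow_eq_one (n := Nat.card (MulAction.stabilizer G a))
    · rw [← Units.val_pow_eq_pow_val, ← map_pow, pow_card_eq_one', map_one, Units.val_one]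
    · exact (Nat.card_pos (α := MulAction.stabilizer G a)).ne'
  by_cases hx1 : x = 1
  · subst hx1
    rw [Subgroup.coe_one, if_pos H.one_mem, if_pos rfl,
      indFun_one_of_one _ _ (by simp), hcardG, ← mul_assoc, inv_mul_cancel₀ hN0, one_mul,
      Complex.conj_natCast, map_one, Units.val_one]
    ring
  · rw [if_neg hx1]
    have hx1' : (x : G) ≠ 1 := fun h => hx1 (Subtype.ext h)
    by_cases hxH : (x : G) ∈ H
    · rw [if_pos hxH, part2 (x : G) hxH hx1', hfH x hxH, map_one]
      ring
    · rw [if_neg hxH]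
      obtain ⟨c, hca, hxc⟩ := zk_second hZ H hHa hHcard hHfix (x : G) x.2 hxH
      have hac : a ≠ c := Ne.symm hca
      have hfix2 : ∀ p : Ω, (x : G) • p = p → p = a ∨ p = c :=
        fun p hp => Cfsg.Agent.Lib.helper19.zass_fix_unique hZ hx1' hac x.2 hxc hp
      obtain ⟨k, hka, hkc⟩ := Cfsg.Agent.Lib.helper19.zass_two_trans hZ hac hac.symm
      have hkia : k⁻¹ • a = c := inv_smul_eq_iff.mpr hkc.symm
      have hkic : k⁻¹ • c = a := inv_smul_eq_iff.mpr hka.symm
      have hinv := (simple_struct hZ hac (hoddall a c hac)).2.2 k⁻¹ hkia hkic (x : G)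
        ((mem_two_stab _).mpr ⟨x.2, hxc⟩)
      rw [inv_inv] at hinv
      have hy : k⁻¹ * (x : G) * k ∈ MulAction.stabilizer G a := by
        rw [hinv]; exact Subgroup.inv_mem _ x.2
      have hval := indFun_of_fix_two a c hac f (x : G) k x.2 hfix2 hka hy
      have hs1 : (⟨(x : G), x.2⟩ : MulAction.stabilizer G a) = x := rfl
      have hs2 : (⟨k⁻¹ * (x : G) * k, hy⟩ : MulAction.stabilizer G a) = x⁻¹ :=
        Subtype.ext (by rw [Subgroup.coe_inv]; exact hinv)
      rw [hs1, hs2, map_inv, Units.val_inv_eq_inv_val] at hval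
      rw [hval, map_add, map_inv₀, ← Complex.inv_eq_conj (hnorm x), inv_inv]
      have hne : ((f x : ℂˣ) : ℂ) ≠ 0 := Units.ne_zero _
      field_simp
      ring

open Classical in
/-- Inner products of the functions induced from linear characters trivial on `H`. -/
theorem ind_inner [Fintype (MulAction.stabilizer G a)]
    (f g : MulAction.stabilizer G a →* ℂˣ)
    (hfH : ∀ x : MulAction.stabilizer G a, (x : G) ∈ H → ((f x : ℂˣ) : ℂ) = 1)
    (hgH : ∀ x : MulAction.stabilizer G a, (x : G) ∈ H → ((g x : ℂˣ) : ℂ) = 1) :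
    classInner (indFun (MulAction.stabilizer G a) (fun y => ((g y : ℂˣ) : ℂ)))
      (indFun (MulAction.stabilizer G a) (fun y => ((f y : ℂˣ) : ℂ)))
      = (if g = f then 1 else 0) + (if g * f = 1 then 1 else 0) := by
  rw [frobenius_reciprocity _ _ (isClassFunction_indFun _ _)]
  have hN0 : (Nat.card (MulAction.stabilizer G a) : ℂ) ≠ 0 := by
    exact_mod_cast (Nat.card_pos (α := MulAction.stabilizer G a)).ne'
  have hpt : ∀ x : MulAction.stabilizer G a,
      ((g x : ℂˣ) : ℂ) * conj (indFun (MulAction.stabilizer G a)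
        (fun y => ((f y : ℂˣ) : ℂ)) (x : G))
      = (((g * f⁻¹) x : ℂˣ) : ℂ) + (((g * f) x : ℂˣ) : ℂ) - (if (x : G) ∈ H then 1 else 0)
        + (if x = 1 then ((Fintype.card Ω : ℂ) - 1) else 0) := by
    intro x
    have h := ind_pointwise hZ hab hodd H hHa hHcard hHfix f hfH x
    have hne : ((f x : ℂˣ) : ℂ) ≠ 0 := Units.ne_zero _
    have h' : conj (indFun (MulAction.stabilizer G a) (fun y => ((f y : ℂˣ) : ℂ)) (x : G))
        = ((f x : ℂˣ) : ℂ)⁻¹ * (1 + ((f x : ℂˣ) : ℂ) ^ 2 - (if (x : G) ∈ H then 1 else 0)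
        + (if x = 1 then ((Fintype.card Ω : ℂ) - 1) else 0)) := by
      rw [← h, ← mul_assoc, inv_mul_cancel₀ hne, one_mul]
    rw [h']
    simp only [MonoidHom.mul_apply, MonoidHom.inv_apply, Units.val_mul, Units.val_inv_eq_inv_val]
    by_cases hxH : (x : G) ∈ H
    · rw [if_pos hxH, hfH x hxH, hgH x hxH]
      by_cases hx1 : x = 1
      · rw [if_pos hx1]; ring
      · rw [if_neg hx1]; ring
    · rw [if_neg hxH]
      have hx1 : x ≠ 1 := fun h => hxH (by rw [h]; exact H.one_mem)
      rw [if_neg hx1]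
      field_simp
      ring
  unfold Cfsg.classInner
  rw [Finset.sum_congr rfl (fun x _ => hpt x)]
  rw [Finset.sum_add_distrib, Finset.sum_sub_distrib, Finset.sum_add_distrib, sum_hom, sum_hom,
    Finset.sum_boole, Finset.sum_ite_eq' Finset.univ (1 : MulAction.stabilizer G a)]
  have hcH : ((Finset.univ.filter (fun x : MulAction.stabilizer G a => (x : G) ∈ H)).card : ℂ)
      = (Fintype.card Ω : ℂ) - 1 := by
    have h1 : (Finset.univ.filter (fun x : MulAction.stabilizer G a => (x : G) ∈ H)).card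
        = Nat.card H := by
      rw [← natCard_subtype_eq_card_filter]
      exact Nat.card_congr (Subgroup.subgroupOfEquivOfLe hHa).toEquiv
    rw [h1, ← hHcard]
    push_cast
    ring
  rw [hcH, if_pos (Finset.mem_univ _)]
  by_cases h1 : g = f
  · have h1' : g * f⁻¹ = 1 := mul_inv_eq_one.mpr h1
    by_cases h2 : g * f = 1
    · simp only [if_pos h1', if_pos h1, if_pos h2]
      field_simp
      ring
    · simp only [if_pos h1', if_pos h1, if_neg h2]
      field_simp
      ring
  · have h1' : ¬ g * f⁻¹ = 1 := fun h => h1 (mul_inv_eq_one.mp h)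
    by_cases h2 : g * f = 1
    · simp only [if_neg h1', if_neg h1, if_pos h2]
      field_simp
      ring
    · simp only [if_neg h1', if_neg h1, if_neg h2]
      ring

/-- A nontrivial linear character trivial on `H` induces an irreducible character. -/
theorem ind_irr
    (hlt : Nat.card ↥(MulAction.stabilizer G a ⊓ MulAction.stabilizer G b : Subgroup G)
      < Fintype.card Ω - 2)
    (f : MulAction.stabilizer G a →* ℂˣ)
    (hfH : ∀ x : MulAction.stabilizer G a, (x : G) ∈ H → ((f x : ℂˣ) : ℂ) = 1) (hf1 : f ≠ 1) :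
    IsIrrCharacter G (indFun (MulAction.stabilizer G a) (fun y => ((f y : ℂˣ) : ℂ))) :=
  (Cfsg.Agent.S0881.result hZ hab hodd hlt H hHa hHcard hHfix (fun y => ((f y : ℂˣ) : ℂ))
    ⟨Cfsg.Agent.Lib.helper19.isCharacter_of_hom f, by simp⟩ hfH (hom_fun_ne_one f hf1)).1

/-- A linear character trivial on `H` and its inverse induce the same character. -/
theorem ind_inv_eq [Fintype (MulAction.stabilizer G a)]
    (hlt : Nat.card ↥(MulAction.stabilizer G a ⊓ MulAction.stabilizer G b : Subgroup G)
      < Fintype.card Ω - 2)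
    (f : MulAction.stabilizer G a →* ℂˣ)
    (hfH : ∀ x : MulAction.stabilizer G a, (x : G) ∈ H → ((f x : ℂˣ) : ℂ) = 1) (hf1 : f ≠ 1) :
    indFun (MulAction.stabilizer G a) (fun y => ((f⁻¹ y : ℂˣ) : ℂ))
      = indFun (MulAction.stabilizer G a) (fun y => ((f y : ℂˣ) : ℂ)) := by
  classical
  have hirr1 := ind_irr hZ hab hodd H hHa hHcard hHfix hlt f hfH hf1
  have hfiH : ∀ x : MulAction.stabilizer G a, (x : G) ∈ H → ((f⁻¹ x : ℂˣ) : ℂ) = 1 := by
    intro x hx
    have h := hfH x hx
    rw [MonoidHom.inv_apply, Units.val_inv_eq_inv_val, h, inv_one]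
  have hfi1 : f⁻¹ ≠ 1 := fun h => hf1 (MonoidHom.ext fun y => by
    have h8 := congrArg (fun φ : MulAction.stabilizer G a →* ℂˣ => φ y) h
    simpa using h8)
  have hirr2 := ind_irr hZ hab hodd H hHa hHcard hHfix hlt f⁻¹ hfiH hfi1
  have hin := ind_inner hZ hab hodd H hHa hHcard hHfix f f⁻¹ hfH hfiH
  by_contra hne
  rw [classInner_irr_ne hirr2 hirr1 hne] at hin
  simp only [if_pos (inv_mul_cancel f)] at hin
  split_ifs at hin <;> norm_num at hin

/-- The permutation character has exactly one nonprincipal irreducible constituent. -/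
theorem exists_psi [Fintype (MulAction.stabilizer G a)] :
    ∃ ψ₀ : G → ℂ, ∀ χ : G → ℂ, IsIrrCharacter G χ → χ ≠ (fun _ => 1) → χ ≠ ψ₀ →
      classInner χ (indFun (MulAction.stabilizer G a) (fun _ => (1 : ℂ))) = 0 := by
  classical
  have hone : (fun y : MulAction.stabilizer G a =>
      (((1 : MulAction.stabilizer G a →* ℂˣ) y : ℂˣ) : ℂ)) = fun _ => (1 : ℂ) := by
    funext y; simp
  have hin := ind_inner hZ hab hodd H hHa hHcard hHfix
    (1 : MulAction.stabilizer G a →* ℂˣ) 1 (fun x _ => by simp) (fun x _ => by simp)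
  rw [hone] at hin
  simp only [if_pos (mul_one (1 : MulAction.stabilizer G a →* ℂˣ)), ↓reduceIte] at hin
  have hcG : IsCharacter G (indFun (MulAction.stabilizer G a) (fun _ => (1 : ℂ))) :=
    isCharacter_indFun _ isCharacter_one
  have h1G : IsIrrCharacter G (fun _ : G => (1 : ℂ)) :=
    Cfsg.Agent.Lib.helper83.isIrrCharacter_one
  have h1L : IsIrrCharacter (MulAction.stabilizer G a)
      (fun _ : MulAction.stabilizer G a => (1 : ℂ)) :=
    Cfsg.Agent.Lib.helper83.isIrrCharacter_one
  have hcl1 : IsClassFunction G (fun _ : G => (1 : ℂ)) := isClassFunction_of_isIrrCharacter h1G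
  have e1 : classInner (indFun (MulAction.stabilizer G a) (fun _ => (1 : ℂ)))
      (fun _ : G => (1 : ℂ)) = 1 := by
    rw [frobenius_reciprocity _ _ hcl1]
    exact classInner_irr_self h1L
  have e2 : classInner (fun _ : G => (1 : ℂ))
      (indFun (MulAction.stabilizer G a) (fun _ => (1 : ℂ))) = 1 := by
    rw [← classInner_conj_symm, e1, map_one]
  have hθ : IsGeneralizedCharacter G
      (indFun (MulAction.stabilizer G a) (fun _ => (1 : ℂ)) - fun _ => (1 : ℂ)) :=
    ⟨_, _, hcG, isCharacter_one, rfl⟩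
  have hnorm : classInner
      (indFun (MulAction.stabilizer G a) (fun _ => (1 : ℂ)) - fun _ => (1 : ℂ))
      (indFun (MulAction.stabilizer G a) (fun _ => (1 : ℂ)) - fun _ => (1 : ℂ)) = 1 := by
    rw [classInner_sub_left, classInner_sub_right, classInner_sub_right, hin, e1, e2,
      classInner_irr_self h1G]
    ring
  have key : ∀ χ : G → ℂ, IsIrrCharacter G χ → χ ≠ (fun _ => 1) →
      classInner χ (indFun (MulAction.stabilizer G a) (fun _ => (1 : ℂ)))
        = classInner χ
          (indFun (MulAction.stabilizer G a) (fun _ => (1 : ℂ)) - fun _ => (1 : ℂ)) := by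
    intro χ hχ hχ1
    rw [classInner_sub_right, classInner_irr_ne hχ h1G hχ1, sub_zero]
  rcases isIrrCharacter_or_neg_of_norm_one hθ hnorm with h | h
  · refine ⟨indFun (MulAction.stabilizer G a) (fun _ => (1 : ℂ)) - fun _ => (1 : ℂ),
      fun χ hχ hχ1 hχ2 => ?_⟩
    rw [key χ hχ hχ1]
    exact classInner_irr_ne hχ h hχ2
  · refine ⟨-(indFun (MulAction.stabilizer G a) (fun _ => (1 : ℂ)) - fun _ => (1 : ℂ)),
      fun χ hχ hχ1 hχ2 => ?_⟩
    rw [key χ hχ hχ1]
    have h3 := classInner_irr_ne hχ h hχ2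
    rw [classInner_neg_right] at h3
    exact neg_eq_zero.mp h3

/-- The point stabiliser modulo its kernel is abelian. -/
theorem zk_comm_mem : ∀ x y : MulAction.stabilizer G a,
    x * y * x⁻¹ * y⁻¹ ∈ H.subgroupOf (MulAction.stabilizer G a) := by
  intro x y
  have F := frobTI_of_zass hZ H hHa hHcard hHfix
  haveI := F.normalK
  have key : ∀ x : MulAction.stabilizer G a, ∃ s : MulAction.stabilizer G a,
      (s : G) • b = b ∧
      QuotientGroup.mk' (H.subgroupOf (MulAction.stabilizer G a)) x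
        = QuotientGroup.mk' (H.subgroupOf (MulAction.stabilizer G a)) s := by
    intro x
    have hxa : (x : G) • a = a := x.2
    have hxb : (x : G) • b ≠ a := by
      intro h
      apply hab
      have h4 : b = (x : G)⁻¹ • a := by rw [eq_inv_smul_iff]; exact h
      rw [h4, eq_inv_smul_iff]
      exact hxa
    obtain ⟨u, hu, hub⟩ := zk_trans hZ H hHa hHcard hHfix hxb (Ne.symm hab)
    refine ⟨⟨u, hHa hu⟩ * x, ?_, ?_⟩
    · rw [Subgroup.coe_mul, mul_smul]; exact hub
    · rw [map_mul]
      have h5 : QuotientGroup.mk' (H.subgroupOf (MulAction.stabilizer G a)) ⟨u, hHa hu⟩ = 1 := by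
        rw [QuotientGroup.mk'_apply, QuotientGroup.eq_one_iff]
        exact Subgroup.mem_subgroupOf.mpr hu
      rw [h5, one_mul]
  obtain ⟨s, hs, hxs⟩ := key x
  obtain ⟨t, ht, hyt⟩ := key y
  have hst : s * t = t * s := by
    apply Subtype.ext
    rw [Subgroup.coe_mul, Subgroup.coe_mul]
    exact simple_comm hZ hab hodd (s : G) ((mem_two_stab _).mpr ⟨s.2, hs⟩) (t : G)
      ((mem_two_stab _).mpr ⟨t.2, ht⟩)
  have h6 : s * t * s⁻¹ * t⁻¹ = 1 := by rw [hst]; group
  apply (QuotientGroup.eq_one_iff _).mp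
  have h7 : QuotientGroup.mk' (H.subgroupOf (MulAction.stabilizer G a)) (x * y * x⁻¹ * y⁻¹)
      = QuotientGroup.mk' (H.subgroupOf (MulAction.stabilizer G a)) (s * t * s⁻¹ * t⁻¹) := by
    simp only [map_mul, map_inv, hxs, hyt]
  rw [h6, map_one] at h7
  exact h7

/-- An irreducible character of the point stabiliser that is not induced from `H` is a linear
character trivial on `H`. -/
theorem nonS_hom [Fintype (MulAction.stabilizer G a)] (η : MulAction.stabilizer G a → ℂ)
    (hη : IsIrrCharacter (MulAction.stabilizer G a) η)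
    (hηS : η ∉ inducedIrrAbove (H.subgroupOf (MulAction.stabilizer G a)) ⊥) :
    ∃ f : MulAction.stabilizer G a →* ℂˣ, (∀ x, η x = ((f x : ℂˣ) : ℂ)) ∧
      ∀ x : MulAction.stabilizer G a, (x : G) ∈ H → ((f x : ℂˣ) : ℂ) = 1 := by
  have F := frobTI_of_zass hZ H hHa hHcard hHfix
  have htriv : ∀ x : MulAction.stabilizer G a, (x : G) ∈ H → η x = η 1 := by
    intro x hx
    by_contra hne
    apply hηS
    rw [← frobTI_relevant_eq F]
    exact ⟨hη, x, hx, hne⟩
  have h1 : η 1 = 1 := Cfsg.Agent.Lib.helper19.linear_of_abelian_quot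
    (H.subgroupOf (MulAction.stabilizer G a))
    (zk_comm_mem hZ hab hodd H hHa hHcard hHfix) η hη
    (fun x hx => htriv x (Subgroup.mem_subgroupOf.mp hx))
  obtain ⟨f, hf⟩ := Cfsg.Agent.Lib.helper19.exists_hom_of_linear η
    (isCharacter_of_isIrrCharacter hη) h1
  refine ⟨f, hf, fun x hx => ?_⟩
  rw [← hf x, htriv x hx, h1]

end Simple

end Cfsg.Agent.Lib.helper16.Feit
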