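-- helper16: counting products of two involutions against conjugacy classes (pure group theory).
import Mathlib

set_option autoImplicit false
set_option linter.style.haveILetI false

namespace Cfsg.Agent.Lib.helper16.InvolProd

variable {G : Type*} [Group G] [Fintype G]

/-- The number of ways of writing `g` as a product of two involutions. -/
noncomputable def beta (g : G) : ℕ :=
  (Finset.univ.filter (fun x : G => orderOf x = 2 ∧ orderOf (x⁻¹ * g) = 2)).card

omit [Fintype G] in
theorem mul_self_of_orderOf_two' {x : G} (hx : orderOf x = 2) : x * x = 1 := by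
  have := pow_orderOf_eq_one x
  rwa [hx, pow_two] at this

omit [Fintype G] in
/-- If `g = x * y` with `x`, `y` involutions then `x` inverts `g`. -/
theorem inverter_conj {g x : G} (hx : orderOf x = 2) (hy : orderOf (x⁻¹ * g) = 2) :
    x * g * x⁻¹ = g⁻¹ := by
  have hx2 := mul_self_of_orderOf_two' hx
  have hy2 := mul_self_of_orderOf_two' hy
  have hxi : x⁻¹ = x := inv_eq_of_mul_eq_one_left hx2
  rw [hxi] at hy2 ⊢
  apply eq_inv_of_mul_eq_one_left
  rw [← hy2]; group

theorem mem_beta_filter {g x : G} :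
    x ∈ Finset.univ.filter (fun x : G => orderOf x = 2 ∧ orderOf (x⁻¹ * g) = 2)
      ↔ orderOf x = 2 ∧ orderOf (x⁻¹ * g) = 2 := by
  rw [Finset.mem_filter]; exact ⟨fun h => h.2, fun h => ⟨Finset.mem_univ _, h⟩⟩

theorem exists_of_beta_ne_zero {g : G} (h : beta g ≠ 0) :
    ∃ x : G, orderOf x = 2 ∧ orderOf (x⁻¹ * g) = 2 := by
  unfold beta at h
  obtain ⟨x, hx⟩ := Finset.card_ne_zero.mp h
  exact ⟨x, mem_beta_filter.mp hx⟩

/-- Bounding `beta g` by the size of a set containing all the inverters. -/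
theorem beta_le_card {g : G} (s : Finset G)
    (hs : ∀ x : G, orderOf x = 2 → orderOf (x⁻¹ * g) = 2 → x ∈ s) : beta g ≤ s.card := by
  unfold beta
  apply Finset.card_le_card
  intro x hx
  rw [mem_beta_filter] at hx
  exact hs x hx.1 hx.2

theorem sum_beta :
    ∑ g : G, beta g = (Finset.univ.filter (fun x : G => orderOf x = 2)).card ^ 2 := by
  have hb : ∀ g : G, beta g
      = ∑ x : G, (if orderOf x = 2 ∧ orderOf (x⁻¹ * g) = 2 then 1 else 0) :=
    fun g => Finset.card_filter _ _
  rw [Finset.sum_congr rfl (fun g _ => hb g), Finset.sum_comm]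
  have key : ∀ x : G, ∑ g : G, (if orderOf x = 2 ∧ orderOf (x⁻¹ * g) = 2 then 1 else 0)
      = if orderOf x = 2 then (Finset.univ.filter (fun y : G => orderOf y = 2)).card else 0 := by
    intro x
    by_cases hx : orderOf x = 2
    · simp only [hx, true_and, if_true]
      rw [← Finset.card_filter]
      refine Finset.card_bij (fun g _ => x⁻¹ * g) ?_ ?_ ?_
      · intro g hg
        rw [Finset.mem_filter] at hg ⊢
        exact ⟨Finset.mem_univ _, hg.2⟩
      · intro g₁ _ g₂ _ h
        exact mul_left_cancel h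
      · intro y hy
        rw [Finset.mem_filter] at hy
        refine ⟨x * y, ?_, by group⟩
        rw [Finset.mem_filter]
        refine ⟨Finset.mem_univ _, ?_⟩
        rw [inv_mul_cancel_left]; exact hy.2
    · simp [hx]
  rw [Finset.sum_congr rfl (fun x _ => key x), ← Finset.sum_filter, Finset.sum_const, smul_eq_mul,
    pow_two]

/-- `beta g` is at most the number of elements conjugating a fixed class representative to `g`. -/
theorem beta_le_conj_fiber [DecidableEq G] {g₀ g : G}
    (hconj : ConjClasses.mk g = ConjClasses.mk g₀) :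
    beta g ≤ (Finset.univ.filter (fun k : G => k * g₀ * k⁻¹ = g)).card := by
  by_cases hβ : beta g = 0
  · rw [hβ]; exact Nat.zero_le _
  obtain ⟨x₁, hx₁, hy₁⟩ := exists_of_beta_ne_zero hβ
  have h1 := inverter_conj hx₁ hy₁
  obtain ⟨k₁, hk₁⟩ := isConj_iff.mp (ConjClasses.mk_eq_mk_iff_isConj.mp hconj.symm)
  unfold beta
  refine Finset.card_le_card_of_injOn (fun x => x₁⁻¹ * x * k₁) ?_ ?_
  · intro x hx
    have hx' := mem_beta_filter.mp hx
    have h2 := inverter_conj hx'.1 hx'.2
    show x₁⁻¹ * x * k₁ ∈ Finset.univ.filter (fun k : G => k * g₀ * k⁻¹ = g)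
    rw [Finset.mem_filter]
    refine ⟨Finset.mem_univ _, ?_⟩
    calc x₁⁻¹ * x * k₁ * g₀ * (x₁⁻¹ * x * k₁)⁻¹
        = x₁⁻¹ * (x * (k₁ * g₀ * k₁⁻¹) * x⁻¹) * x₁ := by group
      _ = x₁⁻¹ * g⁻¹ * x₁ := by rw [hk₁, h2]
      _ = x₁⁻¹ * (x₁ * g * x₁⁻¹) * x₁ := by rw [h1]
      _ = g := by group
  · intro x _ x' _ h
    have h' : x₁⁻¹ * x * k₁ = x₁⁻¹ * x' * k₁ := h
    exact mul_left_cancel (mul_right_cancel h')

/-- The sum of `beta` over a conjugacy class is at most `|G|`. -/
theorem sum_beta_class_le [DecidableEq G] [DecidableEq (ConjClasses G)] (g₀ : G) :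
    ∑ g ∈ Finset.univ.filter (fun g : G => ConjClasses.mk g = ConjClasses.mk g₀), beta g
      ≤ Fintype.card G := by
  have hmaps : ((Finset.univ : Finset G) : Set G).MapsTo (fun k : G => k * g₀ * k⁻¹)
      ((Finset.univ.filter (fun g : G => ConjClasses.mk g = ConjClasses.mk g₀) : Finset G) :
        Set G) := by
    intro k _
    show k * g₀ * k⁻¹ ∈ Finset.univ.filter (fun g : G => ConjClasses.mk g = ConjClasses.mk g₀)
    rw [Finset.mem_filter]
    refine ⟨Finset.mem_univ _, ?_⟩
    rw [ConjClasses.mk_eq_mk_iff_isConj, isConj_comm, isConj_iff]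
    exact ⟨k, rfl⟩
  have h1 := Finset.card_eq_sum_card_fiberwise hmaps
  rw [Finset.card_univ] at h1
  rw [h1]
  apply Finset.sum_le_sum
  intro g hg
  rw [Finset.mem_filter] at hg
  exact beta_le_conj_fiber hg.2

/-- The sum of `beta` over a set of elements is at most `|G|` times the number of conjugacy classes
meeting the set. -/
theorem sum_beta_le_image [DecidableEq G] [DecidableEq (ConjClasses G)] (S : Finset G) :
    ∑ g ∈ S, beta g ≤ (S.image ConjClasses.mk).card * Fintype.card G := by
  rw [← Finset.sum_fiberwise_of_maps_to (g := ConjClasses.mk) (t := S.image ConjClasses.mk)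
    (fun _ => Finset.mem_image_of_mem _)]
  rw [← smul_eq_mul, ← Finset.sum_const]
  apply Finset.sum_le_sum
  intro C hC
  obtain ⟨g₀, -, rfl⟩ := Finset.mem_image.mp hC
  refine le_trans ?_ (sum_beta_class_le g₀)
  apply Finset.sum_le_sum_of_subset
  intro g hg
  rw [Finset.mem_filter] at hg ⊢
  exact ⟨Finset.mem_univ _, hg.2⟩

end Cfsg.Agent.Lib.helper16.InvolProd
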