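-- helper16: simple Zassenhaus groups whose two-point stabiliser has odd order: class counting.
import Mathlib
import Cfsg.Prelude.Def_LieExceptional
import Cfsg.Agent.S0883
import Cfsg.Agent.Lib.helper16.InvolProd

set_option autoImplicit false
set_option linter.style.haveILetI false

namespace Cfsg.Agent.Lib.helper16.ZassSimple

open Cfsg.Agent.Lib.helper19 Cfsg.Agent.Lib.helper16.ZassOdd Cfsg.Agent.Lib.helper16.InvolProd

variable {G Ω : Type*} [Group G] [MulAction G Ω]

theorem exists_ne_point [Finite Ω] (hZ : Cfsg.IsZassenhausGroup G Ω) (c : Ω) : ∃ d : Ω, d ≠ c := by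
  have h3 := zass_three_le_card hZ (Ω := Ω)
  have : Nontrivial Ω := Finite.one_lt_card_iff_nontrivial.mp (by omega)
  exact exists_ne c

omit [MulAction G Ω] in
/-- An inverter of `g` fixes the unique fixed point of `g`. -/
theorem inverter_fix [MulAction G Ω] {g x : G} (hx : orderOf x = 2)
    (hy : orderOf (x⁻¹ * g) = 2) {c : Ω} (hgc : g • c = c) (huniq : ∀ d : Ω, g • d = d → d = c) :
    x • c = c := by
  have h1 := inverter_conj hx hy
  apply huniq
  have h2 : g⁻¹ • (x • c) = x • c := by
    rw [← h1, mul_smul, mul_smul, inv_smul_smul, hgc]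
  exact (inv_smul_eq_iff.mp h2).symm

/-- Twice the number of non-identity elements with two fixed points is at most `|G| - n (n - 1)`. -/
theorem two_mul_card_two_fixed_le [Fintype G] [Fintype Ω] [DecidableEq G]
    (hZ : Cfsg.IsZassenhausGroup G Ω) {a b : Ω} (hab : a ≠ b)
    (T : Finset G) (hT : ∀ g ∈ T, g ≠ 1 ∧ ∃ c d : Ω, c ≠ d ∧ g • c = c ∧ g • d = d) :
    2 * T.card + Fintype.card Ω * (Fintype.card Ω - 1) ≤ Fintype.card G := by
  have S2 := sum_card_fixedBy_two_of_pretransitive (K := G) (X := Ω) hZ.2.1 hab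
  have h1T : (1 : G) ∉ T := fun h => (hT 1 h).1 rfl
  have hsub : insert (1 : G) T ⊆ Finset.univ := Finset.subset_univ _
  have h1 := Finset.sum_le_sum_of_subset (f := fun g : G =>
    Nat.card (MulAction.fixedBy Ω g) * (Nat.card (MulAction.fixedBy Ω g) - 1)) hsub
  rw [S2, Finset.sum_insert h1T] at h1
  have hF1 : Nat.card (MulAction.fixedBy Ω (1 : G)) = Fintype.card Ω := by
    rw [card_fixedBy_one_eq, Nat.card_eq_fintype_card]
  rw [hF1] at h1
  have h2 : ∑ g ∈ T, 2 ≤ ∑ g ∈ T,
      Nat.card (MulAction.fixedBy Ω g) * (Nat.card (MulAction.fixedBy Ω g) - 1) := by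
    apply Finset.sum_le_sum
    intro g hg
    obtain ⟨-, c, d, hcd, hgc, hgd⟩ := hT g hg
    have h3 : 1 < Nat.card (MulAction.fixedBy Ω g) := by
      rw [Nat.card_coe_set_eq, Set.one_lt_ncard_iff]
      exact ⟨c, d, hgc, hgd, hcd⟩
    have h4 : 2 * 1 ≤ Nat.card (MulAction.fixedBy Ω g) * (Nat.card (MulAction.fixedBy Ω g) - 1) :=
      Nat.mul_le_mul h3 (by omega)
    omega
  rw [Finset.sum_const, smul_eq_mul] at h2
  omega

section Simple

variable [Fintype G] [Fintype Ω] [IsSimpleGroup G] (hZ : Cfsg.IsZassenhausGroup G Ω) {a b : Ω}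
  (hab : a ≠ b) (e : ℕ)
  (he : Nat.card ↥(MulAction.stabilizer G a ⊓ MulAction.stabilizer G b : Subgroup G) = e)
  (hodd : Odd e)

include hZ hab he hodd

omit [IsSimpleGroup G] in
/-- A non-identity element with two fixed points is a product of two involutions in at most `e`
ways. -/
theorem beta_le_two_fixed {g : G} (hg1 : g ≠ 1) {c d : Ω} (hcd : c ≠ d) (hgc : g • c = c)
    (hgd : g • d = d) : beta g ≤ e := by
  classical
  have hoddall := odd_stab_all hZ hab e he hodd
  have hcs : (Finset.univ.filter (fun x : G => x • c = d ∧ x • d = c)).card = e := by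
    rw [← natCard_subtype_eq_card_filter, card_swaps hZ hcd, card_stab_all hZ hab e he c d hcd]
  rw [← hcs]
  apply beta_le_card
  intro x hx hy
  rw [Finset.mem_filter]
  refine ⟨Finset.mem_univ _, ?_⟩
  have h1 := inverter_conj hx hy
  have hgic : g⁻¹ • c = c := inv_smul_eq_iff.mpr hgc.symm
  have hgid : g⁻¹ • d = d := inv_smul_eq_iff.mpr hgd.symm
  rcases zass_conj_perm hZ hcd hg1 hgc hgd (by rw [h1]; exact hgic) (by rw [h1]; exact hgid)
    with ⟨hxc, hxd⟩ | h
  · exact absurd (invol_fix_unique hoddall hx hxc hxd) hcd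
  · exact h

/-- The conjugacy classes of the non-identity elements of the two-point stabiliser. -/
theorem classes_two_stab [DecidableEq G] [DecidableEq (ConjClasses G)] [DecidableEq Ω] :
    e - 1 ≤ 2 * ((Finset.univ.filter (fun g : G => g ≠ 1 ∧ g • a = a ∧ g • b = b)).image
      ConjClasses.mk).card := by
  have hoddall := odd_stab_all hZ hab e he hodd
  have hE := simple_struct hZ hab (hoddall a b hab)
  have hcomm := simple_comm hZ hab (hoddall a b hab)
  have hc1 : (Finset.univ.filter (fun g : G => g • a = a ∧ g • b = b)).card = e := by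
    rw [← natCard_subtype_eq_card_filter, ← he]
    exact Nat.card_congr (Equiv.subtypeEquivRight (fun g => (mem_two_stab g).symm))
  have hc2 : (Finset.univ.filter (fun g : G => g ≠ 1 ∧ g • a = a ∧ g • b = b)).card = e - 1 := by
    have : Finset.univ.filter (fun g : G => g ≠ 1 ∧ g • a = a ∧ g • b = b)
        = (Finset.univ.filter (fun g : G => g • a = a ∧ g • b = b)).erase 1 := by
      ext g
      simp only [Finset.mem_filter, Finset.mem_univ, true_and, Finset.mem_erase]
    rw [this, Finset.card_erase_of_mem (by simp), hc1]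
  rw [← hc2]
  apply Finset.card_le_mul_card_image
  intro C hC
  obtain ⟨g₀, hg₀, rfl⟩ := Finset.mem_image.mp hC
  rw [Finset.mem_filter] at hg₀
  obtain ⟨-, hg₀1, hg₀a, hg₀b⟩ := hg₀
  have hg₀E : g₀ ∈ MulAction.stabilizer G a ⊓ MulAction.stabilizer G b :=
    (mem_two_stab g₀).mpr ⟨hg₀a, hg₀b⟩
  refine le_trans (Finset.card_le_card (t := {g₀, g₀⁻¹}) ?_) Finset.card_le_two
  intro g hg
  rw [Finset.mem_filter, Finset.mem_filter] at hg
  obtain ⟨⟨-, hg1, hga, hgb⟩, hgC⟩ := hg
  obtain ⟨k, hk⟩ := isConj_iff.mp (ConjClasses.mk_eq_mk_iff_isConj.mp hgC.symm)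
  rw [Finset.mem_insert, Finset.mem_singleton]
  rcases zass_conj_perm hZ hab hg₀1 hg₀a hg₀b (by rw [hk]; exact hga) (by rw [hk]; exact hgb)
    with ⟨hka, hkb⟩ | ⟨hka, hkb⟩
  · left
    have hkE : k ∈ MulAction.stabilizer G a ⊓ MulAction.stabilizer G b :=
      (mem_two_stab k).mpr ⟨hka, hkb⟩
    rw [← hk, hcomm k hkE g₀ hg₀E]; group
  · right
    rw [← hk]
    exact hE.2.2 k hka hkb g₀ hg₀E

variable (h : ℕ) (hh : Fintype.card Ω = h + 1)

include hh

omit [IsSimpleGroup G] in
/-- In even degree, an element with exactly one fixed point is not a product of two involutions. -/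
theorem beta_eq_zero_of_one_fixed (hnev : ¬ Even h) {g : G} {c : Ω} (hgc : g • c = c)
    (huniq : ∀ d : Ω, g • d = d → d = c) : beta g = 0 := by
  classical
  have hoddall := odd_stab_all hZ hab e he hodd
  by_contra hβ
  obtain ⟨x, hx, hy⟩ := exists_of_beta_ne_zero hβ
  have hxc := inverter_fix hx hy hgc huniq
  have hev : Even (Fintype.card Ω) := by
    rw [hh, Nat.even_add_one]; exact hnev
  have h1 := invol_card_fixed hoddall hx
  rw [if_pos hev, Finset.card_eq_zero] at h1
  have h2 : c ∈ Finset.univ.filter (fun p : Ω => x • p = p) := by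
    rw [Finset.mem_filter]; exact ⟨Finset.mem_univ _, hxc⟩
  rw [h1] at h2
  exact absurd h2 (Finset.notMem_empty _)

variable (hlt : 2 * e < h - 1)

include hlt

/-- In odd degree, a non-identity element with exactly one fixed point is a product of two
involutions in at most `e - 1` ways, and only if it is an involution. -/
theorem beta_le_of_one_fixed (hev : Even h) (H : Subgroup G)
    (hHa : H ≤ MulAction.stabilizer G a) (hHcard : Nat.card H + 1 = Fintype.card Ω)
    (hHfix : ∀ u ∈ H, u ≠ 1 → ∀ c : Ω, u • c = c → c = a) {g : G} (hg1 : g ≠ 1) {c : Ω}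
    (hgc : g • c = c) (huniq : ∀ d : Ω, g • d = d → d = c) :
    beta g ≤ if orderOf g = 2 then e - 1 else 0 := by
  classical
  have hoddall := odd_stab_all hZ hab e he hodd
  by_cases hβ : beta g = 0
  · rw [hβ]; exact Nat.zero_le _
  obtain ⟨x, hx, hy⟩ := exists_of_beta_ne_zero hβ
  obtain ⟨d, hdc⟩ := exists_ne_point hZ c
  obtain ⟨k, hkc, -⟩ := zass_two_trans hZ (Ne.symm hdc) hab
  have hki : k⁻¹ • a = c := inv_smul_eq_iff.mpr hkc.symm
  -- `g` is an involution
  have hg2 : orderOf g = 2 := by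
    rw [← conj_orderOf k g]
    have hg'1 : k * g * k⁻¹ ≠ 1 := by
      intro h1
      apply hg1
      have : g = k⁻¹ * (k * g * k⁻¹) * k := by group
      rw [this, h1]; group
    have hg'a : (k * g * k⁻¹) • a = a := by
      rw [mul_smul, mul_smul, hki, hgc, hkc]
    have hg'fix : ∀ p : Ω, (k * g * k⁻¹) • p = p → p = a := by
      intro p hp
      have h1 : g • (k⁻¹ • p) = k⁻¹ • p := by
        have := congrArg (fun q => k⁻¹ • q) hp
        simp only [mul_smul, inv_smul_smul] at this
        exact this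
      have h2 := huniq _ h1
      rw [← hkc, ← h2, smul_inv_smul]
    have hg'H := mem_kernel_of_fix_only hZ a H hHa hHcard hHfix hg'1 hg'a hg'fix
    exact Cfsg.Agent.S0883.result hZ hab h e hh he hodd hlt H hHa hHcard hHfix (k * g * k⁻¹) hg'H
      hg'1 (k * x * k⁻¹) (k * (x⁻¹ * g) * k⁻¹) (by rw [conj_orderOf, hx])
      (by rw [conj_orderOf, hy]) (by group)
  rw [if_pos hg2]
  have hcI : (Finset.univ.filter (fun x : G => orderOf x = 2 ∧ x • c = c)).card = e := by
    rw [← natCard_subtype_eq_card_filter]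
    exact card_invol_fixing hZ (Ne.symm hdc) e (card_stab_all hZ hab e he c d (Ne.symm hdc)) hodd h
      hh hlt hev
  have hgI : g ∈ Finset.univ.filter (fun x : G => orderOf x = 2 ∧ x • c = c) := by
    rw [Finset.mem_filter]; exact ⟨Finset.mem_univ _, hg2, hgc⟩
  rw [← hcI, ← Finset.card_erase_of_mem hgI]
  apply beta_le_card
  intro x' hx' hy'
  rw [Finset.mem_erase, Finset.mem_filter]
  refine ⟨?_, Finset.mem_univ _, hx', inverter_fix hx' hy' hgc huniq⟩
  intro hxg
  rw [hxg, inv_mul_cancel, orderOf_one] at hy'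
  exact absurd hy' (by norm_num)

end Simple

end Cfsg.Agent.Lib.helper16.ZassSimple
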