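-- helper16: Feit's inequality for Zassenhaus groups: the irreducible characters (simple case).
import Mathlib
import Cfsg.Prelude.Def_LieExceptional
import Cfsg.Prelude.Def_Characters
import Cfsg.Prelude.Def_OddOrderChar
import Cfsg.Agent.Lib.helper16.FeitC
import Cfsg.Agent.S0884
import Cfsg.Agent.S1519

set_option autoImplicit false
set_option linter.style.haveILetI false
set_option linter.unusedSectionVars false
set_option linter.unusedVariables false

namespace Cfsg.Agent.Lib.helper16.Feit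

open Cfsg Cfsg.Agent.Lib.helper16.ZassOdd
  Cfsg.Agent.Lib.helper16.ZassSimple Cfsg.Agent.Lib.helper16.ZassInd
  Cfsg.Agent.Lib.helper32 Cfsg.Agent.Lib.helper4
open scoped ComplexConjugate

universe u

section Simple

variable {G : Type u} {Ω : Type*} [Group G] [MulAction G Ω] [Fintype G] [Fintype Ω]
  [IsSimpleGroup G] (hZ : Cfsg.IsZassenhausGroup G Ω) {a b : Ω} (hab : a ≠ b)
  (hodd : Odd (Nat.card ↥(MulAction.stabilizer G a ⊓ MulAction.stabilizer G b : Subgroup G)))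
  (H : Subgroup G) (hHa : H ≤ MulAction.stabilizer G a)
  (hHcard : Nat.card H + 1 = Fintype.card Ω)
  (hHfix : ∀ u ∈ H, u ≠ 1 → ∀ c : Ω, u • c = c → c = a)

include hZ hab hodd hHa hHcard hHfix

/-- Under coherence and `2e < h - 1`, every irreducible character of `G` is principal, the
nonprincipal constituent of the permutation character, induced from a linear character of the
point stabiliser, or exceptional. -/
theorem irr_cases [Fintype (MulAction.stabilizer G a)] (h e : ℕ)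
    (hh : Fintype.card Ω = h + 1)
    (he : Nat.card ↥(MulAction.stabilizer G a ⊓ MulAction.stabilizer G b : Subgroup G) = e)
    (hlt : 2 * e < h - 1)
    (τ₁ : (MulAction.stabilizer G a → ℂ) → (G → ℂ))
    (hτ₁ : IsLinearIsometryOn
      (zspan (inducedIrrAbove (H.subgroupOf (MulAction.stabilizer G a)) ⊥)) τ₁)
    (hτ₁α : ∀ α ∈ zspanOn (inducedIrrAbove (H.subgroupOf (MulAction.stabilizer G a)) ⊥) {1}ᶜ,
      τ₁ α = indFun (MulAction.stabilizer G a) α)
    (ψ₀ : G → ℂ)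
    (hψ₀ : ∀ χ : G → ℂ, IsIrrCharacter G χ → χ ≠ (fun _ => 1) → χ ≠ ψ₀ →
      classInner χ (indFun (MulAction.stabilizer G a) (fun _ => (1 : ℂ))) = 0)
    (χ : G → ℂ) (hχ : IsIrrCharacter G χ) :
    χ = (fun _ => 1) ∨ χ = ψ₀ ∨
    (∃ f : MulAction.stabilizer G a →* ℂˣ, f ≠ 1 ∧
      (∀ x : MulAction.stabilizer G a, (x : G) ∈ H → ((f x : ℂˣ) : ℂ) = 1) ∧
      χ = indFun (MulAction.stabilizer G a) (fun y => ((f y : ℂˣ) : ℂ))) ∨
    (∃ ξ ∈ inducedIrrAbove (H.subgroupOf (MulAction.stabilizer G a)) ⊥,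
      χ = τ₁ ξ ∨ χ = -τ₁ ξ) := by
  classical
  by_contra hcon
  have hc1 : χ ≠ fun _ => 1 := fun h => hcon (Or.inl h)
  have hc2 : χ ≠ ψ₀ := fun h => hcon (Or.inr (Or.inl h))
  have hc3 : ∀ f : MulAction.stabilizer G a →* ℂˣ, f ≠ 1 →
      (∀ x : MulAction.stabilizer G a, (x : G) ∈ H → ((f x : ℂˣ) : ℂ) = 1) →
      χ ≠ indFun (MulAction.stabilizer G a) (fun y => ((f y : ℂˣ) : ℂ)) :=
    fun f hf1 hfH h => hcon (Or.inr (Or.inr (Or.inl ⟨f, hf1, hfH, h⟩)))
  have hc4 : ∀ ξ ∈ inducedIrrAbove (H.subgroupOf (MulAction.stabilizer G a)) ⊥,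
      χ ≠ τ₁ ξ ∧ χ ≠ -τ₁ ξ :=
    fun ξ hξ => ⟨fun h => hcon (Or.inr (Or.inr (Or.inr ⟨ξ, hξ, Or.inl h⟩))),
      fun h => hcon (Or.inr (Or.inr (Or.inr ⟨ξ, hξ, Or.inr h⟩)))⟩
  have F := frobTI_of_zass hZ H hHa hHcard hHfix
  have _iK := F.normalK
  have hirr := frobTI_irr F
  have hτ' : IsLinearIsometryOn ((Submodule.span ℤ
      (inducedIrrAbove (H.subgroupOf (MulAction.stabilizer G a)) ⊥) :
      Submodule ℤ (MulAction.stabilizer G a → ℂ)) : Set (MulAction.stabilizer G a → ℂ)) τ₁ :=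
    hτ₁
  have hnil := F.nilpotent
  have hnilK : Group.IsNilpotent (H.subgroupOf (MulAction.stabilizer G a)) :=
    Group.nilpotent_of_mulEquiv (Subgroup.subgroupOfEquivOfLe F.lt.le).symm
  have hsolv : Group.IsSolvable (H.subgroupOf (MulAction.stabilizer G a)) := inferInstance
  obtain ⟨ξ₀, hξ₀, hξ₀1⟩ := Cfsg.Agent.S1519.exists_induced_linear
    (H.subgroupOf (MulAction.stabilizer G a)) hsolv ⊥ (bot_lt_iff_ne_bot.mpr F.ne_botK)
  have h3 := zk_three_le hZ H hHa hHcard hHfix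
  have hlt' : Nat.card ↥(MulAction.stabilizer G a ⊓ MulAction.stabilizer G b : Subgroup G)
      < Fintype.card Ω - 2 := by rw [he, hh]; omega
  have h1 : ∀ ξ ∈ inducedIrrAbove (H.subgroupOf (MulAction.stabilizer G a)) ⊥,
      classInner χ (τ₁ ξ) = 0 := by
    intro ξ hξ
    have hmem : ξ ∈ (Submodule.span ℤ
        (inducedIrrAbove (H.subgroupOf (MulAction.stabilizer G a)) ⊥) :
        Submodule ℤ (MulAction.stabilizer G a → ℂ)) := Submodule.subset_span hξ
    have hsg := isIrrCharacter_or_neg_of_norm_one (lio_gen hτ' hmem)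
      (by rw [lio_inner hτ' hmem hmem]; exact classInner_irr_self (hirr ξ hξ))
    rcases signed_irr_inner χ (τ₁ ξ) (Or.inl hχ) hsg with h | ⟨h, -⟩ | ⟨h, -⟩
    · exact h
    · exact absurd h.symm (hc4 ξ hξ).1
    · exfalso
      apply (hc4 ξ hξ).2
      rw [h, neg_neg]
  have h2 : ∀ η : MulAction.stabilizer G a → ℂ, IsIrrCharacter (MulAction.stabilizer G a) η →
      η ∉ inducedIrrAbove (H.subgroupOf (MulAction.stabilizer G a)) ⊥ →
      classInner (fun x : MulAction.stabilizer G a => χ x) η = 0 := by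
    intro η hη hηS
    obtain ⟨f, hf, hfH⟩ := nonS_hom hZ hab hodd H hHa hHcard hHfix η hη hηS
    have hηf : η = fun y => ((f y : ℂˣ) : ℂ) := funext hf
    rw [← classInner_ind_right _ χ (isClassFunction_of_isIrrCharacter hχ)]
    by_cases hf1 : f = 1
    · have h5 : η = fun _ => (1 : ℂ) := by
        rw [hηf, hf1]; funext y; simp
      rw [h5]
      exact hψ₀ χ hχ hc1 hc2
    · rw [hηf]
      exact classInner_irr_ne hχ (ind_irr hZ hab hodd H hHa hHcard hHfix hlt' f hfH hf1)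
        (hc3 f hf1 hfH)
  obtain ⟨m, hm⟩ := other_degree F τ₁ hτ₁ hτ₁α ξ₀ hξ₀ hξ₀1 χ hχ h1 h2
  obtain ⟨d, hd, hd1, hdvd⟩ := irr_degree_nat_dvd hχ
  have hHh : Nat.card H = h := by omega
  have hh1 : 1 ≤ h := by omega
  have hcast : (d : ℂ) = ((m * (h - 1) : ℕ) : ℂ) := by
    rw [← hd1, hm, hHh, Nat.cast_mul, Nat.cast_sub hh1, Nat.cast_one]
  have hdm : d = m * (h - 1) := by exact_mod_cast hcast
  have hG : Nat.card G = (h + 1) * h * e := by
    have h6 := Cfsg.Agent.Lib.helper19.zass_card_eq hZ hab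
    rw [he, Nat.card_eq_fintype_card (α := Ω), hh, Nat.add_sub_cancel] at h6
    exact h6
  obtain ⟨q, hq⟩ : ∃ q, h = q + 1 := ⟨h - 1, by omega⟩
  have hq1 : h - 1 = q := by omega
  rw [hq1] at hdm hlt
  have hqd : q ∣ (h + 1) * e * h := by
    have h7 : q ∣ d := ⟨m, by rw [hdm]; ring⟩
    have h8 : (h + 1) * e * h = Nat.card G := by rw [hG]; ring
    rw [h8]
    exact h7.trans hdvd
  have hcop : Nat.Coprime q h := by
    rw [hq]
    exact Nat.coprime_self_add_right.mpr (Nat.coprime_one_right q)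
  have h10 : q ∣ (h + 1) * e := hcop.dvd_of_dvd_mul_right hqd
  have h11 : (h + 1) * e = q * e + 2 * e := by rw [hq]; ring
  rw [h11] at h10
  have h12 : q ∣ 2 * e := (Nat.dvd_add_right (Dvd.intro _ rfl)).mp h10
  have he0 : 0 < e := by rw [← he]; exact Nat.card_pos
  have h13 := Nat.le_of_dvd (by omega) h12
  omega

end Simple

end Cfsg.Agent.Lib.helper16.Feit
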