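-- helper16: Feit's inequality for Zassenhaus groups: counting classes and characters (simple case).
import Mathlib
import Cfsg.Prelude.Def_LieExceptional
import Cfsg.Prelude.Def_Characters
import Cfsg.Prelude.Def_OddOrderChar
import Cfsg.Agent.Lib.helper16.FeitD
import Cfsg.Agent.Lib.helper82.CharQuot
import Cfsg.Agent.Lib.helper32.Gen5

set_option autoImplicit false
set_option linter.style.haveILetI false
set_option linter.unusedSectionVars false
set_option linter.unusedVariables false

namespace Cfsg.Agent.Lib.helper16.Feit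

open Cfsg Cfsg.Agent.Lib.helper16.ZassOdd
  Cfsg.Agent.Lib.helper16.ZassSimple Cfsg.Agent.Lib.helper16.ZassInd
  Cfsg.Agent.Lib.helper32 Cfsg.Agent.Lib.helper4
open scoped ComplexConjugate

universe u

section Simple

variable {G : Type u} {Ω : Type*} [Group G] [MulAction G Ω] [Fintype G] [Fintype Ω]
  [IsSimpleGroup G] (hZ : Cfsg.IsZassenhausGroup G Ω) {a b : Ω} (hab : a ≠ b)
  (hodd : Odd (Nat.card ↥(MulAction.stabilizer G a ⊓ MulAction.stabilizer G b : Subgroup G)))
  (H : Subgroup G) (hHa : H ≤ MulAction.stabilizer G a)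
  (hHcard : Nat.card H + 1 = Fintype.card Ω)
  (hHfix : ∀ u ∈ H, u ≠ 1 → ∀ c : Ω, u • c = c → c = a)

include hZ hab hodd hHa hHcard hHfix

/-- The group has more conjugacy classes than the point stabiliser. -/
theorem class_count (h e : ℕ) (hh : Fintype.card Ω = h + 1)
    (he : Nat.card ↥(MulAction.stabilizer G a ⊓ MulAction.stabilizer G b : Subgroup G) = e)
    (hlt : 2 * e < h - 1) :
    Nat.card (ConjClasses (MulAction.stabilizer G a)) + 1 ≤ Nat.card (ConjClasses G) := by
  classical
  have hodd' : Odd e := by rw [← he]; exact hodd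
  have hS := Cfsg.Agent.S0884.result hZ hab h e hh he hodd' hlt H hHa hHcard hHfix
  have hGsplit : Nat.card (ConjClasses G)
      = Nat.card {C : ConjClasses G // ∀ g : G, ConjClasses.mk g = C → g ∉ H}
        + Nat.card {C : ConjClasses G // ¬ ∀ g : G, ConjClasses.mk g = C → g ∉ H} := by
    rw [← Nat.card_sum]
    exact (Nat.card_congr (Equiv.sumCompl _)).symm
  have hLsplit : Nat.card (ConjClasses (MulAction.stabilizer G a))
      = Nat.card {D : ConjClasses (MulAction.stabilizer G a) //
          ∀ x : MulAction.stabilizer G a, ConjClasses.mk x = D → (x : G) ∈ H}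
        + Nat.card {D : ConjClasses (MulAction.stabilizer G a) //
          ¬ ∀ x : MulAction.stabilizer G a, ConjClasses.mk x = D → (x : G) ∈ H} := by
    rw [← Nat.card_sum]
    exact (Nat.card_congr (Equiv.sumCompl _)).symm
  have hmemG : ∀ D : {D : ConjClasses (MulAction.stabilizer G a) //
        ∀ x : MulAction.stabilizer G a, ConjClasses.mk x = D → (x : G) ∈ H},
      ¬ ∀ g : G, ConjClasses.mk g
        = ConjClasses.map (MulAction.stabilizer G a).subtype D.1 → g ∉ H := by
    intro D hall
    obtain ⟨x, hx⟩ := ConjClasses.mk_surjective D.1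
    exact hall (x : G) (by rw [← hx]; rfl) (D.2 x hx)
  have hinj : Nat.card {D : ConjClasses (MulAction.stabilizer G a) //
        ∀ x : MulAction.stabilizer G a, ConjClasses.mk x = D → (x : G) ∈ H}
      ≤ Nat.card {C : ConjClasses G // ¬ ∀ g : G, ConjClasses.mk g = C → g ∉ H} := by
    apply Nat.card_le_card_of_injective
      (fun D => (⟨ConjClasses.map (MulAction.stabilizer G a).subtype D.1, hmemG D⟩ :
        {C : ConjClasses G // ¬ ∀ g : G, ConjClasses.mk g = C → g ∉ H}))
    intro D₁ D₂ hD
    have hD' : ConjClasses.map (MulAction.stabilizer G a).subtype D₁.1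
        = ConjClasses.map (MulAction.stabilizer G a).subtype D₂.1 := congrArg Subtype.val hD
    obtain ⟨x, hx⟩ := ConjClasses.mk_surjective D₁.1
    obtain ⟨y, hy⟩ := ConjClasses.mk_surjective D₂.1
    have hxH := D₁.2 x hx
    have hyH := D₂.2 y hy
    rw [← hx, ← hy] at hD'
    have hD'' : ConjClasses.mk (x : G) = ConjClasses.mk (y : G) := hD'
    have hconj : IsConj (x : G) (y : G) := ConjClasses.mk_eq_mk_iff_isConj.mp hD''
    obtain ⟨g, hg⟩ := isConj_iff.mp hconj
    apply Subtype.ext
    rw [← hx, ← hy]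
    apply ConjClasses.mk_eq_mk_iff_isConj.mpr
    by_cases hx1 : (x : G) = 1
    · have hy1 : (y : G) = 1 := by rw [← hg, hx1, mul_one, mul_inv_cancel]
      have hxy : x = y := Subtype.ext (by rw [hx1, hy1])
      rw [hxy]
    · have hgH : g * (x : G) * g⁻¹ ∈ H := by rw [hg]; exact hyH
      have hga : g • a = a := zk_conj_fix hZ H hHa hHcard hHfix hxH hx1 hgH
      exact isConj_iff.mpr ⟨⟨g, hga⟩, Subtype.ext (by simpa using hg)⟩
  have hsurj : Nat.card {D : ConjClasses (MulAction.stabilizer G a) //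
        ¬ ∀ x : MulAction.stabilizer G a, ConjClasses.mk x = D → (x : G) ∈ H} + 1 ≤ e := by
    have hmemL : ∀ s : {s : MulAction.stabilizer G a // (s : G) • b = b ∧ s ≠ 1},
        ¬ ∀ x : MulAction.stabilizer G a,
          ConjClasses.mk x = ConjClasses.mk s.1 → (x : G) ∈ H := by
      intro s hall
      have hsH := hall s.1 rfl
      have hs1 : (s.1 : G) ≠ 1 := fun h => s.2.2 (Subtype.ext h)
      exact hab (hHfix _ hsH hs1 b s.2.1).symm
    have hsur : Function.Surjective
        (fun s : {s : MulAction.stabilizer G a // (s : G) • b = b ∧ s ≠ 1} =>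
          (⟨ConjClasses.mk s.1, hmemL s⟩ : {D : ConjClasses (MulAction.stabilizer G a) //
            ¬ ∀ x : MulAction.stabilizer G a, ConjClasses.mk x = D → (x : G) ∈ H})) := by
      rintro ⟨D, hD⟩
      have hD2 : ∃ x : MulAction.stabilizer G a, ConjClasses.mk x = D ∧ (x : G) ∉ H := by
        by_contra hcon
        push Not at hcon
        exact hD hcon
      obtain ⟨x, hxD, hxH⟩ := hD2
      obtain ⟨u, hu, hub⟩ := zk_conj_two hZ H hHa hHcard hHfix (Ne.symm hab) (x : G) x.2 hxH
      have hx1 : x ≠ 1 := fun h => hxH (by rw [h]; exact H.one_mem)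
      refine ⟨⟨⟨u, hHa hu⟩ * x * ⟨u, hHa hu⟩⁻¹, ?_, ?_⟩, ?_⟩
      · simpa using hub
      · intro h
        apply hx1
        have e5 : x = (⟨u, hHa hu⟩ : MulAction.stabilizer G a)⁻¹ *
            (⟨u, hHa hu⟩ * x * ⟨u, hHa hu⟩⁻¹) * ⟨u, hHa hu⟩ := by group
        rw [e5, h]; group
      · apply Subtype.ext
        show ConjClasses.mk (⟨u, hHa hu⟩ * x * ⟨u, hHa hu⟩⁻¹) = D
        rw [← hxD]
        exact ConjClasses.mk_eq_mk_iff_isConj.mpr
          (isConj_iff.mpr ⟨(⟨u, hHa hu⟩ : MulAction.stabilizer G a)⁻¹, by group⟩)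
    have hle := Nat.card_le_card_of_surjective _ hsur
    have hlt2 : Nat.card {s : MulAction.stabilizer G a // (s : G) • b = b ∧ s ≠ 1} < e := by
      rw [← he]
      have hφinj : Function.Injective
          (fun s : {s : MulAction.stabilizer G a // (s : G) • b = b ∧ s ≠ 1} =>
          (⟨(s.1 : G), (mem_two_stab _).mpr ⟨s.1.2, s.2.1⟩⟩ :
            ↥(MulAction.stabilizer G a ⊓ MulAction.stabilizer G b))) := by
        intro s t hst
        apply Subtype.ext
        apply Subtype.ext
        have h5 := congrArg Subtype.val hst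
        exact h5
      have hns : ¬ Function.Surjective
          (fun s : {s : MulAction.stabilizer G a // (s : G) • b = b ∧ s ≠ 1} =>
          (⟨(s.1 : G), (mem_two_stab _).mpr ⟨s.1.2, s.2.1⟩⟩ :
            ↥(MulAction.stabilizer G a ⊓ MulAction.stabilizer G b))) := by
        intro hs
        obtain ⟨s, hs1⟩ := hs 1
        have h5 := congrArg Subtype.val hs1
        exact s.2.2 (Subtype.ext h5)
      haveI : Fintype {s : MulAction.stabilizer G a // (s : G) • b = b ∧ s ≠ 1} :=
        Fintype.ofFinite _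
      haveI : Fintype ↥(MulAction.stabilizer G a ⊓ MulAction.stabilizer G b) :=
        Fintype.ofFinite _
      rw [Nat.card_eq_fintype_card, Nat.card_eq_fintype_card]
      exact Fintype.card_lt_of_injective_not_surjective _ hφinj hns
    omega
  omega

/-- Coherence of the characters induced from the kernel is incompatible with `2e < h - 1`. -/
theorem coherent_false [Fintype (MulAction.stabilizer G a)] (h e : ℕ)
    (hh : Fintype.card Ω = h + 1)
    (he : Nat.card ↥(MulAction.stabilizer G a ⊓ MulAction.stabilizer G b : Subgroup G) = e)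
    (hlt : 2 * e < h - 1)
    (hcoh : IsCoherent {χ : MulAction.stabilizer G a → ℂ |
        IsIrrCharacter (MulAction.stabilizer G a) χ ∧
        ∃ x : MulAction.stabilizer G a, (x : G) ∈ H ∧ χ x ≠ χ 1} {1}ᶜ
      (fun α : MulAction.stabilizer G a → ℂ => indFun (MulAction.stabilizer G a) α)) :
    False := by
  classical
  have F := frobTI_of_zass hZ H hHa hHcard hHfix
  have _iK := F.normalK
  rw [frobTI_relevant_eq F] at hcoh
  obtain ⟨-, τ₁, hτ₁, hτ₁α⟩ := hcoh
  obtain ⟨ψ₀, hψ₀⟩ := exists_psi hZ hab hodd H hHa hHcard hHfix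
  have hcases := irr_cases hZ hab hodd H hHa hHcard hHfix h e hh he hlt τ₁ hτ₁ hτ₁α ψ₀ hψ₀
  have hirr := frobTI_irr F
  have h3 := zk_three_le hZ H hHa hHcard hHfix
  have hlt' : Nat.card ↥(MulAction.stabilizer G a ⊓ MulAction.stabilizer G b : Subgroup G)
      < Fintype.card Ω - 2 := by rw [he, hh]; omega
  have hodd' : Odd e := by rw [← he]; exact hodd
  have _iG : Fintype (IrrCharacter G) := Fintype.ofFinite _
  have _iL : Fintype (IrrCharacter (MulAction.stabilizer G a)) := Fintype.ofFinite _
  -- characters trivial on `H` are not induced from `H`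
  have hS_of : ∀ η : MulAction.stabilizer G a → ℂ,
      (∀ x : MulAction.stabilizer G a, (x : G) ∈ H → η x = η 1) →
      η ∉ inducedIrrAbove (H.subgroupOf (MulAction.stabilizer G a)) ⊥ := by
    intro η htriv hmem
    rw [← frobTI_relevant_eq F] at hmem
    obtain ⟨-, x, hx, hne⟩ := hmem
    exact hne (htriv x hx)
  -- a nontrivial linear character trivial on `H`
  have hT2 : ∃ f : MulAction.stabilizer G a →* ℂˣ, f ≠ 1 ∧
      ∀ x : MulAction.stabilizer G a, (x : G) ∈ H → ((f x : ℂˣ) : ℂ) = 1 := by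
    obtain ⟨x₀, hx₀⟩ : ∃ x₀ : MulAction.stabilizer G a,
        x₀ ∉ H.subgroupOf (MulAction.stabilizer G a) := by
      by_contra hcon
      push Not at hcon
      exact F.ltK.ne (eq_top_iff.mpr fun x _ => hcon x)
    have hcomm : ∀ p q : MulAction.stabilizer G a ⧸ H.subgroupOf (MulAction.stabilizer G a),
        p * q = q * p := by
      intro p q
      obtain ⟨x, rfl⟩ := QuotientGroup.mk_surjective p
      obtain ⟨y, rfl⟩ := QuotientGroup.mk_surjective q
      rw [← QuotientGroup.mk_mul, ← QuotientGroup.mk_mul, QuotientGroup.eq]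
      have h5 := zk_comm_mem hZ hab hodd H hHa hHcard hHfix y⁻¹ x⁻¹
      have e5 : (x * y)⁻¹ * (y * x) = y⁻¹ * x⁻¹ * y⁻¹⁻¹ * x⁻¹⁻¹ := by group
      rw [e5]
      exact h5
    have hq1 : (QuotientGroup.mk x₀ :
        MulAction.stabilizer G a ⧸ H.subgroupOf (MulAction.stabilizer G a)) ≠ 1 := by
      intro h
      exact hx₀ ((QuotientGroup.eq_one_iff x₀).mp h)
    obtain ⟨φ, hφ⟩ := Cfsg.Agent.Lib.helper82.exists_hom_apply_ne_one hcomm hq1
    refine ⟨φ.comp (QuotientGroup.mk' (H.subgroupOf (MulAction.stabilizer G a))), ?_, ?_⟩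
    · intro h
      apply hφ
      have h5 := congrArg (fun ψ : MulAction.stabilizer G a →* ℂˣ => ψ x₀) h
      simpa using h5
    · intro x hx
      have h5 : (QuotientGroup.mk' (H.subgroupOf (MulAction.stabilizer G a))) x = 1 := by
        rw [QuotientGroup.mk'_apply, QuotientGroup.eq_one_iff]
        exact Subgroup.mem_subgroupOf.mpr hx
      rw [MonoidHom.comp_apply, h5, map_one, Units.val_one]
  -- a linear character trivial on `H` differs from its inverse
  have hfinv_ne : ∀ f : MulAction.stabilizer G a →* ℂˣ, f ≠ 1 →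
      (∀ x : MulAction.stabilizer G a, (x : G) ∈ H → ((f x : ℂˣ) : ℂ) = 1) →
      (fun y => ((f⁻¹ y : ℂˣ) : ℂ)) ≠ fun y => ((f y : ℂˣ) : ℂ) := by
    intro f hf1 hfH heq
    apply hf1
    apply MonoidHom.ext
    intro y
    have h5 : ((f y : ℂˣ) : ℂ)⁻¹ = ((f y : ℂˣ) : ℂ) := by
      have h6 := congrFun heq y
      simpa using h6
    have hsq : f y * f y = 1 := by
      apply Units.ext
      rw [Units.val_mul, Units.val_one]
      have hne : ((f y : ℂˣ) : ℂ) ≠ 0 := Units.ne_zero _
      calc ((f y : ℂˣ) : ℂ) * ((f y : ℂˣ) : ℂ)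
          = ((f y : ℂˣ) : ℂ)⁻¹ * ((f y : ℂˣ) : ℂ) := by rw [h5]
        _ = 1 := inv_mul_cancel₀ hne
    have hpow : f y ^ e = 1 := by
      have h6 := Subgroup.pow_index_mem (H.subgroupOf (MulAction.stabilizer G a)) y
      rw [zk_index hZ H hHa hHcard hHfix (Ne.symm hab), he] at h6
      have h7 := hfH (y ^ e) (Subgroup.mem_subgroupOf.mp h6)
      rw [← map_pow]
      apply Units.ext
      rw [Units.val_one]
      exact h7
    obtain ⟨r, hr⟩ := hodd'
    show f y = 1
    have h8 : f y ^ (2 * r + 1) = f y := by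
      rw [pow_succ, pow_mul, pow_two, hsq, one_pow, one_mul]
    rw [← h8, ← hr]
    exact hpow
  -- the finite sets of characters
  obtain ⟨one, hone⟩ : ∃ one : IrrCharacter (MulAction.stabilizer G a),
      (one : MulAction.stabilizer G a → ℂ) = fun _ => 1 :=
    ⟨⟨fun _ => 1, Cfsg.Agent.Lib.helper83.isIrrCharacter_one⟩, rfl⟩
  obtain ⟨Sfin, hSfin⟩ : ∃ Sfin : Finset (IrrCharacter (MulAction.stabilizer G a)),
      Sfin = Finset.univ.filter (fun η : IrrCharacter (MulAction.stabilizer G a) =>
        (η : MulAction.stabilizer G a → ℂ) ∈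
          inducedIrrAbove (H.subgroupOf (MulAction.stabilizer G a)) ⊥) := ⟨_, rfl⟩
  obtain ⟨Tfin, hTfin⟩ : ∃ Tfin : Finset (IrrCharacter (MulAction.stabilizer G a)),
      Tfin = Finset.univ.filter (fun η : IrrCharacter (MulAction.stabilizer G a) =>
        ¬ (η : MulAction.stabilizer G a → ℂ) ∈
          inducedIrrAbove (H.subgroupOf (MulAction.stabilizer G a)) ⊥) := ⟨_, rfl⟩
  obtain ⟨g₃, hg₃⟩ : ∃ g₃ : IrrCharacter (MulAction.stabilizer G a) → (G → ℂ),
      ∀ η, g₃ η = indFun (MulAction.stabilizer G a) (η : MulAction.stabilizer G a → ℂ) :=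
    ⟨fun η => indFun (MulAction.stabilizer G a) (η : MulAction.stabilizer G a → ℂ),
      fun _ => rfl⟩
  obtain ⟨g₄, hg₄⟩ : ∃ g₄ : IrrCharacter (MulAction.stabilizer G a) → (G → ℂ),
      ∀ η, g₄ η = if IsIrrCharacter G (τ₁ (η : MulAction.stabilizer G a → ℂ))
        then τ₁ (η : MulAction.stabilizer G a → ℂ)
        else -τ₁ (η : MulAction.stabilizer G a → ℂ) :=
    ⟨fun η => if IsIrrCharacter G (τ₁ (η : MulAction.stabilizer G a → ℂ))
        then τ₁ (η : MulAction.stabilizer G a → ℂ)
        else -τ₁ (η : MulAction.stabilizer G a → ℂ), fun _ => rfl⟩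
  have hmemT : ∀ η : IrrCharacter (MulAction.stabilizer G a), η ∈ Tfin ↔
      (η : MulAction.stabilizer G a → ℂ) ∉
        inducedIrrAbove (H.subgroupOf (MulAction.stabilizer G a)) ⊥ := by
    intro η
    rw [hTfin, Finset.mem_filter]
    exact ⟨fun h => h.2, fun h => ⟨Finset.mem_univ _, h⟩⟩
  have honeT : one ∈ Tfin := by
    rw [hmemT]
    apply hS_of
    intro x _
    rw [hone]
  -- from homomorphisms to members of `Tfin.erase one`
  have hhomT : ∀ f : MulAction.stabilizer G a →* ℂˣ, f ≠ 1 →
      (∀ x : MulAction.stabilizer G a, (x : G) ∈ H → ((f x : ℂˣ) : ℂ) = 1) →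
      (⟨fun y => ((f y : ℂˣ) : ℂ), Cfsg.Agent.Lib.helper82.isIrrCharacter_of_hom f⟩ :
        IrrCharacter (MulAction.stabilizer G a)) ∈ Tfin.erase one := by
    intro f hf1 hfH
    rw [Finset.mem_erase]
    constructor
    · intro h
      apply hom_fun_ne_one f hf1
      have h5 := congrArg Subtype.val h
      rw [hone] at h5
      exact h5
    · rw [hmemT]
      apply hS_of
      intro x hx
      show ((f x : ℂˣ) : ℂ) = ((f 1 : ℂˣ) : ℂ)
      rw [hfH x hx, map_one, Units.val_one]
  -- and back
  have hThom : ∀ η ∈ Tfin.erase one, ∃ f : MulAction.stabilizer G a →* ℂˣ,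
      (η : MulAction.stabilizer G a → ℂ) = (fun y => ((f y : ℂˣ) : ℂ)) ∧
      (∀ x : MulAction.stabilizer G a, (x : G) ∈ H → ((f x : ℂˣ) : ℂ) = 1) ∧ f ≠ 1 := by
    intro η hη
    rw [Finset.mem_erase, hmemT] at hη
    obtain ⟨f, hf, hfH⟩ := nonS_hom hZ hab hodd H hHa hHcard hHfix η η.2 hη.2
    refine ⟨f, funext hf, hfH, ?_⟩
    intro hf1
    apply hη.1
    apply Subtype.ext
    rw [hone]
    funext y
    rw [hf y, hf1]
    simp
  have hB3 : 2 * ((Tfin.erase one).image g₃).card ≤ (Tfin.erase one).card := by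
    rw [Finset.card_eq_sum_card_image g₃ (Tfin.erase one), mul_comm, ← smul_eq_mul]
    apply Finset.card_nsmul_le_sum
    intro c hc
    obtain ⟨η, hη, rfl⟩ := Finset.mem_image.mp hc
    obtain ⟨f, hηf, hfH, hf1⟩ := hThom η hη
    have hfiH : ∀ x : MulAction.stabilizer G a, (x : G) ∈ H → ((f⁻¹ x : ℂˣ) : ℂ) = 1 := by
      intro x hx
      have h5 := hfH x hx
      rw [MonoidHom.inv_apply, Units.val_inv_eq_inv_val, h5, inv_one]
    have hfi1 : f⁻¹ ≠ 1 := fun h => hf1 (MonoidHom.ext fun y => by
      have h8 := congrArg (fun φ : MulAction.stabilizer G a →* ℂˣ => φ y) h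
      simpa using h8)
    have hη' := hhomT f⁻¹ hfi1 hfiH
    have hne : (⟨fun y => ((f⁻¹ y : ℂˣ) : ℂ),
        Cfsg.Agent.Lib.helper82.isIrrCharacter_of_hom f⁻¹⟩ :
        IrrCharacter (MulAction.stabilizer G a)) ≠ η := by
      intro h
      apply hfinv_ne f hf1 hfH
      rw [← hηf]
      exact congrArg Subtype.val h
    have hg : g₃ (⟨fun y => ((f⁻¹ y : ℂˣ) : ℂ),
        Cfsg.Agent.Lib.helper82.isIrrCharacter_of_hom f⁻¹⟩ :
        IrrCharacter (MulAction.stabilizer G a)) = g₃ η := by
      rw [hg₃, hg₃, hηf]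
      exact ind_inv_eq hZ hab hodd H hHa hHcard hHfix hlt' f hfH hf1
    exact Finset.one_lt_card.mpr ⟨_, Finset.mem_filter.mpr ⟨hη', hg⟩, η,
      Finset.mem_filter.mpr ⟨hη, rfl⟩, hne⟩
  have hcover : ∀ χ : IrrCharacter G, (χ : G → ℂ) ∈
      (({fun _ => (1 : ℂ)} : Finset (G → ℂ)) ∪ {ψ₀} ∪ (Tfin.erase one).image g₃
        ∪ Sfin.image g₄) := by
    intro χ
    rcases hcases χ χ.2 with h | h | ⟨f, hf1, hfH, h⟩ | ⟨ξ, hξ, h⟩
    · apply Finset.mem_union_left
      apply Finset.mem_union_left
      apply Finset.mem_union_left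
      rw [Finset.mem_singleton]
      exact h
    · apply Finset.mem_union_left
      apply Finset.mem_union_left
      apply Finset.mem_union_right
      rw [Finset.mem_singleton]
      exact h
    · apply Finset.mem_union_left
      apply Finset.mem_union_right
      rw [Finset.mem_image]
      exact ⟨_, hhomT f hf1 hfH, by rw [hg₃]; exact h.symm⟩
    · apply Finset.mem_union_right
      rw [Finset.mem_image]
      refine ⟨⟨ξ, hirr ξ hξ⟩, ?_, ?_⟩
      · rw [hSfin, Finset.mem_filter]
        exact ⟨Finset.mem_univ _, hξ⟩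
      · rcases h with h | h
        · rw [hg₄, if_pos (by rw [← h]; exact χ.2), h]
        · have hnot : ¬ IsIrrCharacter G (τ₁ ξ) := by
            intro hirr1
            have hirr2 : IsIrrCharacter G (-τ₁ ξ) := by rw [← h]; exact χ.2
            obtain ⟨n1, hn1, e1⟩ := exists_pos_nat_degree hirr1
            obtain ⟨n2, hn2, e2⟩ := exists_pos_nat_degree hirr2
            rw [Pi.neg_apply, e1] at e2
            have h5 : ((n1 + n2 : ℕ) : ℂ) = 0 := by
              push_cast
              linear_combination -e2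
            have h6 : n1 + n2 = 0 := by exact_mod_cast h5
            omega
          rw [hg₄, if_neg hnot, h]
  have hA : Fintype.card (IrrCharacter G)
      ≤ 2 + ((Tfin.erase one).image g₃).card + (Sfin.image g₄).card := by
    have h5 : (Finset.univ.image (Subtype.val : IrrCharacter G → (G → ℂ))).card
        = Fintype.card (IrrCharacter G) := by
      rw [Finset.card_image_of_injective _ Subtype.val_injective, Finset.card_univ]
    rw [← h5]
    have h6 : Finset.univ.image (Subtype.val : IrrCharacter G → (G → ℂ)) ⊆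
        (({fun _ => (1 : ℂ)} : Finset (G → ℂ)) ∪ {ψ₀} ∪ (Tfin.erase one).image g₃
          ∪ Sfin.image g₄) := by
      intro χ hχ
      obtain ⟨χ', -, rfl⟩ := Finset.mem_image.mp hχ
      exact hcover χ'
    have h7 := Finset.card_le_card h6
    have h8 := Finset.card_union_le
      (({fun _ => (1 : ℂ)} : Finset (G → ℂ)) ∪ {ψ₀} ∪ (Tfin.erase one).image g₃)
      (Sfin.image g₄)
    have h9 := Finset.card_union_le (({fun _ => (1 : ℂ)} : Finset (G → ℂ)) ∪ {ψ₀})
      ((Tfin.erase one).image g₃)
    have h10 := Finset.card_union_le ({fun _ => (1 : ℂ)} : Finset (G → ℂ)) {ψ₀}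
    rw [Finset.card_singleton, Finset.card_singleton] at h10
    omega
  have hB4 : (Sfin.image g₄).card ≤ Sfin.card := Finset.card_image_le
  have hT' : (Tfin.erase one).card + 1 = Tfin.card := Finset.card_erase_add_one honeT
  have hsum : Sfin.card + Tfin.card = Fintype.card (IrrCharacter (MulAction.stabilizer G a)) := by
    rw [hSfin, hTfin, Finset.card_filter_add_card_filter_not, Finset.card_univ]
  have hT1 : 1 ≤ (Tfin.erase one).card := by
    obtain ⟨f, hf1, hfH⟩ := hT2
    exact Finset.card_pos.mpr ⟨_, hhomT f hf1 hfH⟩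
  have hcls := class_count hZ hab hodd H hHa hHcard hHfix h e hh he hlt
  have hkG := card_irr_eq_card_conjClasses (G := G)
  have hkL := card_irr_eq_card_conjClasses (G := MulAction.stabilizer G a)
  rw [Nat.card_eq_fintype_card] at hkG hkL
  omega

/-- **Feit's inequality** for simple Zassenhaus groups. -/
theorem feit_simple (h e : ℕ) (hh : Fintype.card Ω = h + 1)
    (he : Nat.card ↥(MulAction.stabilizer G a ⊓ MulAction.stabilizer G b : Subgroup G) = e) :
    h - 1 ≤ 2 * e ∨ (IsPGroup 2 H ∧ (∃ u v : H, u * v ≠ v * u) ∧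
      (commutator H).index ≤ 4 * e ^ 2 + 1) := by
  classical
  by_cases hlt : h - 1 ≤ 2 * e
  · exact Or.inl hlt
  have hlt' : 2 * e < h - 1 := by omega
  haveI : Fintype (MulAction.stabilizer G a) := Fintype.ofFinite _
  have F := frobTI_of_zass hZ H hHa hHcard hHfix
  have hidx := zk_index hZ H hHa hHcard hHfix (Ne.symm hab)
  rw [he] at hidx
  by_cases hHab : ∀ x ∈ H, ∀ y ∈ H, x * y = y * x
  · rcases frobTI_abelian_main F hHab with ⟨-, hcard, -⟩ | hcoh
    · exfalso
      rw [hidx] at hcard
      omega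
    · exact (coherent_false hZ hab hodd H hHa hHcard hHfix h e hh he hlt' hcoh).elim
  · by_cases hoddL : Odd (Nat.card (MulAction.stabilizer G a))
    · exact (coherent_false hZ hab hodd H hHa hHcard hHfix h e hh he hlt'
        (sibley' F hoddL F.nilpotent)).elim
    · rcases frobTI_nonabelian_even F hoddL hHab with hcoh | ⟨⟨m, hm⟩, hrel⟩
      · exact (coherent_false hZ hab hodd H hHa hHcard hHfix h e hh he hlt' hcoh).elim
      · right
        refine ⟨IsPGroup.of_card hm, ?_, ?_⟩
        · by_contra hcon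
          push Not at hcon
          apply hHab
          intro x hx y hy
          exact congrArg Subtype.val (hcon ⟨x, hx⟩ ⟨y, hy⟩)
        · have h5 : (commutator H).index = (⁅H, H⁆ : Subgroup G).relIndex H := by
            rw [← Subgroup.map_subtype_commutator, Subgroup.relIndex,
              Subgroup.subgroupOf, Subgroup.comap_map_eq_self_of_injective
                (Subgroup.subtype_injective H)]
          rw [h5, hidx] at *
          omega

end Simple

end Cfsg.Agent.Lib.helper16.Feit
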