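-- helper16: Feit's inequality for Zassenhaus groups: reduction to simple groups.
import Mathlib
import Cfsg.Prelude.Def_LieExceptional
import Cfsg.Agent.Lib.helper16.FeitE
import Cfsg.Agent.Lib.helper75.Zassenhaus

set_option autoImplicit false
set_option linter.style.haveILetI false
set_option linter.unusedSectionVars false
set_option linter.unusedVariables false

namespace Cfsg.Agent.Lib.helper16.Feit

open Cfsg Cfsg.Agent.Lib.helper16.ZassOdd Cfsg.Agent.Lib.helper16.ZassSimple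

universe u

/-- A subgroup `R ≤ M` normalised by `M` and acting regularly on the points. -/
structure RegNormal {G : Type u} {Ω : Type*} [Group G] [MulAction G Ω] (M R : Subgroup G)
    (a : Ω) : Prop where
  le : R ≤ M
  norm : ∀ m ∈ M, ∀ r ∈ R, m * r * m⁻¹ ∈ R
  trans : ∀ c : Ω, ∃ r ∈ R, r • a = c
  free : ∀ r ∈ R, ∀ c : Ω, r • c = c → r = 1

section Plain

variable {G : Type u} {Ω : Type*} [Group G] [MulAction G Ω]

/-- A Zassenhaus group has no regular normal subgroup. -/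
theorem no_regular_normal (hZ : Cfsg.IsZassenhausGroup G Ω) (a : Ω) (R : Subgroup G)
    (hn : R.Normal) (ht : ∀ c : Ω, ∃ r ∈ R, r • a = c)
    (hf : ∀ r ∈ R, ∀ c : Ω, r • c = c → r = 1) : False := by
  haveI : MulAction.IsPretransitive R Ω := by
    refine ⟨fun x y => ?_⟩
    obtain ⟨rx, hrx, hx⟩ := ht x
    obtain ⟨ry, hry, hy⟩ := ht y
    refine ⟨⟨ry * rx⁻¹, R.mul_mem hry (R.inv_mem hrx)⟩, ?_⟩
    show (ry * rx⁻¹) • x = y
    rw [mul_smul, ← hx, inv_smul_smul, hy]
  obtain ⟨c, hc⟩ := hZ.2.2.2.2 R hn inferInstance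
  apply hc
  rw [Subgroup.eq_bot_iff_forall]
  intro r hr
  have h1 : ((r : R) : G) • c = c := hr
  exact Subtype.ext (hf r r.2 c h1)

/-- A nontrivial normal subgroup of a Zassenhaus group is transitive. -/
theorem normal_trans (hZ : Cfsg.IsZassenhausGroup G Ω) (M : Subgroup G) (hn : M.Normal)
    (hM : M ≠ ⊥) : ∀ c d : Ω, ∃ m ∈ M, m • c = d := by
  haveI : MulAction.IsPreprimitive G Ω :=
    MulAction.isPreprimitive_of_is_two_pretransitive hZ.2.1
  have hfix : MulAction.fixedPoints M Ω ≠ Set.univ := by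
    intro h
    apply hM
    rw [Subgroup.eq_bot_iff_forall]
    intro m hm
    haveI := hZ.1
    apply FaithfulSMul.eq_of_smul_eq_smul (α := Ω)
    intro x
    have hx : x ∈ MulAction.fixedPoints M Ω := by rw [h]; exact Set.mem_univ x
    have h5 : (⟨m, hm⟩ : M) • x = x := hx ⟨m, hm⟩
    rw [one_smul]
    exact h5
  haveI := hn
  haveI : MulAction.IsPretransitive M Ω :=
    MulAction.IsQuasiPreprimitive.isPretransitive_of_normal hfix
  intro c d
  obtain ⟨m, hm⟩ := MulAction.exists_smul_eq M c d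
  exact ⟨m, m.2, hm⟩

/-- Conjugates of a regular subgroup normalised by a normal subgroup. -/
theorem regNormal_conj {a : Ω} (M : Subgroup G) (hn : M.Normal) (R : Subgroup G)
    (hR : RegNormal M R a) (g : G) :
    RegNormal M (R.comap (MulAut.conj g).toMonoidHom) a where
  le := by
    intro x hx
    have h1 : g * x * g⁻¹ ∈ R := hx
    have h2 := hn.conj_mem _ (hR.le h1) g⁻¹
    have e : g⁻¹ * (g * x * g⁻¹) * g⁻¹⁻¹ = x := by group
    rw [e] at h2
    exact h2
  norm := by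
    intro m hm x hx
    have h1 : g * x * g⁻¹ ∈ R := hx
    show g * (m * x * m⁻¹) * g⁻¹ ∈ R
    have h2 := hR.norm (g * m * g⁻¹) (hn.conj_mem m hm g) _ h1
    have e : g * m * g⁻¹ * (g * x * g⁻¹) * (g * m * g⁻¹)⁻¹ = g * (m * x * m⁻¹) * g⁻¹ := by
      group
    rw [e] at h2
    exact h2
  trans := by
    intro c
    obtain ⟨r₁, hr₁, h1⟩ := hR.trans (g • a)
    obtain ⟨r₂, hr₂, h2⟩ := hR.trans (g • c)
    refine ⟨g⁻¹ * (r₂ * r₁⁻¹) * g, ?_, ?_⟩
    · show g * (g⁻¹ * (r₂ * r₁⁻¹) * g) * g⁻¹ ∈ R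
      have e : g * (g⁻¹ * (r₂ * r₁⁻¹) * g) * g⁻¹ = r₂ * r₁⁻¹ := by group
      rw [e]
      exact R.mul_mem hr₂ (R.inv_mem hr₁)
    · rw [mul_smul, mul_smul, mul_smul, ← h1, inv_smul_smul, h2, inv_smul_smul]
  free := by
    intro x hx c hxc
    have h1 : g * x * g⁻¹ ∈ R := hx
    have h2 : (g * x * g⁻¹) • (g • c) = g • c := by
      rw [mul_smul, mul_smul, inv_smul_smul, hxc]
    have h3 := hR.free _ h1 _ h2
    have e : x = g⁻¹ * (g * x * g⁻¹) * g := by group
    rw [e, h3]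
    group

end Plain

section Kernel

variable {G : Type u} {Ω : Type*} [Group G] [MulAction G Ω] [Finite G] [Fintype Ω]
  (hZ : Cfsg.IsZassenhausGroup G Ω) {a : Ω} (H : Subgroup G)
  (hHa : H ≤ MulAction.stabilizer G a) (hHcard : Nat.card H + 1 = Fintype.card Ω)
  (hHfix : ∀ u ∈ H, u ≠ 1 → ∀ c : Ω, u • c = c → c = a)

include hZ hHa hHcard hHfix

/-- The stabiliser of `a` in a nontrivial normal subgroup is not contained in the kernel `H`. -/
theorem normal_not_le_kernel (M : Subgroup G) (hn : M.Normal) (hM : M ≠ ⊥) :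
    ∃ y ∈ M, y • a = a ∧ y ∉ H := by
  by_contra hcon
  push Not at hcon
  have htr := normal_trans hZ M hn hM
  have h3' := zk_three_le hZ H hHa hHcard hHfix
  have hst1 : MulAction.stabilizer M a ≠ ⊥ := by
    haveI : MulAction.IsPretransitive M Ω :=
      ⟨fun x y => by obtain ⟨m, hm, h⟩ := htr x y; exact ⟨⟨m, hm⟩, h⟩⟩
    obtain ⟨c, hc⟩ := hZ.2.2.2.2 M hn inferInstance
    obtain ⟨m, hm1⟩ := (Subgroup.ne_bot_iff_exists_ne_one).mp hc
    obtain ⟨m₀, hm₀, hm₀c⟩ := htr c a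
    intro hbot
    have hmc : ((m : M) : G) • c = c := m.2
    have h5 : (⟨m₀, hm₀⟩ * (m : M) * ⟨m₀, hm₀⟩⁻¹ : M) ∈ MulAction.stabilizer M a := by
      rw [MulAction.mem_stabilizer_iff]
      show (m₀ * ((m : M) : G) * m₀⁻¹) • a = a
      rw [mul_smul, mul_smul, ← hm₀c, inv_smul_smul, hmc]
    rw [hbot, Subgroup.mem_bot] at h5
    apply hm1
    apply Subtype.ext
    have e : (m : M) = (⟨m₀, hm₀⟩ : M)⁻¹ * (⟨m₀, hm₀⟩ * (m : M) * ⟨m₀, hm₀⟩⁻¹) * ⟨m₀, hm₀⟩ := by
      group
    rw [e, h5, mul_one, inv_mul_cancel]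
    rfl
  have hst2 : MulAction.stabilizer M a ≠ ⊤ := by
    intro htop
    obtain ⟨b, hb⟩ := Fintype.exists_ne_of_one_lt_card (by omega : 1 < Fintype.card Ω) a
    obtain ⟨m, hm, hmb⟩ := htr a b
    have h5 : (⟨m, hm⟩ : M) ∈ MulAction.stabilizer M a := by rw [htop]; exact Subgroup.mem_top _
    have h6 : m • a = a := h5
    exact hb (hmb.symm.trans h6)
  have h3 : ∀ x c : M, c • a ≠ a → x • a = a → x • (c • a) = c • a → x = 1 := by
    intro x c hca hxa hxc
    by_contra hx1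
    have hxH : (x : G) ∈ H := hcon x x.2 hxa
    have hx1' : (x : G) ≠ 1 := fun h => hx1 (Subtype.ext h)
    exact hca (hHfix x hxH hx1' _ hxc)
  obtain ⟨K, hKn, hKmem, hKtr⟩ :=
    Cfsg.Agent.Lib.helper75.exists_frobenius_kernel_of_action (A := M) (X := Ω) a hst1 hst2 h3
  apply no_regular_normal hZ a (K.map M.subtype)
  · constructor
    intro r hr g
    obtain ⟨k, hk, rfl⟩ := Subgroup.mem_map.mp hr
    rw [Subgroup.mem_map]
    refine ⟨⟨g * (k : G) * g⁻¹, hn.conj_mem _ k.2 g⟩, ?_, rfl⟩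
    rw [hKmem] at hk ⊢
    rcases hk with hk | hk
    · left
      apply Subtype.ext
      rw [hk]
      simp
    · right
      intro c hfix
      obtain ⟨m', hm', hm'a⟩ := htr a (g⁻¹ • ((c : G) • a))
      apply hk ⟨m', hm'⟩
      show (k : G) • (m' • a) = m' • a
      rw [hm'a]
      have h5 : (g * (k : G) * g⁻¹) • ((c : G) • a) = (c : G) • a := hfix
      rw [mul_smul, mul_smul] at h5
      have h6 := congrArg (fun q => g⁻¹ • q) h5
      simp only [inv_smul_smul] at h6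
      exact h6
  · intro c
    obtain ⟨m, hm, hmc⟩ := htr a c
    obtain ⟨k, hk, hka⟩ := hKtr ⟨m, hm⟩
    refine ⟨(k : G), Subgroup.mem_map.mpr ⟨k, hk, rfl⟩, ?_⟩
    rw [← hmc]
    exact hka
  · intro r hr c hrc
    obtain ⟨k, hk, rfl⟩ := Subgroup.mem_map.mp hr
    rw [hKmem] at hk
    rcases hk with hk | hk
    · rw [hk]; rfl
    · exfalso
      obtain ⟨m, hm, hmc⟩ := htr a c
      apply hk ⟨m, hm⟩
      show (k : G) • (m • a) = m • a
      rw [hmc]
      exact hrc

/-- The kernel `H` lies in every nontrivial normal subgroup. -/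
theorem kernel_le_normal (M : Subgroup G) (hn : M.Normal) (hM : M ≠ ⊥) : H ≤ M := by
  obtain ⟨y, hyM, hya, hyH⟩ := normal_not_le_kernel hZ H hHa hHcard hHfix M hn hM
  have hmem : ∀ u : H, (u : G) * y * (u : G)⁻¹ * y⁻¹ ∈ H ⊓ M := by
    intro u
    constructor
    · have h1 := zk_normal hZ H hHa hHcard hHfix y hya (u : G)⁻¹ (H.inv_mem u.2)
      have e : (u : G) * y * (u : G)⁻¹ * y⁻¹ = (u : G) * (y * (u : G)⁻¹ * y⁻¹) := by group
      rw [e]
      exact H.mul_mem u.2 h1
    · have h1 := hn.conj_mem y hyM (u : G)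
      exact M.mul_mem h1 (M.inv_mem hyM)
  have hinj : Function.Injective
      (fun u : H => (⟨(u : G) * y * (u : G)⁻¹ * y⁻¹, hmem u⟩ : ↥(H ⊓ M))) := by
    intro u v huv
    have h1 : (u : G) * y * (u : G)⁻¹ * y⁻¹ = (v : G) * y * (v : G)⁻¹ * y⁻¹ :=
      congrArg Subtype.val huv
    have h2 : (u : G) * y * (u : G)⁻¹ = (v : G) * y * (v : G)⁻¹ := mul_right_cancel h1
    have h3 : y * ((v : G)⁻¹ * (u : G)) = ((v : G)⁻¹ * (u : G)) * y := by
      have h4 : (v : G)⁻¹ * ((u : G) * y * (u : G)⁻¹) * (u : G)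
          = (v : G)⁻¹ * ((v : G) * y * (v : G)⁻¹) * (u : G) := by rw [h2]
      have e1 : (v : G)⁻¹ * ((u : G) * y * (u : G)⁻¹) * (u : G) = (v : G)⁻¹ * (u : G) * y := by
        group
      have e2 : (v : G)⁻¹ * ((v : G) * y * (v : G)⁻¹) * (u : G) = y * ((v : G)⁻¹ * (u : G)) := by
        group
      rw [e1, e2] at h4
      exact h4.symm
    by_contra hne
    have hw1 : (v : G)⁻¹ * (u : G) ≠ 1 := by
      intro h
      apply hne
      apply Subtype.ext
      have e : (u : G) = (v : G) * ((v : G)⁻¹ * (u : G)) := by group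
      rw [e, h, mul_one]
    exact hyH (zk_cent hZ H hHa hHcard hHfix _ (H.mul_mem (H.inv_mem v.2) u.2) hw1 y hya h3)
  have hcard : Nat.card H ≤ Nat.card ↥(H ⊓ M) := Nat.card_le_card_of_injective _ hinj
  have hle : H ⊓ M ≤ H := inf_le_left
  have heq : H ⊓ M = H := Subgroup.eq_of_le_of_card_ge hle hcard
  rw [← heq]
  exact inf_le_right

/-- A nontrivial normal subgroup has nontrivial two-point stabilisers. -/
theorem normal_two_stab {b : Ω} (hb : b ≠ a) (M : Subgroup G) (hn : M.Normal) (hM : M ≠ ⊥) :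
    ∃ s ∈ M, s ≠ 1 ∧ s • a = a ∧ s • b = b := by
  obtain ⟨y, hyM, hya, hyH⟩ := normal_not_le_kernel hZ H hHa hHcard hHfix M hn hM
  obtain ⟨u, hu, hub⟩ := zk_conj_two hZ H hHa hHcard hHfix hb y hya hyH
  have hua : u • a = a := hHa hu
  have huia : u⁻¹ • a = a := inv_smul_eq_iff.mpr hua.symm
  refine ⟨u * y * u⁻¹, hn.conj_mem y hyM u, ?_, ?_, hub⟩
  · intro h
    apply hyH
    have e : y = u⁻¹ * (u * y * u⁻¹) * u := by group
    rw [e, h, mul_one, inv_mul_cancel]
    exact H.one_mem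
  · rw [mul_smul, mul_smul, huia, hya, hua]

/-- Two regular subgroups normalised by a normal subgroup containing `H`: one lies in the
other, when the two-point stabilisers have odd order. -/
theorem regNormal_le
    (hodd : ∀ c d : Ω, c ≠ d →
      Odd (Nat.card ↥(MulAction.stabilizer G c ⊓ MulAction.stabilizer G d : Subgroup G)))
    (M : Subgroup G) (hHM : H ≤ M) (R R' : Subgroup G) (hR : RegNormal M R a)
    (hR' : RegNormal M R' a) : R ≤ R' := by
  by_cases hint : ∃ r₀ ∈ R, r₀ ∈ R' ∧ r₀ ≠ 1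
  · obtain ⟨r₀, hr₀, hr₀', hr₀1⟩ := hint
    intro r hr
    by_cases hr1 : r = 1
    · rw [hr1]; exact R'.one_mem
    have hra : r • a ≠ a := fun h => hr1 (hR.free r hr a h)
    have hr₀a : r₀ • a ≠ a := fun h => hr₀1 (hR.free r₀ hr₀ a h)
    obtain ⟨u, hu, hur⟩ := zk_trans hZ H hHa hHcard hHfix hr₀a hra
    have hua : u • a = a := hHa hu
    have huia : u⁻¹ • a = a := inv_smul_eq_iff.mpr hua.symm
    have hx : u * r₀ * u⁻¹ ∈ R := hR.norm u (hHM hu) r₀ hr₀
    have hx' : u * r₀ * u⁻¹ ∈ R' := hR'.norm u (hHM hu) r₀ hr₀'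
    have hxa : (u * r₀ * u⁻¹) • a = r • a := by rw [mul_smul, mul_smul, huia, hur]
    have h1 : r⁻¹ * (u * r₀ * u⁻¹) = 1 := by
      apply hR.free _ (R.mul_mem (R.inv_mem hr) hx) a
      rw [mul_smul, hxa, inv_smul_smul]
    have h2 : r = u * r₀ * u⁻¹ := by
      have e : u * r₀ * u⁻¹ = r * (r⁻¹ * (u * r₀ * u⁻¹)) := by group
      rw [e, h1, mul_one]
    rw [h2]
    exact hx'
  · exfalso
    push Not at hint
    have h3 := zk_three_le hZ H hHa hHcard hHfix
    obtain ⟨b, hb⟩ := Fintype.exists_ne_of_one_lt_card (by omega : 1 < Fintype.card Ω) a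
    obtain ⟨r, hr, hrb⟩ := hR.trans b
    obtain ⟨s, hs, hsb⟩ := hR'.trans b
    have hr1 : r ≠ 1 := by
      rintro rfl
      rw [one_smul] at hrb
      exact hb hrb.symm
    have hcomm : ∀ x ∈ R, ∀ y ∈ R', x * y = y * x := by
      intro x hx y hy
      have h1 : x * y * x⁻¹ * y⁻¹ ∈ R := by
        have h5 := hR.norm y (hR'.le hy) x⁻¹ (R.inv_mem hx)
        have e : x * y * x⁻¹ * y⁻¹ = x * (y * x⁻¹ * y⁻¹) := by group
        rw [e]
        exact R.mul_mem hx h5
      have h2 : x * y * x⁻¹ * y⁻¹ ∈ R' := by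
        have h5 := hR'.norm x (hR.le hx) y hy
        exact R'.mul_mem h5 (R'.inv_mem hy)
      have h4 := hint _ h1 h2
      have e : x * y = (x * y * x⁻¹ * y⁻¹) * (y * x) := by group
      rw [e, h4, one_mul]
    have hsr : s * r = r * s := (hcomm r hr s hs).symm
    have hta : (r⁻¹ * s) • a = a := by rw [mul_smul, hsb, ← hrb, inv_smul_smul]
    have htb : (r⁻¹ * s) • b = b := by
      have h5 : (r⁻¹ * s) • (r • a) = s • a := by
        rw [← mul_smul, mul_assoc, hsr, ← mul_assoc, inv_mul_cancel, one_mul]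
      rw [hrb, hsb] at h5
      exact h5
    have ht1 : r⁻¹ * s ≠ 1 := by
      intro h
      have hrs : s = r := by
        have e : s = r * (r⁻¹ * s) := by group
        rw [e, h, mul_one]
      exact hr1 (hint r hr (hrs ▸ hs))
    have hsrb : s • b = r • b := by
      have h5 : s • (r • a) = r • (s • a) := by rw [← mul_smul, ← mul_smul, hsr]
      rw [hrb, hsb] at h5
      exact h5
    have htrb : (r⁻¹ * s) • (r • b) = r • b := by
      have e1 : (r⁻¹ * s) • (r • b) = s • b := by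
        rw [← mul_smul, mul_assoc, hsr, ← mul_assoc, inv_mul_cancel, one_mul]
      rw [e1, hsrb]
    have hrbb : r • b ≠ b := fun h => hr1 (hR.free r hr b h)
    have hrba : r • b = a := by
      by_contra hne
      exact ht1 (hZ.2.2.1 (r⁻¹ * s) a b (r • b) (Ne.symm hb) (Ne.symm hrbb) (Ne.symm hne)
        hta htb htrb)
    have hrr : r * r = 1 := hR.free _ (R.mul_mem hr hr) a (by rw [mul_smul, hrb, hrba])
    have hss : s * s = 1 :=
      hR'.free _ (R'.mul_mem hs hs) a (by rw [mul_smul, hsb, hsrb, hrba])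
    have htt : (r⁻¹ * s) * (r⁻¹ * s) = 1 := by
      have hri : r⁻¹ = r := inv_eq_of_mul_eq_one_left hrr
      rw [hri]
      calc r * s * (r * s) = r * (s * r) * s := by group
        _ = r * (r * s) * s := by rw [hsr]
        _ = (r * r) * (s * s) := by group
        _ = 1 := by rw [hrr, hss, one_mul]
    have hmem : r⁻¹ * s ∈ MulAction.stabilizer G a ⊓ MulAction.stabilizer G b :=
      (mem_two_stab _).mpr ⟨hta, htb⟩
    exact ht1 (eq_one_of_mul_self_of_odd (hodd a b (Ne.symm hb)) hmem htt)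

/-- A normal subgroup containing `H` has no regular subgroup that it normalises. -/
theorem regNormal_false
    (hodd : ∀ c d : Ω, c ≠ d →
      Odd (Nat.card ↥(MulAction.stabilizer G c ⊓ MulAction.stabilizer G d : Subgroup G)))
    (M : Subgroup G) (hn : M.Normal) (hHM : H ≤ M) (R : Subgroup G) (hR : RegNormal M R a) :
    False := by
  apply no_regular_normal hZ a R ?_ hR.trans hR.free
  constructor
  intro r hr g
  have h1 := regNormal_le hZ H hHa hHcard hHfix hodd M hHM R _ hR (regNormal_conj M hn R hR g) hr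
  exact h1

/-- A nontrivial normal subgroup of a Zassenhaus group with two-point stabilisers of odd order
is again a Zassenhaus group. -/
theorem zass_normal
    (hodd : ∀ c d : Ω, c ≠ d →
      Odd (Nat.card ↥(MulAction.stabilizer G c ⊓ MulAction.stabilizer G d : Subgroup G)))
    {b : Ω} (hb : b ≠ a) (M : Subgroup G) (hn : M.Normal) (hM : M ≠ ⊥) :
    Cfsg.IsZassenhausGroup M Ω := by
  have hHM := kernel_le_normal hZ H hHa hHcard hHfix M hn hM
  have htr := normal_trans hZ M hn hM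
  refine ⟨?_, ?_, ?_, ?_, ?_⟩
  · haveI := hZ.1
    exact ⟨fun {m₁ m₂} h => Subtype.ext (FaithfulSMul.eq_of_smul_eq_smul (α := Ω) (fun x => h x))⟩
  · rw [MulAction.is_two_pretransitive_iff]
    intro x y z w hxy hzw
    obtain ⟨m₁, hm₁, h1⟩ := htr x a
    obtain ⟨m₂, hm₂, h2⟩ := htr z a
    have hy : m₁ • y ≠ a := by
      intro h
      apply hxy
      rw [← h1] at h
      exact (smul_left_cancel m₁ h).symm
    have hw : m₂ • w ≠ a := by
      intro h
      apply hzw
      rw [← h2] at h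
      exact (smul_left_cancel m₂ h).symm
    obtain ⟨u, hu, huy⟩ := zk_trans hZ H hHa hHcard hHfix hy hw
    have hua : u • a = a := hHa hu
    refine ⟨⟨m₂⁻¹ * u * m₁, M.mul_mem (M.mul_mem (M.inv_mem hm₂) (hHM hu)) hm₁⟩, ?_, ?_⟩
    · show (m₂⁻¹ * u * m₁) • x = z
      rw [mul_smul, mul_smul, h1, hua, ← h2, inv_smul_smul]
    · show (m₂⁻¹ * u * m₁) • y = w
      rw [mul_smul, mul_smul, huy, inv_smul_smul]
  · intro g x y z hxy hyz hxz hx hy hz
    exact Subtype.ext (hZ.2.2.1 (g : G) x y z hxy hyz hxz hx hy hz)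
  · obtain ⟨s, hs, hs1, hsa, hsb⟩ := normal_two_stab hZ H hHa hHcard hHfix hb M hn hM
    exact ⟨⟨s, hs⟩, fun h => hs1 (congrArg Subtype.val h), a, b, Ne.symm hb, hsa, hsb⟩
  · intro R₁ hR₁n hR₁t
    by_contra hcon
    push Not at hcon
    apply regNormal_false hZ H hHa hHcard hHfix hodd M hn hHM (R₁.map M.subtype)
    refine ⟨?_, ?_, ?_, ?_⟩
    · rintro _ ⟨r, -, rfl⟩
      exact r.2
    · rintro m hm _ ⟨r, hr, rfl⟩
      exact ⟨⟨m, hm⟩ * r * ⟨m, hm⟩⁻¹, hR₁n.conj_mem r hr ⟨m, hm⟩, rfl⟩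
    · intro c
      obtain ⟨r, hr⟩ := MulAction.exists_smul_eq R₁ a c
      exact ⟨((r : M) : G), ⟨(r : M), r.2, rfl⟩, hr⟩
    · rintro _ ⟨r, hr, rfl⟩ c hrc
      have h1 : (⟨r, hr⟩ : R₁) ∈ MulAction.stabilizer R₁ c := hrc
      rw [hcon c, Subgroup.mem_bot] at h1
      have h2 : r = 1 := congrArg Subtype.val h1
      rw [h2]
      rfl

end Kernel

end Cfsg.Agent.Lib.helper16.Feit
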