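-- helper16: Feit's inequality for Zassenhaus groups with two-point stabiliser of odd order.
import Mathlib
import Cfsg.Prelude.Def_LieExceptional
import Cfsg.Agent.Lib.helper16.FeitF

set_option autoImplicit false
set_option linter.style.haveILetI false
set_option linter.unusedSectionVars false
set_option linter.unusedVariables false

namespace Cfsg.Agent.Lib.helper16.Feit

open Cfsg Cfsg.Agent.Lib.helper16.ZassOdd Cfsg.Agent.Lib.helper16.ZassSimple

universe u

/-- **Feit's inequality**: in a Zassenhaus group of degree `h + 1` whose two-point stabiliser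
has odd order `e`, either `h - 1 ≤ 2e`, or the kernel `H` of a point stabiliser is a nonabelian
`2`-group with `|H : H'| ≤ 4e² + 1`.  By induction on the group order, passing to a proper
nontrivial normal subgroup (again a Zassenhaus group) when the group is not simple. -/
theorem feit_general {Ω : Type*} [Fintype Ω] :
    ∀ (n : ℕ) (G : Type u) [Group G] [Finite G] [MulAction G Ω],
    Nat.card G = n → ∀ (hZ : Cfsg.IsZassenhausGroup G Ω) {a b : Ω} (hab : a ≠ b) (h e : ℕ)
    (hh : Fintype.card Ω = h + 1)
    (he : Nat.card ↥(MulAction.stabilizer G a ⊓ MulAction.stabilizer G b : Subgroup G) = e)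
    (hodd : Odd e) (H : Subgroup G) (hHa : H ≤ MulAction.stabilizer G a)
    (hHcard : Nat.card H + 1 = Fintype.card Ω)
    (hHfix : ∀ u ∈ H, u ≠ 1 → ∀ c : Ω, u • c = c → c = a),
    h - 1 ≤ 2 * e ∨ (IsPGroup 2 H ∧ (∃ u v : H, u * v ≠ v * u) ∧
      (commutator H).index ≤ 4 * e ^ 2 + 1) := by
  intro n
  induction n using Nat.strong_induction_on with
  | _ n ih =>
    intro G _ _ _ hn hZ a b hab h e hh he hodd H hHa hHcard hHfix
    by_cases hsimple : IsSimpleGroup G
    · haveI := hsimple
      haveI : Fintype G := Fintype.ofFinite G
      exact feit_simple hZ hab (by rw [he]; exact hodd) H hHa hHcard hHfix h e hh he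
    · obtain ⟨u₀, hu₀, hu₀1⟩ := zk_exists_ne_one hZ H hHa hHcard hHfix
      have hex : ∃ M : Subgroup G, M.Normal ∧ M ≠ ⊥ ∧ M ≠ ⊤ := by
        by_contra hcon
        apply hsimple
        refine { toNontrivial := ⟨⟨u₀, 1, hu₀1⟩⟩, eq_bot_or_eq_top_of_normal := ?_ }
        intro M hM
        by_cases h1 : M = ⊥
        · exact Or.inl h1
        · right
          by_contra h2
          exact hcon ⟨M, hM, h1, h2⟩
      obtain ⟨M, hMn, hMbot, hMtop⟩ := hex
      have hoddall := odd_stab_all hZ hab e he hodd
      have hZM := zass_normal hZ H hHa hHcard hHfix hoddall (Ne.symm hab) M hMn hMbot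
      have hHM := kernel_le_normal hZ H hHa hHcard hHfix M hMn hMbot
      have hcardM : Nat.card M < n := by
        rw [← hn]
        exact lt_of_le_of_ne (Subgroup.card_le_card_group M)
          (fun h => hMtop (M.eq_top_of_card_eq h))
      have hdvd : Nat.card
          ↥(MulAction.stabilizer M a ⊓ MulAction.stabilizer M b : Subgroup M) ∣ e := by
        rw [← he]
        have hmem : ∀ x : ↥(MulAction.stabilizer M a ⊓ MulAction.stabilizer M b : Subgroup M),
            (M.subtype.comp (Subgroup.subtype _)) x ∈
              MulAction.stabilizer G a ⊓ MulAction.stabilizer G b := by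
          intro x
          have hx := (mem_two_stab (x : M)).mp x.2
          exact (mem_two_stab _).mpr ⟨hx.1, hx.2⟩
        apply Subgroup.card_dvd_of_injective
          ((M.subtype.comp (Subgroup.subtype _)).codRestrict _ hmem)
        rw [MonoidHom.injective_codRestrict]
        exact (Subgroup.subtype_injective M).comp (Subgroup.subtype_injective _)
      have he0 : 0 < e := by rw [← he]; exact Nat.card_pos
      have hle := Nat.le_of_dvd he0 hdvd
      have hcardH₁ : Nat.card (H.subgroupOf M) = Nat.card H :=
        Nat.card_congr (Subgroup.subgroupOfEquivOfLe hHM).toEquiv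
      have hres := ih (Nat.card M) hcardM M rfl hZM hab h _ hh rfl (Odd.of_dvd_nat hodd hdvd)
        (H.subgroupOf M) (fun x hx => hHa hx) (by rw [hcardH₁]; exact hHcard)
        (fun u hu hu1 c hc => hHfix (u : G) hu (fun h => hu1 (Subtype.ext h)) c hc)
      rcases hres with hres | ⟨hp, ⟨u, v, huv⟩, hidx⟩
      · left
        omega
      · right
        refine ⟨hp.of_equiv (Subgroup.subgroupOfEquivOfLe hHM), ?_, ?_⟩
        · refine ⟨Subgroup.subgroupOfEquivOfLe hHM u, Subgroup.subgroupOfEquivOfLe hHM v, ?_⟩
          intro h5
          apply huv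
          apply (Subgroup.subgroupOfEquivOfLe hHM).injective
          rw [map_mul, map_mul]
          exact h5
        · have h7 := Subgroup.index_map_equiv (commutator ↥(H.subgroupOf M))
            (Subgroup.subgroupOfEquivOfLe hHM)
          have h6 : (commutator ↥(H.subgroupOf M)).map
              ((Subgroup.subgroupOfEquivOfLe hHM : ↥(H.subgroupOf M) ≃* ↥H) :
                ↥(H.subgroupOf M) →* ↥H) = commutator ↥H := by
            rw [commutator_def, commutator_def, Subgroup.map_commutator,
              Subgroup.map_top_of_surjective _ (Subgroup.subgroupOfEquivOfLe hHM).surjective]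
          rw [h6] at h7
          rw [h7]
          have h8 : 4 * (Nat.card
              ↥(MulAction.stabilizer M a ⊓ MulAction.stabilizer M b : Subgroup M)) ^ 2
              ≤ 4 * e ^ 2 := by
            apply Nat.mul_le_mul_left
            exact Nat.pow_le_pow_left hle 2
          omega

end Cfsg.Agent.Lib.helper16.Feit
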