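-- helper16: a finite field from a commuting group of additive endomorphisms acting freely
-- with two orbits on the nonzero elements.
import Mathlib

set_option autoImplicit false
set_option linter.style.haveILetI false
set_option linter.unusedSectionVars false
set_option linter.unusedVariables false

namespace Cfsg.Agent.Lib.helper16.ZassAb

universe u v

section FieldOfAut

variable {A : Type u} [AddCommGroup A] [Finite A] {K' : Type v} [Group K'] [Finite K']

/-- Burnside count: a group acting by additive endomorphisms, freely on the nonzero elements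
of an invariant subgroup `B`, has order dividing `|B| - 1`. -/
theorem card_sub_one_dvd (ρ : K' →* AddMonoid.End A)
    (hfree : ∀ k : K', k ≠ 1 → ∀ x : A, ρ k x = x → x = 0)
    (B : AddSubgroup A) (hB : ∀ k : K', ∀ x ∈ B, ρ k x ∈ B) :
    Nat.card K' ∣ Nat.card B - 1 := by
  classical
  haveI : Fintype K' := Fintype.ofFinite _
  haveI : Fintype B := Fintype.ofFinite _
  letI act : MulAction K' B :=
    { smul := fun k x => ⟨ρ k x, hB k x x.2⟩
      one_smul := fun x => Subtype.ext (by
        show ρ 1 (x : A) = x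
        rw [map_one]; rfl)
      mul_smul := fun k k' x => Subtype.ext (by
        show ρ (k * k') (x : A) = ρ k (ρ k' (x : A))
        rw [map_mul]; rfl) }
  have hsmul : ∀ (k : K') (x : B), ((k • x : B) : A) = ρ k x := fun k x => rfl
  have hb := MulAction.sum_card_fixedBy_eq_card_orbits_mul_card_group K' B
  have hfix : ∀ k : K', Fintype.card (MulAction.fixedBy B k) =
      1 + if k = 1 then (Fintype.card B - 1) else 0 := by
    intro k
    by_cases hk : k = 1
    · subst hk
      rw [if_pos rfl]
      have h1 : Fintype.card (MulAction.fixedBy B (1 : K')) = Fintype.card B := by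
        apply Fintype.card_of_subtype (Finset.univ : Finset B)
        intro x
        simp [MulAction.mem_fixedBy]
      rw [h1]
      have : 0 < Fintype.card B := Fintype.card_pos
      omega
    · rw [if_neg hk, add_zero]
      apply Fintype.card_of_subtype ({0} : Finset B)
      intro x
      rw [Finset.mem_singleton, MulAction.mem_fixedBy]
      constructor
      · rintro rfl
        apply Subtype.ext
        rw [hsmul]
        simp
      · intro h
        apply Subtype.ext
        have h1 := congrArg Subtype.val h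
        rw [hsmul] at h1
        exact hfree k hk x h1
  rw [Finset.sum_congr rfl (fun k _ => hfix k), Finset.sum_add_distrib, Finset.sum_ite_eq'] at hb
  simp only [Finset.sum_const, Finset.card_univ, smul_eq_mul, mul_one, Finset.mem_univ,
    if_true] at hb
  rw [Nat.card_eq_fintype_card, Nat.card_eq_fintype_card]
  exact (Nat.dvd_add_right (dvd_refl (Fintype.card K'))).mp ⟨_, hb.trans (mul_comm _ _)⟩

/-- Irreducibility: the only invariant subgroups are the trivial ones. -/
theorem invariant_eq_bot_or_top (ρ : K' →* AddMonoid.End A)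
    (hfree : ∀ k : K', k ≠ 1 → ∀ x : A, ρ k x = x → x = 0)
    (hcard : 2 * Nat.card K' + 1 = Nat.card A)
    (B : AddSubgroup A) (hB : ∀ k : K', ∀ x ∈ B, ρ k x ∈ B) : B = ⊥ ∨ B = ⊤ := by
  have h1 := card_sub_one_dvd ρ hfree B hB
  have h2 : Nat.card B ∣ Nat.card A := AddSubgroup.card_addSubgroup_dvd_card B
  have hd : 0 < Nat.card K' := Nat.card_pos
  have hBpos : 0 < Nat.card B := Nat.card_pos
  obtain ⟨m, hm⟩ := h1
  rcases Nat.lt_or_ge m 1 with h | h
  · left
    have hm0 : m = 0 := by omega
    subst hm0
    have h3 : Nat.card B = 1 := by omega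
    exact AddSubgroup.eq_bot_of_card_eq B h3
  rcases Nat.lt_or_ge m 2 with h' | h'
  · exfalso
    have hm1 : m = 1 := by omega
    subst hm1
    have hB' : Nat.card B = Nat.card K' + 1 := by omega
    rw [hB', ← hcard] at h2
    have h3 : Nat.card K' + 1 ∣ Nat.card K' := by
      have h4 := Nat.dvd_sub h2 (dvd_refl (Nat.card K' + 1))
      have h5 : 2 * Nat.card K' + 1 - (Nat.card K' + 1) = Nat.card K' := by omega
      rwa [h5] at h4
    have := Nat.le_of_dvd hd h3
    omega
  · right
    have hge : Nat.card A ≤ Nat.card B := by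
      have : 2 * Nat.card K' ≤ Nat.card K' * m := by nlinarith
      omega
    exact AddSubgroup.eq_top_of_le_card B hge

/-- The field: a commutative group `K'` acting by additive endomorphisms on `A`, freely on
the nonzero elements and with `2|K'| + 1 = |A|`, makes `A` the additive group of a finite field
on which `K'` acts as multiplication by the nonzero squares. -/
theorem exists_field (ρ : K' →* AddMonoid.End A)
    (hcomm : ∀ k k' : K', k * k' = k' * k)
    (hfree : ∀ k : K', k ≠ 1 → ∀ x : A, ρ k x = x → x = 0)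
    (hcard : 2 * Nat.card K' + 1 = Nat.card A) (e₁ : A) (he₁ : e₁ ≠ 0) :
    ∃ (F : Type) (_ : Field F) (_ : Fintype F) (ψ : F → A) (θ : K' → F),
      Function.Bijective ψ ∧ (∀ z w, ψ (z + w) = ψ z + ψ w) ∧ ψ 1 = e₁ ∧
      Fintype.card F = Nat.card A ∧ ringChar F ≠ 2 ∧
      (∀ k z, ρ k (ψ z) = ψ (θ k * z)) ∧
      (∀ k, θ k ≠ 0 ∧ IsSquare (θ k)) ∧
      (∀ κ : F, κ ≠ 0 → IsSquare κ → ∃ k, θ k = κ) ∧
      (∀ k k', θ (k * k') = θ k * θ k') := by
  classical
  haveI : Finite (AddMonoid.End A) :=
    Finite.of_injective (fun f : AddMonoid.End A => (f : A → A)) DFunLike.coe_injective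
  have hS : ∀ x ∈ Set.range ρ, ∀ y ∈ Set.range ρ, x * y = y * x := by
    rintro _ ⟨k, rfl⟩ _ ⟨k', rfl⟩
    rw [← map_mul, ← map_mul, hcomm]
  obtain ⟨R, hR⟩ : ∃ R : Subring (AddMonoid.End A), R = Subring.closure (Set.range ρ) :=
    ⟨_, rfl⟩
  haveI hRc : IsMulCommutative R := by rw [hR]; exact Subring.isMulCommutative_closure hS
  letI cr : CommRing R := { (inferInstance : Ring R) with mul_comm := fun a b => mul_comm' a b }
  have hρR : ∀ k, ρ k ∈ R := fun k => by rw [hR]; exact Subring.subset_closure ⟨k, rfl⟩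
  have hcommR : ∀ (ε : R) (k : K') (x : A),
      (ε : AddMonoid.End A) (ρ k x) = ρ k ((ε : AddMonoid.End A) x) := by
    intro ε k x
    have h1 : ε * ⟨ρ k, hρR k⟩ = ⟨ρ k, hρR k⟩ * ε := mul_comm' _ _
    have h2 := congrArg (fun r : R => (r : AddMonoid.End A) x) h1
    exact h2
  have hker : ∀ ε : R, ε ≠ 0 → ∀ x : A, (ε : AddMonoid.End A) x = 0 → x = 0 := by
    intro ε hε x hx
    let B : AddSubgroup A :=
      { carrier := {x | (ε : AddMonoid.End A) x = 0}
        zero_mem' := map_zero _
        add_mem' := fun {x y} hx hy => by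
          simp only [Set.mem_ofPred_eq] at *
          rw [map_add, hx, hy, add_zero]
        neg_mem' := fun {x} hx => by
          simp only [Set.mem_ofPred_eq] at *
          rw [map_neg, hx, neg_zero] }
    have hB := invariant_eq_bot_or_top ρ hfree hcard B (by
      intro k y hy
      show (ε : AddMonoid.End A) (ρ k y) = 0
      rw [hcommR]
      have hy' : (ε : AddMonoid.End A) y = 0 := hy
      rw [hy', map_zero])
    rcases hB with hB | hB
    · have h1 : x ∈ B := hx
      rw [hB] at h1
      exact (AddSubgroup.mem_bot).mp h1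
    · exfalso
      apply hε
      apply Subtype.ext
      apply AddMonoidHom.ext
      intro y
      have h1 : y ∈ B := by rw [hB]; trivial
      exact h1
  have hd : 0 < Nat.card K' := Nat.card_pos
  have hRnt : (0 : R) ≠ 1 := by
    intro h
    have h1 := congrArg (fun r : R => (r : AddMonoid.End A) e₁) h
    exact he₁ h1.symm
  haveI : Nontrivial R := ⟨⟨0, 1, hRnt⟩⟩
  haveI : NoZeroDivisors R := ⟨fun {a b} hab => by
    by_contra hcon
    push Not at hcon
    obtain ⟨ha, hb⟩ := hcon
    apply hb
    apply Subtype.ext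
    apply AddMonoidHom.ext
    intro x
    have h1 := congrArg (fun r : R => (r : AddMonoid.End A) x) hab
    exact hker a ha _ h1⟩
  haveI hdom : IsDomain R := NoZeroDivisors.to_isDomain R
  haveI : Fintype R := Fintype.ofFinite R
  letI fld : Field R := Fintype.fieldOfDomain R
  have hev_inj : ∀ ε ε' : R,
      (ε : AddMonoid.End A) e₁ = (ε' : AddMonoid.End A) e₁ → ε = ε' := by
    intro ε ε' h
    by_contra hne
    have h1 : ((ε - ε' : R) : AddMonoid.End A) e₁ = 0 := by
      show (ε : AddMonoid.End A) e₁ - (ε' : AddMonoid.End A) e₁ = 0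
      rw [h, sub_self]
    exact he₁ (hker _ (sub_ne_zero.mpr hne) e₁ h1)
  have hev_surj : ∀ x : A, ∃ ε : R, (ε : AddMonoid.End A) e₁ = x := by
    let B : AddSubgroup A :=
      { carrier := {x | ∃ ε : R, (ε : AddMonoid.End A) e₁ = x}
        zero_mem' := ⟨0, rfl⟩
        add_mem' := by
          rintro _ _ ⟨ε, rfl⟩ ⟨ε', rfl⟩
          exact ⟨ε + ε', rfl⟩
        neg_mem' := by
          rintro _ ⟨ε, rfl⟩
          exact ⟨-ε, rfl⟩ }
    have hB := invariant_eq_bot_or_top ρ hfree hcard B (by
      rintro k _ ⟨ε, rfl⟩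
      exact ⟨⟨ρ k, hρR k⟩ * ε, rfl⟩)
    rcases hB with hB | hB
    · exfalso
      have h1 : e₁ ∈ B := ⟨1, rfl⟩
      rw [hB] at h1
      exact he₁ (AddSubgroup.mem_bot.mp h1)
    · intro x
      have h1 : x ∈ B := by rw [hB]; trivial
      exact h1
  have hcardR : Fintype.card R = Nat.card A := by
    rw [← Nat.card_eq_fintype_card]
    exact Nat.card_congr (Equiv.ofBijective (fun ε : R => (ε : AddMonoid.End A) e₁)
      ⟨fun ε ε' h => hev_inj ε ε' h, hev_surj⟩)
  have hcardR' : Fintype.card R = 2 * Nat.card K' + 1 := by rw [hcardR, hcard]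
  have hchar2 : ringChar R ≠ 2 := by
    intro h
    have := FiniteField.even_card_of_char_two h
    omega
  let ρR : K' →* R := MonoidHom.codRestrict ρ R hρR
  have hρRv : ∀ k, ((ρR k : R) : AddMonoid.End A) = ρ k := fun k => rfl
  have hρR_inj : Function.Injective ρR := by
    intro k k' h
    by_contra hne
    have h1 : k⁻¹ * k' ≠ 1 := fun h2 => hne (by rw [inv_mul_eq_one] at h2; exact h2)
    apply he₁
    apply hfree _ h1 e₁
    have h3 : ρR (k⁻¹ * k') = 1 := by
      rw [map_mul, ← h, ← map_mul, inv_mul_cancel, map_one]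
    have h4 := congrArg (fun r : R => (r : AddMonoid.End A) e₁) h3
    exact h4
  have hρR_ne : ∀ k, ρR k ≠ 0 := by
    intro k h
    have h1 : ρR k * ρR k⁻¹ = 1 := by rw [← map_mul, mul_inv_cancel, map_one]
    rw [h, zero_mul] at h1
    exact hRnt h1
  have hρR_sq : ∀ k, IsSquare (ρR k) := by
    intro k
    rw [FiniteField.isSquare_iff hchar2 (hρR_ne k)]
    have h1 : Fintype.card R / 2 = Nat.card K' := by omega
    rw [h1, ← map_pow, pow_card_eq_one', map_one]
  have hsq_mem : ∀ κ : R, κ ≠ 0 → IsSquare κ → ∃ k, ρR k = κ := by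
    intro κ hκ hsq
    obtain ⟨μ, rfl⟩ := hsq
    have hμ : μ ≠ 0 := fun h => hκ (by rw [h, mul_zero])
    let H : Subgroup Rˣ := (ρR.toHomUnits).range
    have hinj : Function.Injective ρR.toHomUnits := by
      intro k k' h
      apply hρR_inj
      have h1 := congrArg (fun u : Rˣ => (u : R)) h
      simpa [MonoidHom.coe_toHomUnits] using h1
    have hH : Nat.card H = Nat.card K' :=
      (Nat.card_congr (Equiv.ofInjective _ hinj)).symm
    have hU : Nat.card Rˣ = 2 * Nat.card K' := by
      rw [Nat.card_units, Nat.card_eq_fintype_card, hcardR']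
      omega
    have hidx : H.index = 2 := by
      have h1 := Subgroup.card_mul_index H
      rw [hH, hU] at h1
      have h2 : Nat.card K' * H.index = Nat.card K' * 2 := by rw [h1]; ring
      exact Nat.eq_of_mul_eq_mul_left hd h2
    have hmem := Subgroup.mul_self_mem_of_index_two hidx (Units.mk0 μ hμ)
    obtain ⟨k, hk⟩ := hmem
    refine ⟨k, ?_⟩
    have h1 := congrArg (fun u : Rˣ => (u : R)) hk
    simpa [MonoidHom.coe_toHomUnits] using h1
  -- transport to a field in `Type`
  obtain ⟨p, hp⟩ : ∃ p : ℕ, p = ringChar R := ⟨_, rfl⟩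
  haveI hcp : CharP R p := by rw [hp]; exact ringChar.charP R
  have hpp : p.Prime := CharP.char_is_prime R p
  haveI : Fact p.Prime := ⟨hpp⟩
  obtain ⟨n, -, hn⟩ := FiniteField.card R p
  letI : Algebra (ZMod p) R := ZMod.algebra R p
  let e' := GaloisField.algEquivGaloisFieldOfFintype p (n : ℕ) hn
  haveI : Fintype (GaloisField p n) := Fintype.ofFinite _
  have hcardF : Fintype.card (GaloisField p n) = Nat.card A := by
    rw [← Nat.card_eq_fintype_card, GaloisField.card p n n.ne_zero, ← hn, hcardR]
  refine ⟨GaloisField p n, inferInstance, inferInstance,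
    fun z => ((e'.symm z : R) : AddMonoid.End A) e₁, fun k => e' (ρR k), ?_, ?_, ?_, hcardF, ?_,
    ?_, ?_, ?_, ?_⟩
  · constructor
    · intro z w h
      exact e'.symm.injective (hev_inj _ _ h)
    · intro x
      obtain ⟨ε, hε⟩ := hev_surj x
      exact ⟨e' ε, by simp only [AlgEquiv.symm_apply_apply]; exact hε⟩
  · intro z w
    simp only [map_add]
    rfl
  · simp only [map_one]
    rfl
  · intro h
    have := FiniteField.even_card_of_char_two h
    omega
  · intro k z
    simp only [map_mul, AlgEquiv.symm_apply_apply]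
    rfl
  · intro k
    refine ⟨fun h => hρR_ne k ?_, (hρR_sq k).map e'⟩
    have h' : e' (ρR k) = 0 := h
    exact e'.injective (by rw [h', map_zero])
  · intro κ hκ hsq
    have h1 : e'.symm κ ≠ 0 := fun h => hκ (by
      have := congrArg e' h
      rwa [AlgEquiv.apply_symm_apply, map_zero] at this)
    obtain ⟨k, hk⟩ := hsq_mem (e'.symm κ) h1 (hsq.map e'.symm)
    refine ⟨k, ?_⟩
    show e' (ρR k) = κ
    rw [hk, AlgEquiv.apply_symm_apply]
  · intro k k'
    show e' (ρR (k * k')) = e' (ρR k) * e' (ρR k')
    rw [map_mul, map_mul]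

end FieldOfAut

end Cfsg.Agent.Lib.helper16.ZassAb
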