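-- helper16: a group acting on a projective line over a finite field of odd characteristic,
-- generated by the maps `z ↦ κ z + β` (`κ` a square) and `z ↦ c / z` (`-c` a square), of the
-- right order, is `PSL(2, F)`.
import Mathlib
import Cfsg.Agent.Lib.helper16.Sharp3
import Cfsg.Agent.Lib.helper7.CardSL

set_option autoImplicit false
set_option linter.style.haveILetI false
set_option linter.unusedSectionVars false
set_option linter.unusedVariables false

namespace Cfsg.Agent.Lib.helper16.ZassAb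

open Matrix Projectivization Cfsg.Agent.Lib.helper7 Cfsg.Agent.Lib.helper16
open scoped LinearAlgebra.Projectivization

section Iso

/-- An element of `GL₂(F)` whose determinant is a square lies in the image of `PSL₂(F)`. -/
theorem exists_psl_of_det_sq {F : Type*} [Field F] (g : GL (Fin 2) F)
    (h : IsSquare (g.val.det)) :
    ∃ m : Matrix.ProjectiveSpecialLinearGroup (Fin 2) F,
      Matrix.ProjectiveSpecialLinearGroup.toPGL m = Matrix.ProjGenLinGroup.mk g := by
  obtain ⟨r, hr⟩ := h
  have hdet0 : g.val.det ≠ 0 := by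
    have h1 := g.det.ne_zero
    rwa [Matrix.GeneralLinearGroup.val_det_apply] at h1
  have hr0 : r ≠ 0 := by
    rintro rfl
    rw [mul_zero] at hr
    exact hdet0 hr
  have hdet : (r⁻¹ • g.val).det = 1 := by
    rw [Matrix.det_smul, Fintype.card_fin, hr]
    field_simp
  obtain ⟨S, hS⟩ : ∃ S : Matrix.SpecialLinearGroup (Fin 2) F, S.val = r⁻¹ • g.val :=
    ⟨⟨r⁻¹ • g.val, hdet⟩, rfl⟩
  refine ⟨(S : Matrix.ProjectiveSpecialLinearGroup (Fin 2) F), ?_⟩
  rw [Matrix.ProjectiveSpecialLinearGroup.toPGL_mk, Matrix.ProjGenLinGroup.mk_eq_mk_iff]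
  refine ⟨Units.mk0 r hr0, Units.ext ?_⟩
  simp only [Units.val_mul, Matrix.SpecialLinearGroup.coe_GL_coe_matrix,
    Matrix.GeneralLinearGroup.coe_scalar, hS]
  ext i j
  simp [Matrix.mul_apply, Matrix.scalar_apply, Matrix.diagonal_apply, Fin.sum_univ_two]
  fin_cases j <;> simp <;> field_simp

theorem det_affMat {F : Type*} [Field F] (κ β : F) (hκ : κ ≠ 0) :
    (affMat κ β hκ).val.det = κ := by
  unfold affMat
  rw [Matrix.GeneralLinearGroup.val_mkOfDetNeZero, det_fin_two_of]
  ring

theorem det_swapMat {F : Type*} [Field F] : (swapMat : GL (Fin 2) F).val.det = -1 := by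
  unfold swapMat
  rw [Matrix.GeneralLinearGroup.val_mkOfDetNeZero, det_fin_two_of]
  ring

/-- The recognition theorem for `PSL(2, F)` acting on the projective line. -/
theorem psl_iso_of_coords {F : Type} [Field F] [Fintype F] {G : Type*} {Ω : Type*} [Group G]
    [MulAction G Ω] [FaithfulSMul G Ω] (a : Ω) (P : F → Ω)
    (hPinj : Function.Injective P) (hPa : ∀ z, P z ≠ a) (hPsurj : ∀ y, y ≠ a → ∃ z, P z = y)
    (hstab : ∀ g : G, g • a = a →
      ∃ κ β : F, κ ≠ 0 ∧ IsSquare κ ∧ ∀ z, g • P z = P (z * κ + β))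
    (htr : ∀ β : F, ∃ u : G, u • a = a ∧ ∀ z, u • P z = P (z + β))
    (t : G) (c : F) (hc : c ≠ 0) (hcsq : IsSquare (-c)) (hta : t • a = P 0) (ht0 : t • P 0 = a)
    (ht : ∀ z, z ≠ 0 → t • P z = P (c / z))
    (h2 : (2 : F) ≠ 0)
    (hcard : 2 * Nat.card G = Fintype.card F * (Fintype.card F ^ 2 - 1)) :
    Nonempty (G ≃* Matrix.ProjectiveSpecialLinearGroup (Fin 2) F) := by
  classical
  let φ : Ω → ℙ F (Fin 2 → F) := fun y =>
    if h : y = a then p1 else pt (Classical.choose (hPsurj y h))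
  have hφa : φ a = p1 := by simp only [φ, dif_pos rfl]
  have hφP : ∀ z, φ (P z) = pt z := by
    intro z
    simp only [φ, dif_neg (hPa z)]
    congr 1
    exact hPinj (Classical.choose_spec (hPsurj (P z) (hPa z)))
  have hcases : ∀ y : Ω, y = a ∨ ∃ z, P z = y := fun y => by
    by_cases h : y = a
    · exact Or.inl h
    · exact Or.inr (hPsurj y h)
  have hφinj : Function.Injective φ := by
    intro y y' h
    rcases hcases y with rfl | ⟨z, rfl⟩ <;> rcases hcases y' with h' | ⟨z', rfl⟩
    · exact h'.symm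
    · rw [hφa, hφP] at h
      exact absurd h.symm (pt_ne_p1 _)
    · rw [h', hφa, hφP] at h
      exact absurd h (pt_ne_p1 _)
    · rw [hφP, hφP] at h
      rw [pt_injective h]
  have hφsurj : Function.Surjective φ := by
    intro q
    rcases eq_p1_or_pt q with rfl | ⟨c, rfl⟩
    · exact ⟨a, hφa⟩
    · exact ⟨P c, hφP c⟩
  let M : Subgroup G :=
    { carrier := {g | ∃ m : Matrix.ProjectiveSpecialLinearGroup (Fin 2) F,
        ∀ y : Ω, φ (g • y) = Matrix.ProjectiveSpecialLinearGroup.toPGL m • φ y}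
      one_mem' := ⟨1, fun y => by rw [one_smul, map_one, one_smul]⟩
      mul_mem' := by
        rintro g g' ⟨m, hm⟩ ⟨m', hm'⟩
        exact ⟨m * m', fun y => by rw [mul_smul, hm, hm', map_mul, mul_smul]⟩
      inv_mem' := by
        rintro g ⟨m, hm⟩
        exact ⟨m⁻¹, fun y => by rw [map_inv, eq_inv_smul_iff, ← hm, smul_inv_smul]⟩ }
  have hstabM : ∀ g : G, g • a = a → g ∈ M := by
    intro g hg
    obtain ⟨κ, β, hκ, hκsq, hgz⟩ := hstab g hg
    obtain ⟨m, hm⟩ := exists_psl_of_det_sq (affMat κ β hκ) (by rw [det_affMat]; exact hκsq)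
    refine ⟨m, ?_⟩
    intro y
    rw [hm]
    rcases hcases y with rfl | ⟨z, rfl⟩
    · rw [hg, hφa, affMat_smul_p1]
    · rw [hgz, hφP, hφP, affMat_smul_pt]
  have htM : t ∈ M := by
    obtain ⟨m, hm⟩ := exists_psl_of_det_sq (affMat c 0 hc * swapMat) (by
      rw [Units.val_mul, Matrix.det_mul, det_affMat, det_swapMat, mul_neg, mul_one]
      exact hcsq)
    refine ⟨m, ?_⟩
    intro y
    rw [hm, map_mul, mul_smul]
    rcases hcases y with rfl | ⟨z, rfl⟩
    · rw [hta, hφP, hφa, swapMat_smul_p1, affMat_smul_pt, zero_mul, zero_add]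
    · by_cases hz : z = 0
      · rw [hz, ht0, hφa, hφP, swapMat_smul_pt_zero, affMat_smul_p1]
      · rw [ht z hz, hφP, hφP, swapMat_smul_pt _ hz, affMat_smul_pt]
        congr 1
        rw [add_zero, div_eq_inv_mul]
  have hMtop : ∀ g : G, g ∈ M := by
    intro g
    by_cases hg : g • a = a
    · exact hstabM g hg
    · obtain ⟨z, hz⟩ := hPsurj (g • a) hg
      obtain ⟨u, hua, hu⟩ := htr (-z)
      have h2 : (t * u * g) • a = a := by
        rw [mul_smul, mul_smul, ← hz, hu, add_neg_cancel, ht0]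
      have h3 : g = u⁻¹ * t⁻¹ * (t * u * g) := by group
      rw [h3]
      exact M.mul_mem (M.mul_mem (M.inv_mem (hstabM u hua)) (M.inv_mem htM)) (hstabM _ h2)
  have hPGLfaith : ∀ m m' : Matrix.ProjGenLinGroup (Fin 2) F,
      (∀ q : ℙ F (Fin 2 → F), m • q = m' • q) → m = m' := by
    intro m m' h
    have h1 : m'⁻¹ * m = 1 := by
      apply eq_one_of_fix_std
      · rw [mul_smul, h, inv_smul_smul]
      · rw [mul_smul, h, inv_smul_smul]
      · rw [mul_smul, h, inv_smul_smul]
    exact (inv_mul_eq_one.mp h1).symm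
  choose ψ hψ using hMtop
  have hψuniq : ∀ (g : G) (m : Matrix.ProjectiveSpecialLinearGroup (Fin 2) F),
      (∀ y, φ (g • y) = Matrix.ProjectiveSpecialLinearGroup.toPGL m • φ y) → ψ g = m := by
    intro g m hm
    apply Matrix.ProjectiveSpecialLinearGroup.toPGL_injective
    apply hPGLfaith
    intro q
    obtain ⟨y, rfl⟩ := hφsurj q
    rw [← hψ g y, hm y]
  let Ψ : G →* Matrix.ProjectiveSpecialLinearGroup (Fin 2) F :=
    { toFun := ψ
      map_one' := hψuniq 1 1 (fun y => by rw [one_smul, map_one, one_smul])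
      map_mul' := fun g g' => hψuniq _ _ (fun y => by rw [mul_smul, hψ, hψ, map_mul, mul_smul]) }
  have hΨ : ∀ g y, φ (g • y) = Matrix.ProjectiveSpecialLinearGroup.toPGL (Ψ g) • φ y := hψ
  have hinj : Function.Injective Ψ := by
    rw [injective_iff_map_eq_one]
    intro g hg
    apply FaithfulSMul.eq_of_smul_eq_smul (α := Ω)
    intro y
    rw [one_smul]
    apply hφinj
    rw [hΨ, hg, map_one, one_smul]
  have hcardP := two_mul_card_PSL2 (F := F) rfl h2
  have hq3 : 3 ≤ Fintype.card F := by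
    have h1 : 1 < Fintype.card F := Fintype.one_lt_card
    by_contra hcon
    have h2' : Fintype.card F = 2 := by omega
    have h3 : ((Fintype.card F : ℕ) : F) = 0 := Nat.cast_card_eq_zero F
    rw [h2'] at h3
    exact h2 (by exact_mod_cast h3)
  have hpos : 0 < Fintype.card F * (Fintype.card F ^ 2 - 1) := by
    apply Nat.mul_pos (by omega)
    have : 3 ^ 2 ≤ Fintype.card F ^ 2 := Nat.pow_le_pow_left hq3 2
    omega
  haveI : Finite (Matrix.ProjectiveSpecialLinearGroup (Fin 2) F) :=
    Nat.finite_of_card_ne_zero (by omega)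
  have hcardeq : Nat.card G = Nat.card (Matrix.ProjectiveSpecialLinearGroup (Fin 2) F) := by
    omega
  have hbij : Function.Bijective Ψ :=
    (Nat.bijective_iff_injective_and_card Ψ).mpr ⟨hinj, hcardeq⟩
  exact ⟨MulEquiv.ofBijective Ψ hbij⟩

end Iso

end Cfsg.Agent.Lib.helper16.ZassAb
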