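-- helper16: the functional equation satisfied by the involution swapping `∞` and `0` in a
-- Zassenhaus group whose point stabiliser is the group of maps `z ↦ κ z + β`, `κ` a square.
import Mathlib

set_option autoImplicit false
set_option linter.style.haveILetI false
set_option linter.unusedSectionVars false
set_option linter.unusedVariables false

namespace Cfsg.Agent.Lib.helper16.ZassAb

section FE

variable {F : Type*} [Field F] [Fintype F] [DecidableEq F]

theorem qc_ne_zero {x : F} (h : quadraticChar F x = 1 ∨ quadraticChar F x = -1) : x ≠ 0 := by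
  rintro rfl
  rw [quadraticChar_zero] at h
  omega

theorem qc_inv {x : F} (hx : x ≠ 0) : quadraticChar F x⁻¹ = quadraticChar F x := by
  have h := map_mul (quadraticChar F) x x⁻¹
  rw [mul_inv_cancel₀ hx, map_one] at h
  rcases quadraticChar_dichotomy hx with h' | h' <;> rw [h'] at h ⊢ <;> omega

theorem qc_div {x y : F} (hy : y ≠ 0) :
    quadraticChar F (x / y) = quadraticChar F x * quadraticChar F y := by
  rw [div_eq_mul_inv, map_mul, qc_inv hy]

theorem qc_sq {x : F} (hx : x ≠ 0) : quadraticChar F (x ^ 2) = 1 := quadraticChar_sq_one' hx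

omit [Fintype F] [DecidableEq F] in
theorem sq_one_cases {z : F} (h : z ^ 2 = 1) : z = 1 ∨ z = -1 := by
  have h5 : (z - 1) * (z + 1) = 0 := by linear_combination h
  rcases mul_eq_zero.mp h5 with h' | h'
  · left; linear_combination h'
  · right; linear_combination h'

theorem exists_notMem_of_card_lt (S : Finset F) (h : S.card < Fintype.card F) : ∃ x : F, x ∉ S := by
  have h' : S.card < (Finset.univ : Finset F).card := by rwa [Finset.card_univ]
  obtain ⟨x, -, hx⟩ := Finset.exists_mem_notMem_of_card_lt_card h'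
  exact ⟨x, hx⟩

omit [Fintype F] [DecidableEq F] in
/-- Two nonzero squares differing by one, from an element with `u ≠ 0`, `u² ≠ ±1`. -/
theorem exists_sq_add_one (h2 : (2 : F) ≠ 0) (u : F) (hu0 : u ≠ 0) (hu1 : u ^ 2 ≠ 1)
    (hu2 : u ^ 2 ≠ -1) : ∃ x y : F, x ≠ 0 ∧ y ≠ 0 ∧ x ^ 2 + 1 = y ^ 2 := by
  refine ⟨(u - u⁻¹) / 2, (u + u⁻¹) / 2, ?_, ?_, ?_⟩
  · intro h
    apply hu1
    have h1 : u - u⁻¹ = 0 := by
      rcases div_eq_zero_iff.mp h with h | h
      · exact h
      · exact absurd h h2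
    have h3 : u = u⁻¹ := sub_eq_zero.mp h1
    calc u ^ 2 = u * u := sq u
      _ = u * u⁻¹ := by rw [← h3]
      _ = 1 := mul_inv_cancel₀ hu0
  · intro h
    apply hu2
    have h1 : u + u⁻¹ = 0 := by
      rcases div_eq_zero_iff.mp h with h | h
      · exact h
      · exact absurd h h2
    have h3 : u = -u⁻¹ := eq_neg_of_add_eq_zero_left h1
    calc u ^ 2 = u * u := sq u
      _ = u * (-u⁻¹) := by rw [← h3]
      _ = -1 := by rw [mul_neg, mul_inv_cancel₀ hu0]
  · field_simp
    ring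

/-- If `-1` is a square, some nonsquare `s` has `s + 1` a nonzero square. -/
theorem exists_nonsq_add_one (hchar : ringChar F ≠ 2) (hm1 : quadraticChar F (-1) = 1) :
    ∃ s : F, quadraticChar F s = -1 ∧ quadraticChar F (s + 1) = 1 := by
  by_contra hcon
  push Not at hcon
  have h2 : (2 : F) ≠ 0 := Ring.two_ne_zero hchar
  have hstep : ∀ s : F, quadraticChar F s = -1 → quadraticChar F (s + 1) = -1 := by
    intro s hs
    have h0 : s + 1 ≠ 0 := by
      intro h
      have h1 : s = -1 := eq_neg_of_add_eq_zero_left h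
      rw [h1, hm1] at hs
      omega
    rcases quadraticChar_dichotomy h0 with h | h
    · exact absurd h (hcon s hs)
    · exact h
  have hstep2 : ∀ r s : F, quadraticChar F s = -1 → quadraticChar F (s + r ^ 2) = -1 := by
    intro r s hs
    by_cases hr : r = 0
    · rw [hr]; simpa using hs
    · have hr2 : r ^ 2 ≠ 0 := pow_ne_zero 2 hr
      have h1 : quadraticChar F (s / r ^ 2) = -1 := by
        rw [qc_div hr2, hs, qc_sq hr]; norm_num
      have h3 := hstep _ h1
      have h4 : s + r ^ 2 = r ^ 2 * (s / r ^ 2 + 1) := by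
        rw [mul_add, mul_div_cancel₀ _ hr2, mul_one]
      rw [h4, map_mul, qc_sq hr, h3]; norm_num
  obtain ⟨ν, hν⟩ := quadraticChar_exists_neg_one hchar
  obtain ⟨i, hi⟩ := (quadraticChar_one_iff_isSquare (neg_ne_zero.mpr one_ne_zero)).mp hm1
  have h5 := hstep2 (i * ((-ν - 1) / 2)) _ (hstep2 ((-ν + 1) / 2) ν hν)
  have h6 : ν + ((-ν + 1) / 2) ^ 2 + (i * ((-ν - 1) / 2)) ^ 2 = 0 := by
    rw [mul_pow, sq i, ← hi]
    field_simp
    ring
  rw [h6, quadraticChar_zero] at h5
  omega

/-- Once the involution is `z ↦ c / z`, the functional equation forces `-c` to be a square. -/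
theorem fe_final (hcard : 3 ≤ Fintype.card F) (τ : F → F)
    (h4 : ∀ α, α ≠ 0 → ∃ κ, κ ≠ 0 ∧ IsSquare κ ∧
      ∀ s, s ≠ 0 → s + τ (-α) ≠ 0 → τ (τ (s + τ (-α)) + α) = κ * τ s + τ α)
    (c : F) (hc : c ≠ 0) (hτ : ∀ z, z ≠ 0 → τ z = c / z) : IsSquare (-c) := by
  obtain ⟨κ, hκ0, hκsq, hκ⟩ := h4 1 one_ne_zero
  have hβ : τ (-1) = -c := by
    rw [hτ _ (neg_ne_zero.mpr one_ne_zero), div_neg, div_one]
  obtain ⟨s, hs⟩ := exists_notMem_of_card_lt ({0, c} : Finset F)
    (lt_of_le_of_lt Finset.card_le_two (by omega))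
  have hs0 : s ≠ 0 := fun h => hs (by simp [h])
  have hsc : s ≠ c := fun h => hs (by simp [h])
  have hw : s + -c ≠ 0 := fun h => hsc (by linear_combination h)
  have e := hκ s hs0 (by rw [hβ]; exact hw)
  rw [hβ, hτ _ hw] at e
  have h5 : c / (s + -c) + 1 = s / (s + -c) := by field_simp; ring
  rw [h5, hτ _ (div_ne_zero hs0 hw), hτ s hs0, hτ 1 one_ne_zero] at e
  have e1 : c / (s / (s + -c)) * s = c * (s + -c) := by
      field_simp
      try ring
  have e2 : (κ * (c / s) + c / 1) * s = κ * c + c * s := by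
      field_simp
      try ring
  have e3 : κ * c = -c * c := by
    have this : c / (s / (s + -c)) * s = (κ * (c / s) + c / 1) * s := by rw [e]
    rw [e1, e2] at this
    linear_combination -this
  have e4 : κ = -c := mul_right_cancel₀ hc e3
  rw [← e4]
  exact hκsq

/-- The functional equation: an involutory map `τ` of the nonzero elements, anti-equivariant
under multiplication by squares and satisfying the stabiliser identity, is `z ↦ c / z` with
`-c` a square. -/
theorem fe_solve (hchar : ringChar F ≠ 2) (hcard : 5 ≤ Fintype.card F) (τ : F → F)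
    (h1 : ∀ z, z ≠ 0 → τ z ≠ 0)
    (h2 : ∀ z, z ≠ 0 → τ (τ z) = z)
    (h3 : ∀ κ z, κ ≠ 0 → IsSquare κ → z ≠ 0 → τ (κ * z) = κ⁻¹ * τ z)
    (h4 : ∀ α, α ≠ 0 → ∃ κ, κ ≠ 0 ∧ IsSquare κ ∧
      ∀ s, s ≠ 0 → s + τ (-α) ≠ 0 → τ (τ (s + τ (-α)) + α) = κ * τ s + τ α) :
    ∃ c, c ≠ 0 ∧ IsSquare (-c) ∧ ∀ z, z ≠ 0 → τ z = c / z := by
  have h2ne : (2 : F) ≠ 0 := Ring.two_ne_zero hchar
  obtain ⟨ν, hν⟩ := quadraticChar_exists_neg_one hchar
  have hν0 : ν ≠ 0 := qc_ne_zero (Or.inr hν)
  obtain ⟨c₁, hc₁⟩ : ∃ c₁, c₁ = τ 1 := ⟨_, rfl⟩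
  obtain ⟨c₂, hc₂⟩ : ∃ c₂, c₂ = ν * τ ν := ⟨_, rfl⟩
  have hc₁0 : c₁ ≠ 0 := by rw [hc₁]; exact h1 1 one_ne_zero
  have hc₂0 : c₂ ≠ 0 := by rw [hc₂]; exact mul_ne_zero hν0 (h1 ν hν0)
  have hQ : ∀ z, quadraticChar F z = 1 → τ z = c₁ / z := by
    intro z hz
    have hz0 : z ≠ 0 := qc_ne_zero (Or.inl hz)
    have h := h3 z 1 hz0 ((quadraticChar_one_iff_isSquare hz0).mp hz) one_ne_zero
    rw [mul_one] at h
    rw [h, hc₁, div_eq_inv_mul]
  have hN : ∀ z, quadraticChar F z = -1 → τ z = c₂ / z := by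
    intro z hz
    have hz0 : z ≠ 0 := qc_ne_zero (Or.inr hz)
    have hκ0 : z / ν ≠ 0 := div_ne_zero hz0 hν0
    have hκ : quadraticChar F (z / ν) = 1 := by rw [qc_div hν0, hz, hν]; norm_num
    have h := h3 (z / ν) ν hκ0 ((quadraticChar_one_iff_isSquare hκ0).mp hκ) hν0
    rw [div_mul_cancel₀ z hν0] at h
    rw [h, hc₂]
    field_simp
  have hall : c₁ = c₂ → ∀ z, z ≠ 0 → τ z = c₁ / z := by
    intro h z hz
    rcases quadraticChar_dichotomy hz with h' | h'
    · exact hQ z h'
    · rw [h]; exact hN z h'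
  have hfin : c₁ = c₂ → ∃ c, c ≠ 0 ∧ IsSquare (-c) ∧ ∀ z, z ≠ 0 → τ z = c / z := fun h =>
    ⟨c₁, hc₁0, fe_final (by omega) τ h4 c₁ hc₁0 (hall h), hall h⟩
  rcases quadraticChar_dichotomy hc₁0 with hχ1 | hχ1
  swap
  · apply hfin
    have e3 := h2 1 one_ne_zero
    rw [← hc₁, hN c₁ hχ1] at e3
    rw [div_eq_one_iff_eq hc₁0] at e3
    exact e3.symm
  have hχ2 : quadraticChar F c₂ = 1 := by
    rcases quadraticChar_dichotomy hc₂0 with h | h
    · exact h
    · exfalso
      have e1 : τ ν = c₂ / ν := hN ν hν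
      have e2 : quadraticChar F (c₂ / ν) = 1 := by rw [qc_div hν0, h, hν]; norm_num
      have e3 := h2 ν hν0
      rw [e1, hQ _ e2] at e3
      have e4 : c₁ = c₂ := by
        have e5 : c₁ / (c₂ / ν) * (c₂ / ν) = c₁ := div_mul_cancel₀ c₁ (div_ne_zero hc₂0 hν0)
        rw [e3, mul_div_cancel₀ _ hν0] at e5
        exact e5.symm
      rw [e4, h] at hχ1
      omega
  apply hfin
  rcases quadraticChar_dichotomy (neg_ne_zero.mpr (one_ne_zero (α := F))) with hm1 | hm1
  swap
  · -- `-1` is a nonsquare: contradiction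
    exfalso
    obtain ⟨u, hu⟩ := exists_notMem_of_card_lt ({0, 1, -1} : Finset F)
      (lt_of_le_of_lt Finset.card_le_three (by omega))
    have hu0 : u ≠ 0 := fun h => hu (by simp [h])
    have hu1 : u ^ 2 ≠ 1 := by
      intro h
      rcases sq_one_cases h with h | h
      · exact hu (by simp [h])
      · exact hu (by simp [h])
    have hu2 : u ^ 2 ≠ -1 := by
      intro h
      have h' := qc_sq hu0
      rw [h, hm1] at h'
      omega
    obtain ⟨x, y, hx, hy, hxy⟩ := exists_sq_add_one h2ne u hu0 hu1 hu2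
    obtain ⟨κ, hκ0, hκsq, hκ⟩ := h4 1 one_ne_zero
    have hβ : τ (-1) = -c₂ := by rw [hN _ hm1, div_neg, div_one]
    obtain ⟨S, hS⟩ : ∃ S, S = -c₂ * x ^ 2 := ⟨_, rfl⟩
    obtain ⟨W, hW⟩ : ∃ W, W = -c₂ * y ^ 2 := ⟨_, rfl⟩
    have hs : quadraticChar F S = -1 := by
      rw [hS, map_mul, neg_eq_neg_one_mul, map_mul, hm1, hχ2, qc_sq hx]; norm_num
    have hw : quadraticChar F W = -1 := by
      rw [hW, map_mul, neg_eq_neg_one_mul, map_mul, hm1, hχ2, qc_sq hy]; norm_num
    have hs0 := qc_ne_zero (Or.inr hs)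
    have hw0 := qc_ne_zero (Or.inr hw)
    have hsw : S + -c₂ = W := by rw [hS, hW, ← hxy]; ring
    have e := hκ S hs0 (by rw [hβ, hsw]; exact hw0)
    rw [hβ, hsw, hN _ hw] at e
    have h5 : c₂ / W + 1 = S / W := by
      rw [eq_div_iff hw0, add_mul, div_mul_cancel₀ _ hw0, ← hsw]; ring
    have hv : quadraticChar F (S / W) = 1 := by rw [qc_div hw0, hs, hw]; norm_num
    rw [h5, hQ _ hv, hN _ hs, ← hc₁] at e
    have e1 : c₁ / (S / W) * S = c₁ * W := by
      field_simp
      try ring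
    have e2 : (κ * (c₂ / S) + c₁) * S = κ * c₂ + c₁ * S := by
      field_simp
      try ring
    have e3 : κ * c₂ = -c₁ * c₂ := by
      have h6 : c₁ / (S / W) * S = (κ * (c₂ / S) + c₁) * S := by rw [e]
      rw [e1, e2, ← hsw] at h6
      linear_combination -h6
    have e4 : κ = -c₁ := mul_right_cancel₀ hc₂0 e3
    have h7 : quadraticChar F κ = 1 := (quadraticChar_one_iff_isSquare hκ0).mpr hκsq
    rw [e4, neg_eq_neg_one_mul, map_mul, hm1, hχ1] at h7
    omega
  · -- `-1` is a square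
    have hα : quadraticChar F (-c₁) = 1 := by
      rw [neg_eq_neg_one_mul, map_mul, hm1, hχ1]; norm_num
    have hα0 : -c₁ ≠ 0 := neg_ne_zero.mpr hc₁0
    by_cases hu4 : ∃ u : F, u ≠ 0 ∧ u ^ 4 ≠ 1
    · obtain ⟨κ, hκ0, hκsq, hκ⟩ := h4 (-c₁) hα0
      have hβ : τ (- -c₁) = 1 := by rw [neg_neg, hc₁]; exact h2 1 one_ne_zero
      have hτα : τ (-c₁) = -1 := by rw [hQ _ hα, div_neg, div_self hc₁0]
      rw [hβ, hτα] at hκ
      have hgen : ∀ s, s ≠ 0 → quadraticChar F (s + 1) = 1 →
          τ (-c₁ * s / (s + 1)) = κ * τ s + -1 := by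
        intro s hs0 hs1
        have hs10 := qc_ne_zero (Or.inl hs1)
        have e := hκ s hs0 hs10
        rw [hQ _ hs1] at e
        have h5 : c₁ / (s + 1) + -c₁ = -c₁ * s / (s + 1) := by
          rw [eq_div_iff hs10, add_mul, div_mul_cancel₀ _ hs10]; ring
        rw [h5] at e
        exact e
      have hvχ : ∀ s, s ≠ 0 → quadraticChar F (s + 1) = 1 →
          quadraticChar F (-c₁ * s / (s + 1)) = quadraticChar F s := by
        intro s hs0 hs1
        rw [qc_div (qc_ne_zero (Or.inl hs1)), map_mul, hα, hs1]; ring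
      obtain ⟨u, hu0, hu4⟩ := hu4
      have hu1 : u ^ 2 ≠ 1 := fun h => hu4 (by rw [show u ^ 4 = (u ^ 2) ^ 2 by ring, h]; ring)
      have hu2 : u ^ 2 ≠ -1 := fun h => hu4 (by rw [show u ^ 4 = (u ^ 2) ^ 2 by ring, h]; ring)
      obtain ⟨x, y, hx, hy, hxy⟩ := exists_sq_add_one h2ne u hu0 hu1 hu2
      obtain ⟨S, hS⟩ : ∃ S, S = x ^ 2 := ⟨_, rfl⟩
      have hs1 : quadraticChar F S = 1 := by rw [hS]; exact qc_sq hx
      have hs1' : quadraticChar F (S + 1) = 1 := by rw [hS, hxy]; exact qc_sq hy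
      have hS0 : S ≠ 0 := qc_ne_zero (Or.inl hs1)
      have hS10 : S + 1 ≠ 0 := qc_ne_zero (Or.inl hs1')
      have e := hgen _ hS0 hs1'
      have hv := hvχ _ hS0 hs1'
      rw [hs1] at hv
      rw [hQ _ hv, hQ _ hs1] at e
      have e1 : c₁ / (-c₁ * S / (S + 1)) * S = -(S + 1) := by
        rw [div_div_eq_mul_div, div_mul_eq_mul_div, div_eq_iff (mul_ne_zero hα0 hS0)]
        ring
      have e2 : (κ * (c₁ / S) + -1) * S = κ * c₁ - S := by
        rw [add_mul, mul_assoc, div_mul_cancel₀ _ hS0]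
        ring
      have hκc : κ * c₁ = -1 := by
        have h6 : c₁ / (-c₁ * S / (S + 1)) * S = (κ * (c₁ / S) + -1) * S := by rw [e]
        rw [e1, e2] at h6
        linear_combination -h6
      obtain ⟨s, hs, hs'⟩ := exists_nonsq_add_one hchar hm1
      have hs0 := qc_ne_zero (Or.inr hs)
      have hs10 : s + 1 ≠ 0 := qc_ne_zero (Or.inl hs')
      have e' := hgen s hs0 hs'
      have hv' := hvχ s hs0 hs'
      rw [hs] at hv'
      rw [hN _ hv', hN _ hs] at e'
      have e1' : c₂ / (-c₁ * s / (s + 1)) * (c₁ * s) = -c₂ * (s + 1) := by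
        rw [div_div_eq_mul_div, div_mul_eq_mul_div, div_eq_iff (mul_ne_zero hα0 hs0)]
        ring
      have e2' : (κ * (c₂ / s) + -1) * (c₁ * s) = κ * c₁ * c₂ - c₁ * s := by
        have h8 : c₂ / s * (c₁ * s) = c₂ * c₁ := by
          rw [mul_comm c₁ s, ← mul_assoc, div_mul_cancel₀ _ hs0]
        rw [add_mul, mul_assoc, h8]
        ring
      have h6 : c₂ / (-c₁ * s / (s + 1)) * (c₁ * s) = (κ * (c₂ / s) + -1) * (c₁ * s) := by
        rw [e']
      rw [e1', e2', hκc] at h6
      have h7 : c₁ * s = c₂ * s := by linear_combination h6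
      exact mul_right_cancel₀ hs0 h7
    · push Not at hu4
      by_contra hne
      have hsq1 : ∀ z : F, quadraticChar F z = 1 → z ^ 2 = 1 := by
        intro z hz
        have hz0 := qc_ne_zero (Or.inl hz)
        obtain ⟨r, hr⟩ := (quadraticChar_one_iff_isSquare hz0).mp hz
        have hr0 : r ≠ 0 := fun h => hz0 (by rw [hr, h, mul_zero])
        rw [hr, ← hu4 r hr0]; ring
      have hc1sq := hsq1 c₁ hχ1
      have hc2sq := hsq1 c₂ hχ2
      have hc12 : c₂ = -c₁ := by
        have h5 : (c₁ - c₂) * (c₁ + c₂) = 0 := by linear_combination hc1sq - hc2sq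
        rcases mul_eq_zero.mp h5 with h | h
        · exact absurd (sub_eq_zero.mp h) hne
        · linear_combination h
      have hlin : ∀ z, z ≠ 0 → τ z = c₁ * z := by
        intro z hz
        rcases quadraticChar_dichotomy hz with h | h
        · rw [hQ z h, div_eq_iff hz]
          linear_combination (-c₁) * hsq1 z h
        · have hz4 := hu4 z hz
          have h5 : (z ^ 2 - 1) * (z ^ 2 + 1) = 0 := by linear_combination hz4
          have hz2 : z ^ 2 = -1 := by
            rcases mul_eq_zero.mp h5 with h' | h'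
            · exfalso
              have h6 : z ^ 2 = 1 := by linear_combination h'
              rcases sq_one_cases h6 with h7 | h7
              · rw [h7, map_one] at h; omega
              · rw [h7, hm1] at h; omega
            · linear_combination h'
          rw [hN z h, div_eq_iff hz, hc12]
          linear_combination (-c₁) * hz2
      obtain ⟨κ, hκ0, hκsq, hκ⟩ := h4 1 one_ne_zero
      have hβ : τ (-1) = -c₁ := by
        rw [hlin _ (neg_ne_zero.mpr one_ne_zero)]; ring
      rw [hβ] at hκ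
      have hlin2 : ∀ s, s ≠ 0 → s ≠ c₁ → s = κ * c₁ * s + c₁ := by
        intro s hs0 hsc
        have hw : s + -c₁ ≠ 0 := fun h => hsc (by linear_combination h)
        have e := hκ s hs0 hw
        have h5 : τ (s + -c₁) + 1 = c₁ * s := by
          rw [hlin _ hw]; linear_combination (-1 : F) * hc1sq
        rw [h5, hlin _ (mul_ne_zero hc₁0 hs0), hlin s hs0, hlin 1 one_ne_zero] at e
        linear_combination e - s * hc1sq
      obtain ⟨s₁, hs₁⟩ := exists_notMem_of_card_lt ({0, c₁} : Finset F)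
        (lt_of_le_of_lt Finset.card_le_two (by omega))
      obtain ⟨s₂, hs₂⟩ := exists_notMem_of_card_lt ({0, c₁, s₁} : Finset F)
        (lt_of_le_of_lt Finset.card_le_three (by omega))
      have e1 := hlin2 s₁ (fun h => hs₁ (by simp [h])) (fun h => hs₁ (by simp [h]))
      have e2 := hlin2 s₂ (fun h => hs₂ (by simp [h])) (fun h => hs₂ (by simp [h]))
      have hne12 : s₁ - s₂ ≠ 0 := fun h => hs₂ (by
        have : s₂ = s₁ := by linear_combination -h
        simp [this])
      have e3 : (s₁ - s₂) * (1 - κ * c₁) = 0 := by linear_combination e1 - e2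
      rcases mul_eq_zero.mp e3 with h | h
      · exact hne12 h
      · apply hc₁0
        linear_combination -e1 + s₁ * h

end FE

end Cfsg.Agent.Lib.helper16.ZassAb
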