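-- helper16: from an affine point stabiliser `z ↦ κ z + β` (`κ` a square) and an involution
-- swapping `∞` and `0` that inverts the two-point stabiliser, the involution is `z ↦ c / z`.
import Mathlib
import Cfsg.Agent.Lib.helper16.ZassAbFE

set_option autoImplicit false
set_option linter.style.haveILetI false
set_option linter.unusedSectionVars false
set_option linter.unusedVariables false

namespace Cfsg.Agent.Lib.helper16.ZassAb

section Moeb

theorem moebius_of_affine {F : Type*} [Field F] [Fintype F] [DecidableEq F] {G Ω : Type*}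
    [Group G] [MulAction G Ω] (hchar : ringChar F ≠ 2) (hcard : 5 ≤ Fintype.card F)
    (a : Ω) (P : F → Ω) (hPinj : Function.Injective P) (hPa : ∀ z, P z ≠ a)
    (hPsurj : ∀ y, y ≠ a → ∃ z, P z = y)
    (hstab : ∀ g : G, g • a = a →
      ∃ κ β : F, κ ≠ 0 ∧ IsSquare κ ∧ ∀ z, g • P z = P (κ * z + β))
    (htr : ∀ β : F, ∃ u : G, u • a = a ∧ ∀ z, u • P z = P (z + β))
    (hsq : ∀ κ : F, κ ≠ 0 → IsSquare κ → ∃ k : G, k • a = a ∧ ∀ z, k • P z = P (κ * z))
    (t : G) (ht2 : t * t = 1) (hta : t • a = P 0) (ht0 : t • P 0 = a)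
    (hinv : ∀ k : G, k • a = a → k • P 0 = P 0 → t * k * t⁻¹ = k⁻¹) :
    ∃ c : F, c ≠ 0 ∧ IsSquare (-c) ∧ ∀ z, z ≠ 0 → t • P z = P (c / z) := by
  have hτex : ∀ z : F, ∃ w : F, z ≠ 0 → t • P z = P w := by
    intro z
    by_cases hz : z = 0
    · exact ⟨0, fun h => absurd hz h⟩
    · have hne : t • P z ≠ a := by
        intro h
        rw [← ht0] at h
        exact hz (hPinj (MulAction.injective t h))
      obtain ⟨w, hw⟩ := hPsurj _ hne
      exact ⟨w, fun _ => hw.symm⟩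
  choose τ hτ using hτex
  have h1 : ∀ z, z ≠ 0 → τ z ≠ 0 := by
    intro z hz h
    have e := hτ z hz
    rw [h, ← hta] at e
    exact hPa z (MulAction.injective t e)
  have h2 : ∀ z, z ≠ 0 → τ (τ z) = z := by
    intro z hz
    apply hPinj
    rw [← hτ (τ z) (h1 z hz), ← hτ z hz, ← mul_smul, ht2, one_smul]
  have h3 : ∀ κ z, κ ≠ 0 → IsSquare κ → z ≠ 0 → τ (κ * z) = κ⁻¹ * τ z := by
    intro κ z hκ hκsq hz
    obtain ⟨k, hka, hk⟩ := hsq κ hκ hκsq
    have hk0 : k • P 0 = P 0 := by rw [hk, mul_zero]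
    have hkinv := hinv k hka hk0
    have e1 : t * k = k⁻¹ * t := by rw [← hkinv]; group
    apply hPinj
    rw [← hτ (κ * z) (mul_ne_zero hκ hz), ← hk z, ← mul_smul, e1, mul_smul, hτ z hz,
      inv_smul_eq_iff, hk, mul_inv_cancel_left₀ hκ]
  have h4 : ∀ α, α ≠ 0 → ∃ κ, κ ≠ 0 ∧ IsSquare κ ∧
      ∀ s, s ≠ 0 → s + τ (-α) ≠ 0 → τ (τ (s + τ (-α)) + α) = κ * τ s + τ α := by
    intro α hα
    have hnα : -α ≠ 0 := neg_ne_zero.mpr hα
    obtain ⟨uα, huαa, huα⟩ := htr α
    obtain ⟨uβ, huβa, huβ⟩ := htr (τ (-α))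
    have hβ0 : τ (-α) ≠ 0 := h1 _ hnα
    have hg : (t * uα * t * uβ * t) • a = a := by
      rw [mul_smul, mul_smul, mul_smul, mul_smul, hta, huβ, zero_add, hτ _ hβ0, h2 _ hnα, huα,
        neg_add_cancel, ht0]
    obtain ⟨κ, γ, hκ, hκsq, hgz⟩ := hstab _ hg
    have hγ : γ = τ α := by
      have e := hgz 0
      rw [mul_smul, mul_smul, mul_smul, mul_smul, ht0, huβa, hta, huα, zero_add, hτ α hα,
        mul_zero, zero_add] at e
      exact (hPinj e).symm
    refine ⟨κ, hκ, hκsq, ?_⟩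
    intro s hs hsβ
    have e := hgz (τ s)
    have hne : τ (s + τ (-α)) + α ≠ 0 := by
      intro h
      have h5 : τ (s + τ (-α)) = -α := by linear_combination h
      have h6 := h2 _ hsβ
      rw [h5] at h6
      exact hs (by linear_combination -h6)
    rw [mul_smul, mul_smul, mul_smul, mul_smul, hτ _ (h1 s hs), h2 s hs, huβ, hτ _ hsβ, huα,
      hτ _ hne, hγ] at e
    exact hPinj e
  obtain ⟨c, hc, hcsq, hcτ⟩ := fe_solve hchar hcard τ h1 h2 h3 h4
  exact ⟨c, hc, hcsq, fun z hz => by rw [hτ z hz, hcτ z hz]⟩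

end Moeb

end Cfsg.Agent.Lib.helper16.ZassAb
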