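-- helper16: Zassenhaus groups whose point stabiliser has an abelian regular normal subgroup
-- and whose two-point stabiliser has half the maximal order are `PSL(2, q)`.
import Mathlib
import Cfsg.Prelude.Def_LieExceptional
import Cfsg.Agent.Lib.helper16.FeitA
import Cfsg.Agent.Lib.helper16.ZassAbField
import Cfsg.Agent.Lib.helper16.ZassAbMoeb
import Cfsg.Agent.Lib.helper16.ZassAbIso

set_option autoImplicit false
set_option linter.style.haveILetI false
set_option linter.unusedSectionVars false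
set_option linter.unusedVariables false

namespace Cfsg.Agent.Lib.helper16.ZassAb

open Cfsg Cfsg.Agent.Lib.helper19 Cfsg.Agent.Lib.helper16.ZassOdd
  Cfsg.Agent.Lib.helper16.ZassSimple Cfsg.Agent.Lib.helper16.Feit

universe u

section Main

variable {G : Type u} {Ω : Type*} [Group G] [MulAction G Ω] [Finite G] [Fintype Ω]

/-- Coordinates: the points other than `a` are labelled by a finite field on which the kernel
acts by translations and the two-point stabiliser by multiplication with the nonzero squares. -/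
theorem zass_coords (hZ : Cfsg.IsZassenhausGroup G Ω) {a b : Ω} (hab : a ≠ b) (H : Subgroup G)
    (hHa : H ≤ MulAction.stabilizer G a) (hHcard : Nat.card H + 1 = Fintype.card Ω)
    (hHfix : ∀ u ∈ H, u ≠ 1 → ∀ c : Ω, u • c = c → c = a)
    (hHcomm : ∀ u ∈ H, ∀ v ∈ H, u * v = v * u)
    (hd : 2 * Nat.card ↥(MulAction.stabilizer G a ⊓ MulAction.stabilizer G b) + 2
      = Fintype.card Ω)
    (hKcomm : ∀ k ∈ MulAction.stabilizer G a ⊓ MulAction.stabilizer G b,
      ∀ k' ∈ MulAction.stabilizer G a ⊓ MulAction.stabilizer G b, k * k' = k' * k) :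
    ∃ (F : Type) (_ : Field F) (_ : Fintype F) (P : F → Ω),
      ringChar F ≠ 2 ∧ Fintype.card F + 1 = Fintype.card Ω ∧
      Function.Injective P ∧ (∀ z, P z ≠ a) ∧ (∀ y, y ≠ a → ∃ z, P z = y) ∧ P 0 = b ∧
      (∀ β : F, ∃ u : G, u • a = a ∧ ∀ z, u • P z = P (z + β)) ∧
      (∀ k : G, k • a = a → k • b = b →
        ∃ κ : F, κ ≠ 0 ∧ IsSquare κ ∧ ∀ z, k • P z = P (κ * z)) ∧
      (∀ κ : F, κ ≠ 0 → IsSquare κ → ∃ k : G, k • a = a ∧ ∀ z, k • P z = P (κ * z)) := by
  classical
  have hba : b ≠ a := Ne.symm hab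
  letI cg : CommGroup H :=
    { (inferInstance : Group H) with
      mul_comm := fun u v => Subtype.ext (hHcomm u u.2 v v.2) }
  obtain ⟨K, hK⟩ : ∃ K : Subgroup G,
      K = MulAction.stabilizer G a ⊓ MulAction.stabilizer G b := ⟨_, rfl⟩
  rw [← hK] at hd hKcomm
  have hKmem : ∀ k : G, k ∈ K ↔ k • a = a ∧ k • b = b := by
    intro k
    rw [hK]
    exact mem_two_stab k
  have hnorm := zk_normal hZ H hHa hHcard hHfix
  have hKa : ∀ k : K, (k : G) ∈ MulAction.stabilizer G a := fun k =>
    MulAction.mem_stabilizer_iff.mpr ((hKmem k).mp k.2).1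
  let conj : K → H → H := fun k u => ⟨(k : G) * (u : G) * (k : G)⁻¹, hnorm k (hKa k) u u.2⟩
  have hconj : ∀ (k : K) (u : H), ((conj k u : H) : G) = (k : G) * (u : G) * (k : G)⁻¹ :=
    fun k u => rfl
  let ρ : K →* AddMonoid.End (Additive H) :=
    { toFun := fun k => AddMonoidHom.mk' (fun z => Additive.ofMul (conj k (Additive.toMul z)))
        (by
          intro z w
          show Additive.ofMul (conj k (Additive.toMul z * Additive.toMul w)) =
            Additive.ofMul (conj k (Additive.toMul z) * conj k (Additive.toMul w))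
          congr 1
          apply Subtype.ext
          rw [Subgroup.coe_mul, hconj, hconj, hconj, Subgroup.coe_mul]
          group)
      map_one' := by
        apply AddMonoidHom.ext
        intro z
        show Additive.ofMul (conj 1 (Additive.toMul z)) = z
        have : conj 1 (Additive.toMul z) = Additive.toMul z := by
          apply Subtype.ext
          rw [hconj]
          simp
        rw [this]
        rfl
      map_mul' := by
        intro k k'
        apply AddMonoidHom.ext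
        intro z
        show Additive.ofMul (conj (k * k') (Additive.toMul z)) =
          Additive.ofMul (conj k (conj k' (Additive.toMul z)))
        congr 1
        apply Subtype.ext
        rw [hconj, hconj, hconj, Subgroup.coe_mul]
        group }
  have hρ : ∀ (k : K) (z : Additive H),
      ((Additive.toMul (ρ k z) : H) : G) = (k : G) * ((Additive.toMul z : H) : G) * (k : G)⁻¹ :=
    fun k z => rfl
  have hfree : ∀ k : K, k ≠ 1 → ∀ z : Additive H, ρ k z = z → z = 0 := by
    intro k hk z hz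
    by_contra hz0
    have hu1 : ((Additive.toMul z : H) : G) ≠ 1 := by
      intro h
      apply hz0
      have h1 : (Additive.toMul z : H) = 1 := Subtype.ext h
      exact h1
    have hc : (k : G) * ((Additive.toMul z : H) : G) * (k : G)⁻¹
        = ((Additive.toMul z : H) : G) := by
      rw [← hρ, hz]
    obtain ⟨u, hu⟩ : ∃ u : G, u = ((Additive.toMul z : H) : G) := ⟨_, rfl⟩
    have huH : u ∈ H := by rw [hu]; exact (Additive.toMul z : H).2
    rw [← hu] at hu1 hc
    have hkab := (hKmem k).mp k.2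
    have hua : u • a = a := hHa huH
    have hub : u • b ≠ b := fun h => hba (hHfix u huH hu1 b h)
    have hub' : u • b ≠ a := by
      intro h
      apply hba
      have h1 : b = u⁻¹ • a := by rw [← h, inv_smul_smul]
      rw [h1, inv_smul_eq_iff, hua]
    have hfix : (k : G) • (u • b) = u • b := by
      have h1 : (k : G) * u = u * (k : G) := by
        calc (k : G) * u = ((k : G) * u * (k : G)⁻¹) * (k : G) := by group
          _ = u * (k : G) := by rw [hc]
      rw [← mul_smul, h1, mul_smul, hkab.2]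
    apply hk
    apply Subtype.ext
    exact hZ.2.2.1 (k : G) a b (u • b) hab (Ne.symm hub) (Ne.symm hub') hkab.1 hkab.2 hfix
  have hcardA : 2 * Nat.card K + 1 = Nat.card (Additive H) := by
    have h1 : Nat.card (Additive H) = Nat.card H := rfl
    rw [h1]
    omega
  have hcomm : ∀ k k' : K, k * k' = k' * k := fun k k' =>
    Subtype.ext (hKcomm k k.2 k' k'.2)
  obtain ⟨u₀, hu₀, hu₀1⟩ := zk_exists_ne_one hZ H hHa hHcard hHfix
  have he₁ : (Additive.ofMul (⟨u₀, hu₀⟩ : H) : Additive H) ≠ 0 := by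
    intro h
    apply hu₀1
    have h1 : (⟨u₀, hu₀⟩ : H) = 1 := h
    exact congrArg Subtype.val h1
  obtain ⟨Fq, fld, fin, ψ, θ, hψbij, hψadd, hψ1, hcardF, hchar, hρψ, hθ, hθsurj, hθmul⟩ :=
    exists_field ρ hcomm hfree hcardA _ he₁
  have hψ0 : ψ 0 = 0 := by
    have h1 := hψadd 0 0
    rw [add_zero] at h1
    have h2 : ψ 0 + ψ 0 = ψ 0 + 0 := by rw [add_zero]; exact h1.symm
    exact add_left_cancel h2
  obtain ⟨U, hU⟩ : ∃ U : Fq → G, ∀ β, U β = ((Additive.toMul (ψ β) : H) : G) := ⟨_, fun _ => rfl⟩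
  have hUH : ∀ β, U β ∈ H := fun β => by rw [hU]; exact (Additive.toMul (ψ β) : H).2
  have hUa : ∀ β, U β • a = a := fun β => hHa (hUH β)
  have hUadd : ∀ z w, U (z + w) = U z * U w := by
    intro z w
    rw [hU, hU, hU, hψadd]
    rfl
  have hU0 : U 0 = 1 := by
    rw [hU, hψ0]
    rfl
  have hUinj : ∀ z w, U z = U w → z = w := by
    intro z w h
    apply hψbij.1
    rw [hU, hU] at h
    have h1 : (Additive.toMul (ψ z) : H) = Additive.toMul (ψ w) := Subtype.ext h
    exact h1
  have hUsurj : ∀ u ∈ H, ∃ z, U z = u := by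
    intro u hu
    obtain ⟨z, hz⟩ := hψbij.2 (Additive.ofMul (⟨u, hu⟩ : H))
    refine ⟨z, ?_⟩
    rw [hU, hz]
    rfl
  refine ⟨Fq, fld, fin, fun z => U z • b, hchar, ?_, ?_, ?_, ?_, ?_, ?_, ?_, ?_⟩
  · rw [hcardF]
    have h1 : Nat.card (Additive H) = Nat.card H := rfl
    rw [h1]
    exact hHcard
  · intro z w h
    have h' : U z • b = U w • b := h
    have h1 : ((U w)⁻¹ * U z) • b = b := by
      rw [mul_smul, h', inv_smul_smul]
    apply hUinj
    by_contra hne
    have h2 : (U w)⁻¹ * U z ≠ 1 := by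
      intro h3
      apply hne
      have e : U z = U w * ((U w)⁻¹ * U z) := by group
      rw [e, h3, mul_one]
    exact hba (hHfix _ (H.mul_mem (H.inv_mem (hUH w)) (hUH z)) h2 b h1)
  · intro z h
    apply hba
    have h' : U z • b = a := h
    have h1 : b = (U z)⁻¹ • a := by rw [← h', inv_smul_smul]
    rw [h1, inv_smul_eq_iff, hUa]
  · intro y hy
    obtain ⟨u, hu, huy⟩ := zk_trans hZ H hHa hHcard hHfix hba hy
    obtain ⟨z, hz⟩ := hUsurj u hu
    exact ⟨z, by show U z • b = y; rw [hz, huy]⟩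
  · show U 0 • b = b
    rw [hU0, one_smul]
  · intro β
    refine ⟨U β, hUa β, ?_⟩
    intro z
    show U β • (U z • b) = U (z + β) • b
    rw [hUadd, ← mul_smul, hHcomm _ (hUH β) _ (hUH z)]
  · intro k hka hkb
    have hkK : k ∈ K := (hKmem k).mpr ⟨hka, hkb⟩
    refine ⟨θ ⟨k, hkK⟩, (hθ _).1, (hθ _).2, ?_⟩
    intro z
    show k • (U z • b) = U (θ ⟨k, hkK⟩ * z) • b
    have h1 : U (θ ⟨k, hkK⟩ * z) = k * U z * k⁻¹ := by
      rw [hU, ← hρψ, hρ, hU]
    rw [h1, mul_smul, mul_smul, inv_smul_eq_iff.mpr hkb.symm]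
  · intro κ hκ hκsq
    obtain ⟨k, hk⟩ := hθsurj κ hκ hκsq
    have hkab := (hKmem (k : G)).mp k.2
    refine ⟨(k : G), hkab.1, ?_⟩
    intro z
    show (k : G) • (U z • b) = U (κ * z) • b
    have h1 : U (κ * z) = (k : G) * U z * (k : G)⁻¹ := by
      rw [hU, ← hk, ← hρψ, hρ, hU]
    rw [h1, mul_smul, mul_smul, inv_smul_eq_iff.mpr hkab.2.symm]

/-- The main theorem: a Zassenhaus group of degree `q + 1` with an abelian kernel, two-point
stabiliser of order `(q - 1) / 2`, and an involution swapping `a, b` that inverts the two-point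
stabiliser, is `PSL(2, F)` for a field `F` with `q` elements. -/
theorem zass_ab_psl (hZ : Cfsg.IsZassenhausGroup G Ω) {a b : Ω} (hab : a ≠ b) (H : Subgroup G)
    (hHa : H ≤ MulAction.stabilizer G a) (hHcard : Nat.card H + 1 = Fintype.card Ω)
    (hHfix : ∀ u ∈ H, u ≠ 1 → ∀ c : Ω, u • c = c → c = a)
    (hHcomm : ∀ u ∈ H, ∀ v ∈ H, u * v = v * u)
    (hd : 2 * Nat.card ↥(MulAction.stabilizer G a ⊓ MulAction.stabilizer G b) + 2
      = Fintype.card Ω)
    (t : G) (ht2 : t * t = 1) (hta : t • a = b) (htb : t • b = a)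
    (hinv : ∀ k ∈ MulAction.stabilizer G a ⊓ MulAction.stabilizer G b, t * k * t⁻¹ = k⁻¹) :
    ∃ (F : Type) (_ : Field F) (_ : Fintype F), ringChar F ≠ 2 ∧
      Fintype.card F + 1 = Fintype.card Ω ∧
      Nonempty (G ≃* Matrix.ProjectiveSpecialLinearGroup (Fin 2) F) := by
  classical
  have hba : b ≠ a := Ne.symm hab
  have hKcomm : ∀ k ∈ MulAction.stabilizer G a ⊓ MulAction.stabilizer G b,
      ∀ k' ∈ MulAction.stabilizer G a ⊓ MulAction.stabilizer G b, k * k' = k' * k := by
    intro k hk k' hk'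
    have h1 := hinv k hk
    have h2 := hinv k' hk'
    have h3 := hinv (k * k') (Subgroup.mul_mem _ hk hk')
    have h4 : t * (k * k') * t⁻¹ = (t * k * t⁻¹) * (t * k' * t⁻¹) := by group
    rw [h4, h1, h2, mul_inv_rev] at h3
    have h5 := congrArg (fun x => x⁻¹) h3
    simp only [mul_inv_rev, inv_inv] at h5
    exact h5.symm
  obtain ⟨Fq, fld, fin, P, hchar, hcardF, hPinj, hPa, hPsurj, hP0, htr, hKact, hsq⟩ :=
    zass_coords hZ hab H hHa hHcard hHfix hHcomm hd hKcomm
  refine ⟨Fq, fld, fin, hchar, hcardF, ?_⟩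
  have hstab : ∀ g : G, g • a = a →
      ∃ κ β : Fq, κ ≠ 0 ∧ IsSquare κ ∧ ∀ z, g • P z = P (κ * z + β) := by
    intro g hg
    have hgb : g • b ≠ a := by
      intro h
      apply hba
      have h1 : b = g⁻¹ • a := by rw [← h, inv_smul_smul]
      rw [h1, inv_smul_eq_iff, hg]
    obtain ⟨β, hβ⟩ := hPsurj _ hgb
    obtain ⟨u, hua, hu⟩ := htr (-β)
    have hka : (u * g) • a = a := by rw [mul_smul, hg, hua]
    have hkb : (u * g) • b = b := by rw [mul_smul, ← hβ, hu, add_neg_cancel, hP0]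
    obtain ⟨κ, hκ, hκsq, hk⟩ := hKact _ hka hkb
    refine ⟨κ, β, hκ, hκsq, ?_⟩
    intro z
    have h1 := hk z
    rw [mul_smul] at h1
    have h2 : u • P (κ * z + β) = P (κ * z) := by rw [hu, add_neg_cancel_right]
    exact MulAction.injective u (h1.trans h2.symm)
  obtain ⟨x, hx1, hxa, hxb⟩ := zass_exists_fix_two hZ hab
  have hd2 : 2 ≤ Nat.card ↥(MulAction.stabilizer G a ⊓ MulAction.stabilizer G b) := by
    have hxK : x ∈ MulAction.stabilizer G a ⊓ MulAction.stabilizer G b :=
      (mem_two_stab x).mpr ⟨hxa, hxb⟩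
    haveI : Nontrivial ↥(MulAction.stabilizer G a ⊓ MulAction.stabilizer G b) :=
      ⟨⟨⟨x, hxK⟩, 1, fun h => hx1 (congrArg Subtype.val h)⟩⟩
    exact Finite.one_lt_card
  have hq5 : 5 ≤ Fintype.card Fq := by omega
  obtain ⟨c, hc, hcsq, hct⟩ := moebius_of_affine hchar hq5 a P hPinj hPa hPsurj hstab htr hsq t ht2
    (by rw [hP0]; exact hta) (by rw [hP0]; exact htb) (by
      intro k hka hkb
      rw [hP0] at hkb
      exact hinv k ((mem_two_stab k).mpr ⟨hka, hkb⟩))
  haveI : FaithfulSMul G Ω := hZ.1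
  have h2ne : (2 : Fq) ≠ 0 := Ring.two_ne_zero hchar
  have hcardG : 2 * Nat.card G = Fintype.card Fq * (Fintype.card Fq ^ 2 - 1) := by
    have h1 := zass_card_eq hZ hab
    rw [Nat.card_eq_fintype_card (α := Ω)] at h1
    obtain ⟨d, hd'⟩ : ∃ d,
        d = Nat.card ↥(MulAction.stabilizer G a ⊓ MulAction.stabilizer G b) := ⟨_, rfl⟩
    rw [← hd'] at h1 hd
    have hq : Fintype.card Fq = 2 * d + 1 := by omega
    have hN : Fintype.card Ω = 2 * d + 2 := by omega
    rw [h1, hq, hN]
    have h3 : (2 * d + 1) ^ 2 - 1 = 4 * d ^ 2 + 4 * d := by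
      have : (2 * d + 1) ^ 2 = 4 * d ^ 2 + 4 * d + 1 := by ring
      omega
    have h4 : 2 * d + 2 - 1 = 2 * d + 1 := by omega
    rw [h3, h4]
    ring
  exact psl_iso_of_coords a P hPinj hPa hPsurj
    (fun g hg => by
      obtain ⟨κ, β, hκ, hκsq, h⟩ := hstab g hg
      exact ⟨κ, β, hκ, hκsq, fun z => by rw [h z, mul_comm]⟩)
    htr t c hc hcsq (by rw [hP0]; exact hta) (by rw [hP0]; exact htb) hct h2ne hcardG

end Main

end Cfsg.Agent.Lib.helper16.ZassAb
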