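-- helper16: in a Zassenhaus group of degree `n + 1` with an abelian kernel and two-point
-- stabiliser of order `(n - 1) / 2`, an involution swapping two points inverts their stabiliser.
import Mathlib
import Cfsg.Prelude.Def_LieExceptional
import Cfsg.Agent.S0741
import Cfsg.Agent.S0739
import Cfsg.Agent.Lib.helper16.FeitG
import Cfsg.Agent.Lib.helper16.ZassAbMain

set_option autoImplicit false
set_option linter.style.haveILetI false
set_option linter.unusedSectionVars false
set_option linter.unusedVariables false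

namespace Cfsg.Agent.Lib.helper16.ZassAb

open Cfsg Cfsg.Agent.Lib.helper19 Cfsg.Agent.Lib.helper16.ZassOdd
  Cfsg.Agent.Lib.helper16.ZassSimple Cfsg.Agent.Lib.helper16.Feit Cfsg.Agent.S0741 MulAction

universe u

section Even

variable {G Ω : Type*} [Group G] [Fintype G] [MulAction G Ω] [Fintype Ω] [DecidableEq Ω]

/-- The counting argument behind `2d ≥ n - 1`, keeping the count of involutions with two fixed
points that map `a` to `b`. -/
theorem card_sub_two_le_cnt (hZ : Cfsg.IsZassenhausGroup G Ω) {a b : Ω} (hab : a ≠ b)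
    (heven : Even (Nat.card ↥(stabilizer G a ⊓ stabilizer G b))) :
    Fintype.card Ω - 2 ≤ 2 * cnt (G := G) a b := by
  obtain ⟨hfaith, h2, h3, -, -⟩ := hZ
  rw [is_two_pretransitive_iff] at h2
  have : Fact (Nat.Prime 2) := ⟨Nat.prime_two⟩
  set N := Fintype.card Ω with hN
  set m := cnt (G := G) a b with hm
  obtain ⟨u, hu⟩ := exists_prime_orderOf_dvd_card' 2 (even_iff_two_dvd.mp heven)
  have hu' : orderOf (u : G) = 2 := by rw [Subgroup.orderOf_coe, hu]
  have hua : (u : G) • a = a := (Subgroup.mem_inf.mp u.2).1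
  have hub : (u : G) • b = b := (Subgroup.mem_inf.mp u.2).2
  have huJ : (u : G) ∈ J G Ω := by
    rw [mem_J]
    refine ⟨hu', le_antisymm ?_ ?_⟩
    · by_contra hcon
      push Not at hcon
      rw [Finset.two_lt_card_iff] at hcon
      obtain ⟨x, y, z, hx, hy, hz, hxy, hxz, hyz⟩ := hcon
      rw [mem_fx] at hx hy hz
      exact ne_one_of_orderOf hu' (h3 _ x y z hxy hyz hxz hx hy hz)
    · have hsub : ({a, b} : Finset Ω) ⊆ fx (u : G) := by
        intro x hx
        simp only [Finset.mem_insert, Finset.mem_singleton] at hx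
        rcases hx with rfl | rfl
        · exact mem_fx.mpr hua
        · exact mem_fx.mpr hub
      calc 2 = ({a, b} : Finset Ω).card := (Finset.card_pair hab).symm
        _ ≤ _ := Finset.card_le_card hsub
  have hF2 : ∀ x y : Ω, x ≠ y → ∃ t ∈ J G Ω, t • x = x ∧ t • y = y := by
    intro x y hxy
    obtain ⟨g, hg1, hg2⟩ := h2 hab hxy
    refine ⟨g * u * g⁻¹, conj_mem_J huJ g, ?_, ?_⟩
    · rw [mul_smul, mul_smul, inv_smul_eq_iff.mpr hg1.symm, hua, hg1]
    · rw [mul_smul, mul_smul, inv_smul_eq_iff.mpr hg2.symm, hub, hg2]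
  have hC123 : (J G Ω).card * (N - 2) = N * ((N - 1) * m) := by
    have e1 : ∑ t ∈ J G Ω, ((Finset.univ : Finset Ω).filter (fun x => t • x ≠ x)).card =
        (J G Ω).card * (N - 2) := by
      apply Finset.sum_const_nat
      intro t ht
      rw [mem_J] at ht
      have h' := Finset.card_filter_add_card_filter_not (s := (Finset.univ : Finset Ω))
        (fun x => t • x = x)
      have h'' : (fx (Ω := Ω) t).card = 2 := ht.2
      simp only [fx] at h''
      rw [Finset.card_univ, ← hN] at h'
      show ((Finset.univ : Finset Ω).filter (fun x => ¬ t • x = x)).card = N - 2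
      omega
    have e2 : ∑ t ∈ J G Ω, ((Finset.univ : Finset Ω).filter (fun x => t • x ≠ x)).card =
        ∑ x : Ω, ((J G Ω).filter (fun t => t • x ≠ x)).card :=
      Finset.sum_card_bipartiteAbove_eq_sum_card_bipartiteBelow (fun t x => t • x ≠ x)
    have e3 : ∀ x : Ω, ((J G Ω).filter (fun t => t • x ≠ x)).card = (N - 1) * m := by
      intro x
      rw [Finset.card_eq_sum_card_fiberwise (f := fun t => t • x) (t := Finset.univ.erase x)]
      · rw [Finset.sum_const_nat (m := m)]
        · simp [Finset.card_erase_of_mem, hN]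
        · intro y hy
          have hyx : y ≠ x := Finset.ne_of_mem_erase hy
          rw [Finset.filter_filter]
          have hfe : (J G Ω).filter (fun t => t • x ≠ x ∧ t • x = y) =
              (J G Ω).filter (fun t => t • x = y) := by
            apply Finset.filter_congr
            intro t _
            constructor
            · exact fun h => h.2
            · exact fun h => ⟨by rw [h]; exact hyx, h⟩
          rw [hfe]
          exact cnt_eq h2 (Ne.symm hyx) hab
      · intro t ht
        simp only [Finset.coe_filter, Set.mem_ofPred_eq] at ht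
        simp [ht.2]
    rw [← e1, e2, Finset.sum_congr rfl (fun x _ => e3 x), Finset.sum_const, Finset.card_univ]
    simp [hN]
  have hC4 : N * N - N ≤ 2 * (J G Ω).card := by
    have e1 : ∑ t ∈ J G Ω, (((Finset.univ : Finset Ω).offDiag).filter
        (fun p => t • p.1 = p.1 ∧ t • p.2 = p.2)).card = 2 * (J G Ω).card := by
      rw [Finset.sum_const_nat (m := 2), mul_comm]
      intro t ht
      rw [mem_J] at ht
      have hfe : ((Finset.univ : Finset Ω).offDiag).filter
          (fun p => t • p.1 = p.1 ∧ t • p.2 = p.2) = (fx (Ω := Ω) t).offDiag := by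
        ext p
        simp only [Finset.mem_filter, Finset.mem_offDiag, Finset.mem_univ, true_and, mem_fx]
        tauto
      rw [hfe, Finset.offDiag_card, ht.2]
    have e2 := Finset.sum_card_bipartiteAbove_eq_sum_card_bipartiteBelow (s := J G Ω)
      (t := (Finset.univ : Finset Ω).offDiag) (fun t p => t • p.1 = p.1 ∧ t • p.2 = p.2)
    have e3 : ((Finset.univ : Finset Ω).offDiag).card ≤
        ∑ p ∈ (Finset.univ : Finset Ω).offDiag,
          ((J G Ω).filter (fun t => t • p.1 = p.1 ∧ t • p.2 = p.2)).card := by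
      rw [Finset.card_eq_sum_ones]
      apply Finset.sum_le_sum
      intro p hp
      rw [Finset.mem_offDiag] at hp
      obtain ⟨t, htJ, h1, h2'⟩ := hF2 p.1 p.2 hp.2.2
      exact Finset.card_pos.mpr ⟨t, Finset.mem_filter.mpr ⟨htJ, h1, h2'⟩⟩
    rw [Finset.offDiag_card, Finset.card_univ] at e3
    calc N * N - N ≤ _ := e3
      _ = _ := e2.symm
      _ = 2 * (J G Ω).card := e1
  have hN2 : 2 ≤ N := by
    rw [hN]
    calc 2 = ({a, b} : Finset Ω).card := (Finset.card_pair hab).symm
      _ ≤ _ := Finset.card_le_univ _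
  obtain ⟨d, hd⟩ : ∃ d, N = d + 2 := ⟨N - 2, by omega⟩
  rw [hd] at hC123 hC4 ⊢
  have h1 : d + 2 - 2 = d := by omega
  have h2' : d + 2 - 1 = d + 1 := by omega
  have h3' : (d + 2) * (d + 2) - (d + 2) = (d + 2) * (d + 1) := by
    have : (d + 2) * (d + 2) = (d + 2) * (d + 1) + (d + 2) := by ring
    omega
  rw [h1, h2'] at hC123
  rw [h3'] at hC4
  rw [h1]
  have hkey : (d + 2) * (d + 1) * d ≤ (d + 2) * (d + 1) * (2 * m) := by
    calc (d + 2) * (d + 1) * d ≤ (2 * (J G Ω).card) * d := Nat.mul_le_mul_right d hC4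
      _ = 2 * ((J G Ω).card * d) := by ring
      _ = 2 * ((d + 2) * ((d + 1) * m)) := by rw [hC123]
      _ = (d + 2) * (d + 1) * (2 * m) := by ring
  exact Nat.le_of_mul_le_mul_left hkey (by positivity)

/-- With `2d = n - 1` and `d` even, every element swapping `a` and `b` is an involution. -/
theorem swap_orderOf_even (hZ : Cfsg.IsZassenhausGroup G Ω) {a b : Ω} (hab : a ≠ b)
    (heven : Even (Nat.card ↥(stabilizer G a ⊓ stabilizer G b)))
    (hd : 2 * Nat.card ↥(stabilizer G a ⊓ stabilizer G b) + 2 = Fintype.card Ω)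
    {s : G} (hsa : s • a = b) (hsb : s • b = a) : orderOf s = 2 := by
  have h1 := card_sub_two_le_cnt hZ hab heven
  have hAB : (J G Ω).filter (fun t => t • a = b) ⊆
      (Finset.univ : Finset G).filter (fun x => x • a = b ∧ x • b = a) := by
    intro t ht
    rw [Finset.mem_filter] at ht
    exact Finset.mem_filter.mpr ⟨Finset.mem_univ _, ht.2, swap_back ht.1 ht.2⟩
  have hB : ((Finset.univ : Finset G).filter (fun x => x • a = b ∧ x • b = a)).card =
      Nat.card ↥(stabilizer G a ⊓ stabilizer G b) := by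
    rw [← card_swaps hZ hab, natCard_subtype_eq_card_filter]
  have hA : ((J G Ω).filter (fun t => t • a = b)).card = cnt (G := G) a b := rfl
  have hle : ((Finset.univ : Finset G).filter (fun x => x • a = b ∧ x • b = a)).card ≤
      ((J G Ω).filter (fun t => t • a = b)).card := by
    rw [hB, hA]; omega
  have hEq := Finset.eq_of_subset_of_card_le hAB hle
  have hs : s ∈ (Finset.univ : Finset G).filter (fun x => x • a = b ∧ x • b = a) :=
    Finset.mem_filter.mpr ⟨Finset.mem_univ _, hsa, hsb⟩
  rw [← hEq] at hs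
  exact (mem_J.mp (Finset.mem_filter.mp hs).1).1

end Even

section Swaps

variable {G : Type u} {Ω : Type*} [Group G] [Finite G] [MulAction G Ω] [Fintype Ω]

/-- Even case. -/
theorem swaps_even (hZ : Cfsg.IsZassenhausGroup G Ω) {a b : Ω} (hab : a ≠ b)
    (heven : Even (Nat.card ↥(stabilizer G a ⊓ stabilizer G b)))
    (hd : 2 * Nat.card ↥(stabilizer G a ⊓ stabilizer G b) + 2 = Fintype.card Ω) :
    ∃ t : G, t * t = 1 ∧ t • a = b ∧ t • b = a ∧
      ∀ k ∈ stabilizer G a ⊓ stabilizer G b, t * k * t⁻¹ = k⁻¹ := by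
  classical
  haveI := Fintype.ofFinite G
  obtain ⟨t, hta, htb⟩ := zass_two_trans hZ hab hab.symm
  have ho := swap_orderOf_even hZ hab heven hd hta htb
  have ht2 : t * t = 1 := by rw [← sq, ← ho]; exact pow_orderOf_eq_one t
  refine ⟨t, ht2, hta, htb, ?_⟩
  intro k hk
  have hk' := (mem_two_stab k).mp hk
  have ho' := swap_orderOf_even hZ hab heven hd (s := t * k)
    (by rw [mul_smul, hk'.1, hta]) (by rw [mul_smul, hk'.2, htb])
  have h2 : (t * k) * (t * k) = 1 := by rw [← sq, ← ho']; exact pow_orderOf_eq_one _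
  have htinv : t⁻¹ = t := inv_eq_of_mul_eq_one_left ht2
  rw [htinv]
  exact eq_inv_of_mul_eq_one_left (by rw [← h2]; group)

/-- Odd case. -/
theorem swaps_odd (hZ : Cfsg.IsZassenhausGroup G Ω) {a b : Ω} (hab : a ≠ b) (H : Subgroup G)
    (hHa : H ≤ stabilizer G a) (hHcard : Nat.card H + 1 = Fintype.card Ω)
    (hHfix : ∀ u ∈ H, u ≠ 1 → ∀ c : Ω, u • c = c → c = a)
    (hHcomm : ∀ u ∈ H, ∀ v ∈ H, u * v = v * u)
    (hodd : Odd (Nat.card ↥(stabilizer G a ⊓ stabilizer G b)))
    (hd : 2 * Nat.card ↥(stabilizer G a ⊓ stabilizer G b) + 2 = Fintype.card Ω) :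
    ∃ t : G, t * t = 1 ∧ t • a = b ∧ t • b = a ∧
      ∀ k ∈ stabilizer G a ⊓ stabilizer G b, t * k * t⁻¹ = k⁻¹ := by
  obtain ⟨t, ht2, hta, htb⟩ := zass_exists_swap_involution hZ hab hodd
  have hnil : ∀ q : ℕ, q.Prime → q ∣ Nat.card ↥(stabilizer G a ⊓ stabilizer G b) →
      ¬ ∃ N : Subgroup G, N.Normal ∧ N.index = q ^ (Nat.card G).factorization q := by
    rintro q hq hqd ⟨M, hMn, hMidx⟩
    have hq2 : q ≠ 2 := by
      rintro rfl
      exact (Nat.not_even_iff_odd.mpr hodd) (even_iff_two_dvd.mpr hqd)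
    have hcardG := zass_card_eq hZ hab
    have hNcard : Nat.card Ω = Fintype.card Ω := Nat.card_eq_fintype_card
    have hvpos : 0 < (Nat.card G).factorization q := by
      apply hq.factorization_pos_of_dvd Nat.card_pos.ne'
      rw [hcardG]
      exact Dvd.dvd.mul_left hqd _
    have hMbot : M ≠ ⊥ := by
      rintro rfl
      rw [Subgroup.index_bot] at hMidx
      have h2 : 2 ∣ Nat.card G := by
        rw [hcardG]
        apply Dvd.dvd.mul_right
        exact (Nat.even_mul_pred_self _).two_dvd
      rw [hMidx] at h2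
      have h3 := (Nat.prime_dvd_prime_iff_eq Nat.prime_two hq).mp
        (Nat.prime_two.dvd_of_dvd_pow h2)
      exact hq2 h3.symm
    have hoddall := odd_stab_all hZ hab _ rfl hodd
    have hZM := zass_normal hZ H hHa hHcard hHfix hoddall (Ne.symm hab) M hMn hMbot
    have hHM := kernel_le_normal hZ H hHa hHcard hHfix M hMn hMbot
    have hdvd : Nat.card ↥(stabilizer M a ⊓ stabilizer M b : Subgroup M) ∣
        Nat.card ↥(stabilizer G a ⊓ stabilizer G b) := by
      have hmem : ∀ x : ↥(stabilizer M a ⊓ stabilizer M b : Subgroup M),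
          (M.subtype.comp (Subgroup.subtype _)) x ∈ stabilizer G a ⊓ stabilizer G b := by
        intro x
        have hx := (mem_two_stab (x : M)).mp x.2
        exact (mem_two_stab _).mpr ⟨hx.1, hx.2⟩
      apply Subgroup.card_dvd_of_injective
        ((M.subtype.comp (Subgroup.subtype _)).codRestrict _ hmem)
      rw [MonoidHom.injective_codRestrict]
      exact (Subgroup.subtype_injective M).comp (Subgroup.subtype_injective _)
    have hcardH₁ : Nat.card (H.subgroupOf M) = Nat.card H :=
      Nat.card_congr (Subgroup.subgroupOfEquivOfLe hHM).toEquiv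
    obtain ⟨h, hh⟩ : ∃ h, Fintype.card Ω = h + 1 := ⟨Fintype.card Ω - 1, by omega⟩
    have hres := feit_general (Nat.card M) M rfl hZM hab h _ hh rfl (Odd.of_dvd_nat hodd hdvd)
      (H.subgroupOf M) (fun x hx => hHa hx) (by rw [hcardH₁]; exact hHcard)
      (fun u hu hu1 c hc => hHfix (u : G) hu (fun h => hu1 (Subtype.ext h)) c hc)
    rcases hres with hres | ⟨-, ⟨u, v, huv⟩, -⟩
    swap
    · apply huv
      apply Subtype.ext
      apply Subtype.ext
      exact hHcomm _ u.2 _ v.2
    have hle := Nat.le_of_dvd Nat.card_pos hdvd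
    have heq : Nat.card ↥(stabilizer M a ⊓ stabilizer M b : Subgroup M) =
        Nat.card ↥(stabilizer G a ⊓ stabilizer G b) := by omega
    have hcardM := zass_card_eq hZM hab
    rw [heq, ← hcardG] at hcardM
    have hMtop : M = ⊤ := M.eq_top_of_card_eq hcardM
    rw [hMtop, Subgroup.index_top] at hMidx
    have h5 : 1 < q ^ (Nat.card G).factorization q := Nat.one_lt_pow hvpos.ne' hq.one_lt
    omega
  obtain ⟨-, -, h3⟩ := Cfsg.Agent.S0739.result hZ hab hodd hnil
  exact ⟨t, ht2, hta, htb, fun k hk => h3 t hta htb k hk⟩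

/-- Both cases. -/
theorem swaps_all (hZ : Cfsg.IsZassenhausGroup G Ω) {a b : Ω} (hab : a ≠ b) (H : Subgroup G)
    (hHa : H ≤ stabilizer G a) (hHcard : Nat.card H + 1 = Fintype.card Ω)
    (hHfix : ∀ u ∈ H, u ≠ 1 → ∀ c : Ω, u • c = c → c = a)
    (hHcomm : ∀ u ∈ H, ∀ v ∈ H, u * v = v * u)
    (hd : 2 * Nat.card ↥(stabilizer G a ⊓ stabilizer G b) + 2 = Fintype.card Ω) :
    ∃ t : G, t * t = 1 ∧ t • a = b ∧ t • b = a ∧
      ∀ k ∈ stabilizer G a ⊓ stabilizer G b, t * k * t⁻¹ = k⁻¹ := by
  rcases Nat.even_or_odd (Nat.card ↥(stabilizer G a ⊓ stabilizer G b)) with h | h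
  · exact swaps_even hZ hab h hd
  · exact swaps_odd hZ hab H hHa hHcard hHfix hHcomm h hd

end Swaps

end Cfsg.Agent.Lib.helper16.ZassAb
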