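-- helper16: Zassenhaus groups with abelian kernel: the two cases `d = n - 1` (sharply
-- triply transitive) and `d = (n - 1) / 2` (`PSL(2, q)`).
import Mathlib
import Cfsg.Prelude.Def_LieExceptional
import Cfsg.Agent.Lib.helper16.ZassAbSwap

set_option autoImplicit false
set_option linter.style.haveILetI false
set_option linter.unusedSectionVars false
set_option linter.unusedVariables false

namespace Cfsg.Agent.Lib.helper16.ZassAb

open Cfsg Cfsg.Agent.Lib.helper19 Cfsg.Agent.Lib.helper16.ZassOdd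
  Cfsg.Agent.Lib.helper16.ZassSimple Cfsg.Agent.Lib.helper16.Feit MulAction

universe u

section Case

variable {G : Type u} {Ω : Type*} [Group G] [Finite G] [MulAction G Ω] [Fintype Ω]

/-- The two-point stabiliser acts freely on the remaining points: its order divides `n - 1`,
and if it equals `n - 1` the action on the remaining points is transitive. -/
theorem two_stab_dvd (hZ : Cfsg.IsZassenhausGroup G Ω) {a b : Ω} (hab : a ≠ b) :
    Nat.card ↥(stabilizer G a ⊓ stabilizer G b) ∣ Fintype.card Ω - 2 ∧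
    (Nat.card ↥(stabilizer G a ⊓ stabilizer G b) = Fintype.card Ω - 2 →
      ∀ y z : Ω, y ≠ a → y ≠ b → z ≠ a → z ≠ b → ∃ k : G, k • a = a ∧ k • b = b ∧ k • y = z) := by
  classical
  obtain ⟨K, hK⟩ : ∃ K : Subgroup G, K = stabilizer G a ⊓ stabilizer G b := ⟨_, rfl⟩
  rw [← hK]
  have hKmem' : ∀ k : G, k ∈ K → k • a = a ∧ k • b = b := fun k h => by
    rw [hK] at h
    exact (mem_two_stab _).mp h
  have hKmem : ∀ k : K, (k : G) • a = a ∧ (k : G) • b = b := fun k => hKmem' k k.2
  have hXmem : ∀ (k : K) (y : {y : Ω // y ≠ a ∧ y ≠ b}),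
      (k : G) • (y : Ω) ≠ a ∧ (k : G) • (y : Ω) ≠ b := by
    intro k y
    constructor
    · intro h
      exact y.2.1 (MulAction.injective (k : G) (h.trans (hKmem k).1.symm))
    · intro h
      exact y.2.2 (MulAction.injective (k : G) (h.trans (hKmem k).2.symm))
  letI act : MulAction K {y : Ω // y ≠ a ∧ y ≠ b} :=
    { smul := fun k y => ⟨(k : G) • (y : Ω), hXmem k y⟩
      one_smul := fun y => Subtype.ext (one_smul G (y : Ω))
      mul_smul := fun k k' y => Subtype.ext (mul_smul (k : G) (k' : G) (y : Ω)) }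
  have hfree : ∀ y : {y : Ω // y ≠ a ∧ y ≠ b}, MulAction.stabilizer K y = ⊥ := by
    intro y
    rw [eq_bot_iff]
    intro k hk
    rw [MulAction.mem_stabilizer_iff] at hk
    have hk' : (k : G) • (y : Ω) = (y : Ω) := congrArg Subtype.val hk
    rw [Subgroup.mem_bot]
    apply Subtype.ext
    exact hZ.2.2.1 (k : G) a b y hab (Ne.symm y.2.2) (Ne.symm y.2.1) (hKmem k).1 (hKmem k).2 hk'
  have hXcard : Nat.card {y : Ω // y ≠ a ∧ y ≠ b} = Fintype.card Ω - 2 := by
    rw [Nat.card_eq_fintype_card, Fintype.card_subtype]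
    have h1 : (Finset.univ.filter (fun y : Ω => y ≠ a ∧ y ≠ b)) =
        (Finset.univ.erase a).erase b := by
      ext y
      simp [and_comm]
    rw [h1, Finset.card_erase_of_mem (Finset.mem_erase.mpr ⟨Ne.symm hab, Finset.mem_univ b⟩),
      Finset.card_erase_of_mem (Finset.mem_univ a), Finset.card_univ]
    omega
  constructor
  · rw [← hXcard, Nat.card_congr (MulAction.selfEquivOrbitsQuotientProd hfree), Nat.card_prod]
    exact dvd_mul_left _ _
  · intro hcard y z hya hyb hza hzb
    have hinj : Function.Injective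
        (fun k : K => k • (⟨y, hya, hyb⟩ : {y : Ω // y ≠ a ∧ y ≠ b})) := by
      intro k k' h
      have h' : k • (⟨y, hya, hyb⟩ : {y : Ω // y ≠ a ∧ y ≠ b}) = k' • ⟨y, hya, hyb⟩ := h
      have h1 : (k'⁻¹ * k) • (⟨y, hya, hyb⟩ : {y : Ω // y ≠ a ∧ y ≠ b}) = ⟨y, hya, hyb⟩ := by
        rw [mul_smul, h', inv_smul_smul]
      have h2 : k'⁻¹ * k ∈ MulAction.stabilizer K (⟨y, hya, hyb⟩ : {y : Ω // y ≠ a ∧ y ≠ b}) :=
        h1
      rw [hfree, Subgroup.mem_bot] at h2
      exact (inv_mul_eq_one.mp h2).symm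
    have hbij := (Nat.bijective_iff_injective_and_card _).mpr
      ⟨hinj, by rw [hXcard]; exact hcard⟩
    obtain ⟨k, hk⟩ := hbij.2 ⟨z, hza, hzb⟩
    exact ⟨(k : G), (hKmem k).1, (hKmem k).2, congrArg Subtype.val hk⟩

omit [Finite G] in
/-- A regular subgroup of the point stabiliser has `n` elements. -/
theorem kernel_card_of_reg {x b : Ω} (hb : b ≠ x) (F : Subgroup G)
    (hFle : F ≤ stabilizer G x)
    (hreg : ∀ y z : Ω, y ≠ x → z ≠ x → ∃! u : F, (u : G) • y = z) :
    Nat.card F + 1 = Fintype.card Ω := by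
  classical
  have hmem : ∀ u : F, (u : G) • b ≠ x := by
    intro u h
    apply hb
    have hux : (u : G) • x = x := hFle u.2
    exact MulAction.injective (u : G) (h.trans hux.symm)
  have hbij : Function.Bijective
      (fun u : F => (⟨(u : G) • b, hmem u⟩ : {y : Ω // y ≠ x})) := by
    constructor
    · intro u v h
      have h1 : (u : G) • b = (v : G) • b := congrArg Subtype.val h
      obtain ⟨w, hw, huniq⟩ := hreg b ((v : G) • b) hb (hmem v)
      exact (huniq u h1).trans (huniq v rfl).symm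
    · rintro ⟨y, hy⟩
      obtain ⟨w, hw, -⟩ := hreg b y hb hy
      exact ⟨w, Subtype.ext hw⟩
  have h1 : Nat.card F = Nat.card {y : Ω // y ≠ x} := Nat.card_congr (Equiv.ofBijective _ hbij)
  have h2 : Nat.card {y : Ω // y ≠ x} = Fintype.card Ω - 1 := by
    rw [Nat.card_eq_fintype_card, Fintype.card_subtype, Finset.filter_ne',
      Finset.card_erase_of_mem (Finset.mem_univ x), Finset.card_univ]
  have h3 : 0 < Fintype.card Ω := Fintype.card_pos_iff.mpr ⟨x⟩
  omega

omit [Finite G] [Fintype Ω] in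
/-- Non-identity elements of a regular subgroup of the point stabiliser fix only that point. -/
theorem kernel_fix_of_reg {x : Ω} (F : Subgroup G)
    (hreg : ∀ y z : Ω, y ≠ x → z ≠ x → ∃! u : F, (u : G) • y = z) :
    ∀ u ∈ F, u ≠ 1 → ∀ c : Ω, u • c = c → c = x := by
  intro u hu hu1 c hc
  by_contra hcx
  obtain ⟨v, hv, hvuniq⟩ := hreg c c hcx hcx
  have h1 := hvuniq ⟨u, hu⟩ hc
  have h2 := hvuniq 1 (one_smul _ _)
  apply hu1
  have h3 : (⟨u, hu⟩ : F) = 1 := h1.trans h2.symm
  exact congrArg Subtype.val h3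

/-- If the two-point stabiliser has order `n - 1`, the group is sharply triply transitive. -/
theorem sharp3_of_card (hZ : Cfsg.IsZassenhausGroup G Ω) {a b : Ω} (hab : a ≠ b)
    (hd : Nat.card ↥(stabilizer G a ⊓ stabilizer G b) = Fintype.card Ω - 2) :
    MulAction.IsMultiplyPretransitive G Ω 3 ∧
      ∀ t : Fin 3 ↪ Ω, MulAction.stabilizer G t = ⊥ := by
  constructor
  · refine ⟨fun p q => ?_⟩
    have hp01 : p 0 ≠ p 1 := fun h => by simpa using p.injective h
    have hp02 : p 0 ≠ p 2 := fun h => by simpa using p.injective h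
    have hp12 : p 1 ≠ p 2 := fun h => by simpa using p.injective h
    have hq01 : q 0 ≠ q 1 := fun h => by simpa using q.injective h
    have hq02 : q 0 ≠ q 2 := fun h => by simpa using q.injective h
    have hq12 : q 1 ≠ q 2 := fun h => by simpa using q.injective h
    obtain ⟨g₁, h0, h1⟩ := zass_two_trans hZ hp01 hq01
    have hcard := card_two_stab_eq hZ hab hq01
    have htr := (two_stab_dvd hZ hq01).2 (by rw [hcard, hd])
    have hy0 : g₁ • p 2 ≠ q 0 := by
      rw [← h0]
      exact fun h => hp02 (MulAction.injective g₁ h).symm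
    have hy1 : g₁ • p 2 ≠ q 1 := by
      rw [← h1]
      exact fun h => hp12 (MulAction.injective g₁ h).symm
    obtain ⟨k, hk0, hk1, hk2⟩ := htr (g₁ • p 2) (q 2) hy0 hy1 (Ne.symm hq02) (Ne.symm hq12)
    refine ⟨k * g₁, ?_⟩
    have e0 : (k * g₁) • p 0 = q 0 := by rw [mul_smul, h0, hk0]
    have e1 : (k * g₁) • p 1 = q 1 := by rw [mul_smul, h1, hk1]
    have e2 : (k * g₁) • p 2 = q 2 := by rw [mul_smul, hk2]
    ext i
    rw [Function.Embedding.smul_apply]
    fin_cases i
    · exact e0
    · exact e1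
    · exact e2
  · intro t
    rw [eq_bot_iff]
    intro g hg
    rw [MulAction.mem_stabilizer_iff] at hg
    have hgi : ∀ i, g • t i = t i := fun i => by
      rw [← Function.Embedding.smul_apply, hg]
    have ht01 : t 0 ≠ t 1 := fun h => by simpa using t.injective h
    have ht02 : t 0 ≠ t 2 := fun h => by simpa using t.injective h
    have ht12 : t 1 ≠ t 2 := fun h => by simpa using t.injective h
    rw [Subgroup.mem_bot]
    exact hZ.2.2.1 g (t 0) (t 1) (t 2) ht01 ht12 ht02 (hgi 0) (hgi 1) (hgi 2)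

/-- The main dichotomy and the conclusion in both cases. -/
theorem zass_ab_result (hZ : Cfsg.IsZassenhausGroup G Ω) {a b : Ω} (hab : a ≠ b)
    (H : Subgroup G) (hHa : H ≤ stabilizer G a) (hHcard : Nat.card H + 1 = Fintype.card Ω)
    (hHfix : ∀ u ∈ H, u ≠ 1 → ∀ c : Ω, u • c = c → c = a)
    (hHcomm : ∀ u ∈ H, ∀ v ∈ H, u * v = v * u) :
    (MulAction.IsMultiplyPretransitive G Ω 3 ∧ ∀ t : Fin 3 ↪ Ω, MulAction.stabilizer G t = ⊥) ∨
    ∃ (K : Type) (_ : Field K) (_ : Fintype K), ringChar K ≠ 2 ∧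
      Fintype.card K + 1 = Fintype.card Ω ∧
      Nonempty (G ≃* Matrix.ProjectiveSpecialLinearGroup (Fin 2) K) := by
  obtain ⟨d, hd⟩ : ∃ d, d = Nat.card ↥(stabilizer G a ⊓ stabilizer G b) := ⟨_, rfl⟩
  have hN3 : 3 ≤ Fintype.card Ω := by
    have h3 := zass_three_le_card hZ (Ω := Ω)
    rwa [Nat.card_eq_fintype_card] at h3
  have hbound : Fintype.card Ω - 2 ≤ 2 * d := by
    rcases Nat.even_or_odd d with he | ho
    · rw [hd] at he ⊢
      exact Cfsg.Agent.S0741.result hZ hab he
    · obtain ⟨h, hh⟩ : ∃ h, Fintype.card Ω = h + 1 := ⟨Fintype.card Ω - 1, by omega⟩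
      rcases feit_general (Nat.card G) G rfl hZ hab h d hh hd.symm ho H hHa hHcard hHfix with
        h1 | ⟨-, ⟨u, v, huv⟩, -⟩
      · omega
      · exact absurd (Subtype.ext (hHcomm u u.2 v v.2)) huv
  have hdvd := (two_stab_dvd hZ hab).1
  rw [← hd] at hdvd
  have hdpos : 0 < d := by rw [hd]; exact Nat.card_pos
  have hcases : d = Fintype.card Ω - 2 ∨ 2 * d + 2 = Fintype.card Ω := by
    obtain ⟨m, hm⟩ := hdvd
    have hm1 : 1 ≤ m := by
      by_contra hcon
      have hm0 : m = 0 := by omega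
      rw [hm0, mul_zero] at hm
      omega
    have hm2 : m ≤ 2 := by
      by_contra hcon
      have h3 : 3 ≤ m := by omega
      have h4 : d * 3 ≤ d * m := Nat.mul_le_mul_left d h3
      omega
    rcases Nat.lt_or_ge m 2 with h | h
    · left
      have hm' : m = 1 := by omega
      rw [hm', mul_one] at hm
      exact hm.symm
    · right
      have hm' : m = 2 := by omega
      rw [hm'] at hm
      omega
  rcases hcases with hc | hc
  · left
    exact sharp3_of_card hZ hab (by rw [← hd]; exact hc)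
  · right
    rw [hd] at hc
    obtain ⟨t, ht2, hta, htb, hinv⟩ := swaps_all hZ hab H hHa hHcard hHfix hHcomm hc
    exact zass_ab_psl hZ hab H hHa hHcard hHfix hHcomm hc t ht2 hta htb hinv

end Case

end Cfsg.Agent.Lib.helper16.ZassAb
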