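import Mathlib

/-!
# S3412 (helper16, architect): shared definitions

Commuting graph of `PSL(3,3)`.  For a group `X`:
* `T X`: the non-identity elements whose centralizer has order divisible by `27`
  (in `SL(3,3)`: the 104 transvections);
* `Fam X`: the `8`-cliques of `T X` in the commuting graph (in `SL(3,3)`: the 26 sets
  `E ∖ {1}`, `E` the group of elations with a given centre or a given axis);
* `Inc A B`: the two sets meet (in `SL(3,3)`: equality, or incidence of a point and a line);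
* `L1`, `L2`, `L3`: the three properties of the commuting graph that the proof uses.
-/

set_option autoImplicit false

open Matrix

namespace Cfsg.Agent.Lib.helper16.CG33

/-- non-identity elements whose centralizer has order divisible by `27`. -/
def T (X : Type*) [Group X] : Set X :=
  {x | x ≠ 1 ∧ 27 ∣ Nat.card (Subgroup.centralizer ({x} : Set X))}

/-- the `8`-cliques of `T X` in the commuting graph. -/
def Fam (X : Type*) [Group X] : Set (Set X) :=
  {A | A.ncard = 8 ∧ A ⊆ T X ∧ ∀ a ∈ A, ∀ b ∈ A, a * b = b * a}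

/-- incidence: the two sets meet. -/
def Inc {X : Type*} (A B : Set X) : Prop := (A ∩ B).Nonempty

/-- every member of `Fam X` is its own centralizer (minus the identity). -/
def L1 (X : Type*) [Group X] : Prop :=
  ∀ A ∈ Fam X, ∀ g : X, g ≠ 1 → (∀ a ∈ A, g * a = a * g) → g ∈ A

/-- every member of `Fam X` has an opposite member: no commuting pairs between them. -/
def L2 (X : Type*) [Group X] : Prop :=
  ∀ A ∈ Fam X, ∃ B ∈ Fam X, ∀ a ∈ A, ∀ b ∈ B, a * b ≠ b * a

/-- the incidence structure on `Fam X` has at most `2 |X|` automorphisms. -/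
def L3 (X : Type*) [Group X] : Prop :=
  Nat.card {σ : Equiv.Perm ↥(Fam X) //
    ∀ A B : ↥(Fam X), Inc (A : Set X) (B : Set X) ↔
      Inc ((σ A : ↥(Fam X)) : Set X) ((σ B : ↥(Fam X)) : Set X)} ≤ 2 * Nat.card X

/-- the conjugate `g A g⁻¹` of a set. -/
def cj {X : Type*} [Group X] (g : X) (A : Set X) : Set X := (fun x => g * x * g⁻¹) '' A

/-- the image of a set of non-identity elements under a bijection of the non-identity elements. -/
def fS {H S : Type*} [Group H] [Group S] (f : {h : H // h ≠ 1} ≃ {g : S // g ≠ 1})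
    (A : Set H) : Set S :=
  {s | ∃ h : {h : H // h ≠ 1}, (h : H) ∈ A ∧ ((f h : {g : S // g ≠ 1}) : S) = s}

/-- `SL(3,3)`. -/
abbrev S33 : Type := Matrix.SpecialLinearGroup (Fin 3) (ZMod 3)

/-- the matrix `1 + v φᵀ` (a transvection when `φ ⬝ᵥ v = 0`, `v, φ ≠ 0`). -/
def tvM (v φ : Fin 3 → ZMod 3) : Matrix (Fin 3) (Fin 3) (ZMod 3) := 1 + Matrix.vecMulVec v φ

/-- the non-identity elations with centre `v`. -/
def Ept (v : Fin 3 → ZMod 3) : Set S33 :=
  {x | ∃ φ : Fin 3 → ZMod 3, φ ≠ 0 ∧ φ ⬝ᵥ v = 0 ∧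
    (x : Matrix (Fin 3) (Fin 3) (ZMod 3)) = tvM v φ}

/-- the non-identity elations with axis `φ`. -/
def Eln (φ : Fin 3 → ZMod 3) : Set S33 :=
  {x | ∃ v : Fin 3 → ZMod 3, v ≠ 0 ∧ φ ⬝ᵥ v = 0 ∧
    (x : Matrix (Fin 3) (Fin 3) (ZMod 3)) = tvM v φ}

/-- the 13 normalized non-zero vectors of `F_3^3` (first non-zero coordinate `1`). -/
def pt : Fin 13 → (Fin 3 → ZMod 3) :=
  ![![1, 0, 0], ![0, 1, 0], ![0, 0, 1], ![1, 1, 0], ![1, 2, 0], ![1, 0, 1], ![1, 0, 2],
    ![0, 1, 1], ![0, 1, 2], ![1, 1, 1], ![1, 1, 2], ![1, 2, 1], ![1, 2, 2]]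

/-- the 26 vertices of the model: 13 points and 13 lines. -/
abbrev Vtx : Type := Fin 13 ⊕ Fin 13

/-- the model relation: equality, or incidence of a point and a line. -/
def R : Vtx → Vtx → Prop
  | Sum.inl i, Sum.inl j => i = j
  | Sum.inr i, Sum.inr j => i = j
  | Sum.inl i, Sum.inr j => pt j ⬝ᵥ pt i = 0
  | Sum.inr j, Sum.inl i => pt j ⬝ᵥ pt i = 0

end Cfsg.Agent.Lib.helper16.CG33
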