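import Mathlib

/-!
# Commuting graphs (helper16): generic transfer lemmas for S3413

`f : {h : H // h ≠ 1} ≃ {g : M // g ≠ 1}` preserving commutation transfers group orders and
centralizer orders; a group of order `7920` with an element whose centralizer has order `11`
has no element of order `11 b`, `b ≠ 11` prime.
-/

set_option autoImplicit false

namespace Cfsg.Agent.Lib.helper16.CommGraph

/-- `|G| = #{h ≠ 1} + 1`. -/
theorem card_ne_one (G : Type*) [Group G] [Finite G] :
    Nat.card G = Nat.card {h : G // h ≠ 1} + 1 := by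
  have h1 : Nat.card {h : G // h ≠ 1} = Set.ncard ((Set.univ : Set G) \ {1}) := by
    rw [← Nat.card_coe_set_eq]
    exact Nat.card_congr (Equiv.subtypeEquivRight (fun h => by simp))
  rw [h1, Set.ncard_sdiff_singleton_of_mem (Set.mem_univ _), Set.ncard_univ]
  have : 0 < Nat.card G := Nat.card_pos
  omega

/-- `|C(y)| = #{h ≠ 1 | h y = y h} + 1`. -/
theorem card_cent {G : Type*} [Group G] [Finite G] (y : G) :
    Nat.card (Subgroup.centralizer ({y} : Set G)) =
      Nat.card {h : {h : G // h ≠ 1} // (h : G) * y = y * h} + 1 := by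
  have h1 : Nat.card {h : {h : G // h ≠ 1} // (h : G) * y = y * h} =
      Set.ncard (((Subgroup.centralizer ({y} : Set G) : Subgroup G) : Set G) \ {1}) := by
    rw [← Nat.card_coe_set_eq]
    refine Nat.card_congr ?_
    refine (Equiv.subtypeSubtypeEquivSubtypeInter (fun h : G => h ≠ 1)
      (fun h : G => h * y = y * h)).trans (Equiv.subtypeEquivRight (fun h => ?_))
    simp only [Set.mem_sdiff, SetLike.mem_coe, Subgroup.mem_centralizer_iff,
      Set.mem_singleton_iff, forall_eq]
    constructor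
    · rintro ⟨h1, h2⟩
      exact ⟨h2.symm, h1⟩
    · rintro ⟨h1, h2⟩
      exact ⟨h2, h1.symm⟩
  rw [h1, Set.ncard_sdiff_singleton_of_mem (one_mem _)]
  have h2 : Set.ncard ((Subgroup.centralizer ({y} : Set G) : Subgroup G) : Set G) =
      Nat.card (Subgroup.centralizer ({y} : Set G)) := by
    rw [← Nat.card_coe_set_eq]
    rfl
  rw [h2]
  have : 0 < Nat.card (Subgroup.centralizer ({y} : Set G)) := Nat.card_pos
  omega

/-- conjugation preserves orders. -/
theorem orderOf_conj_mul {G : Type*} [Group G] (c x : G) : orderOf (c * x * c⁻¹) = orderOf x :=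
  MulEquiv.orderOf_eq (MulAut.conj c) x

variable {H M : Type*} [Group H] [Group M] [Finite H] [Finite M]

/-- a bijection of the non-identity elements gives equal orders. -/
theorem card_eq_of_equiv (f : {h : H // h ≠ 1} ≃ {g : M // g ≠ 1}) : Nat.card H = Nat.card M := by
  rw [card_ne_one H, card_ne_one M, Nat.card_congr f]

/-- an isomorphism of commuting graphs preserves centralizer orders. -/
theorem card_cent_eq_of_equiv (f : {h : H // h ≠ 1} ≃ {g : M // g ≠ 1})
    (hf : ∀ x y : {h : H // h ≠ 1}, (x : H) * y = y * x ↔ ((f x) : M) * (f y) = (f y) * (f x))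
    (y : {h : H // h ≠ 1}) :
    Nat.card (Subgroup.centralizer ({(y : H)} : Set H)) =
      Nat.card (Subgroup.centralizer ({((f y) : M)} : Set M)) := by
  rw [card_cent, card_cent]
  congr 1
  exact Nat.card_congr (f.subtypeEquiv (fun h => hf h y))

/-- A group of order `7920` with an element whose centralizer has order `11` has no element of
order `11 b`, `b ≠ 11` a prime. -/
theorem no_mixed (hH : Nat.card H = 7920) (y : H)
    (hC : Nat.card (Subgroup.centralizer ({y} : Set H)) = 11) (b : ℕ) (hb : b.Prime)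
    (hb11 : b ≠ 11) : ¬ ∃ g : H, orderOf g = 11 * b := by
  rintro ⟨g, hg⟩
  have : Fact (Nat.Prime 11) := ⟨by norm_num⟩
  have hsyl : ∀ P : Sylow 11 H, Nat.card (P : Subgroup H) = 11 := by
    intro P
    rw [Sylow.card_eq_multiplicity, hH]
    have h7 : (7920 : ℕ) = 11 ^ 1 * 720 := by norm_num
    have : (7920 : ℕ).factorization 11 = 1 := by
      rw [h7, Nat.factorization_mul (by norm_num) (by norm_num), Nat.Prime.factorization_pow
        (by norm_num)]
      have : (720 : ℕ).factorization 11 = 0 :=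
        Nat.factorization_eq_zero_of_not_dvd (by norm_num)
      simp [this]
    rw [this]; norm_num
  have hCp : IsPGroup 11 (Subgroup.centralizer ({y} : Set H)) :=
    IsPGroup.of_card (n := 1) (by rw [hC]; norm_num)
  obtain ⟨Q, hQ⟩ := hCp.exists_le_sylow
  have hQe : Subgroup.centralizer ({y} : Set H) = (Q : Subgroup H) :=
    Subgroup.eq_of_le_of_card_ge hQ (by rw [hC, hsyl Q])
  have hz : orderOf (g ^ b) = 11 := by
    rw [orderOf_pow' g hb.ne_zero, hg, Nat.gcd_eq_right (dvd_mul_left b 11)]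
    exact Nat.mul_div_cancel _ hb.pos
  have hw : orderOf (g ^ 11) = b := by
    rw [orderOf_pow' g (by norm_num), hg, Nat.gcd_eq_right (dvd_mul_right 11 b)]
    exact Nat.mul_div_cancel_left _ (by norm_num)
  have hzp : IsPGroup 11 (Subgroup.zpowers (g ^ b)) :=
    IsPGroup.of_card (n := 1) (by rw [Nat.card_zpowers, hz]; norm_num)
  obtain ⟨P, hP⟩ := hzp.exists_le_sylow
  obtain ⟨c, hc⟩ := MulAction.exists_smul_eq H P Q
  have hzQ : c * g ^ b * c⁻¹ ∈ (Q : Subgroup H) := by
    rw [← hc, Sylow.smul_def, Sylow.pointwise_smul_def]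
    have := Subgroup.smul_mem_pointwise_smul (g ^ b) (MulAut.conj c) (P : Subgroup H)
      (hP (Subgroup.mem_zpowers _))
    simpa [MulAut.smul_def] using this
  have hz' : orderOf (c * g ^ b * c⁻¹) = 11 := by
    rw [orderOf_conj_mul, hz]
  have hgen : Subgroup.zpowers (c * g ^ b * c⁻¹) = (Q : Subgroup H) :=
    Subgroup.eq_of_le_of_card_ge ((Subgroup.zpowers_le).2 hzQ)
      (by rw [Nat.card_zpowers, hz', hsyl Q])
  have hyQ : y ∈ Subgroup.zpowers (c * g ^ b * c⁻¹) := by
    rw [hgen, ← hQe]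
    exact Subgroup.mem_centralizer_iff.2 (fun h hh => by rw [Set.mem_singleton_iff.1 hh])
  obtain ⟨k, hk⟩ := Subgroup.mem_zpowers_iff.1 hyQ
  have hcomm : Commute (c * g ^ 11 * c⁻¹) (c * g ^ b * c⁻¹) := by
    have h0 : Commute (g ^ 11) (g ^ b) := (Commute.refl g).pow_pow 11 b
    show c * g ^ 11 * c⁻¹ * (c * g ^ b * c⁻¹) = c * g ^ b * c⁻¹ * (c * g ^ 11 * c⁻¹)
    have h1 : c * g ^ 11 * c⁻¹ * (c * g ^ b * c⁻¹) = c * (g ^ 11 * g ^ b) * c⁻¹ := by group
    have h2 : c * g ^ b * c⁻¹ * (c * g ^ 11 * c⁻¹) = c * (g ^ b * g ^ 11) * c⁻¹ := by group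
    rw [h1, h2, h0.eq]
  have hwC : c * g ^ 11 * c⁻¹ ∈ Subgroup.centralizer ({y} : Set H) := by
    refine Subgroup.mem_centralizer_iff.2 (fun h hh => ?_)
    rw [Set.mem_singleton_iff.1 hh, ← hk]
    exact ((hcomm.zpow_right k).eq).symm
  have hdvd : orderOf (c * g ^ 11 * c⁻¹) ∣ 11 := by
    have := Subgroup.orderOf_dvd_natCard _ hwC
    rwa [hC] at this
  rw [orderOf_conj_mul, hw] at hdvd
  rcases (Nat.dvd_prime (by norm_num)).1 hdvd with h | h
  · exact hb.ne_one h
  · exact hb11 h

end Cfsg.Agent.Lib.helper16.CommGraph
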