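import Mathlib
import Cfsg.Agent.Lib.helper16.CG33Defs
import Cfsg.Agent.Lib.helper16.CommGraph
import Cfsg.Agent.Lib.helper52.CG33_CI
import Cfsg.Agent.Lib.helper52.CG33_TRa
import Cfsg.Agent.Lib.helper52.CG33_TRb
import Cfsg.Agent.Lib.helper30.CG33_FA
import Cfsg.Agent.Lib.helper30.CG33_FIN

/-!
# S3412 (helper16): the generic assembly

Two finite groups with isomorphic commuting graphs, one of which has the properties `L1`, `L2`,
`L3` and no subgroup of index `2`, are isomorphic.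
-/

set_option autoImplicit false

open Cfsg.Agent.Lib.helper16.CG33
open Cfsg.Agent.Lib.helper52.CG33
open Cfsg.Agent.Lib.helper30.CG33

namespace Cfsg.Agent.Lib.helper16.CG33

/-- conjugation by `g` as a permutation of `Fam X`. -/
def conjPerm {X : Type*} [Group X] (g : X) : Equiv.Perm ↥(Fam X) where
  toFun A := ⟨cj g A, cj_mem_Fam g A A.2⟩
  invFun A := ⟨cj g⁻¹ A, cj_mem_Fam g⁻¹ A A.2⟩
  left_inv A := by
    apply Subtype.ext
    show cj g⁻¹ (cj g A) = A
    rw [← cj_mul, inv_mul_cancel, cj_one]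
  right_inv A := by
    apply Subtype.ext
    show cj g (cj g⁻¹ A) = A
    rw [← cj_mul, mul_inv_cancel, cj_one]

/-- the conjugation action on `Fam X` as a homomorphism. -/
def conjHom (X : Type*) [Group X] : X →* Equiv.Perm ↥(Fam X) where
  toFun := conjPerm
  map_one' := Equiv.ext fun A => Subtype.ext (cj_one (A : Set X))
  map_mul' g h := Equiv.ext fun A => Subtype.ext (cj_mul g h (A : Set X))

theorem conjHom_apply {X : Type*} [Group X] (g : X) (A : ↥(Fam X)) :
    ((conjHom X g A : ↥(Fam X)) : Set X) = cj g (A : Set X) := rfl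

theorem conjHom_injective {X : Type*} [Group X] [Finite X] (h1 : L1 X) (h2 : L2 X)
    (hne : (Fam X).Nonempty) : Function.Injective (conjHom X) := by
  rw [injective_iff_map_eq_one]
  intro g hg
  apply faithful h1 h2 hne g
  intro A hA
  have h := congrArg (fun σ : Equiv.Perm ↥(Fam X) => ((σ ⟨A, hA⟩ : ↥(Fam X)) : Set X)) hg
  exact h

/-- the automorphisms of the incidence structure on `Fam X`. -/
def Gam (X : Type*) [Group X] : Subgroup (Equiv.Perm ↥(Fam X)) where
  carrier := {σ | ∀ A B : ↥(Fam X), Inc (A : Set X) (B : Set X) ↔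
    Inc ((σ A : ↥(Fam X)) : Set X) ((σ B : ↥(Fam X)) : Set X)}
  mul_mem' := by
    intro σ τ hσ hτ A B
    rw [hτ A B, hσ (τ A) (τ B)]
    rfl
  one_mem' := by
    intro A B
    rfl
  inv_mem' := by
    intro σ hσ A B
    have h := hσ (σ⁻¹ A) (σ⁻¹ B)
    have e1 : σ (σ⁻¹ A) = A := Equiv.apply_symm_apply σ A
    have e2 : σ (σ⁻¹ B) = B := Equiv.apply_symm_apply σ B
    rw [e1, e2] at h
    exact h.symm

theorem card_Gam {X : Type*} [Group X] (h3 : L3 X) : Nat.card ↥(Gam X) ≤ 2 * Nat.card X := h3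

/-- the bijection of the families induced by an isomorphism of commuting graphs. -/
def famEquiv {H S : Type*} [Group H] [Group S] [Finite H] [Finite S]
    (f : {h : H // h ≠ 1} ≃ {g : S // g ≠ 1})
    (hf : ∀ x y : {h : H // h ≠ 1}, (x : H) * y = y * x ↔ ((f x) : S) * (f y) = (f y) * (f x)) :
    ↥(Fam H) ≃ ↥(Fam S) where
  toFun A := ⟨fS f A, fS_mem_Fam f hf A A.2⟩
  invFun B := ⟨fS f.symm B, fS_mem_Fam f.symm (hf_symm f hf) B B.2⟩
  left_inv A := Subtype.ext (fS_symm f A A.2)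
  right_inv B := Subtype.ext (by
    have h := fS_symm f.symm (B : Set S) B.2
    rw [Equiv.symm_symm] at h
    exact h)

/-- **The generic assembly.** -/
theorem abs {H S : Type*} [Group H] [Group S] [Finite H] [Finite S]
    (f : {h : H // h ≠ 1} ≃ {g : S // g ≠ 1})
    (hf : ∀ x y : {h : H // h ≠ 1}, (x : H) * y = y * x ↔ ((f x) : S) * (f y) = (f y) * (f x))
    (h1 : L1 S) (h2 : L2 S) (h3 : L3 S) (hne : (Fam S).Nonempty)
    (hidx : ∀ K : Subgroup S, K.index ≠ 2) : Nonempty (H ≃* S) := by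
  have hneH : (Fam H).Nonempty := by
    obtain ⟨B, hB⟩ := hne
    exact ⟨fS f.symm B, fS_mem_Fam f.symm (hf_symm f hf) B hB⟩
  have hb0 : ∀ g : S, conjHom S g ∈ Gam S := by
    intro g A B
    rw [conjHom_apply, conjHom_apply]
    exact (cj_inc g (A : Set S) (B : Set S)).symm
  have ha0 : ∀ h : H, ((famEquiv f hf).permCongrHom.toMonoidHom.comp (conjHom H)) h ∈ Gam S := by
    intro h A B
    show Inc (A : Set S) (B : Set S) ↔
      Inc (fS f (cj h (fS f.symm (A : Set S)))) (fS f (cj h (fS f.symm (B : Set S))))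
    have hA := fS_mem_Fam f.symm (hf_symm f hf) (A : Set S) A.2
    have hB := fS_mem_Fam f.symm (hf_symm f hf) (B : Set S) B.2
    rw [← fS_inc f _ _ (cj_mem_Fam h _ hA) (cj_mem_Fam h _ hB), cj_inc,
      ← fS_inc f.symm _ _ A.2 B.2]
  have hbinj : Function.Injective ((conjHom S).codRestrict (Gam S) hb0) := by
    intro x y hxy
    exact conjHom_injective h1 h2 hne (congrArg Subtype.val hxy)
  have hainj : Function.Injective
      (((famEquiv f hf).permCongrHom.toMonoidHom.comp (conjHom H)).codRestrict (Gam S) ha0) := by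
    intro x y hxy
    have h' := congrArg Subtype.val hxy
    exact conjHom_injective (tr_L1 f hf h1) (tr_L2 f hf h2) hneH
      ((famEquiv f hf).permCongrHom.injective h')
  exact iso_of_embeddings _ _ hainj hbinj (Cfsg.Agent.Lib.helper16.CommGraph.card_eq_of_equiv f)
    (card_Gam h3) hidx

/-- the generic assembly, transported along an isomorphism `S' ≃* S`. -/
theorem abs_transport {H S S' : Type*} [Group H] [Group S] [Group S'] [Finite H] [Finite S]
    [Finite S'] (e : S' ≃* S)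
    (f : {h : H // h ≠ 1} ≃ {g : S' // g ≠ 1})
    (hf : ∀ x y : {h : H // h ≠ 1}, (x : H) * y = y * x ↔ ((f x) : S') * (f y) = (f y) * (f x))
    (h1 : L1 S) (h2 : L2 S) (h3 : L3 S) (hne : (Fam S).Nonempty)
    (hidx : ∀ K : Subgroup S, K.index ≠ 2) : Nonempty (H ≃* S') := by
  have hne1 : ∀ g : S', g ≠ 1 ↔ e g ≠ 1 := by
    intro g
    rw [Ne, Ne, ← e.map_one, e.injective.eq_iff]
  obtain ⟨E, hE⟩ : ∃ E : {g : S' // g ≠ 1} ≃ {g : S // g ≠ 1},
      ∀ x : {g : S' // g ≠ 1}, ((E x : {g : S // g ≠ 1}) : S) = e (x : S') :=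
    ⟨Equiv.subtypeEquiv (p := fun g : S' => g ≠ 1) (q := fun g : S => g ≠ 1) e.toEquiv hne1,
      fun x => rfl⟩
  have hf' : ∀ x y : {h : H // h ≠ 1}, (x : H) * y = y * x ↔
      (((f.trans E) x : {g : S // g ≠ 1}) : S) * ((f.trans E) y) =
        ((f.trans E) y) * ((f.trans E) x) := by
    intro x y
    rw [hf x y]
    show _ ↔ ((E (f x) : {g : S // g ≠ 1}) : S) * (E (f y)) = (E (f y)) * (E (f x))
    rw [hE, hE, ← map_mul, ← map_mul, e.injective.eq_iff]
  obtain ⟨ι⟩ := abs (f.trans E) hf' h1 h2 h3 hne hidx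
  exact ⟨ι.trans e.symm⟩

end Cfsg.Agent.Lib.helper16.CG33
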