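import Mathlib
import Cfsg.Agent.Lib.helper16.CG33Defs

/-!
# S3412 piece MOD (helper16): the Levi graph of `PG(2,3)` has at most `11232` automorphisms

Stabilizer chain `Γ ≥ Γ_a ≥ Γ_ab ≥ Γ_abc ≥ Γ_abcd = 1` for the quadrangle
`a = (1,0,0)`, `b = (0,1,0)`, `c = (0,0,1)`, `d = (1,1,1)`: the orbits have at most
`26`, `12`, `9`, `4` elements, and an automorphism fixing the quadrangle is the identity (each
further vertex is the unique common neighbour of two fixed vertices).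
-/

set_option autoImplicit false

open Matrix
open Cfsg.Agent.Lib.helper16.CG33

namespace Cfsg.Agent.Lib.helper16.CG33

instance decR : DecidableRel R
  | Sum.inl i, Sum.inl j => inferInstanceAs (Decidable (i = j))
  | Sum.inr i, Sum.inr j => inferInstanceAs (Decidable (i = j))
  | Sum.inl i, Sum.inr j => inferInstanceAs (Decidable (pt j ⬝ᵥ pt i = 0))
  | Sum.inr j, Sum.inl i => inferInstanceAs (Decidable (pt j ⬝ᵥ pt i = 0))

/-- the automorphisms of the model. -/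
def GamM : Subgroup (Equiv.Perm Vtx) where
  carrier := {σ | ∀ x y : Vtx, R x y ↔ R (σ x) (σ y)}
  mul_mem' := by
    intro σ τ hσ hτ x y
    rw [hτ x y, hσ (τ x) (τ y)]
    rfl
  one_mem' := by
    intro x y
    rfl
  inv_mem' := by
    intro σ hσ x y
    have h := hσ (σ⁻¹ x) (σ⁻¹ y)
    have e1 : σ (σ⁻¹ x) = x := Equiv.apply_symm_apply σ x
    have e2 : σ (σ⁻¹ y) = y := Equiv.apply_symm_apply σ y
    rw [e1, e2] at h
    exact h.symm

/-- same type, distinct. -/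
abbrev P2 (w x : Vtx) : Prop := x ≠ w ∧ ¬ R w x ∧ ∃ l : Vtx, R w l ∧ R x l

/-- a common neighbour of three vertices. -/
abbrev C3 (w x y : Vtx) : Prop := ∃ l : Vtx, R w l ∧ R x l ∧ R y l

theorem P2_map {σ : Equiv.Perm Vtx} (hσ : σ ∈ GamM) {w x : Vtx} (h : P2 w x) :
    P2 (σ w) (σ x) := by
  obtain ⟨h1, h2, l, h3, h4⟩ := h
  refine ⟨fun e => h1 (σ.injective e), fun e => h2 ((hσ w x).2 e), σ l, (hσ w l).1 h3,
    (hσ x l).1 h4⟩

theorem C3_map {σ : Equiv.Perm Vtx} (hσ : σ ∈ GamM) {w x y : Vtx} (h : ¬ C3 w x y) :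
    ¬ C3 (σ w) (σ x) (σ y) := by
  rintro ⟨l, h1, h2, h3⟩
  apply h
  refine ⟨σ⁻¹ l, ?_, ?_, ?_⟩
  · rw [hσ w (σ⁻¹ l)]
    have e1 : σ (σ⁻¹ l) = l := Equiv.apply_symm_apply σ l
    rw [e1]
    exact h1
  · rw [hσ x (σ⁻¹ l)]
    have e1 : σ (σ⁻¹ l) = l := Equiv.apply_symm_apply σ l
    rw [e1]
    exact h2
  · rw [hσ y (σ⁻¹ l)]
    have e1 : σ (σ⁻¹ l) = l := Equiv.apply_symm_apply σ l
    rw [e1]
    exact h3

/-- orbit-stabilizer with a bound on the orbit. -/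
theorem card_le_of_orbit {G α : Type*} [Group G] [Finite G] [MulAction G α] (x : α)
    (S : Finset α) (h : ∀ g : G, g • x ∈ S) :
    Nat.card G ≤ S.card * Nat.card (MulAction.stabilizer G x) := by
  rw [Subgroup.card_eq_card_quotient_mul_card_subgroup (MulAction.stabilizer G x),
    ← Nat.card_congr (MulAction.orbitEquivQuotientStabilizer G x)]
  apply Nat.mul_le_mul_right
  have hsub : MulAction.orbit G x ⊆ (S : Set α) := by
    rintro _ ⟨g, rfl⟩
    exact h g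
  calc Nat.card (MulAction.orbit G x) = (MulAction.orbit G x).ncard := Nat.card_coe_set_eq _
    _ ≤ (S : Set α).ncard := Set.ncard_le_ncard hsub (Finset.finite_toSet S)
    _ = S.card := Set.ncard_coe_finset S

/-- a vertex which is the unique common neighbour of two fixed vertices is fixed. -/
theorem fix_step {σ : Equiv.Perm Vtx} (hσ : σ ∈ GamM) {x y z : Vtx} (hx : σ x = x)
    (hy : σ y = y) (h : R x z ∧ R y z ∧ ∀ z' : Vtx, R x z' → R y z' → z' = z) : σ z = z := by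
  obtain ⟨h1, h2, h3⟩ := h
  apply h3
  · have h' := (hσ x z).1 h1
    rwa [hx] at h'
  · have h' := (hσ y z).1 h2
    rwa [hy] at h'

/-- an automorphism fixing the quadrangle is the identity. -/
theorem rigid {σ : Equiv.Perm Vtx} (hσ : σ ∈ GamM) (hl0 : σ (Sum.inl 0) = Sum.inl 0)
    (hl1 : σ (Sum.inl 1) = Sum.inl 1) (hl2 : σ (Sum.inl 2) = Sum.inl 2)
    (hl9 : σ (Sum.inl 9) = Sum.inl 9) : σ = 1 := by
  have hr2 : σ (Sum.inr 2) = Sum.inr 2 := fix_step hσ hl0 hl1 (by decide)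
  have hr1 : σ (Sum.inr 1) = Sum.inr 1 := fix_step hσ hl0 hl2 (by decide)
  have hr8 : σ (Sum.inr 8) = Sum.inr 8 := fix_step hσ hl0 hl9 (by decide)
  have hr0 : σ (Sum.inr 0) = Sum.inr 0 := fix_step hσ hl1 hl2 (by decide)
  have hr6 : σ (Sum.inr 6) = Sum.inr 6 := fix_step hσ hl1 hl9 (by decide)
  have hr4 : σ (Sum.inr 4) = Sum.inr 4 := fix_step hσ hl2 hl9 (by decide)
  have hl3 : σ (Sum.inl 3) = Sum.inl 3 := fix_step hσ hr2 hr4 (by decide)
  have hl5 : σ (Sum.inl 5) = Sum.inl 5 := fix_step hσ hr1 hr6 (by decide)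
  have hl7 : σ (Sum.inl 7) = Sum.inl 7 := fix_step hσ hr8 hr0 (by decide)
  have hr12 : σ (Sum.inr 12) = Sum.inr 12 := fix_step hσ hl3 hl5 (by decide)
  have hr11 : σ (Sum.inr 11) = Sum.inr 11 := fix_step hσ hl3 hl7 (by decide)
  have hr10 : σ (Sum.inr 10) = Sum.inr 10 := fix_step hσ hl5 hl7 (by decide)
  have hl4 : σ (Sum.inl 4) = Sum.inl 4 := fix_step hσ hr2 hr10 (by decide)
  have hl6 : σ (Sum.inl 6) = Sum.inl 6 := fix_step hσ hr1 hr11 (by decide)
  have hl12 : σ (Sum.inl 12) = Sum.inl 12 := fix_step hσ hr8 hr12 (by decide)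
  have hl8 : σ (Sum.inl 8) = Sum.inl 8 := fix_step hσ hr0 hr12 (by decide)
  have hl11 : σ (Sum.inl 11) = Sum.inl 11 := fix_step hσ hr6 hr11 (by decide)
  have hl10 : σ (Sum.inl 10) = Sum.inl 10 := fix_step hσ hr4 hr10 (by decide)
  have hr9 : σ (Sum.inr 9) = Sum.inr 9 := fix_step hσ hl4 hl6 (by decide)
  have hr3 : σ (Sum.inr 3) = Sum.inr 3 := fix_step hσ hl4 hl12 (by decide)
  have hr5 : σ (Sum.inr 5) = Sum.inr 5 := fix_step hσ hl6 hl12 (by decide)
  have hr7 : σ (Sum.inr 7) = Sum.inr 7 := fix_step hσ hl8 hl11 (by decide)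
  have hl : ∀ i : Fin 13, σ (Sum.inl i) = Sum.inl i := by
    intro i
    fin_cases i
    exacts [hl0, hl1, hl2, hl3, hl4, hl5, hl6, hl7, hl8, hl9, hl10, hl11, hl12]
  have hr : ∀ i : Fin 13, σ (Sum.inr i) = Sum.inr i := by
    intro i
    fin_cases i
    exacts [hr0, hr1, hr2, hr3, hr4, hr5, hr6, hr7, hr8, hr9, hr10, hr11, hr12]
  ext v
  rcases v with i | i
  · rw [hl i]; rfl
  · rw [hr i]; rfl

theorem card_S2 : (Finset.univ.filter fun x : Vtx => P2 (Sum.inl 0) x).card ≤ 12 := by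
  decide

theorem card_S3 : (Finset.univ.filter fun y : Vtx => P2 (Sum.inl 0) y ∧ P2 (Sum.inl 1) y ∧
    ¬ C3 (Sum.inl 0) (Sum.inl 1) y).card ≤ 9 := by
  decide

theorem card_S4 : (Finset.univ.filter fun z : Vtx => P2 (Sum.inl 0) z ∧ P2 (Sum.inl 1) z ∧
    P2 (Sum.inl 2) z ∧ ¬ C3 (Sum.inl 0) (Sum.inl 1) z ∧ ¬ C3 (Sum.inl 0) (Sum.inl 2) z ∧
    ¬ C3 (Sum.inl 1) (Sum.inl 2) z).card ≤ 4 := by
  decide

theorem b01 : P2 (Sum.inl 0 : Vtx) (Sum.inl 1) := by decide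
theorem b02 : P2 (Sum.inl 0 : Vtx) (Sum.inl 2) := by decide
theorem b12 : P2 (Sum.inl 1 : Vtx) (Sum.inl 2) := by decide
theorem b09 : P2 (Sum.inl 0 : Vtx) (Sum.inl 9) := by decide
theorem b19 : P2 (Sum.inl 1 : Vtx) (Sum.inl 9) := by decide
theorem b29 : P2 (Sum.inl 2 : Vtx) (Sum.inl 9) := by decide
theorem c012 : ¬ C3 (Sum.inl 0 : Vtx) (Sum.inl 1) (Sum.inl 2) := by decide
theorem c019 : ¬ C3 (Sum.inl 0 : Vtx) (Sum.inl 1) (Sum.inl 9) := by decide
theorem c029 : ¬ C3 (Sum.inl 0 : Vtx) (Sum.inl 2) (Sum.inl 9) := by decide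
theorem c129 : ¬ C3 (Sum.inl 1 : Vtx) (Sum.inl 2) (Sum.inl 9) := by decide

/-- PIECE MOD: the Levi graph of `PG(2,3)` has at most `11232 = 2 · 5616` automorphisms. -/
theorem model_bound :
    Nat.card {σ : Equiv.Perm Vtx // ∀ x y : Vtx, R x y ↔ R (σ x) (σ y)} ≤ 11232 := by
  show Nat.card ↥GamM ≤ 11232
  -- level 1
  have k1 : Nat.card ↥GamM ≤ 26 * Nat.card (MulAction.stabilizer ↥GamM (Sum.inl 0 : Vtx)) := by
    have h := card_le_of_orbit (G := ↥GamM) (Sum.inl 0 : Vtx) Finset.univ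
      (fun g => Finset.mem_univ _)
    have h26 : (Finset.univ : Finset Vtx).card = 26 := by decide
    rwa [h26] at h
  -- level 2
  have k2 : Nat.card (MulAction.stabilizer ↥GamM (Sum.inl 0 : Vtx)) ≤
      12 * Nat.card (MulAction.stabilizer ↥(MulAction.stabilizer ↥GamM (Sum.inl 0 : Vtx))
        (Sum.inl 1 : Vtx)) := by
    have h := card_le_of_orbit (G := ↥(MulAction.stabilizer ↥GamM (Sum.inl 0 : Vtx)))
      (Sum.inl 1 : Vtx) (Finset.univ.filter fun x : Vtx => P2 (Sum.inl 0) x) (by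
        intro g
        have hg0 : (g.1.1 : Equiv.Perm Vtx) (Sum.inl 0) = Sum.inl 0 := g.2
        have h1 := P2_map g.1.2 b01
        rw [hg0] at h1
        exact Finset.mem_filter.2 ⟨Finset.mem_univ _, h1⟩)
    exact h.trans (Nat.mul_le_mul_right _ card_S2)
  -- level 3
  have k3 : Nat.card (MulAction.stabilizer ↥(MulAction.stabilizer ↥GamM (Sum.inl 0 : Vtx))
        (Sum.inl 1 : Vtx)) ≤
      9 * Nat.card (MulAction.stabilizer ↥(MulAction.stabilizer
        ↥(MulAction.stabilizer ↥GamM (Sum.inl 0 : Vtx)) (Sum.inl 1 : Vtx)) (Sum.inl 2 : Vtx)) := by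
    have h := card_le_of_orbit (G := ↥(MulAction.stabilizer
        ↥(MulAction.stabilizer ↥GamM (Sum.inl 0 : Vtx)) (Sum.inl 1 : Vtx)))
      (Sum.inl 2 : Vtx) (Finset.univ.filter fun y : Vtx => P2 (Sum.inl 0) y ∧ P2 (Sum.inl 1) y ∧
        ¬ C3 (Sum.inl 0) (Sum.inl 1) y) (by
        intro g
        have hg0 : (g.1.1.1 : Equiv.Perm Vtx) (Sum.inl 0) = Sum.inl 0 := g.1.2
        have hg1 : (g.1.1.1 : Equiv.Perm Vtx) (Sum.inl 1) = Sum.inl 1 := g.2
        have h1 := P2_map g.1.1.2 b02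
        have h2 := P2_map g.1.1.2 b12
        have h3 := C3_map g.1.1.2 c012
        rw [hg0] at h1
        rw [hg1] at h2
        rw [hg0, hg1] at h3
        exact Finset.mem_filter.2 ⟨Finset.mem_univ _, h1, h2, h3⟩)
    exact h.trans (Nat.mul_le_mul_right _ card_S3)
  -- level 4
  have k4 : Nat.card (MulAction.stabilizer ↥(MulAction.stabilizer
        ↥(MulAction.stabilizer ↥GamM (Sum.inl 0 : Vtx)) (Sum.inl 1 : Vtx)) (Sum.inl 2 : Vtx)) ≤
      4 * Nat.card (MulAction.stabilizer ↥(MulAction.stabilizer ↥(MulAction.stabilizer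
        ↥(MulAction.stabilizer ↥GamM (Sum.inl 0 : Vtx)) (Sum.inl 1 : Vtx)) (Sum.inl 2 : Vtx))
        (Sum.inl 9 : Vtx)) := by
    have h := card_le_of_orbit (G := ↥(MulAction.stabilizer ↥(MulAction.stabilizer
        ↥(MulAction.stabilizer ↥GamM (Sum.inl 0 : Vtx)) (Sum.inl 1 : Vtx)) (Sum.inl 2 : Vtx)))
      (Sum.inl 9 : Vtx) (Finset.univ.filter fun z : Vtx => P2 (Sum.inl 0) z ∧ P2 (Sum.inl 1) z ∧
        P2 (Sum.inl 2) z ∧ ¬ C3 (Sum.inl 0) (Sum.inl 1) z ∧ ¬ C3 (Sum.inl 0) (Sum.inl 2) z ∧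
        ¬ C3 (Sum.inl 1) (Sum.inl 2) z) (by
        intro g
        have hg0 : (g.1.1.1.1 : Equiv.Perm Vtx) (Sum.inl 0) = Sum.inl 0 := g.1.1.2
        have hg1 : (g.1.1.1.1 : Equiv.Perm Vtx) (Sum.inl 1) = Sum.inl 1 := g.1.2
        have hg2 : (g.1.1.1.1 : Equiv.Perm Vtx) (Sum.inl 2) = Sum.inl 2 := g.2
        have h1 := P2_map g.1.1.1.2 b09
        have h2 := P2_map g.1.1.1.2 b19
        have h3 := P2_map g.1.1.1.2 b29
        have h4 := C3_map g.1.1.1.2 c019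
        have h5 := C3_map g.1.1.1.2 c029
        have h6 := C3_map g.1.1.1.2 c129
        rw [hg0] at h1
        rw [hg1] at h2
        rw [hg2] at h3
        rw [hg0, hg1] at h4
        rw [hg0, hg2] at h5
        rw [hg1, hg2] at h6
        exact Finset.mem_filter.2 ⟨Finset.mem_univ _, h1, h2, h3, h4, h5, h6⟩)
    exact h.trans (Nat.mul_le_mul_right _ card_S4)
  -- level 5: trivial
  have k5 : Nat.card (MulAction.stabilizer ↥(MulAction.stabilizer ↥(MulAction.stabilizer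
        ↥(MulAction.stabilizer ↥GamM (Sum.inl 0 : Vtx)) (Sum.inl 1 : Vtx)) (Sum.inl 2 : Vtx))
        (Sum.inl 9 : Vtx)) = 1 := by
    rw [Nat.card_eq_one_iff_unique]
    refine ⟨⟨fun g h => ?_⟩, ⟨1⟩⟩
    have key : ∀ g : (MulAction.stabilizer ↥(MulAction.stabilizer ↥(MulAction.stabilizer
        ↥(MulAction.stabilizer ↥GamM (Sum.inl 0 : Vtx)) (Sum.inl 1 : Vtx)) (Sum.inl 2 : Vtx))
        (Sum.inl 9 : Vtx)), g = 1 := by
      intro g
      have hg0 : (g.1.1.1.1 : Equiv.Perm Vtx) (Sum.inl 0) = Sum.inl 0 := g.1.1.1.2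
      have hg1 : (g.1.1.1.1 : Equiv.Perm Vtx) (Sum.inl 1) = Sum.inl 1 := g.1.1.2
      have hg2 : (g.1.1.1.1 : Equiv.Perm Vtx) (Sum.inl 2) = Sum.inl 2 := g.1.2
      have hg9 : (g.1.1.1.1 : Equiv.Perm Vtx) (Sum.inl 9) = Sum.inl 9 := g.2
      have h1 := rigid g.1.1.1.1.2 hg0 hg1 hg2 hg9
      apply Subtype.ext
      apply Subtype.ext
      apply Subtype.ext
      apply Subtype.ext
      apply Subtype.ext
      exact h1
    rw [key g, key h]
  calc Nat.card ↥GamM ≤ 26 * (12 * (9 * (4 * 1))) := by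
        rw [k5] at k4
        exact k1.trans (Nat.mul_le_mul_left _ (k2.trans (Nat.mul_le_mul_left _
          (k3.trans (Nat.mul_le_mul_left _ k4)))))
    _ = 11232 := by norm_num

end Cfsg.Agent.Lib.helper16.CG33
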