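import Mathlib
import Cfsg.Prelude.Def_Sporadic_a
import Cfsg.Prelude.Def_Sporadic
import Cfsg.Prelude.Def_Spor_Mathieu

set_option autoImplicit false
open Cfsg
open scoped Pointwise

namespace Cfsg.Agent.Lib.helper16.M11N

/-- the image of the abstract two-point stabiliser in `M24` is the concrete `Spor.M11`. -/
theorem sporM11_map :
    (MulAction.stabilizer Cfsg.M24 Cfsg.Spor.squareDodecad ⊓
        MulAction.stabilizer Cfsg.M24 (some 0 : Cfsg.GolayPt)).map Cfsg.M24.subtype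
      = Cfsg.Spor.M11 := by
  ext g
  simp only [Subgroup.mem_map, Subgroup.mem_inf, MulAction.mem_stabilizer_iff, Cfsg.Spor.M11,
    Cfsg.Spor.M12, Subgroup.coe_subtype]
  constructor
  · rintro ⟨x, ⟨h1, h2⟩, rfl⟩
    exact ⟨⟨x.2, h1⟩, h2⟩
  · rintro ⟨⟨hg, h1⟩, h2⟩
    exact ⟨⟨g, hg⟩, ⟨h1, h2⟩, rfl⟩

/-- PIECE S1: the two descriptions of the concrete `M₁₁`. -/
theorem sporM11_equiv :
    Nonempty (↥(MulAction.stabilizer Cfsg.M24 Cfsg.Spor.squareDodecad ⊓
        MulAction.stabilizer Cfsg.M24 (some 0 : Cfsg.GolayPt)) ≃* ↥Cfsg.Spor.M11) :=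
  ⟨((MulAction.stabilizer Cfsg.M24 Cfsg.Spor.squareDodecad ⊓
        MulAction.stabilizer Cfsg.M24 (some 0 : Cfsg.GolayPt)).equivMapOfInjective
      Cfsg.M24.subtype (Subgroup.subtype_injective _)).trans
    (MulEquiv.subgroupCongr sporM11_map)⟩

end Cfsg.Agent.Lib.helper16.M11N
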