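import Mathlib
import Cfsg.Prelude.Def_Classical
import Cfsg.Prelude.Def_GeometricClasses

/-! S5977/S5978 block [B], piece CYC (helper16, racing copy under a prefixed name). -/

set_option autoImplicit false

namespace Cfsg.Agent.Lib.helper96.FE

open Polynomial

/-- CYC (M): a `y`-invariant subspace of dimension `ord_r(q)` without fixed vectors is `y`-cyclic. -/
theorem h16_fe_cyclic {F : Type*} [Field F] [Fintype F] {V : Type*} [AddCommGroup V] [Module F V]
    [FiniteDimensional F V] (r : ℕ) [Fact r.Prime] (y : Module.End F V) (hyr : y ^ r = 1)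
    (W : Submodule F V) (hWy : ∀ w ∈ W, y w ∈ W) (hW1 : ∀ w ∈ W, y w = w → w = 0)
    (hdim : Module.finrank F W = orderOf ((Fintype.card F : ℕ) : ZMod r))
    (w : V) (hw : w ∈ W) (hw0 : w ≠ 0) (w' : V) (hw' : w' ∈ W) :
    ∃ g : F[X], w' = aeval y g w := by
  classical
  have hr : r.Prime := Fact.out
  let φ : F[X] →ₗ[F] V := (LinearMap.applyₗ w) ∘ₗ (aeval y).toLinearMap
  have hφ : ∀ g, φ g = aeval y g w := fun g => rfl
  have hWpow : ∀ n : ℕ, ∀ v ∈ W, (y ^ n) v ∈ W := by
    intro n
    induction n with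
    | zero => intro v hv; simpa using hv
    | succ n ih =>
      intro v hv
      rw [pow_succ, Module.End.mul_apply]
      exact ih _ (hWy v hv)
  have hZW : LinearMap.range φ ≤ W := by
    rintro z ⟨g, rfl⟩
    rw [hφ]
    induction g using Polynomial.induction_on' with
    | add p q hp hq =>
      rw [map_add, LinearMap.add_apply]
      exact W.add_mem hp hq
    | monomial n a =>
      rw [aeval_monomial, Module.End.mul_apply, Module.algebraMap_end_apply]
      exact W.smul_mem _ (hWpow n w hw)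
  have hwZ : w ∈ LinearMap.range φ := ⟨1, by rw [hφ]; simp⟩
  have hZy : ∀ z ∈ LinearMap.range φ, y z ∈ LinearMap.range φ := by
    rintro z ⟨g, rfl⟩
    refine ⟨X * g, ?_⟩
    rw [hφ, hφ, map_mul, aeval_X, Module.End.mul_apply]
  obtain ⟨Z, hZdef⟩ : ∃ Z : Submodule F V, Z = LinearMap.range φ := ⟨_, rfl⟩
  rw [← hZdef] at hZW hwZ hZy
  have hfinV : Finite V := Module.finite_of_finite F
  letI : Fintype ↥Z := Fintype.ofFinite _
  have hyinj : ∀ v, y v = 0 → v = 0 := by
    intro v hv
    have h1 : (y ^ r) v = v := by rw [hyr]; rfl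
    obtain ⟨m, hm⟩ : ∃ m, r = m + 1 := ⟨r - 1, by have := hr.pos; omega⟩
    rw [hm, pow_succ, Module.End.mul_apply, hv, map_zero] at h1
    exact h1.symm
  -- the action on the nonzero vectors of `Z`
  let f : Function.End {z : ↥Z // z ≠ 0} := fun z =>
    ⟨⟨y z.1.1, hZy _ z.1.2⟩, fun h => z.2 (Subtype.ext (hyinj _ (congrArg Subtype.val h)))⟩
  have hfpow : ∀ n : ℕ, ∀ z : {z : ↥Z // z ≠ 0}, (((f ^ n) z).1 : V) = (y ^ n) z.1.1 := by
    intro n
    induction n with
    | zero => intro z; rfl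
    | succ n ih =>
      intro z
      rw [pow_succ, pow_succ, Module.End.mul_apply]
      exact ih (f z)
  have hfr : f ^ r ^ 1 = 1 := by
    rw [pow_one]
    funext z
    apply Subtype.ext
    apply Subtype.ext
    rw [hfpow, hyr]
    rfl
  have hfix : IsEmpty (Function.fixedPoints f) := by
    constructor
    rintro ⟨z, hz⟩
    apply z.2
    apply Subtype.ext
    apply hW1 _ (hZW z.1.2)
    have : f z = z := hz
    exact congrArg (fun t : {z : ↥Z // z ≠ 0} => (t.1 : V)) this
  have hmod := Equiv.Perm.card_fixedPoints_modEq (p := r) (n := 1) hfr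
  have hfix0 : Fintype.card (Function.fixedPoints f) = 0 := Fintype.card_eq_zero_iff.mpr hfix
  have hcardZ : Fintype.card ↥Z = Fintype.card F ^ Module.finrank F ↥Z :=
    Module.card_eq_pow_finrank (K := F) (V := ↥Z)
  have hcard : Fintype.card {z : ↥Z // z ≠ 0} = Fintype.card F ^ Module.finrank F ↥Z - 1 := by
    rw [Fintype.card_subtype_compl, Fintype.card_subtype_eq, hcardZ]
  rw [hfix0, hcard] at hmod
  have hdvd : r ∣ Fintype.card F ^ Module.finrank F ↥Z - 1 := (Nat.modEq_zero_iff_dvd).mp hmod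
  have hpos : 1 ≤ Fintype.card F ^ Module.finrank F ↥Z := Nat.one_le_pow _ _ Fintype.card_pos
  have hone : ((Fintype.card F : ℕ) : ZMod r) ^ Module.finrank F ↥Z = 1 := by
    have h0 := (ZMod.natCast_eq_zero_iff _ _).mpr hdvd
    rw [Nat.cast_sub hpos, Nat.cast_pow, Nat.cast_one, sub_eq_zero] at h0
    exact h0
  have hord := orderOf_dvd_of_pow_eq_one hone
  have hkpos : 0 < Module.finrank F ↥Z := by
    rw [Module.finrank_pos_iff_exists_ne_zero]
    exact ⟨⟨w, hwZ⟩, fun h => hw0 (congrArg Subtype.val h)⟩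
  have hle : Module.finrank F ↥W ≤ Module.finrank F ↥Z := by
    rw [hdim]
    exact Nat.le_of_dvd hkpos hord
  have hZeq : Z = W := Submodule.eq_of_le_of_finrank_le hZW hle
  have hw'Z : w' ∈ Z := by rw [hZeq]; exact hw'
  rw [hZdef] at hw'Z
  obtain ⟨g, hg⟩ := hw'Z
  exact ⟨g, hg.symm⟩

end Cfsg.Agent.Lib.helper96.FE
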