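import Mathlib
import Cfsg.Prelude.Def_Classical
import Cfsg.Prelude.Def_GeometricClasses

/-! S5977/S5978 block [B], piece FROB (helper16). -/

set_option autoImplicit false

namespace Cfsg.Agent.Lib.helper96.FE

open Polynomial

theorem helper16_expand_card_pow {F : Type*} [Field F] [Fintype F] (g : F[X]) (j : ℕ) :
    expand F (Fintype.card F ^ j) g = g ^ (Fintype.card F ^ j) := by
  induction j with
  | zero => simp
  | succ j ih =>
    rw [pow_succ, ← expand_expand, FiniteField.expand_card, map_pow, ih, ← pow_mul]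

/-- FROB (S/M): `g(y^(q^j)) = g(y)^(q^j)` for `g ∈ F[X]`, `q = |F|`. -/
theorem fe_frob {F : Type*} [Field F] [Fintype F] {V : Type*} [AddCommGroup V] [Module F V]
    (y : Module.End F V) (g : F[X]) (j : ℕ) :
    aeval (y ^ (Fintype.card F ^ j)) g = (aeval y g) ^ (Fintype.card F ^ j) := by
  rw [← expand_aeval, helper16_expand_card_pow, map_pow]

end Cfsg.Agent.Lib.helper96.FE
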