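import Mathlib
import Cfsg.Prelude.Def_Classical
import Cfsg.Prelude.Def_GeometricClasses

/-! S5977/S5978 block [B], piece KFROB (helper16). -/

set_option autoImplicit false

namespace Cfsg.Agent.Lib.helper96.FE

open Polynomial

/-- In a finite field with `q^2` elements (`1 < q`), some element is moved by `x ↦ x^(q^j)`,
`j` odd. -/
theorem helper16_field_sq_frob (K : Type*) [Field K] [Fintype K] (q : ℕ) (hq : 1 < q)
    (hcard : Fintype.card K = q ^ 2) (j : ℕ) (hj : Odd j) :
    ∃ κ : K, κ ^ (q ^ j) - κ ≠ 0 := by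
  obtain ⟨m, rfl⟩ := hj
  have hred : ∀ κ : K, κ ^ (q ^ (2 * m + 1)) = κ ^ q := by
    intro κ
    have h1 : q ^ (2 * m + 1) = (Fintype.card K) ^ m * q := by
      rw [hcard, ← pow_mul, pow_succ]
    rw [h1, pow_mul, FiniteField.pow_card_pow]
  by_contra hcon
  push_neg at hcon
  have hall : ∀ κ : K, eval κ (X ^ q - X : K[X]) = 0 := by
    intro κ
    have := hcon κ
    rw [hred] at this
    simpa using this
  have hz : (X ^ q - X : K[X]) = 0 := by
    apply eq_zero_of_natDegree_lt_card_of_eval_eq_zero' _ (Finset.univ : Finset K)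
    · intro i _
      exact hall i
    · rw [FiniteField.X_pow_card_sub_X_natDegree_eq K hq, Finset.card_univ, hcard]
      nlinarith
  exact FiniteField.X_pow_card_sub_X_ne_zero K hq hz

/-- KFROB (M): in the field `K` of order `q^2` some `k` has `k^(q^j) - k` invertible, `j` odd. -/
theorem fe_Kfrob {F : Type*} [Field F] [Fintype F] {ι : Type} [Fintype ι] [DecidableEq ι]
    (K : Subalgebra F (Matrix ι ι F)) (hK : Cfsg.Geo.IsFieldSubalgebra 2 K) (j : ℕ) (hj : Odd j) :
    ∃ k ∈ K, ∃ k' ∈ K, (k ^ (Fintype.card F ^ j) - k) * k' = 1 := by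
  classical
  have hnt : Nontrivial ↥K := by
    apply Module.nontrivial_of_finrank_pos (R := F)
    rw [hK.finrank_eq]
    norm_num
  have hfield : IsField ↥K :=
    { exists_pair_ne := ⟨0, 1, zero_ne_one⟩
      mul_comm := fun x y => Subtype.ext (hK.comm x x.2 y y.2)
      mul_inv_cancel := fun {a} ha => by
        obtain ⟨y, hy, hxy⟩ := hK.inv a a.2 (fun h => ha (Subtype.ext h))
        exact ⟨⟨y, hy⟩, Subtype.ext hxy⟩ }
  letI : Field ↥K := hfield.toField
  letI : Fintype ↥K := Fintype.ofFinite _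
  have hcard : Fintype.card ↥K = Fintype.card F ^ 2 := by
    rw [Module.card_eq_pow_finrank (K := F) (V := ↥K), hK.finrank_eq]
  obtain ⟨κ, hκ⟩ := helper16_field_sq_frob ↥K (Fintype.card F) Fintype.one_lt_card hcard j hj
  have hne : ((κ : Matrix ι ι F) ^ (Fintype.card F ^ j) - (κ : Matrix ι ι F)) ≠ 0 := by
    intro h
    apply hκ
    apply Subtype.ext
    exact h
  have hmem : ((κ : Matrix ι ι F) ^ (Fintype.card F ^ j) - (κ : Matrix ι ι F)) ∈ K :=
    K.sub_mem (K.pow_mem κ.2 _) κ.2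
  obtain ⟨k', hk', hkk⟩ := hK.inv _ hmem hne
  exact ⟨κ, κ.2, k', hk', hkk⟩

end Cfsg.Agent.Lib.helper96.FE
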