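import Mathlib
import Cfsg.Prelude.Def_Classical
import Cfsg.Prelude.Def_GeometricClasses

/-! S5977/S5978 block [B], piece NDEG (helper16). -/

set_option autoImplicit false

namespace Cfsg.Agent.Lib.helper96.FE

open Polynomial

theorem helper16_toLin'_pow {F : Type*} [Field F] {ι : Type} [Fintype ι] [DecidableEq ι]
    (M : Matrix ι ι F) (n : ℕ) : (Matrix.toLin' M) ^ n = Matrix.toLin' (M ^ n) := by
  induction n with
  | zero => simp; rfl
  | succ n ih => rw [pow_succ, pow_succ, Matrix.toLin'_mul, ih]; rfl

/-- NDEG (M): the polar form is nondegenerate on `ker Φ_r(y)` for an isometry `y` with `y^r = 1`. -/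
theorem fe_nondeg {F : Type*} [Field F] {ι : Type} [Fintype ι] [DecidableEq ι]
    (Q : (ι → F) → F) (hQ : Cfsg.Geo.IsNondegenerateQuadraticForm Q)
    (r : ℕ) [Fact r.Prime] (hrF : (r : F) ≠ 0)
    (y : GL ι F) (hy : y ∈ Cfsg.isometryGroup F Q) (hyr : y ^ r = 1)
    (w : ι → F)
    (hw : w ∈ LinearMap.ker (aeval (Matrix.toLin' (y : Matrix ι ι F)) (cyclotomic r F)))
    (hperp : ∀ w' ∈ LinearMap.ker (aeval (Matrix.toLin' (y : Matrix ι ι F)) (cyclotomic r F)),
      QuadraticMap.polar Q w w' = 0) :
    w = 0 := by
  classical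
  obtain ⟨hadd_l, hsmul_l, hadd_r, hsmul_r⟩ := hQ.polar_bilinear
  have hTr : (Matrix.toLin' (y : Matrix ι ι F)) ^ r = 1 := by
    have h1 : (y : Matrix ι ι F) ^ r = 1 := by
      rw [← Units.val_pow_eq_pow_val, hyr, Units.val_one]
    rw [helper16_toLin'_pow, h1, Matrix.toLin'_one]; rfl
  have hQy : ∀ u, Q (Matrix.toLin' (y : Matrix ι ι F) u) = Q u := by
    intro u
    have := hy u u
    rw [Matrix.toLin'_apply]
    exact this
  generalize Matrix.toLin' (y : Matrix ι ι F) = T at hw hperp hTr hQy
  have hBT : ∀ u v, QuadraticMap.polar Q (T u) (T v) = QuadraticMap.polar Q u v := by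
    intro u v
    simp only [QuadraticMap.polar]
    rw [← map_add, hQy, hQy, hQy]
  have hsub_l : ∀ a b c, QuadraticMap.polar Q (a - b) c
      = QuadraticMap.polar Q a c - QuadraticMap.polar Q b c := by
    intro a b c
    have := hadd_l (a - b) b c
    rw [sub_add_cancel] at this
    rw [this]; ring
  have hsub_r : ∀ c a b, QuadraticMap.polar Q c (a - b)
      = QuadraticMap.polar Q c a - QuadraticMap.polar Q c b := by
    intro c a b
    have := hadd_r c (a - b) b
    rw [sub_add_cancel] at this
    rw [this]; ring
  -- the polynomial identity `Φ = (X - 1) g + r`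
  have hpoly : cyclotomic r F = (X - C 1) * (cyclotomic r F /ₘ (X - C 1)) + C (r : F) := by
    have h1 := modByMonic_add_div (cyclotomic r F) (X - C (1 : F))
    rw [modByMonic_X_sub_C_eq_C_eval, eval_one_cyclotomic_prime] at h1
    rw [add_comm]
    exact_mod_cast h1.symm
  generalize cyclotomic r F /ₘ (X - C 1) = g at hpoly
  have hcyc : cyclotomic r F * (X - 1) = X ^ r - 1 := cyclotomic_prime_mul_X_sub_one F r
  have e1 : aeval T (cyclotomic r F) = (T - 1) * aeval T g + algebraMap F _ (r : F) := by
    conv_lhs => rw [hpoly]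
    simp
  have e2 : aeval T (cyclotomic r F) * (T - 1) = 0 := by
    have := congrArg (aeval T) hcyc
    simpa [hTr] using this
  have e3 : (T - 1) * aeval T (cyclotomic r F) = 0 := by
    have hc : Commute (aeval T (cyclotomic r F)) (T - 1) := by
      have : Commute (aeval T (cyclotomic r F)) T := (Algebra.commute_of_mem_adjoin_self
        (aeval_mem_adjoin_singleton F T)).symm
      exact this.sub_right (Commute.one_right _)
    rw [← hc.eq, e2]
  -- (1) `r • v = Φ(T) v - (T - 1) (g(T) v)`
  have h1 : ∀ v, (r : F) • v = aeval T (cyclotomic r F) v - (T (aeval T g v) - aeval T g v) := by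
    intro v
    have := congrArg (fun f => f v) e1
    simp only [Module.End.mul_apply, LinearMap.add_apply, LinearMap.sub_apply,
      Module.End.one_apply, Module.algebraMap_end_apply] at this
    rw [this]; abel
  -- (3) `w` is perpendicular to the fixed vectors of `T`
  have h3 : ∀ v₁, T v₁ = v₁ → QuadraticMap.polar Q w v₁ = 0 := by
    intro v₁ hv₁
    have hw0 : aeval T (cyclotomic r F) w = 0 := hw
    have hrw := h1 w
    rw [hw0, zero_sub] at hrw
    have : QuadraticMap.polar Q ((r : F) • w) v₁ = 0 := by
      rw [hrw, neg_sub, hsub_l]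
      nth_rewrite 2 [← hv₁]
      rw [hBT, sub_self]
    rw [hsmul_l] at this
    exact (mul_eq_zero.mp this).resolve_left hrF
  -- (4) `w` is perpendicular to everything
  have h4 : ∀ v, QuadraticMap.polar Q w v = 0 := by
    intro v
    have ha : QuadraticMap.polar Q w (aeval T (cyclotomic r F) v) = 0 := by
      apply h3
      have := congrArg (fun f => f v) e3
      simp only [Module.End.mul_apply, LinearMap.sub_apply, Module.End.one_apply,
        LinearMap.zero_apply] at this
      exact sub_eq_zero.mp this
    have hb : QuadraticMap.polar Q w (T (aeval T g v) - aeval T g v) = 0 := by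
      apply hperp
      rw [LinearMap.mem_ker]
      have := congrArg (fun f => f (aeval T g v)) e2
      simp only [Module.End.mul_apply, LinearMap.sub_apply, Module.End.one_apply,
        LinearMap.zero_apply] at this
      exact this
    have : QuadraticMap.polar Q w ((r : F) • v) = 0 := by
      rw [h1 v, hsub_r, ha, hb, sub_zero]
    rw [hsmul_r] at this
    exact (mul_eq_zero.mp this).resolve_left hrF
  by_contra hw0
  obtain ⟨x, hx⟩ := (hQ.nondegenerate w hw0).2
  exact hx (h4 x)

end Cfsg.Agent.Lib.helper96.FE
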