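-- helper16: a finite field from a commuting group of additive endomorphisms acting freely
-- and irreducibly.
import Mathlib

set_option autoImplicit false
set_option linter.style.haveILetI false
set_option linter.unusedSectionVars false
set_option linter.unusedVariables false

namespace Cfsg.Agent.Lib.helper16.ZassAb

universe u v

section FieldIrr

variable {A : Type u} [AddCommGroup A] [Finite A] {K' : Type v} [Group K'] [Finite K']

/-- A commutative group `K'` acting by additive endomorphisms on `A`, freely on the nonzero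
elements and irreducibly, makes `A` the additive group of a finite field on which `K'` acts
by multiplications. -/
theorem exists_field_irr (ρ : K' →* AddMonoid.End A)
    (hcomm : ∀ k k' : K', k * k' = k' * k)
    (hfree : ∀ k : K', k ≠ 1 → ∀ x : A, ρ k x = x → x = 0)
    (hirr : ∀ B : AddSubgroup A, (∀ k : K', ∀ x ∈ B, ρ k x ∈ B) → B = ⊥ ∨ B = ⊤)
    (e₁ : A) (he₁ : e₁ ≠ 0) :
    ∃ (p n : ℕ) (_ : Fact p.Prime) (ψ : GaloisField p n → A) (θ : K' → GaloisField p n),
      n ≠ 0 ∧ Nat.card A = p ^ n ∧
      Function.Bijective ψ ∧ (∀ z w, ψ (z + w) = ψ z + ψ w) ∧ ψ 1 = e₁ ∧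
      (∀ k z, ρ k (ψ z) = ψ (θ k * z)) ∧ (∀ k, θ k ≠ 0) ∧
      (∀ k k', θ (k * k') = θ k * θ k') ∧ Function.Injective θ := by
  classical
  haveI : Finite (AddMonoid.End A) :=
    Finite.of_injective (fun f : AddMonoid.End A => (f : A → A)) DFunLike.coe_injective
  have hS : ∀ x ∈ Set.range ρ, ∀ y ∈ Set.range ρ, x * y = y * x := by
    rintro _ ⟨k, rfl⟩ _ ⟨k', rfl⟩
    rw [← map_mul, ← map_mul, hcomm]
  obtain ⟨R, hR⟩ : ∃ R : Subring (AddMonoid.End A), R = Subring.closure (Set.range ρ) :=
    ⟨_, rfl⟩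
  haveI hRc : IsMulCommutative R := by rw [hR]; exact Subring.isMulCommutative_closure hS
  letI cr : CommRing R := { (inferInstance : Ring R) with mul_comm := fun a b => mul_comm' a b }
  have hρR : ∀ k, ρ k ∈ R := fun k => by rw [hR]; exact Subring.subset_closure ⟨k, rfl⟩
  have hcommR : ∀ (ε : R) (k : K') (x : A),
      (ε : AddMonoid.End A) (ρ k x) = ρ k ((ε : AddMonoid.End A) x) := by
    intro ε k x
    have h1 : ε * ⟨ρ k, hρR k⟩ = ⟨ρ k, hρR k⟩ * ε := mul_comm' _ _
    have h2 := congrArg (fun r : R => (r : AddMonoid.End A) x) h1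
    exact h2
  have hker : ∀ ε : R, ε ≠ 0 → ∀ x : A, (ε : AddMonoid.End A) x = 0 → x = 0 := by
    intro ε hε x hx
    let B : AddSubgroup A :=
      { carrier := {x | (ε : AddMonoid.End A) x = 0}
        zero_mem' := map_zero _
        add_mem' := fun {x y} hx hy => by
          simp only [Set.mem_ofPred_eq] at *
          rw [map_add, hx, hy, add_zero]
        neg_mem' := fun {x} hx => by
          simp only [Set.mem_ofPred_eq] at *
          rw [map_neg, hx, neg_zero] }
    have hB := hirr B (by
      intro k y hy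
      show (ε : AddMonoid.End A) (ρ k y) = 0
      rw [hcommR]
      have hy' : (ε : AddMonoid.End A) y = 0 := hy
      rw [hy', map_zero])
    rcases hB with hB | hB
    · have h1 : x ∈ B := hx
      rw [hB] at h1
      exact (AddSubgroup.mem_bot).mp h1
    · exfalso
      apply hε
      apply Subtype.ext
      apply AddMonoidHom.ext
      intro y
      have h1 : y ∈ B := by rw [hB]; trivial
      exact h1
  have hRnt : (0 : R) ≠ 1 := by
    intro h
    have h1 := congrArg (fun r : R => (r : AddMonoid.End A) e₁) h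
    exact he₁ h1.symm
  haveI : Nontrivial R := ⟨⟨0, 1, hRnt⟩⟩
  haveI : NoZeroDivisors R := ⟨fun {a b} hab => by
    by_contra hcon
    push Not at hcon
    obtain ⟨ha, hb⟩ := hcon
    apply hb
    apply Subtype.ext
    apply AddMonoidHom.ext
    intro x
    have h1 := congrArg (fun r : R => (r : AddMonoid.End A) x) hab
    exact hker a ha _ h1⟩
  haveI hdom : IsDomain R := NoZeroDivisors.to_isDomain R
  haveI : Fintype R := Fintype.ofFinite R
  letI fld : Field R := Fintype.fieldOfDomain R
  have hev_inj : ∀ ε ε' : R,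
      (ε : AddMonoid.End A) e₁ = (ε' : AddMonoid.End A) e₁ → ε = ε' := by
    intro ε ε' h
    by_contra hne
    have h1 : ((ε - ε' : R) : AddMonoid.End A) e₁ = 0 := by
      show (ε : AddMonoid.End A) e₁ - (ε' : AddMonoid.End A) e₁ = 0
      rw [h, sub_self]
    exact he₁ (hker _ (sub_ne_zero.mpr hne) e₁ h1)
  have hev_surj : ∀ x : A, ∃ ε : R, (ε : AddMonoid.End A) e₁ = x := by
    let B : AddSubgroup A :=
      { carrier := {x | ∃ ε : R, (ε : AddMonoid.End A) e₁ = x}
        zero_mem' := ⟨0, rfl⟩
        add_mem' := by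
          rintro _ _ ⟨ε, rfl⟩ ⟨ε', rfl⟩
          exact ⟨ε + ε', rfl⟩
        neg_mem' := by
          rintro _ ⟨ε, rfl⟩
          exact ⟨-ε, rfl⟩ }
    have hB := hirr B (by
      rintro k _ ⟨ε, rfl⟩
      exact ⟨⟨ρ k, hρR k⟩ * ε, rfl⟩)
    rcases hB with hB | hB
    · exfalso
      have h1 : e₁ ∈ B := ⟨1, rfl⟩
      rw [hB] at h1
      exact he₁ (AddSubgroup.mem_bot.mp h1)
    · intro x
      have h1 : x ∈ B := by rw [hB]; trivial
      exact h1
  have hcardR : Fintype.card R = Nat.card A := by
    rw [← Nat.card_eq_fintype_card]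
    exact Nat.card_congr (Equiv.ofBijective (fun ε : R => (ε : AddMonoid.End A) e₁)
      ⟨fun ε ε' h => hev_inj ε ε' h, hev_surj⟩)
  let ρR : K' →* R := MonoidHom.codRestrict ρ R hρR
  have hρRv : ∀ k, ((ρR k : R) : AddMonoid.End A) = ρ k := fun k => rfl
  have hρR_inj : Function.Injective ρR := by
    intro k k' h
    by_contra hne
    have h1 : k⁻¹ * k' ≠ 1 := fun h2 => hne (by rw [inv_mul_eq_one] at h2; exact h2)
    apply he₁
    apply hfree _ h1 e₁
    have h3 : ρR (k⁻¹ * k') = 1 := by
      rw [map_mul, ← h, ← map_mul, inv_mul_cancel, map_one]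
    have h4 := congrArg (fun r : R => (r : AddMonoid.End A) e₁) h3
    exact h4
  have hρR_ne : ∀ k, ρR k ≠ 0 := by
    intro k h
    have h1 : ρR k * ρR k⁻¹ = 1 := by rw [← map_mul, mul_inv_cancel, map_one]
    rw [h, zero_mul] at h1
    exact hRnt h1
  -- transport to a field in `Type`
  obtain ⟨p, hp⟩ : ∃ p : ℕ, p = ringChar R := ⟨_, rfl⟩
  haveI hcp : CharP R p := by rw [hp]; exact ringChar.charP R
  have hpp : p.Prime := CharP.char_is_prime R p
  haveI : Fact p.Prime := ⟨hpp⟩
  obtain ⟨n, -, hn⟩ := FiniteField.card R p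
  letI : Algebra (ZMod p) R := ZMod.algebra R p
  let e' := GaloisField.algEquivGaloisFieldOfFintype p (n : ℕ) hn
  haveI : Fintype (GaloisField p n) := Fintype.ofFinite _
  have hcardF : Fintype.card (GaloisField p n) = Nat.card A := by
    rw [← Nat.card_eq_fintype_card, GaloisField.card p n n.ne_zero, ← hn, hcardR]
  refine ⟨p, n, ⟨hpp⟩, fun z => ((e'.symm z : R) : AddMonoid.End A) e₁, fun k => e' (ρR k),
    n.ne_zero, ?_, ?_, ?_, ?_, ?_, ?_, ?_, ?_⟩
  · rw [← hcardR, hn]
  · constructor
    · intro z w h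
      exact e'.symm.injective (hev_inj _ _ h)
    · intro x
      obtain ⟨ε, hε⟩ := hev_surj x
      exact ⟨e' ε, by simp only [AlgEquiv.symm_apply_apply]; exact hε⟩
  · intro z w
    simp only [map_add]
    rfl
  · simp only [map_one]
    rfl
  · intro k z
    simp only [map_mul, AlgEquiv.symm_apply_apply]
    rfl
  · intro k h
    have h' : e' (ρR k) = 0 := h
    exact hρR_ne k (e'.injective (by rw [h', map_zero]))
  · intro k k'
    show e' (ρR (k * k')) = e' (ρR k) * e' (ρR k')
    rw [map_mul, map_mul]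
  · intro k k' h
    have h' : e' (ρR k) = e' (ρR k') := h
    exact hρR_inj (e'.injective h')

end FieldIrr

end Cfsg.Agent.Lib.helper16.ZassAb
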