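import Mathlib
import Cfsg.Prelude.Def_Transfer

/-!
# S4395 (Gol'fand: the universal minimal non-`p`-nilpotent group): shared definitions

`MNP p X`: `X` is minimal non-`p`-nilpotent.  `AbModel L χ`: the "abelian type" model
`(L,+) ⋊ C_n`, a generator of `C_n` acting as multiplication by `χ (ofAdd 1)`.
`IsInvAlt p lam β`: `β` is a bi-additive alternating form on `L` with values in `ZMod p`,
invariant under multiplication by `lam`.
-/

set_option autoImplicit false

namespace Cfsg.Agent.Lib.helper16.Golf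

/-- `X` is minimal non-`p`-nilpotent. -/
def MNP (p : ℕ) (X : Type*) [Group X] : Prop :=
  ¬ Cfsg.HasNormalPComplement p X ∧ ∀ K : Subgroup X, K ≠ ⊤ → Cfsg.HasNormalPComplement p ↥K

/-- The cyclic group of order `n`, written multiplicatively. -/
abbrev Cyc (n : ℕ) := Multiplicative (ZMod n)

/-- The units of `L` acting on `(L,+)` by multiplication. -/
noncomputable def afAct (L : Type*) [Field L] : Lˣ →* MulAut (Multiplicative L) :=
  (MulAutMultiplicative L).symm.toMonoidHom.comp (AddAut.mulLeft)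

theorem afAct_apply (L : Type*) [Field L] (u : Lˣ) (x : Multiplicative L) :
    afAct L u x = Multiplicative.ofAdd ((u : L) * Multiplicative.toAdd x) := rfl

/-- The abelian-type model `(L,+) ⋊ C_n`; the generator `ofAdd 1` of `C_n` acts on `L` as
multiplication by `χ (ofAdd 1)`. -/
abbrev AbModel (L : Type*) [Field L] {n : ℕ} (χ : Cyc n →* Lˣ) :=
  Multiplicative L ⋊[(afAct L).comp χ] Cyc n

/-- `β` is bi-additive, alternating and invariant under multiplication by `lam`. -/
def IsInvAlt {L : Type*} [Field L] (p : ℕ) (lam : L) (β : L → L → ZMod p) : Prop :=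
  (∀ u v w, β (u + v) w = β u w + β v w) ∧ (∀ u v w, β u (v + w) = β u v + β u w) ∧
  (∀ u, β u u = 0) ∧ (∀ u v, β (lam * u) (lam * v) = β u v)

/-- Pre-datum: a normal `p`-subgroup `P` and an element `y` of order `q^r` with `K = P⟨y⟩`,
`y^q` centralizing `P`. -/
structure PreSD (p q r : ℕ) {K : Type*} [Group K] (P : Subgroup K) (y : K) : Prop where
  Pn : P.Normal
  pg : IsPGroup p ↥P
  ord : orderOf y = q ^ r
  gen : ∀ g : K, ∃ u ∈ P, ∃ k : ℕ, g = u * y ^ k
  yq : ∀ u ∈ P, y ^ q * u = u * y ^ q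

/-- Schmidt datum: `K = P⟨y⟩`, `P` a normal `p`-subgroup, `Z ≤ P` central in `K`,
`ι : P → (L,+)` onto with kernel `Z`, and conjugation by `y` on `P` is multiplication by
`lam` on `L`. -/
structure SD (p q r : ℕ) {L : Type*} [Field L] (lam : L) {K : Type*} [Group K]
    (P Z : Subgroup K) (y : K) (ι : ↥P →* Multiplicative L) : Prop where
  Pn : P.Normal
  pg : IsPGroup p ↥P
  ZP : Z ≤ P
  Zc : Z ≤ Subgroup.center K
  ord : orderOf y = q ^ r
  gen : ∀ g : K, ∃ u ∈ P, ∃ k : ℕ, g = u * y ^ k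
  yq : ∀ u ∈ P, y ^ q * u = u * y ^ q
  surj : Function.Surjective ι
  ker : ∀ u : ↥P, ι u = 1 ↔ (u : K) ∈ Z
  eqv : ∀ (u : K) (hu : u ∈ P) (hu' : y * u * y⁻¹ ∈ P),
    ι ⟨y * u * y⁻¹, hu'⟩ = Multiplicative.ofAdd (lam * Multiplicative.toAdd (ι ⟨u, hu⟩))

end Cfsg.Agent.Lib.helper16.Golf
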