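-- helper16: group-theoretic lemmas for M. Hall's theorem on 4-fold transitive groups
-- with four-point stabilisers of odd order: conjugacy of involutions in a coset,
-- the Brauer-Wielandt formula for a four-group acting on a group of odd order,
-- and a lemma on normal subgroups of odd order.
import Mathlib

set_option autoImplicit false
set_option linter.style.haveILetI false
set_option linter.unusedSectionVars false
set_option linter.unusedVariables false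

namespace Cfsg.Agent.Lib.helper16.Hall4

section conj
variable {Γ : Type*} [Group Γ]

theorem conj_pow_inv {s h : Γ} (hinv : s * h * s⁻¹ = h⁻¹) (i : ℕ) :
    s * h ^ i * s⁻¹ = (h ^ i)⁻¹ := by
  induction i with
  | zero => simp
  | succ i ih =>
    calc s * h ^ (i + 1) * s⁻¹ = (s * h * s⁻¹) * (s * h ^ i * s⁻¹) := by
          rw [pow_succ']; group
      _ = h⁻¹ * (h ^ i)⁻¹ := by rw [hinv, ih]
      _ = (h ^ (i + 1))⁻¹ := by rw [pow_succ, mul_inv_rev]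

theorem conj_of_inverted {s h : Γ} (hs : s * s = 1) (hinv : s * h * s⁻¹ = h⁻¹)
    (hodd : Odd (orderOf h)) : ∃ j : ℕ, h ^ j * s * (h ^ j)⁻¹ = s * h := by
  obtain ⟨j, hj⟩ := hodd
  refine ⟨j, ?_⟩
  have hs' : s⁻¹ = s := inv_eq_of_mul_eq_one_right hs
  have e1 : (h ^ j)⁻¹ = s * h ^ j * s := by
    have := conj_pow_inv hinv j
    rw [hs'] at this
    exact this.symm
  have e2 : h ^ (2 * j) = h⁻¹ := by
    have h3 : h ^ (2 * j + 1) = 1 := by rw [← hj]; exact pow_orderOf_eq_one h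
    rw [pow_succ] at h3
    exact eq_inv_of_mul_eq_one_left h3
  have e3 : s * h = h⁻¹ * s := by
    have h4 := hinv
    rw [hs'] at h4
    calc s * h = s * h * (s * s) := by rw [hs, mul_one]
      _ = (s * h * s) * s := by group
      _ = h⁻¹ * s := by rw [h4]
  rw [e1, e3, ← e2]
  calc h ^ j * s * (s * h ^ j * s) = h ^ j * (s * s) * h ^ j * s := by group
    _ = h ^ (2 * j) * s := by rw [hs, mul_one, ← pow_add, two_mul]

theorem inv_eq_self_of_sq {s : Γ} (hs : s * s = 1) : s⁻¹ = s :=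
  inv_eq_of_mul_eq_one_right hs

theorem odd_orderOf_of_mem {M : Subgroup Γ} (hM : Odd (Nat.card M)) {m : Γ} (hm : m ∈ M) :
    Odd (orderOf m) :=
  Odd.of_dvd_nat hM (Subgroup.orderOf_dvd_natCard M hm)

theorem eq_one_of_sq_of_odd {m : Γ} (ho : Odd (orderOf m)) (h2 : m * m = 1) : m = 1 := by
  have hd : orderOf m ∣ 2 := orderOf_dvd_of_pow_eq_one (by rw [pow_two]; exact h2)
  rcases (Nat.dvd_prime Nat.prime_two).1 hd with h | h
  · exact orderOf_eq_one_iff.1 h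
  · rw [h] at ho; exact absurd ho (by decide)

end conj

section BW
variable {Γ : Type*} [Group Γ]

/-- the elements of `M` commuting with `v` -/
def cen (M : Subgroup Γ) (v : Γ) : Subgroup Γ := M ⊓ Subgroup.centralizer {v}

theorem mem_cen {M : Subgroup Γ} {v x : Γ} : x ∈ cen M v ↔ x ∈ M ∧ x * v = v * x := by
  unfold cen
  rw [Subgroup.mem_inf, Subgroup.mem_centralizer_singleton_iff]

theorem cen_le (M : Subgroup Γ) (v : Γ) : cen M v ≤ M := inf_le_left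

/-- the coset `M a` is closed under multiplication into `M` -/
theorem coset_mul {M : Subgroup Γ} {a : Γ} (ha : a * a = 1)
    (hMa : ∀ m ∈ M, a * m * a⁻¹ ∈ M) {y y' : Γ} (hy : y * a ∈ M) (hy' : y' * a ∈ M) :
    y * y' ∈ M := by
  have ha' : a⁻¹ = a := inv_eq_self_of_sq ha
  have h1 := M.mul_mem hy (hMa _ hy')
  have e : y * a * (a * (y' * a) * a⁻¹) = y * (a * a) * y' := by group
  rw [e, ha, mul_one] at h1
  exact h1

theorem coset_pow {M : Subgroup Γ} {a : Γ} (ha : a * a = 1)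
    (hMa : ∀ m ∈ M, a * m * a⁻¹ ∈ M) {w : Γ} (hw : w * a ∈ M) (i : ℕ) :
    w ^ (2 * i) ∈ M ∧ w ^ (2 * i + 1) * a ∈ M := by
  induction i with
  | zero => simpa using hw
  | succ i ih =>
    have h1 : w ^ (2 * (i + 1)) ∈ M := by
      have : w ^ (2 * (i + 1)) = w ^ (2 * i + 1) * w := by
        rw [← pow_succ, show 2 * (i + 1) = 2 * i + 1 + 1 by ring]
      rw [this]
      exact coset_mul ha hMa ih.2 hw
    refine ⟨h1, ?_⟩
    have : w ^ (2 * (i + 1) + 1) * a = w ^ (2 * (i + 1)) * (w * a) := by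
      rw [pow_succ, mul_assoc]
    rw [this]
    exact M.mul_mem h1 hw

theorem bw_key {M : Subgroup Γ} (hM : Odd (Nat.card M)) {a b : Γ}
    (ha : a * a = 1) (hb : b * b = 1) (hab : a * b = b * a)
    (hMa : ∀ m ∈ M, a * m * a⁻¹ ∈ M) (hMb : ∀ m ∈ M, b * m * b⁻¹ ∈ M)
    {x : Γ} (hx : x ∈ M) :
    ∃ u : Γ, u * u = 1 ∧ u * a ∈ M ∧ u * b = b * u ∧
      u * (x * (a * b) * x⁻¹) = (x * (a * b) * x⁻¹) * u ∧
      ∀ v : Γ, v * v = 1 → v * a ∈ M → v * b = b * v →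
        v * (x * (a * b) * x⁻¹) = (x * (a * b) * x⁻¹) * v → v = u := by
  have ha' : a⁻¹ = a := inv_eq_self_of_sq ha
  have hb' : b⁻¹ = b := inv_eq_self_of_sq hb
  obtain ⟨z', hz'⟩ : ∃ z' : Γ, z' = x * (a * b) * x⁻¹ := ⟨_, rfl⟩
  have hzz : (a * b) * (a * b) = 1 := by
    calc (a * b) * (a * b) = a * (b * a) * b := by group
      _ = a * (a * b) * b := by rw [hab]
      _ = (a * a) * (b * b) := by group
      _ = 1 := by rw [ha, hb, mul_one]
  have hz'2 : z' * z' = 1 := by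
    rw [hz']
    calc x * (a * b) * x⁻¹ * (x * (a * b) * x⁻¹) = x * ((a * b) * (a * b)) * x⁻¹ := by group
      _ = 1 := by rw [hzz]; group
  have hz'i : z'⁻¹ = z' := inv_eq_self_of_sq hz'2
  obtain ⟨w, hw⟩ : ∃ w : Γ, w = b * z' := ⟨_, rfl⟩
  have hwa : w * a ∈ M := by
    have e : w * a = (b * x * b⁻¹) * (a * x⁻¹ * a⁻¹) := by
      rw [hw, hz', ha', hb', hab]; group
    rw [e]
    exact M.mul_mem (hMb _ hx) (hMa _ (M.inv_mem hx))
  have hww : w * w ∈ M := coset_mul ha hMa hwa hwa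
  have hko : Odd (orderOf (w * w)) := odd_orderOf_of_mem hM hww
  obtain ⟨i, hi⟩ := hko
  obtain ⟨u, hu⟩ : ∃ u : Γ, u = w ^ (2 * i + 1) := ⟨_, rfl⟩
  have hu2 : u * u = 1 := by
    rw [hu, ← (Commute.refl w).mul_pow, ← hi]
    exact pow_orderOf_eq_one _
  have hui : u⁻¹ = u := inv_eq_self_of_sq hu2
  have hua : u * a ∈ M := by rw [hu]; exact (coset_pow ha hMa hwa i).2
  -- b inverts w, z' inverts w
  have hbw : b * w * b⁻¹ = w⁻¹ := by
    rw [hw, mul_inv_rev, hb', hz'i]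
    calc b * (b * z') * b = (b * b) * z' * b := by group
      _ = z' * b := by rw [hb, one_mul]
  have hzw : z' * w * z'⁻¹ = w⁻¹ := by
    rw [hw, mul_inv_rev, hb', hz'i]
    calc z' * (b * z') * z' = z' * b * (z' * z') := by group
      _ = z' * b := by rw [hz'2, mul_one]
  have hub : u * b = b * u := by
    have h1 := conj_pow_inv hbw (2 * i + 1)
    rw [← hu, hui, hb'] at h1
    -- b * u * b = u
    calc u * b = (b * u * b) * b := by rw [h1]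
      _ = b * u * (b * b) := by group
      _ = b * u := by rw [hb, mul_one]
  have huz : u * z' = z' * u := by
    have h1 := conj_pow_inv hzw (2 * i + 1)
    rw [← hu, hui, hz'i] at h1
    calc u * z' = (z' * u * z') * z' := by rw [h1]
      _ = z' * u * (z' * z') := by group
      _ = z' * u := by rw [hz'2, mul_one]
  refine ⟨u, hu2, hua, hub, ?_, ?_⟩
  · rw [← hz']; exact huz
  · intro v hv2 hva hvb hvz
    rw [← hz'] at hvz
    -- v commutes with w, hence with u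
    have hvw : v * w = w * v := by
      rw [hw]
      calc v * (b * z') = (v * b) * z' := by group
        _ = (b * v) * z' := by rw [hvb]
        _ = b * (v * z') := by group
        _ = b * (z' * v) := by rw [hvz]
        _ = b * z' * v := by group
    have hvu : v * u = u * v := by
      rw [hu]
      exact ((Commute.pow_right (show Commute v w from hvw) (2 * i + 1))).eq
    have hvuM : v * u ∈ M := coset_mul ha hMa hva hua
    have hsq : (v * u) * (v * u) = 1 := by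
      calc (v * u) * (v * u) = v * (u * v) * u := by group
        _ = v * (v * u) * u := by rw [hvu]
        _ = (v * v) * (u * u) := by group
        _ = 1 := by rw [hv2, hu2, mul_one]
    have h1 : v * u = 1 := eq_one_of_sq_of_odd (odd_orderOf_of_mem hM hvuM) hsq
    calc v = v * (u * u) := by rw [hu2, mul_one]
      _ = (v * u) * u := by group
      _ = u := by rw [h1, one_mul]

theorem exists_conj_cen {M : Subgroup Γ} (hM : Odd (Nat.card M)) {a : Γ}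
    (ha : a * a = 1) (hMa : ∀ m ∈ M, a * m * a⁻¹ ∈ M) {u t : Γ} (hu2 : u * u = 1)
    (hua : u * a ∈ M) (hut : u * t = t * u) (hat : a * t = t * a) :
    ∃ s ∈ M, s * t = t * s ∧ s * a * s⁻¹ = u := by
  have ha' : a⁻¹ = a := inv_eq_self_of_sq ha
  have hui : u⁻¹ = u := inv_eq_self_of_sq hu2
  obtain ⟨h, hh⟩ : ∃ h : Γ, h = a * u := ⟨_, rfl⟩
  have hhM : h ∈ M := by
    have := hMa _ hua
    have e : a * (u * a) * a⁻¹ = a * u := by group
    rw [e] at this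
    rw [hh]; exact this
  have hinv : a * h * a⁻¹ = h⁻¹ := by
    rw [hh, mul_inv_rev, hui, ha']
    calc a * (a * u) * a = (a * a) * u * a := by group
      _ = u * a := by rw [ha, one_mul]
  obtain ⟨j, hj⟩ := conj_of_inverted ha hinv (odd_orderOf_of_mem hM hhM)
  have hht : h * t = t * h := by
    rw [hh]
    calc a * u * t = a * (u * t) := by group
      _ = a * (t * u) := by rw [hut]
      _ = (a * t) * u := by group
      _ = (t * a) * u := by rw [hat]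
      _ = t * (a * u) := by group
  refine ⟨h ^ j, M.pow_mem hhM j, ?_, ?_⟩
  · exact ((Commute.pow_left (show Commute h t from hht) j)).eq
  · rw [hj, hh]
    calc a * (a * u) = (a * a) * u := by group
      _ = u := by rw [ha, one_mul]

theorem bw_factor {M : Subgroup Γ} (hM : Odd (Nat.card M)) {a b : Γ}
    (ha : a * a = 1) (hb : b * b = 1) (hab : a * b = b * a)
    (hMa : ∀ m ∈ M, a * m * a⁻¹ ∈ M) (hMb : ∀ m ∈ M, b * m * b⁻¹ ∈ M)
    {x : Γ} (hx : x ∈ M) :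
    ∃ s₁ s₃ s₂ : Γ, s₁ ∈ cen M b ∧ s₃ ∈ cen M a ∧ s₂ ∈ cen M (a * b) ∧ x = s₁ * s₃ * s₂ := by
  have ha' : a⁻¹ = a := inv_eq_self_of_sq ha
  obtain ⟨u, hu2, hua, hub, huz, -⟩ := bw_key hM ha hb hab hMa hMb hx
  obtain ⟨s₁, hs₁M, hs₁b, hs₁u⟩ := exists_conj_cen hM ha hMa hu2 hua hub hab
  -- the conjugate of u by x⁻¹
  obtain ⟨u', hu'⟩ : ∃ u' : Γ, u' = x⁻¹ * u * x := ⟨_, rfl⟩
  have hu'2 : u' * u' = 1 := by
    rw [hu']
    calc x⁻¹ * u * x * (x⁻¹ * u * x) = x⁻¹ * (u * u) * x := by group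
      _ = 1 := by rw [hu2]; group
  have hu'a : u' * a ∈ M := by
    have h1 : a * x * a⁻¹ ∈ M := hMa _ hx
    have h2 := M.mul_mem (M.mul_mem (M.inv_mem hx) hua) h1
    have e : x⁻¹ * (u * a) * (a * x * a⁻¹) = x⁻¹ * u * (a * a) * x * a⁻¹ := by group
    rw [e, ha, mul_one, ha'] at h2
    rw [hu']; exact h2
  have haz : a * (a * b) = (a * b) * a := by
    calc a * (a * b) = a * (b * a) := by rw [hab]
      _ = (a * b) * a := by group
  have hu'z : u' * (a * b) = (a * b) * u' := by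
    rw [hu']
    calc x⁻¹ * u * x * (a * b) = x⁻¹ * (u * (x * (a * b) * x⁻¹)) * x := by group
      _ = x⁻¹ * ((x * (a * b) * x⁻¹) * u) * x := by rw [huz]
      _ = (a * b) * (x⁻¹ * u * x) := by group
  obtain ⟨t₂, ht₂M, ht₂z, ht₂u⟩ := exists_conj_cen hM ha hMa hu'2 hu'a hu'z haz
  refine ⟨s₁, s₁⁻¹ * x * t₂, t₂⁻¹, mem_cen.2 ⟨hs₁M, hs₁b⟩, mem_cen.2 ⟨?_, ?_⟩,
    mem_cen.2 ⟨M.inv_mem ht₂M, ?_⟩, by group⟩
  · exact M.mul_mem (M.mul_mem (M.inv_mem hs₁M) hx) ht₂M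
  · -- s₃ a s₃⁻¹ = a
    have h1 : (s₁⁻¹ * x * t₂) * a * (s₁⁻¹ * x * t₂)⁻¹ = a := by
      calc (s₁⁻¹ * x * t₂) * a * (s₁⁻¹ * x * t₂)⁻¹
          = s₁⁻¹ * x * (t₂ * a * t₂⁻¹) * x⁻¹ * s₁ := by group
        _ = s₁⁻¹ * x * (x⁻¹ * u * x) * x⁻¹ * s₁ := by rw [ht₂u, hu']
        _ = s₁⁻¹ * u * s₁ := by group
        _ = s₁⁻¹ * (s₁ * a * s₁⁻¹) * s₁ := by rw [hs₁u]
        _ = a := by group
    calc (s₁⁻¹ * x * t₂) * a = ((s₁⁻¹ * x * t₂) * a * (s₁⁻¹ * x * t₂)⁻¹) * (s₁⁻¹ * x * t₂) := by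
          group
      _ = a * (s₁⁻¹ * x * t₂) := by rw [h1]
  · calc t₂⁻¹ * (a * b) = t₂⁻¹ * ((a * b) * t₂) * t₂⁻¹ := by group
      _ = t₂⁻¹ * (t₂ * (a * b)) * t₂⁻¹ := by rw [ht₂z]
      _ = (a * b) * t₂⁻¹ := by group

theorem bw_fiber {M : Subgroup Γ} (hM : Odd (Nat.card M)) {a b : Γ}
    (ha : a * a = 1) (hb : b * b = 1) (hab : a * b = b * a)
    (hMa : ∀ m ∈ M, a * m * a⁻¹ ∈ M) (hMb : ∀ m ∈ M, b * m * b⁻¹ ∈ M)
    {s₁ s₃ s₂ s₁' s₃' s₂' : Γ} (h1 : s₁ ∈ cen M b) (h3 : s₃ ∈ cen M a)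
    (h2 : s₂ ∈ cen M (a * b)) (h1' : s₁' ∈ cen M b) (h3' : s₃' ∈ cen M a)
    (h2' : s₂' ∈ cen M (a * b)) (he : s₁ * s₃ * s₂ = s₁' * s₃' * s₂') :
    s₁⁻¹ * s₁' ∈ cen M a ⊓ cen M b := by
  have ha' : a⁻¹ = a := inv_eq_self_of_sq ha
  rw [mem_cen] at h1 h3 h2 h1' h3' h2'
  have hxM : s₁ * s₃ * s₂ ∈ M := M.mul_mem (M.mul_mem h1.1 h3.1) h2.1
  obtain ⟨u, hu2, hua, hub, huz, huniq⟩ := bw_key hM ha hb hab hMa hMb hxM
  have haz : a * (a * b) = (a * b) * a := by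
    calc a * (a * b) = a * (b * a) := by rw [hab]
      _ = (a * b) * a := by group
  -- general claim
  have key : ∀ t₁ t₃ t₂ : Γ, t₁ ∈ M → t₁ * b = b * t₁ → t₃ * a = a * t₃ →
      t₂ * (a * b) = (a * b) * t₂ → t₁ * t₃ * t₂ = s₁ * s₃ * s₂ → t₁ * a * t₁⁻¹ = u := by
    intro t₁ t₃ t₂ ht₁M ht₁b ht₃a ht₂z hprod
    apply huniq
    · calc t₁ * a * t₁⁻¹ * (t₁ * a * t₁⁻¹) = t₁ * (a * a) * t₁⁻¹ := by group
        _ = 1 := by rw [ha]; group
    · have h5 := M.mul_mem ht₁M (hMa _ (M.inv_mem ht₁M))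
      have e : t₁ * (a * t₁⁻¹ * a⁻¹) = t₁ * a * t₁⁻¹ * a := by rw [ha']; group
      rw [e] at h5; exact h5
    · calc t₁ * a * t₁⁻¹ * b = t₁ * a * (t₁⁻¹ * (b * t₁) * t₁⁻¹) := by group
        _ = t₁ * a * (t₁⁻¹ * (t₁ * b) * t₁⁻¹) := by rw [ht₁b]
        _ = t₁ * (a * b) * t₁⁻¹ := by group
        _ = t₁ * (b * a) * t₁⁻¹ := by rw [hab]
        _ = (t₁ * b) * a * t₁⁻¹ := by group
        _ = (b * t₁) * a * t₁⁻¹ := by rw [ht₁b]
        _ = b * (t₁ * a * t₁⁻¹) := by group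
    · -- t₁ a t₁⁻¹ = x t₂⁻¹ a t₂ x⁻¹
      have e1 : t₁ * a * t₁⁻¹ = (s₁ * s₃ * s₂) * (t₂⁻¹ * a * t₂) * (s₁ * s₃ * s₂)⁻¹ := by
        rw [← hprod]
        calc t₁ * a * t₁⁻¹ = t₁ * (a * t₃) * t₃⁻¹ * t₁⁻¹ := by group
          _ = t₁ * (t₃ * a) * t₃⁻¹ * t₁⁻¹ := by rw [ht₃a]
          _ = (t₁ * t₃ * t₂) * (t₂⁻¹ * a * t₂) * (t₁ * t₃ * t₂)⁻¹ := by group
      have e2 : (t₂⁻¹ * a * t₂) * (a * b) = (a * b) * (t₂⁻¹ * a * t₂) := by
        calc (t₂⁻¹ * a * t₂) * (a * b) = t₂⁻¹ * a * (t₂ * (a * b)) := by group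
          _ = t₂⁻¹ * a * ((a * b) * t₂) := by rw [ht₂z]
          _ = t₂⁻¹ * (a * (a * b)) * t₂ := by group
          _ = t₂⁻¹ * ((a * b) * a) * t₂ := by rw [haz]
          _ = t₂⁻¹ * ((a * b) * t₂) * t₂⁻¹ * a * t₂ := by group
          _ = t₂⁻¹ * (t₂ * (a * b)) * t₂⁻¹ * a * t₂ := by rw [ht₂z]
          _ = (a * b) * (t₂⁻¹ * a * t₂) := by group
      rw [e1]
      obtain ⟨X, hX⟩ : ∃ X : Γ, X = s₁ * s₃ * s₂ := ⟨_, rfl⟩
      obtain ⟨Y, hY⟩ : ∃ Y : Γ, Y = t₂⁻¹ * a * t₂ := ⟨_, rfl⟩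
      rw [← hY] at e2
      rw [← hX, ← hY]
      calc X * Y * X⁻¹ * (X * (a * b) * X⁻¹) = X * (Y * (a * b)) * X⁻¹ := by group
        _ = X * ((a * b) * Y) * X⁻¹ := by rw [e2]
        _ = X * (a * b) * X⁻¹ * (X * Y * X⁻¹) := by group
  have k1 := key s₁ s₃ s₂ h1.1 h1.2 h3.2 h2.2 rfl
  have k2 := key s₁' s₃' s₂' h1'.1 h1'.2 h3'.2 h2'.2 he.symm
  have hM' : s₁⁻¹ * s₁' ∈ M := M.mul_mem (M.inv_mem h1.1) h1'.1
  rw [Subgroup.mem_inf, mem_cen, mem_cen]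
  refine ⟨⟨hM', ?_⟩, ⟨hM', ?_⟩⟩
  · -- commutes with a
    have h6 : s₁ * a * s₁⁻¹ = s₁' * a * s₁'⁻¹ := by rw [k1, k2]
    calc s₁⁻¹ * s₁' * a = s₁⁻¹ * (s₁' * a * s₁'⁻¹) * s₁' := by group
      _ = s₁⁻¹ * (s₁ * a * s₁⁻¹) * s₁' := by rw [h6]
      _ = a * (s₁⁻¹ * s₁') := by group
  · calc s₁⁻¹ * s₁' * b = s₁⁻¹ * (s₁' * b) := by group
      _ = s₁⁻¹ * (b * s₁') := by rw [h1'.2]
      _ = s₁⁻¹ * (b * s₁) * s₁⁻¹ * s₁' := by group
      _ = s₁⁻¹ * (s₁ * b) * s₁⁻¹ * s₁' := by rw [h1.2]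
      _ = b * (s₁⁻¹ * s₁') := by group

/-- **Brauer-Wielandt formula** for a four-group acting on a group of odd order. -/
theorem brauer_wielandt {M : Subgroup Γ} (hM : Odd (Nat.card M)) {a b : Γ}
    (ha : a * a = 1) (hb : b * b = 1) (hab : a * b = b * a)
    (hMa : ∀ m ∈ M, a * m * a⁻¹ ∈ M) (hMb : ∀ m ∈ M, b * m * b⁻¹ ∈ M) :
    Nat.card (cen M a) * Nat.card (cen M b) * Nat.card (cen M (a * b)) =
      Nat.card M * Nat.card (cen M a ⊓ cen M b : Subgroup Γ) ^ 2 := by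
  classical
  choose f₁ f₃ f₂ hf₁ hf₃ hf₂ hf using
    fun x : M => bw_factor hM ha hb hab hMa hMb x.2
  have hDA : ∀ d : (cen M a ⊓ cen M b : Subgroup Γ), (d : Γ) ∈ cen M a :=
    fun d => (Subgroup.mem_inf.1 d.2).1
  have hDB : ∀ d : (cen M a ⊓ cen M b : Subgroup Γ), (d : Γ) ∈ cen M b :=
    fun d => (Subgroup.mem_inf.1 d.2).2
  have hDC : ∀ d : (cen M a ⊓ cen M b : Subgroup Γ), (d : Γ) ∈ cen M (a * b) := by
    intro d
    have h1 := mem_cen.1 (hDA d)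
    have h2 := mem_cen.1 (hDB d)
    refine mem_cen.2 ⟨h1.1, ?_⟩
    calc (d : Γ) * (a * b) = ((d : Γ) * a) * b := by group
      _ = (a * d) * b := by rw [h1.2]
      _ = a * (d * b) := by group
      _ = a * (b * d) := by rw [h2.2]
      _ = a * b * d := by group
  let Φ : M × (cen M a ⊓ cen M b : Subgroup Γ) × (cen M a ⊓ cen M b : Subgroup Γ) →
      (cen M b) × (cen M a) × (cen M (a * b)) := fun t =>
    (⟨f₁ t.1 * t.2.1, (cen M b).mul_mem (hf₁ t.1) (hDB t.2.1)⟩,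
     ⟨(t.2.1 : Γ)⁻¹ * f₃ t.1 * t.2.2,
      (cen M a).mul_mem ((cen M a).mul_mem ((cen M a).inv_mem (hDA t.2.1)) (hf₃ t.1))
        (hDA t.2.2)⟩,
     ⟨(t.2.2 : Γ)⁻¹ * f₂ t.1,
      (cen M (a * b)).mul_mem ((cen M (a * b)).inv_mem (hDC t.2.2)) (hf₂ t.1)⟩)
  have hinj : Function.Injective Φ := by
    rintro ⟨x, d, e⟩ ⟨x', d', e'⟩ h
    simp only [Φ, Prod.mk.injEq, Subtype.mk.injEq] at h
    obtain ⟨h1, h2, h3⟩ := h
    have hx : (x : Γ) = x' := by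
      calc (x : Γ) = f₁ x * f₃ x * f₂ x := hf x
        _ = (f₁ x * d) * ((d : Γ)⁻¹ * f₃ x * e) * ((e : Γ)⁻¹ * f₂ x) := by group
        _ = (f₁ x' * d') * ((d' : Γ)⁻¹ * f₃ x' * e') * ((e' : Γ)⁻¹ * f₂ x') := by
          rw [h1, h2, h3]
        _ = f₁ x' * f₃ x' * f₂ x' := by group
        _ = x' := (hf x').symm
    have hx' : x = x' := Subtype.ext hx
    subst hx'
    have hd : (d : Γ) = d' := mul_left_cancel h1
    have hd' : d = d' := Subtype.ext hd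
    subst hd'
    have he : (e : Γ) = e' := inv_injective (mul_right_cancel h3)
    have he' : e = e' := Subtype.ext he
    subst he'
    rfl
  have hsurj : Function.Surjective Φ := by
    rintro ⟨⟨s₁, hs₁⟩, ⟨s₃, hs₃⟩, ⟨s₂, hs₂⟩⟩
    have hxM : s₁ * s₃ * s₂ ∈ M :=
      M.mul_mem (M.mul_mem (cen_le M b hs₁) (cen_le M a hs₃)) (cen_le M _ hs₂)
    obtain ⟨x, hx⟩ : ∃ x : M, (x : Γ) = s₁ * s₃ * s₂ := ⟨⟨_, hxM⟩, rfl⟩
    have hfx := hf x
    have h5 : f₁ x * f₃ x * f₂ x = s₁ * s₃ * s₂ := by rw [← hfx, hx]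
    have hd : (f₁ x)⁻¹ * s₁ ∈ cen M a ⊓ cen M b :=
      bw_fiber hM ha hb hab hMa hMb (hf₁ x) (hf₃ x) (hf₂ x) hs₁ hs₃ hs₂ h5
    have heA : (f₃ x)⁻¹ * ((f₁ x)⁻¹ * s₁) * s₃ ∈ cen M a :=
      (cen M a).mul_mem ((cen M a).mul_mem ((cen M a).inv_mem (hf₃ x))
        (Subgroup.mem_inf.1 hd).1) hs₃
    have hee : (f₃ x)⁻¹ * ((f₁ x)⁻¹ * s₁) * s₃ = f₂ x * s₂⁻¹ := by
      calc (f₃ x)⁻¹ * ((f₁ x)⁻¹ * s₁) * s₃
          = (f₃ x)⁻¹ * (f₁ x)⁻¹ * (s₁ * s₃ * s₂) * s₂⁻¹ := by group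
        _ = (f₃ x)⁻¹ * (f₁ x)⁻¹ * (f₁ x * f₃ x * f₂ x) * s₂⁻¹ := by rw [h5]
        _ = f₂ x * s₂⁻¹ := by group
    have heC : (f₃ x)⁻¹ * ((f₁ x)⁻¹ * s₁) * s₃ ∈ cen M (a * b) := by
      rw [hee]; exact (cen M _).mul_mem (hf₂ x) ((cen M _).inv_mem hs₂)
    obtain ⟨E, hE⟩ : ∃ E : Γ, E = (f₃ x)⁻¹ * ((f₁ x)⁻¹ * s₁) * s₃ := ⟨_, rfl⟩
    rw [← hE] at heA heC hee
    have heD : E ∈ cen M a ⊓ cen M b := by
      refine Subgroup.mem_inf.2 ⟨heA, mem_cen.2 ⟨(mem_cen.1 heA).1, ?_⟩⟩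
      have h1 := (mem_cen.1 heA).2
      have h2 := (mem_cen.1 heC).2
      have hbe : a * (a * b) = b := by rw [← mul_assoc, ha, one_mul]
      calc E * b = E * (a * (a * b)) := by rw [hbe]
        _ = (E * a) * (a * b) := by group
        _ = (a * E) * (a * b) := by rw [h1]
        _ = a * (E * (a * b)) := by group
        _ = a * ((a * b) * E) := by rw [h2]
        _ = (a * (a * b)) * E := by group
        _ = b * E := by rw [hbe]
    refine ⟨(x, ⟨_, hd⟩, ⟨E, heD⟩), ?_⟩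
    simp only [Φ, Prod.mk.injEq, Subtype.mk.injEq]
    refine ⟨by group, ?_, ?_⟩
    · rw [hE]; group
    · rw [hee]; group
  have hcard := Nat.card_congr (Equiv.ofBijective Φ ⟨hinj, hsurj⟩)
  rw [Nat.card_prod, Nat.card_prod, Nat.card_prod, Nat.card_prod] at hcard
  rw [pow_two, hcard]
  ring

end BW

section R

/-- a normal subgroup of odd order of a group with `|X| = 2^k |X_y|`, `|X_y|` odd,
fixes the point `y`. -/
theorem normal_odd_le_stabilizer {X : Type*} [Group X] [Finite X] {β : Type*} [MulAction X β]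
    (y : β) (Q : Subgroup X) [Q.Normal] (hQ : Odd (Nat.card Q)) (k : ℕ)
    (hX : Nat.card X = 2 ^ k * Nat.card (MulAction.stabilizer X y))
    (hodd : Odd (Nat.card (MulAction.stabilizer X y))) : Q ≤ MulAction.stabilizer X y := by
  obtain ⟨K, hK⟩ : ∃ K : Subgroup X, K = MulAction.stabilizer X y := ⟨_, rfl⟩
  rw [← hK] at hX hodd ⊢
  have hcard : ∀ (A B : Subgroup X), A ≤ B → Nat.card B = Nat.card A * A.relIndex B := by
    intro A B hAB
    have := Subgroup.relIndex_mul_relIndex (⊥ : Subgroup X) A B bot_le hAB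
    rw [Subgroup.relIndex_bot_left, Subgroup.relIndex_bot_left] at this
    exact this.symm
  have h1 : Nat.card (K ⊔ Q : Subgroup X) = Nat.card Q * Q.relIndex K := by
    rw [hcard Q (K ⊔ Q) le_sup_right, Subgroup.relIndex_sup_right]
  have h2 : Odd (Nat.card (K ⊔ Q : Subgroup X)) := by
    rw [h1]
    exact hQ.mul (Odd.of_dvd_nat hodd (Subgroup.relIndex_dvd_card Q K))
  have h3 : Nat.card (K ⊔ Q : Subgroup X) ∣ Nat.card K := by
    have h4 : Nat.card (K ⊔ Q : Subgroup X) ∣ 2 ^ k * Nat.card K := by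
      rw [← hX]; exact Subgroup.card_subgroup_dvd_card _
    exact Nat.Coprime.dvd_of_dvd_mul_left
      (Nat.Coprime.pow_right k (Nat.coprime_two_right.2 h2)) h4
  have h5 : K = K ⊔ Q :=
    Subgroup.eq_of_le_of_card_ge le_sup_left (Nat.le_of_dvd Nat.card_pos h3)
  rw [h5]
  exact le_sup_right

end R

end Cfsg.Agent.Lib.helper16.Hall4
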