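-- helper16: M. Hall's theorem on 4-fold transitive groups with odd four-point stabilisers,
-- part B: involutions, four-groups, conjugacy of pairs of commuting involutions.
import Mathlib
import Cfsg.Agent.Lib.helper16.Hall4A

set_option autoImplicit false
set_option linter.style.haveILetI false
set_option linter.unusedSectionVars false
set_option linter.unusedVariables false

namespace Cfsg.Agent.Lib.helper16.Hall4

open Equiv

variable {α : Type*} [Fintype α] [DecidableEq α]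

/-- the elementary hypotheses: 4-fold transitive, elements fixing four points have odd order -/
structure H4 (G : Subgroup (Perm α)) : Prop where
  trans4 : ∀ p q r s p' q' r' s' : α, p ≠ q → p ≠ r → p ≠ s → q ≠ r → q ≠ s → r ≠ s →
    p' ≠ q' → p' ≠ r' → p' ≠ s' → q' ≠ r' → q' ≠ s' → r' ≠ s' →
    ∃ g ∈ G, g p = p' ∧ g q = q' ∧ g r = r' ∧ g s = s'
  odd4 : ∀ g ∈ G, ∀ p q r s : α, p ≠ q → p ≠ r → p ≠ s → q ≠ r → q ≠ s → r ≠ s →
    g p = p → g q = q → g r = r → g s = s → Odd (orderOf g)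

theorem sq_apply {t : Perm α} (ht : t * t = 1) (y : α) : t (t y) = y := by
  rw [← Perm.mul_apply, ht]; rfl

theorem pow_apply_fix {k : Perm α} {y : α} (h : k y = y) (i : ℕ) : (k ^ i) y = y := by
  induction i with
  | zero => rfl
  | succ i ih => rw [pow_succ, Perm.mul_apply, h, ih]

theorem inv_apply_fix {k : Perm α} {y : α} (h : k y = y) : k⁻¹ y = y := by
  rw [Perm.inv_eq_iff_eq]; exact h.symm

theorem inv_apply_of_eq {g : Perm α} {y x : α} (h : g y = x) : g⁻¹ x = y := by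
  rw [Perm.inv_eq_iff_eq]; exact h.symm

theorem orderOf_invol {t : Perm α} (ht : t * t = 1) (h1 : t ≠ 1) : orderOf t = 2 :=
  orderOf_eq_prime (by rw [pow_two]; exact ht) h1

/-- an involution has no four fixed points -/
theorem no_four_fixed {G : Subgroup (Perm α)} (hG : H4 G) {t : Perm α} (htG : t ∈ G)
    (ht : t * t = 1) (h1 : t ≠ 1) {p q r s : α} (hpq : p ≠ q) (hpr : p ≠ r) (hps : p ≠ s)
    (hqr : q ≠ r) (hqs : q ≠ s) (hrs : r ≠ s) (hp : t p = p) (hq : t q = q) (hr : t r = r)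
    (hs : t s = s) : False := by
  have := hG.odd4 t htG p q r s hpq hpr hps hqr hqs hrs hp hq hr hs
  rw [orderOf_invol ht h1] at this
  exact absurd this (by decide)

/-- the fixed points of an involution -/
def fixF (t : Perm α) : Finset α := Finset.univ.filter (fun y => t y = y)

theorem mem_fixF {t : Perm α} {y : α} : y ∈ fixF t ↔ t y = y := by
  unfold fixF; simp

theorem card_fixF_le {G : Subgroup (Perm α)} (hG : H4 G) {t : Perm α} (htG : t ∈ G)
    (ht : t * t = 1) (h1 : t ≠ 1) : (fixF t).card ≤ 3 := by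
  by_contra hc
  push Not at hc
  obtain ⟨T, hT, hT4⟩ := Finset.exists_subset_card_eq (show 4 ≤ (fixF t).card by omega)
  obtain ⟨p, T', hp, rfl, hT'⟩ := Finset.card_eq_succ.1 hT4
  obtain ⟨q, r, s, hqr, hqs, hrs, rfl⟩ := Finset.card_eq_three.1 hT'
  simp only [Finset.mem_insert, Finset.mem_singleton, not_or] at hp
  have hfp : t p = p := mem_fixF.1 (hT (Finset.mem_insert_self _ _))
  have hfq : t q = q := mem_fixF.1 (hT (Finset.mem_insert_of_mem (Finset.mem_insert_self _ _)))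
  have hfr : t r = r := mem_fixF.1 (hT (Finset.mem_insert_of_mem
    (Finset.mem_insert_of_mem (Finset.mem_insert_self _ _))))
  have hfs : t s = s := mem_fixF.1 (hT (Finset.mem_insert_of_mem
    (Finset.mem_insert_of_mem (Finset.mem_insert_of_mem (Finset.mem_singleton_self _)))))
  exact no_four_fixed hG htG ht h1 hp.1 hp.2.1 hp.2.2 hqr hqs hrs hfp hfq hfr hfs

/-- an involution swapping `p, q` and fixing `r, s` -/
theorem exists_invol {G : Subgroup (Perm α)} (hG : H4 G) {p q r s : α} (hpq : p ≠ q)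
    (hpr : p ≠ r) (hps : p ≠ s) (hqr : q ≠ r) (hqs : q ≠ s) (hrs : r ≠ s) :
    ∃ t ∈ G, t * t = 1 ∧ t p = q ∧ t q = p ∧ t r = r ∧ t s = s := by
  obtain ⟨g, hgG, hgp, hgq, hgr, hgs⟩ := hG.trans4 p q r s q p r s hpq hpr hps hqr hqs hrs
    hpq.symm hqr hqs hpr hps hrs
  have h2p : (g * g) p = p := by rw [Perm.mul_apply, hgp, hgq]
  have h2q : (g * g) q = q := by rw [Perm.mul_apply, hgq, hgp]
  have h2r : (g * g) r = r := by rw [Perm.mul_apply, hgr, hgr]
  have h2s : (g * g) s = s := by rw [Perm.mul_apply, hgs, hgs]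
  obtain ⟨j, hj⟩ := hG.odd4 (g * g) (G.mul_mem hgG hgG) p q r s hpq hpr hps hqr hqs hrs
    h2p h2q h2r h2s
  have e : g ^ (2 * j + 1) = (g * g) ^ j * g := by
    rw [pow_succ, pow_mul, pow_two]
  refine ⟨g ^ (2 * j + 1), G.pow_mem hgG _, ?_, ?_, ?_, ?_, ?_⟩
  · rw [← (Commute.refl g).mul_pow, ← hj]; exact pow_orderOf_eq_one _
  · rw [e, Perm.mul_apply, hgp]; exact pow_apply_fix h2q j
  · rw [e, Perm.mul_apply, hgq]; exact pow_apply_fix h2p j
  · rw [e, Perm.mul_apply, hgr]; exact pow_apply_fix h2r j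
  · rw [e, Perm.mul_apply, hgs]; exact pow_apply_fix h2s j

/-- a four-group `⟨a, b⟩` with `a = (p q)(r)(s)…`, `b = (p)(q)(r s)…` -/
theorem exists_V {G : Subgroup (Perm α)} (hG : H4 G) {p q r s : α} (hpq : p ≠ q)
    (hpr : p ≠ r) (hps : p ≠ s) (hqr : q ≠ r) (hqs : q ≠ s) (hrs : r ≠ s) :
    ∃ a ∈ G, ∃ b ∈ G, a * a = 1 ∧ b * b = 1 ∧ a * b = b * a ∧
      a p = q ∧ a q = p ∧ a r = r ∧ a s = s ∧ b p = p ∧ b q = q ∧ b r = s ∧ b s = r := by
  obtain ⟨x, hxG, hx2, hxp, hxq, hxr, hxs⟩ := exists_invol hG hpq hpr hps hqr hqs hrs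
  obtain ⟨y, hyG, hy2, hyr, hys, hyp, hyq⟩ :=
    exists_invol hG hrs hpr.symm hqr.symm hps.symm hqs.symm hpq
  obtain ⟨w, hw⟩ : ∃ w : Perm α, w = x * y := ⟨_, rfl⟩
  have hwG : w ∈ G := by rw [hw]; exact G.mul_mem hxG hyG
  have hwp : w p = q := by rw [hw, Perm.mul_apply, hyp, hxp]
  have hwq : w q = p := by rw [hw, Perm.mul_apply, hyq, hxq]
  have hwr : w r = s := by rw [hw, Perm.mul_apply, hyr, hxs]
  have hws : w s = r := by rw [hw, Perm.mul_apply, hys, hxr]
  have h2p : (w * w) p = p := by rw [Perm.mul_apply, hwp, hwq]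
  have h2q : (w * w) q = q := by rw [Perm.mul_apply, hwq, hwp]
  have h2r : (w * w) r = r := by rw [Perm.mul_apply, hwr, hws]
  have h2s : (w * w) s = s := by rw [Perm.mul_apply, hws, hwr]
  obtain ⟨j, hj⟩ := hG.odd4 (w * w) (G.mul_mem hwG hwG) p q r s hpq hpr hps hqr hqs hrs
    h2p h2q h2r h2s
  have e : w ^ (2 * j + 1) = (w * w) ^ j * w := by
    rw [pow_succ, pow_mul, pow_two]
  obtain ⟨z, hz⟩ : ∃ z : Perm α, z = w ^ (2 * j + 1) := ⟨_, rfl⟩
  have hzG : z ∈ G := by rw [hz]; exact G.pow_mem hwG _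
  have hz2 : z * z = 1 := by
    rw [hz, ← (Commute.refl w).mul_pow, ← hj]; exact pow_orderOf_eq_one _
  have hzp : z p = q := by rw [hz, e, Perm.mul_apply, hwp]; exact pow_apply_fix h2q j
  have hzq : z q = p := by rw [hz, e, Perm.mul_apply, hwq]; exact pow_apply_fix h2p j
  have hzr : z r = s := by rw [hz, e, Perm.mul_apply, hwr]; exact pow_apply_fix h2s j
  have hzs : z s = r := by rw [hz, e, Perm.mul_apply, hws]; exact pow_apply_fix h2r j
  have hxi : x⁻¹ = x := inv_eq_self_of_sq hx2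
  have hyi : y⁻¹ = y := inv_eq_self_of_sq hy2
  have hzi : z⁻¹ = z := inv_eq_self_of_sq hz2
  have hxw : x * w * x⁻¹ = w⁻¹ := by
    rw [hw, mul_inv_rev, hxi, hyi]
    calc x * (x * y) * x = (x * x) * y * x := by group
      _ = y * x := by rw [hx2, one_mul]
  have hxz : x * z = z * x := by
    have h1 := conj_pow_inv hxw (2 * j + 1)
    rw [← hz, hzi, hxi] at h1
    calc x * z = (x * z * x) * x := by rw [mul_assoc (x * z), hx2, mul_one]
      _ = z * x := by rw [h1]
  refine ⟨x, hxG, x * z, G.mul_mem hxG hzG, hx2, ?_, ?_, hxp, hxq, hxr, hxs, ?_, ?_, ?_, ?_⟩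
  · calc x * z * (x * z) = x * (z * x) * z := by group
      _ = x * (x * z) * z := by rw [hxz]
      _ = (x * x) * (z * z) := by group
      _ = 1 := by rw [hx2, hz2, mul_one]
  · calc x * (x * z) = x * (z * x) := by rw [hxz]
      _ = x * z * x := by group
  · rw [Perm.mul_apply, hzp, hxq]
  · rw [Perm.mul_apply, hzq, hxp]
  · rw [Perm.mul_apply, hzr, hxs]
  · rw [Perm.mul_apply, hzs, hxr]

theorem even_card_of_fpf_invol (F : Finset α) (f : Perm α) (hf : f * f = 1)
    (hF : ∀ y ∈ F, f y ∈ F) (hfp : ∀ y ∈ F, f y ≠ y) : Even F.card := by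
  have h : (∑ y ∈ F, (1 : ZMod 2)) = 0 :=
    Finset.sum_involution (fun y _ => f y) (fun y _ => by decide) (fun y hy _ => hfp y hy)
      (fun y hy => hF y hy) (fun y _ => sq_apply hf y)
  simp only [Finset.sum_const, nsmul_eq_mul, mul_one] at h
  exact (ZMod.natCast_eq_zero_iff_even).1 h

/-- commuting distinct involutions have a common regular point (degree at least 8) -/
theorem regular_point {G : Subgroup (Perm α)} (hG : H4 G) {s t : Perm α} (hsG : s ∈ G)
    (htG : t ∈ G) (hs : s * s = 1) (ht : t * t = 1) (hs1 : s ≠ 1) (ht1 : t ≠ 1) (hst : s ≠ t)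
    (hc : s * t = t * s) (hn : 8 ≤ Fintype.card α) :
    ∃ y : α, s y ≠ y ∧ t y ≠ y ∧ (s * t) y ≠ y := by
  by_contra hcon
  push Not at hcon
  have hu2 : (s * t) * (s * t) = 1 := by
    calc (s * t) * (s * t) = s * (t * s) * t := by group
      _ = s * (s * t) * t := by rw [hc]
      _ = (s * s) * (t * t) := by group
      _ = 1 := by rw [hs, ht, mul_one]
  have hu1 : s * t ≠ 1 := by
    intro h
    apply hst
    calc s = s * (t * t) := by rw [ht, mul_one]
      _ = (s * t) * t := by group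
      _ = t := by rw [h, one_mul]
  have hcs := card_fixF_le hG hsG hs hs1
  have hct := card_fixF_le hG htG ht ht1
  have hcu := card_fixF_le hG (G.mul_mem hsG htG) hu2 hu1
  have hcov : (Finset.univ : Finset α) ⊆ fixF s ∪ fixF t ∪ fixF (s * t) := by
    intro y _
    simp only [Finset.mem_union, mem_fixF]
    by_cases h1 : s y = y
    · exact Or.inl (Or.inl h1)
    · by_cases h2 : t y = y
      · exact Or.inl (Or.inr h2)
      · exact Or.inr (hcon y h1 h2)
  have hcard : Fintype.card α ≤ (fixF s ∪ fixF t ∪ fixF (s * t)).card := by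
    rw [← Finset.card_univ]; exact Finset.card_le_card hcov
  by_cases hcase : ∃ y, s y = y ∧ t y = y
  · obtain ⟨y, hys, hyt⟩ := hcase
    have hyu : (s * t) y = y := by rw [Perm.mul_apply, hyt, hys]
    have h1 : (fixF s ∪ fixF t).card + (fixF s ∩ fixF t).card = (fixF s).card + (fixF t).card :=
      Finset.card_union_add_card_inter _ _
    have h2 : 1 ≤ (fixF s ∩ fixF t).card :=
      Finset.card_pos.2 ⟨y, Finset.mem_inter.2 ⟨mem_fixF.2 hys, mem_fixF.2 hyt⟩⟩
    have h3 : fixF s ∪ fixF t ∪ fixF (s * t) = (fixF s ∪ fixF t) ∪ (fixF (s * t)).erase y := by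
      ext v
      simp only [Finset.mem_union, Finset.mem_erase, mem_fixF]
      constructor
      · rintro ((h | h) | h)
        · exact Or.inl (Or.inl h)
        · exact Or.inl (Or.inr h)
        · by_cases hv : v = y
          · subst hv; exact Or.inl (Or.inl hys)
          · exact Or.inr ⟨hv, h⟩
      · rintro ((h | h) | h)
        · exact Or.inl (Or.inl h)
        · exact Or.inl (Or.inr h)
        · exact Or.inr h.2
    have h4 : ((fixF (s * t)).erase y).card = (fixF (s * t)).card - 1 :=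
      Finset.card_erase_of_mem (mem_fixF.2 hyu)
    have h5 := Finset.card_union_le (fixF s ∪ fixF t) ((fixF (s * t)).erase y)
    rw [h3] at hcard
    omega
  · push Not at hcase
    -- all three fixed point sets have even cardinality
    have e1 : Even (fixF s).card := by
      apply even_card_of_fpf_invol _ t ht
      · intro y hy
        rw [mem_fixF] at hy ⊢
        calc s (t y) = (s * t) y := rfl
          _ = (t * s) y := by rw [hc]
          _ = t y := by rw [Perm.mul_apply, hy]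
      · intro y hy
        exact hcase y (mem_fixF.1 hy)
    have e2 : Even (fixF t).card := by
      apply even_card_of_fpf_invol _ s hs
      · intro y hy
        rw [mem_fixF] at hy ⊢
        calc t (s y) = (t * s) y := rfl
          _ = (s * t) y := by rw [hc]
          _ = s y := by rw [Perm.mul_apply, hy]
      · intro y hy h
        exact hcase y h (mem_fixF.1 hy)
    have e3 : Even (fixF (s * t)).card := by
      apply even_card_of_fpf_invol _ s hs
      · intro y hy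
        rw [mem_fixF] at hy ⊢
        calc (s * t) (s y) = (s * (t * s)) y := rfl
          _ = (s * (s * t)) y := by rw [hc]
          _ = s ((s * t) y) := rfl
          _ = s y := by rw [hy]
      · intro y hy h
        rw [mem_fixF, Perm.mul_apply] at hy
        have h6 : t y = y := by
          have := congrArg s hy
          rw [sq_apply hs, h] at this
          exact this
        exact hcase y h h6
    have h5 := Finset.card_union_le (fixF s ∪ fixF t) (fixF (s * t))
    have h6 := Finset.card_union_le (fixF s) (fixF t)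
    obtain ⟨k1, hk1⟩ := e1
    obtain ⟨k2, hk2⟩ := e2
    obtain ⟨k3, hk3⟩ := e3
    omega

theorem conj_step {G : Subgroup (Perm α)} (hG : H4 G) {s a' : Perm α} (hsG : s ∈ G)
    (haG : a' ∈ G) (hs : s * s = 1) (ha : a' * a' = 1) {z1 z2 z3 z4 : α} (h12 : z1 ≠ z2)
    (h13 : z1 ≠ z3) (h14 : z1 ≠ z4) (h23 : z2 ≠ z3) (h24 : z2 ≠ z4) (h34 : z3 ≠ z4)
    (e1 : (s * a') z1 = z1) (e2 : (s * a') z2 = z2) (e3 : (s * a') z3 = z3)
    (e4 : (s * a') z4 = z4) :
    ∃ j : ℕ, (s * a') ^ j * s * ((s * a') ^ j)⁻¹ = a' := by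
  have hodd := hG.odd4 (s * a') (G.mul_mem hsG haG) z1 z2 z3 z4 h12 h13 h14 h23 h24 h34
    e1 e2 e3 e4
  have hinv : s * (s * a') * s⁻¹ = (s * a')⁻¹ := by
    rw [mul_inv_rev, inv_eq_self_of_sq hs, inv_eq_self_of_sq ha]
    calc s * (s * a') * s = (s * s) * a' * s := by group
      _ = a' * s := by rw [hs, one_mul]
  obtain ⟨j, hj⟩ := conj_of_inverted hs hinv hodd
  refine ⟨j, ?_⟩
  rw [hj, ← mul_assoc, hs, one_mul]

/-- four distinct points from a regular point of a four-group -/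
theorem regular_distinct {a b : Perm α} (ha : a * a = 1) (hb : b * b = 1) (cab : a * b = b * a)
    {y : α} (hya : a y ≠ y) (hyb : b y ≠ y) (hyab : (a * b) y ≠ y) :
    y ≠ a y ∧ y ≠ b y ∧ y ≠ (a * b) y ∧ a y ≠ b y ∧ a y ≠ (a * b) y ∧ b y ≠ (a * b) y := by
  refine ⟨fun h => hya h.symm, fun h => hyb h.symm, fun h => hyab h.symm, ?_, ?_, ?_⟩
  · intro h
    apply hyab
    rw [Perm.mul_apply, ← h, sq_apply ha]
  · intro h
    rw [Perm.mul_apply] at h
    exact hyb (a.injective h).symm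
  · intro h
    rw [cab, Perm.mul_apply] at h
    exact hya (b.injective h).symm

/-- (**) any two pairs of commuting distinct involutions are simultaneously conjugate -/
theorem conj_pair {G : Subgroup (Perm α)} (hG : H4 G) (hn : 8 ≤ Fintype.card α)
    {a b s t : Perm α} (haG : a ∈ G) (hbG : b ∈ G) (hsG : s ∈ G) (htG : t ∈ G)
    (ha : a * a = 1) (hb : b * b = 1) (hs : s * s = 1) (ht : t * t = 1)
    (ha1 : a ≠ 1) (hb1 : b ≠ 1) (hs1 : s ≠ 1) (ht1 : t ≠ 1) (hab : a ≠ b) (hst : s ≠ t)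
    (cab : a * b = b * a) (cst : s * t = t * s) :
    ∃ g ∈ G, g * a * g⁻¹ = s ∧ g * b * g⁻¹ = t := by
  obtain ⟨y, hya, hyb, hyab⟩ := regular_point hG haG hbG ha hb ha1 hb1 hab cab hn
  obtain ⟨z, hzs, hzt, hzst⟩ := regular_point hG hsG htG hs ht hs1 ht1 hst cst hn
  obtain ⟨d12, d13, d14, d23, d24, d34⟩ := regular_distinct ha hb cab hya hyb hyab
  obtain ⟨f12, f13, f14, f23, f24, f34⟩ := regular_distinct hs ht cst hzs hzt hzst
  obtain ⟨g, hgG, g1, g2, g3, g4⟩ := hG.trans4 y (a y) (b y) ((a * b) y) z (s z) (t z)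
    ((s * t) z) d12 d13 d14 d23 d24 d34 f12 f13 f14 f23 f24 f34
  have gi1 : g⁻¹ z = y := inv_apply_of_eq g1
  have gi2 : g⁻¹ (s z) = a y := inv_apply_of_eq g2
  have gi3 : g⁻¹ (t z) = b y := inv_apply_of_eq g3
  have gi4 : g⁻¹ ((s * t) z) = (a * b) y := inv_apply_of_eq g4
  have hai : a⁻¹ = a := inv_eq_self_of_sq ha
  have hbi : b⁻¹ = b := inv_eq_self_of_sq hb
  have hsi : s⁻¹ = s := inv_eq_self_of_sq hs
  have hti : t⁻¹ = t := inv_eq_self_of_sq ht
  -- pointwise identities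
  have st_z : (s * t) z = s (t z) := rfl
  have ab_y : (a * b) y = a (b y) := rfl
  have ts_z : t (s z) = s (t z) := by
    calc t (s z) = (t * s) z := rfl
      _ = (s * t) z := by rw [cst]
      _ = s (t z) := rfl
  have ba_y : b (a y) = a (b y) := by
    calc b (a y) = (b * a) y := rfl
      _ = (a * b) y := by rw [cab]
      _ = a (b y) := rfl
  obtain ⟨a', ha'⟩ : ∃ a' : Perm α, a' = g * a * g⁻¹ := ⟨_, rfl⟩
  obtain ⟨b', hb'⟩ : ∃ b' : Perm α, b' = g * b * g⁻¹ := ⟨_, rfl⟩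
  have ha'G : a' ∈ G := by rw [ha']; exact G.mul_mem (G.mul_mem hgG haG) (G.inv_mem hgG)
  have hb'G : b' ∈ G := by rw [hb']; exact G.mul_mem (G.mul_mem hgG hbG) (G.inv_mem hgG)
  have ha'2 : a' * a' = 1 := by
    rw [ha']
    calc g * a * g⁻¹ * (g * a * g⁻¹) = g * (a * a) * g⁻¹ := by group
      _ = 1 := by rw [ha]; group
  have hb'2 : b' * b' = 1 := by
    rw [hb']
    calc g * b * g⁻¹ * (g * b * g⁻¹) = g * (b * b) * g⁻¹ := by group
      _ = 1 := by rw [hb]; group
  have ca'b' : a' * b' = b' * a' := by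
    rw [ha', hb']
    calc g * a * g⁻¹ * (g * b * g⁻¹) = g * (a * b) * g⁻¹ := by group
      _ = g * (b * a) * g⁻¹ := by rw [cab]
      _ = g * b * g⁻¹ * (g * a * g⁻¹) := by group
  -- action of a' on the four points
  have a1 : a' z = s z := by
    rw [ha', Perm.mul_apply, Perm.mul_apply, gi1, g2]
  have a2 : a' (s z) = z := by
    rw [ha', Perm.mul_apply, Perm.mul_apply, gi2, sq_apply ha, g1]
  have a3 : a' (t z) = s (t z) := by
    rw [ha', Perm.mul_apply, Perm.mul_apply, gi3, ← ab_y, g4]; rfl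
  have a4 : a' (s (t z)) = t z := by
    rw [← st_z, ha', Perm.mul_apply, Perm.mul_apply, gi4, ab_y, sq_apply ha, g3]
  -- action of b' on the four points
  have b1 : b' z = t z := by
    rw [hb', Perm.mul_apply, Perm.mul_apply, gi1, g3]
  have b2 : b' (s z) = s (t z) := by
    rw [hb', Perm.mul_apply, Perm.mul_apply, gi2, ba_y, ← ab_y, g4]; rfl
  have b3 : b' (t z) = z := by
    rw [hb', Perm.mul_apply, Perm.mul_apply, gi3, sq_apply hb, g1]
  have b4 : b' (s (t z)) = s z := by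
    rw [← st_z, hb', Perm.mul_apply, Perm.mul_apply, gi4, ab_y, ← ba_y, sq_apply hb, g2]
  -- first conjugation step
  have e1 : (s * a') z = z := by rw [Perm.mul_apply, a1, sq_apply hs]
  have e2 : (s * a') (s z) = s z := by rw [Perm.mul_apply, a2]
  have e3 : (s * a') (t z) = t z := by rw [Perm.mul_apply, a3, sq_apply hs]
  have e4 : (s * a') (s (t z)) = s (t z) := by rw [Perm.mul_apply, a4]
  obtain ⟨j1, hj1⟩ := conj_step hG hsG ha'G hs ha'2 f12 f13 f14 f23 f24 f34 e1 e2 e3 e4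
  obtain ⟨k1, hk1⟩ : ∃ k1 : Perm α, k1 = (s * a') ^ j1 := ⟨_, rfl⟩
  rw [← hk1] at hj1
  have hk1G : k1 ∈ G := by rw [hk1]; exact G.pow_mem (G.mul_mem hsG ha'G) _
  have k11 : k1 z = z := by rw [hk1]; exact pow_apply_fix e1 _
  have k12 : k1 (s z) = s z := by rw [hk1]; exact pow_apply_fix e2 _
  have k13 : k1 (t z) = t z := by rw [hk1]; exact pow_apply_fix e3 _
  have k14 : k1 (s (t z)) = s (t z) := by rw [hk1]; exact pow_apply_fix e4 _
  have hs_eq : s = k1⁻¹ * a' * k1 := by rw [← hj1]; group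
  obtain ⟨b1', hb1'⟩ : ∃ b1' : Perm α, b1' = k1⁻¹ * b' * k1 := ⟨_, rfl⟩
  have hb1G : b1' ∈ G := by
    rw [hb1']; exact G.mul_mem (G.mul_mem (G.inv_mem hk1G) hb'G) hk1G
  have hb12 : b1' * b1' = 1 := by
    rw [hb1']
    calc k1⁻¹ * b' * k1 * (k1⁻¹ * b' * k1) = k1⁻¹ * (b' * b') * k1 := by group
      _ = 1 := by rw [hb'2]; group
  have csb1 : s * b1' = b1' * s := by
    rw [hb1', hs_eq]
    calc k1⁻¹ * a' * k1 * (k1⁻¹ * b' * k1) = k1⁻¹ * (a' * b') * k1 := by group
      _ = k1⁻¹ * (b' * a') * k1 := by rw [ca'b']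
      _ = k1⁻¹ * b' * k1 * (k1⁻¹ * a' * k1) := by group
  have c1 : b1' z = t z := by
    rw [hb1', Perm.mul_apply, Perm.mul_apply, k11, b1]; exact inv_apply_fix k13
  have c2 : b1' (s z) = s (t z) := by
    rw [hb1', Perm.mul_apply, Perm.mul_apply, k12, b2]; exact inv_apply_fix k14
  have c3 : b1' (t z) = z := by
    rw [hb1', Perm.mul_apply, Perm.mul_apply, k13, b3]; exact inv_apply_fix k11
  have c4 : b1' (s (t z)) = s z := by
    rw [hb1', Perm.mul_apply, Perm.mul_apply, k14, b4]; exact inv_apply_fix k12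
  have u1 : (t * b1') z = z := by rw [Perm.mul_apply, c1, sq_apply ht]
  have u2 : (t * b1') (s z) = s z := by rw [Perm.mul_apply, c2, ← ts_z, sq_apply ht]
  have u3 : (t * b1') (t z) = t z := by rw [Perm.mul_apply, c3]
  have u4 : (t * b1') (s (t z)) = s (t z) := by rw [Perm.mul_apply, c4, ts_z]
  obtain ⟨j2, hj2⟩ := conj_step hG htG hb1G ht hb12 f12 f13 f14 f23 f24 f34 u1 u2 u3 u4
  obtain ⟨k2, hk2⟩ : ∃ k2 : Perm α, k2 = (t * b1') ^ j2 := ⟨_, rfl⟩
  rw [← hk2] at hj2
  have hk2G : k2 ∈ G := by rw [hk2]; exact G.pow_mem (G.mul_mem htG hb1G) _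
  have hcom : Commute s k2 := by
    rw [hk2]
    apply Commute.pow_right
    show s * (t * b1') = t * b1' * s
    calc s * (t * b1') = (s * t) * b1' := by group
      _ = (t * s) * b1' := by rw [cst]
      _ = t * (s * b1') := by group
      _ = t * (b1' * s) := by rw [csb1]
      _ = t * b1' * s := by group
  have hcom' : s * k2 = k2 * s := hcom
  refine ⟨k2⁻¹ * k1⁻¹ * g, G.mul_mem (G.mul_mem (G.inv_mem hk2G) (G.inv_mem hk1G)) hgG, ?_, ?_⟩
  · calc k2⁻¹ * k1⁻¹ * g * a * (k2⁻¹ * k1⁻¹ * g)⁻¹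
        = k2⁻¹ * (k1⁻¹ * (g * a * g⁻¹) * k1) * k2 := by group
      _ = k2⁻¹ * s * k2 := by rw [← ha', ← hs_eq]
      _ = k2⁻¹ * (s * k2) := by group
      _ = k2⁻¹ * (k2 * s) := by rw [hcom']
      _ = s := by group
  · calc k2⁻¹ * k1⁻¹ * g * b * (k2⁻¹ * k1⁻¹ * g)⁻¹
        = k2⁻¹ * (k1⁻¹ * (g * b * g⁻¹) * k1) * k2 := by group
      _ = k2⁻¹ * b1' * k2 := by rw [← hb', ← hb1']
      _ = k2⁻¹ * (k2 * t * k2⁻¹) * k2 := by rw [hj2]
      _ = t := by group

end Cfsg.Agent.Lib.helper16.Hall4
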