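-- helper16: M. Hall's theorem on 4-fold transitive groups with odd four-point stabilisers,
-- part C: the odd normal subgroup coming from the Z*-theorem, orbit counting helpers.
import Mathlib
import Cfsg.Agent.S0215
import Cfsg.Agent.Lib.helper16.Hall4A
import Cfsg.Agent.Lib.helper16.Hall4B

set_option autoImplicit false
set_option linter.style.haveILetI false
set_option linter.unusedSectionVars false
set_option linter.unusedVariables false

namespace Cfsg.Agent.Lib.helper16.Hall4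

section generic

theorem odd_card_of_forall_odd {X : Type*} [Group X] [Finite X]
    (h : ∀ x : X, Odd (orderOf x)) : Odd (Nat.card X) := by
  by_contra hc
  rw [Nat.not_odd_iff_even] at hc
  haveI : Fact (Nat.Prime 2) := ⟨Nat.prime_two⟩
  obtain ⟨x, hx⟩ := exists_prime_orderOf_dvd_card' 2 hc.two_dvd
  have := h x
  rw [hx] at this
  exact absurd this (by decide)

variable {Γ : Type*} [Group Γ]

/-- an isolated involution `b` of `W` gives (Z*-theorem) a normal subgroup of odd order of `W`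
containing all commutators `[b, w]`; made invariant under a further element `a`. -/
theorem exists_M [Finite Γ] (W : Subgroup Γ) (a b : Γ) (hbW : b ∈ W) (ha : a * a = 1)
    (hb : b * b = 1) (hb1 : b ≠ 1) (hab : a * b = b * a)
    (haW : ∀ w ∈ W, a * w * a⁻¹ ∈ W)
    (hisol : ∀ t ∈ W, t * t = 1 → t ≠ 1 → t * b = b * t → t = b) :
    ∃ M : Subgroup Γ, M ≤ W ∧ Odd (Nat.card M) ∧ (∀ w ∈ W, ∀ m ∈ M, w * m * w⁻¹ ∈ M) ∧
      (∀ m ∈ M, a * m * a⁻¹ ∈ M) ∧ (∀ w ∈ W, b * w * b⁻¹ * w⁻¹ ∈ M) := by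
  haveI : Fact (Nat.Prime 2) := ⟨Nat.prime_two⟩
  obtain ⟨u, hu⟩ : ∃ u : W, u = ⟨b, hbW⟩ := ⟨_, rfl⟩
  have hub : (u : Γ) = b := by rw [hu]
  have hu2 : u * u = 1 := Subtype.ext (by rw [Subgroup.coe_mul, hub, hb]; rfl)
  have hu1 : u ≠ 1 := fun h => hb1 (by rw [← hub, h]; rfl)
  have huo : orderOf u = 2 := orderOf_eq_prime (by rw [pow_two]; exact hu2) hu1
  have hz : IsPGroup 2 (Subgroup.zpowers u) :=
    IsPGroup.of_card (n := 1) (by rw [Nat.card_zpowers, huo]; rfl)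
  obtain ⟨P, hP⟩ := hz.exists_le_sylow
  have huP : u ∈ P := hP (Subgroup.mem_zpowers u)
  have hisolW : ∀ v : W, v * v = 1 → v ≠ 1 → v * u = u * v → v = u := by
    intro v hv2 hv1 hvu
    apply Subtype.ext
    rw [hub]
    apply hisol v.1 v.2
    · have := congrArg Subtype.val hv2
      rw [Subgroup.coe_mul] at this
      exact this
    · intro h; exact hv1 (Subtype.ext h)
    · have := congrArg Subtype.val hvu
      rw [Subgroup.coe_mul, Subgroup.coe_mul, hub] at this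
      exact this
  have hcentral : ∀ x ∈ P, x * u = u * x := by
    haveI : Nontrivial (↥(P : Subgroup W)) :=
      ⟨⟨⟨u, huP⟩, 1, fun h => hu1 (congrArg Subtype.val h)⟩⟩
    have hPp : IsPGroup 2 (↥(P : Subgroup W)) := P.isPGroup'
    haveI := hPp.center_nontrivial
    have hZp : IsPGroup 2 (↥(Subgroup.center (↥(P : Subgroup W)))) := hPp.to_subgroup _
    have h2 : 2 ∣ Nat.card (↥(Subgroup.center (↥(P : Subgroup W)))) := by
      rcases hZp.card_eq_or_dvd with h | h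
      · have := Finite.one_lt_card (α := ↥(Subgroup.center (↥(P : Subgroup W))))
        omega
      · exact h
    obtain ⟨z, hz⟩ := exists_prime_orderOf_dvd_card' 2 h2
    have hz2 : z * z = 1 := by
      have h5 := pow_orderOf_eq_one z
      rw [hz, pow_two] at h5
      exact h5
    have hz1 : z ≠ 1 := by
      intro h
      rw [h, orderOf_one] at hz
      omega
    obtain ⟨zW, hzW⟩ : ∃ zW : W, zW = ((z : ↥(P : Subgroup W)) : W) := ⟨_, rfl⟩
    have hzW2 : zW * zW = 1 := by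
      rw [hzW]
      have := congrArg
        (fun t : ↥(Subgroup.center (↥(P : Subgroup W))) => ((t : ↥(P : Subgroup W)) : W)) hz2
      simpa using this
    have hzW1 : zW ≠ 1 := by
      intro h
      apply hz1
      apply Subtype.ext
      apply Subtype.ext
      rw [← hzW, h]
      rfl
    have hzc : ∀ x ∈ P, x * zW = zW * x := by
      intro x hx
      have h3 := (Subgroup.mem_center_iff.1 z.2) ⟨x, hx⟩
      have h4 := congrArg Subtype.val h3
      rw [hzW]
      simpa using h4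
    have hzu : zW = u := hisolW zW hzW2 hzW1 (hzc u huP).symm
    intro x hx
    rw [← hzu]
    exact hzc x hx
  have hiso : ∀ g : W, g * u * g⁻¹ ∈ P → g * u * g⁻¹ = u := by
    intro g hg
    apply hisolW
    · calc g * u * g⁻¹ * (g * u * g⁻¹) = g * (u * u) * g⁻¹ := by group
        _ = 1 := by rw [hu2]; group
    · intro h
      apply hu1
      calc u = g⁻¹ * (g * u * g⁻¹) * g := by group
        _ = 1 := by rw [h]; group
    · exact hcentral _ hg
  obtain ⟨N₀, hN₀n, hN₀o, hN₀c⟩ := Cfsg.Agent.S0215.result P u huo huP hiso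
  obtain ⟨N, hN⟩ : ∃ N : Subgroup Γ, N = N₀.map W.subtype := ⟨_, rfl⟩
  have memN : ∀ x, x ∈ N ↔ ∃ hx : x ∈ W, (⟨x, hx⟩ : W) ∈ N₀ := by
    intro x
    rw [hN, Subgroup.mem_map]
    constructor
    · rintro ⟨n, hn, rfl⟩
      exact ⟨n.2, hn⟩
    · rintro ⟨hx, hn⟩
      exact ⟨⟨x, hx⟩, hn, rfl⟩
  have hNW : N ≤ W := fun x hx => ((memN x).1 hx).1
  have hNo : Odd (Nat.card N) := by
    rw [hN, Subgroup.card_subtype]; exact hN₀o
  have hNnorm : ∀ w ∈ W, ∀ m ∈ N, w * m * w⁻¹ ∈ N := by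
    intro w hw m hm
    obtain ⟨hmW, hmN⟩ := (memN m).1 hm
    exact (memN _).2 ⟨W.mul_mem (W.mul_mem hw hmW) (W.inv_mem hw),
      hN₀n.conj_mem ⟨m, hmW⟩ hmN ⟨w, hw⟩⟩
  have hNc : ∀ w ∈ W, b * w * b⁻¹ * w⁻¹ ∈ N := by
    intro w hw
    have h1 := hN₀c ⟨w, hw⟩
    rw [hu] at h1
    exact (memN _).2 ⟨W.mul_mem (W.mul_mem (W.mul_mem hbW hw) (W.inv_mem hbW)) (W.inv_mem hw), h1⟩
  have hai : a⁻¹ = a := inv_eq_self_of_sq ha
  refine ⟨N ⊓ N.comap (MulAut.conj a).toMonoidHom, inf_le_left.trans hNW,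
    Odd.of_dvd_nat hNo (Subgroup.card_dvd_of_le inf_le_left), ?_, ?_, ?_⟩
  · intro w hw m hm
    obtain ⟨hm1, hm2⟩ := Subgroup.mem_inf.1 hm
    have hm2' : a * m * a⁻¹ ∈ N := hm2
    refine Subgroup.mem_inf.2 ⟨hNnorm w hw m hm1, ?_⟩
    show a * (w * m * w⁻¹) * a⁻¹ ∈ N
    have h1 := hNnorm (a * w * a⁻¹) (haW w hw) (a * m * a⁻¹) hm2'
    have e : a * (w * m * w⁻¹) * a⁻¹ = a * w * a⁻¹ * (a * m * a⁻¹) * (a * w * a⁻¹)⁻¹ := by group
    rw [e]; exact h1
  · intro m hm
    obtain ⟨hm1, hm2⟩ := Subgroup.mem_inf.1 hm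
    have hm2' : a * m * a⁻¹ ∈ N := hm2
    refine Subgroup.mem_inf.2 ⟨hm2', ?_⟩
    show a * (a * m * a⁻¹) * a⁻¹ ∈ N
    have e : a * (a * m * a⁻¹) * a⁻¹ = m := by
      rw [hai]
      calc a * (a * m * a) * a = (a * a) * m * (a * a) := by group
        _ = m := by rw [ha, one_mul, mul_one]
    rw [e]; exact hm1
  · intro w hw
    refine Subgroup.mem_inf.2 ⟨hNc w hw, ?_⟩
    show a * (b * w * b⁻¹ * w⁻¹) * a⁻¹ ∈ N
    have hab' : a * b⁻¹ * a⁻¹ = b⁻¹ := by
      have h1 : a * b⁻¹ = b⁻¹ * a := (Commute.inv_right (show Commute a b from hab)).eq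
      rw [h1, mul_inv_cancel_right]
    have e : a * (b * w * b⁻¹ * w⁻¹) * a⁻¹ = b * (a * w * a⁻¹) * b⁻¹ * (a * w * a⁻¹)⁻¹ := by
      calc a * (b * w * b⁻¹ * w⁻¹) * a⁻¹ = (a * b) * w * b⁻¹ * w⁻¹ * a⁻¹ := by group
        _ = (b * a) * w * b⁻¹ * w⁻¹ * a⁻¹ := by rw [hab]
        _ = b * (a * w * a⁻¹) * (a * b⁻¹ * a⁻¹) * (a * w * a⁻¹)⁻¹ := by group
        _ = b * (a * w * a⁻¹) * b⁻¹ * (a * w * a⁻¹)⁻¹ := by rw [hab']
    rw [e]; exact hNc _ (haW w hw)

end generic

section perm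

open Equiv

variable {α : Type*} [Fintype α] [DecidableEq α]

/-- stabiliser of a point in a subgroup, as a subgroup of the ambient group -/
def stb (K : Subgroup (Perm α)) (c : α) : Subgroup (Perm α) :=
  K ⊓ MulAction.stabilizer (Perm α) c

theorem mem_stb {K : Subgroup (Perm α)} {c : α} {x : Perm α} :
    x ∈ stb K c ↔ x ∈ K ∧ x c = c := by
  unfold stb
  rw [Subgroup.mem_inf, MulAction.mem_stabilizer_iff]
  rfl

theorem stb_le (K : Subgroup (Perm α)) (c : α) : stb K c ≤ K := inf_le_left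

theorem card_stab_eq (K : Subgroup (Perm α)) (c : α) :
    Nat.card (MulAction.stabilizer K c) = Nat.card (stb K c) := by
  apply Nat.card_congr
  exact
    { toFun := fun x => ⟨x.1.1, mem_stb.2 ⟨x.1.2, x.2⟩⟩
      invFun := fun x => ⟨⟨x.1, (mem_stb.1 x.2).1⟩, (mem_stb.1 x.2).2⟩
      left_inv := fun x => rfl
      right_inv := fun x => rfl }

theorem card_orbit_stab (K : Subgroup (Perm α)) (c : α) (S : Finset α)
    (hS : ∀ x, x ∈ S ↔ ∃ k ∈ K, k c = x) :
    Nat.card K = S.card * Nat.card (MulAction.stabilizer K c) := by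
  have h1 : Nat.card K =
      Nat.card (MulAction.orbit K c) * Nat.card (MulAction.stabilizer K c) := by
    rw [← Nat.card_prod]
    exact (Nat.card_congr (MulAction.orbitProdStabilizerEquivGroup K c)).symm
  have h2 : MulAction.orbit K c = (S : Set α) := by
    ext x
    rw [MulAction.mem_orbit_iff, Finset.mem_coe, hS]
    constructor
    · rintro ⟨k, hk⟩; exact ⟨k.1, k.2, hk⟩
    · rintro ⟨k, hk, hkx⟩; exact ⟨⟨k, hk⟩, hkx⟩
  rw [h1, h2, Nat.card_coe_set_eq, Set.ncard_coe_finset]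

end perm

end Cfsg.Agent.Lib.helper16.Hall4
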