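-- helper16: M. Hall's theorem on 4-fold transitive groups with odd four-point stabilisers,
-- part D: degree at least 8 forces degree 11 and trivial four-point stabilisers.
import Mathlib
import Cfsg.Agent.Lib.helper16.Hall4A
import Cfsg.Agent.Lib.helper16.Hall4B
import Cfsg.Agent.Lib.helper16.Hall4C

set_option autoImplicit false
set_option linter.style.haveILetI false
set_option linter.unusedSectionVars false
set_option linter.unusedVariables false

namespace Cfsg.Agent.Lib.helper16.Hall4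

open Equiv

variable {α : Type*} [Fintype α] [DecidableEq α]

/-- the configuration: `a = (p q)(r)(s)…`, `b = (p)(q)(r s)…` commuting involutions of `G` -/
structure Cfg (G : Subgroup (Perm α)) (p q r s : α) (a b : Perm α) : Prop where
  hG : H4 G
  hn : 8 ≤ Fintype.card α
  pq : p ≠ q
  pr : p ≠ r
  ps : p ≠ s
  qr : q ≠ r
  qs : q ≠ s
  rs : r ≠ s
  aG : a ∈ G
  bG : b ∈ G
  a2 : a * a = 1
  b2 : b * b = 1
  ab : a * b = b * a
  a_p : a p = q
  a_q : a q = p
  a_r : a r = r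
  a_s : a s = s
  b_p : b p = p
  b_q : b q = q
  b_r : b r = s
  b_s : b s = r

variable {G : Subgroup (Perm α)} {p q r s : α} {a b : Perm α}

theorem Cfg.swap (h : Cfg G p q r s a b) : Cfg G r s p q b a :=
  ⟨h.hG, h.hn, h.rs, h.pr.symm, h.qr.symm, h.ps.symm, h.qs.symm, h.pq, h.bG, h.aG, h.b2, h.a2,
    h.ab.symm, h.b_r, h.b_s, h.b_p, h.b_q, h.a_r, h.a_s, h.a_p, h.a_q⟩

theorem Cfg.a_ne_one (h : Cfg G p q r s a b) : a ≠ 1 := by
  intro e
  have := h.a_p
  rw [e] at this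
  exact h.pq this

theorem Cfg.b_ne_one (h : Cfg G p q r s a b) : b ≠ 1 := h.swap.a_ne_one

theorem Cfg.a_ne_b (h : Cfg G p q r s a b) : a ≠ b := by
  intro e
  have := h.a_p
  rw [e, h.b_p] at this
  exact h.pq this

theorem Cfg.ab_p (h : Cfg G p q r s a b) : (a * b) p = q := by
  rw [Perm.mul_apply, h.b_p, h.a_p]

theorem Cfg.ab_sq (h : Cfg G p q r s a b) : (a * b) * (a * b) = 1 := by
  calc (a * b) * (a * b) = a * (b * a) * b := by group
    _ = a * (a * b) * b := by rw [h.ab]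
    _ = (a * a) * (b * b) := by group
    _ = 1 := by rw [h.a2, h.b2, mul_one]

theorem Cfg.ab_ne_one (h : Cfg G p q r s a b) : a * b ≠ 1 := by
  intro e
  have := h.ab_p
  rw [e] at this
  exact h.pq this

/-- `b` is the only involution of `G_{p,q}` commuting with `b` -/
theorem isolated (h : Cfg G p q r s a b) {t : Perm α} (htG : t ∈ G) (htp : t p = p)
    (htq : t q = q) (ht2 : t * t = 1) (ht1 : t ≠ 1) (htb : t * b = b * t) : t = b := by
  by_contra hne
  have ha1 := h.a_ne_one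
  have hb1 := h.b_ne_one
  obtain ⟨g, hgG, hga, hgb⟩ := conj_pair h.hG h.hn h.aG h.bG h.bG htG h.a2 h.b2 h.b2 ht2
    ha1 hb1 hb1 ht1 h.a_ne_b (Ne.symm hne) h.ab htb.symm
  have key : ∀ x, b x = x → t x = x → a (g⁻¹ x) = g⁻¹ x ∧ b (g⁻¹ x) = g⁻¹ x := by
    intro x hbx htx
    constructor
    · have h1 : (g * a * g⁻¹) x = x := by rw [hga]; exact hbx
      rw [Perm.mul_apply, Perm.mul_apply] at h1
      exact (inv_apply_of_eq h1).symm
    · have h1 : (g * b * g⁻¹) x = x := by rw [hgb]; exact htx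
      rw [Perm.mul_apply, Perm.mul_apply] at h1
      exact (inv_apply_of_eq h1).symm
  obtain ⟨au, bu⟩ := key p h.b_p htp
  obtain ⟨av, bv⟩ := key q h.b_q htq
  have huv : g⁻¹ p ≠ g⁻¹ q := fun e => h.pq (g⁻¹.injective e)
  have hur : r ≠ g⁻¹ p := by
    intro e
    rw [← e, h.b_r] at bu
    exact h.rs bu.symm
  have hus : s ≠ g⁻¹ p := by
    intro e
    rw [← e, h.b_s] at bu
    exact h.rs bu
  have hvr : r ≠ g⁻¹ q := by
    intro e
    rw [← e, h.b_r] at bv
    exact h.rs bv.symm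
  have hvs : s ≠ g⁻¹ q := by
    intro e
    rw [← e, h.b_s] at bv
    exact h.rs bv
  exact no_four_fixed h.hG h.aG h.a2 ha1 h.rs hur hvr hus hvs huv h.a_r h.a_s au av

/-- the two-point stabiliser -/
def W2 (G : Subgroup (Perm α)) (p q : α) : Subgroup (Perm α) := stb (stb G p) q

theorem mem_W2 {G : Subgroup (Perm α)} {p q : α} {w : Perm α} :
    w ∈ W2 G p q ↔ w ∈ G ∧ w p = p ∧ w q = q := by
  unfold W2
  rw [mem_stb, mem_stb, and_assoc]

/-- properties of the odd-order normal subgroup `M` of `G_{p,q}` -/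
structure MP (G : Subgroup (Perm α)) (p q : α) (a b : Perm α) (M : Subgroup (Perm α)) :
    Prop where
  le : ∀ m ∈ M, m ∈ G ∧ m p = p ∧ m q = q
  odd : Odd (Nat.card M)
  normW : ∀ w ∈ G, w p = p → w q = q → ∀ m ∈ M, w * m * w⁻¹ ∈ M
  norma : ∀ m ∈ M, a * m * a⁻¹ ∈ M
  comm : ∀ w ∈ G, w p = p → w q = q → b * w * b⁻¹ * w⁻¹ ∈ M

theorem exists_MP (h : Cfg G p q r s a b) : ∃ M : Subgroup (Perm α), MP G p q a b M := by
  have hbW : b ∈ W2 G p q := mem_W2.2 ⟨h.bG, h.b_p, h.b_q⟩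
  have haW : ∀ w ∈ W2 G p q, a * w * a⁻¹ ∈ W2 G p q := by
    intro w hw
    rw [mem_W2] at hw ⊢
    refine ⟨G.mul_mem (G.mul_mem h.aG hw.1) (G.inv_mem h.aG), ?_, ?_⟩
    · rw [Perm.mul_apply, Perm.mul_apply, inv_apply_of_eq h.a_q, hw.2.2, h.a_q]
    · rw [Perm.mul_apply, Perm.mul_apply, inv_apply_of_eq h.a_p, hw.2.1, h.a_p]
  have hisol : ∀ t ∈ W2 G p q, t * t = 1 → t ≠ 1 → t * b = b * t → t = b := by
    intro t ht ht2 ht1 htb
    rw [mem_W2] at ht
    exact isolated h ht.1 ht.2.1 ht.2.2 ht2 ht1 htb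
  obtain ⟨M, hMW, hMo, hMn, hMa, hMc⟩ :=
    exists_M (W2 G p q) a b hbW h.a2 h.b2 h.b_ne_one h.ab haW hisol
  refine ⟨M, ⟨fun m hm => mem_W2.1 (hMW hm), hMo, ?_, hMa, ?_⟩⟩
  · intro w hwG hwp hwq m hm
    exact hMn w (mem_W2.2 ⟨hwG, hwp, hwq⟩) m hm
  · intro w hwG hwp hwq
    exact hMc w (mem_W2.2 ⟨hwG, hwp, hwq⟩)

variable {M : Subgroup (Perm α)}

/-- `M` is transitive on the points other than `p, q` -/
theorem M_trans (h : Cfg G p q r s a b) (hM : MP G p q a b M) :
    ∀ u v, u ≠ p → u ≠ q → v ≠ p → v ≠ q → ∃ m ∈ M, m u = v := by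
  obtain ⟨c', hc'⟩ : ∃ c' : α, c' ∉ ({p, q, r, s} : Finset α) := by
    by_contra hcon
    push Not at hcon
    have h0 : (Finset.univ : Finset α) ⊆ {p, q, r, s} := fun x _ => hcon x
    have h1 := Finset.card_le_card h0
    have h2 : ({p, q, r, s} : Finset α).card ≤ 4 := Finset.card_le_four
    rw [Finset.card_univ] at h1
    have := h.hn
    omega
  simp only [Finset.mem_insert, Finset.mem_singleton, not_or] at hc'
  obtain ⟨hc'p, hc'q, hc'r, hc's⟩ := hc'
  obtain ⟨w, hwG, hwp, hwq, hwr, hws⟩ := h.hG.trans4 p q r s p q r c' h.pq h.pr h.ps h.qr h.qs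
    h.rs h.pq h.pr (Ne.symm hc'p) h.qr (Ne.symm hc'q) (Ne.symm hc'r)
  obtain ⟨m₀, hm₀⟩ : ∃ m₀ : Perm α, m₀ = b * w * b⁻¹ * w⁻¹ := ⟨_, rfl⟩
  have hm₀M : m₀ ∈ M := by rw [hm₀]; exact hM.comm w hwG hwp hwq
  have hm₀c : m₀ c' = s := by
    rw [hm₀, Perm.mul_apply, Perm.mul_apply, Perm.mul_apply, inv_apply_of_eq hws,
      inv_apply_of_eq h.b_r, hwr, h.b_r]
  intro u v hup huq hvp hvq
  by_cases huv : u = v
  · exact ⟨1, M.one_mem, by rw [huv]; rfl⟩
  · obtain ⟨w', hw'G, hw'p, hw'q, hw'x, hw'y⟩ := h.hG.trans4 p q c' s p q u v h.pq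
      (Ne.symm hc'p) h.ps (Ne.symm hc'q) h.qs hc's h.pq (Ne.symm hup) (Ne.symm hvp)
      (Ne.symm huq) (Ne.symm hvq) huv
    refine ⟨w' * m₀ * w'⁻¹, hM.normW w' hw'G hw'p hw'q m₀ hm₀M, ?_⟩
    rw [Perm.mul_apply, Perm.mul_apply, inv_apply_of_eq hw'x, hm₀c, hw'y]

theorem M_card (h : Cfg G p q r s a b) (hM : MP G p q a b M) (c : α) (hcp : c ≠ p)
    (hcq : c ≠ q) : Nat.card M = (Fintype.card α - 2) * Nat.card (stb M c) := by
  have hS : ∀ x, x ∈ (Finset.univ.erase p).erase q ↔ ∃ k ∈ M, k c = x := by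
    intro x
    simp only [Finset.mem_erase, Finset.mem_univ, and_true]
    constructor
    · rintro ⟨hxq, hxp⟩
      exact M_trans h hM c x hcp hcq hxp hxq
    · rintro ⟨k, hk, rfl⟩
      obtain ⟨_, hkp, hkq⟩ := hM.le k hk
      exact ⟨fun e => hcq (k.injective (e.trans hkq.symm)),
        fun e => hcp (k.injective (e.trans hkp.symm))⟩
  have h1 := card_orbit_stab M c _ hS
  rw [card_stab_eq] at h1
  rw [h1, Finset.card_erase_of_mem (Finset.mem_erase.2 ⟨h.pq.symm, Finset.mem_univ q⟩),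
    Finset.card_erase_of_mem (Finset.mem_univ p), Finset.card_univ]
  rfl

theorem n_odd (h : Cfg G p q r s a b) (hM : MP G p q a b M) : Odd (Fintype.card α) := by
  have h1 := M_card h hM r h.pr.symm h.qr.symm
  have h2 : Odd (Fintype.card α - 2) := Odd.of_dvd_nat hM.odd ⟨_, h1⟩
  obtain ⟨k, hk⟩ := h2
  have := h.hn
  exact ⟨k + 1, by omega⟩

theorem exists_c (h : Cfg G p q r s a b) (hM : MP G p q a b M) :
    ∃ c, c ≠ p ∧ c ≠ q ∧ c ≠ r ∧ c ≠ s ∧ a c = c ∧ b c = c := by
  have hodd := n_odd h hM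
  have ha1 := h.a_ne_one
  have hpar : Even ((Finset.univ \ fixF a).card) := by
    apply even_card_of_fpf_invol _ a h.a2
    · intro y hy
      simp only [Finset.mem_sdiff, Finset.mem_univ, true_and, mem_fixF] at hy ⊢
      intro e
      exact hy (a.injective e)
    · intro y hy
      simp only [Finset.mem_sdiff, Finset.mem_univ, true_and, mem_fixF] at hy
      exact hy
  have hcard : (Finset.univ \ fixF a).card = Fintype.card α - (fixF a).card := by
    rw [Finset.card_sdiff_of_subset (Finset.subset_univ _), Finset.card_univ]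
  have hle := card_fixF_le h.hG h.aG h.a2 ha1
  have hle' : (fixF a).card ≤ Fintype.card α := by
    rw [← Finset.card_univ]; exact Finset.card_le_card (Finset.subset_univ _)
  have hrs : ({r, s} : Finset α) ⊆ fixF a := by
    intro x hx
    simp only [Finset.mem_insert, Finset.mem_singleton] at hx
    rcases hx with rfl | rfl
    · exact mem_fixF.2 h.a_r
    · exact mem_fixF.2 h.a_s
  have h2 : 2 ≤ (fixF a).card := by
    have := Finset.card_le_card hrs
    rw [Finset.card_pair h.rs] at this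
    exact this
  have h3 : (fixF a).card = 3 := by
    obtain ⟨k, hk⟩ := hodd
    obtain ⟨j, hj⟩ := hpar
    omega
  obtain ⟨c, hc, hcn⟩ : ∃ c ∈ fixF a, c ∉ ({r, s} : Finset α) := by
    apply Finset.exists_mem_notMem_of_card_lt_card
    rw [Finset.card_pair h.rs, h3]
    omega
  simp only [Finset.mem_insert, Finset.mem_singleton, not_or] at hcn
  have hac := mem_fixF.1 hc
  have hcp : c ≠ p := by
    intro e
    rw [e, h.a_p] at hac
    exact h.pq hac.symm
  have hcq : c ≠ q := by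
    intro e
    rw [e, h.a_q] at hac
    exact h.pq hac
  have hbc : b c = c := by
    by_contra hne
    have hbcf : a (b c) = b c := by
      calc a (b c) = (a * b) c := rfl
        _ = (b * a) c := by rw [h.ab]
        _ = b c := by rw [Perm.mul_apply, hac]
    have hbr : b c ≠ r := by
      intro e
      apply hcn.2
      have := congrArg b e
      rw [sq_apply h.b2, h.b_r] at this
      exact this
    have hbs : b c ≠ s := by
      intro e
      apply hcn.1
      have := congrArg b e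
      rw [sq_apply h.b2, h.b_s] at this
      exact this
    exact no_four_fixed h.hG h.aG h.a2 ha1 h.rs (Ne.symm hcn.1) (Ne.symm hbr) (Ne.symm hcn.2)
      (Ne.symm hbs) (Ne.symm hne) h.a_r h.a_s hac hbcf
  exact ⟨c, hcp, hcq, hcn.1, hcn.2, hac, hbc⟩

end Cfsg.Agent.Lib.helper16.Hall4
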