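-- helper16: M. Hall's theorem on 4-fold transitive groups with odd four-point stabilisers,
-- part E: the Brauer-Wielandt count (degree 11), regularity of `M`, triviality of the
-- four-point stabiliser.
import Mathlib
import Cfsg.Agent.Lib.helper16.Hall4A
import Cfsg.Agent.Lib.helper16.Hall4B
import Cfsg.Agent.Lib.helper16.Hall4C
import Cfsg.Agent.Lib.helper16.Hall4D

set_option autoImplicit false
set_option linter.style.haveILetI false
set_option linter.unusedSectionVars false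
set_option linter.unusedVariables false

namespace Cfsg.Agent.Lib.helper16.Hall4

open Equiv

variable {α : Type*} [Fintype α] [DecidableEq α]
variable {G : Subgroup (Perm α)} {p q r s : α} {a b : Perm α} {M : Subgroup (Perm α)}

theorem bw_arith (cA cB cC cM cD cA' cC' cMc x y n2 : ℕ) (h1 : cA * cB * cC = cM * cD ^ 2)
    (h2 : cA' * cB * cC' = cMc * cD ^ 2) (h3 : cA = x * cA') (h4 : cC = y * cC')
    (h5 : cM = n2 * cMc) : x * y * (cA' * cB * cC') = n2 * (cA' * cB * cC') := by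
  calc x * y * (cA' * cB * cC') = (x * cA') * cB * (y * cC') := by ring
    _ = cM * cD ^ 2 := by rw [← h3, ← h4, h1]
    _ = n2 * (cMc * cD ^ 2) := by rw [h5]; ring
    _ = n2 * (cA' * cB * cC') := by rw [h2]

theorem bw_count (h : Cfg G p q r s a b) (hM : MP G p q a b M) {c : α} (hcp : c ≠ p)
    (hcq : c ≠ q) (hac : a c = c) (hbc : b c = c) :
    Fintype.card α = 11 ∧ ∃ e, e ≠ c ∧ (a * b) e = e := by
  classical
  obtain ⟨Mc, hMc⟩ : ∃ Mc : Subgroup (Perm α), Mc = stb M c := ⟨_, rfl⟩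
  have hMcle : Mc ≤ M := by rw [hMc]; exact stb_le M c
  have hMco : Odd (Nat.card Mc) := Odd.of_dvd_nat hM.odd (Subgroup.card_dvd_of_le hMcle)
  have ha1 := h.a_ne_one
  have hb1 := h.b_ne_one
  have hMb : ∀ m ∈ M, b * m * b⁻¹ ∈ M := fun m hm => hM.normW b h.bG h.b_p h.b_q m hm
  have hMca : ∀ m ∈ Mc, a * m * a⁻¹ ∈ Mc := by
    intro m hm
    rw [hMc, mem_stb] at hm ⊢
    refine ⟨hM.norma m hm.1, ?_⟩
    rw [Perm.mul_apply, Perm.mul_apply, inv_apply_fix hac, hm.2, hac]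
  have hMcb : ∀ m ∈ Mc, b * m * b⁻¹ ∈ Mc := by
    intro m hm
    rw [hMc, mem_stb] at hm ⊢
    refine ⟨hMb m hm.1, ?_⟩
    rw [Perm.mul_apply, Perm.mul_apply, inv_apply_fix hbc, hm.2, hbc]
  have bw1 := brauer_wielandt hM.odd h.a2 h.b2 h.ab hM.norma hMb
  have bw2 := brauer_wielandt hMco h.a2 h.b2 h.ab hMca hMcb
  have hBc : ∀ m ∈ cen M b, m c = c := by
    intro m hm
    rw [mem_cen] at hm
    obtain ⟨_, hmp, hmq⟩ := hM.le m hm.1
    by_contra hne
    have hf : b (m c) = m c := by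
      calc b (m c) = (b * m) c := rfl
        _ = (m * b) c := by rw [hm.2]
        _ = m c := by rw [Perm.mul_apply, hbc]
    have h1 : m c ≠ p := fun e => hcp (m.injective (e.trans hmp.symm))
    have h2 : m c ≠ q := fun e => hcq (m.injective (e.trans hmq.symm))
    exact no_four_fixed h.hG h.bG h.b2 hb1 h.pq (Ne.symm hcp) (Ne.symm h1) (Ne.symm hcq)
      (Ne.symm h2) (Ne.symm hne) h.b_p h.b_q hbc hf
  have eB : cen Mc b = cen M b := by
    ext x
    rw [mem_cen, mem_cen, hMc, mem_stb]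
    constructor
    · rintro ⟨⟨hx, _⟩, hxb⟩
      exact ⟨hx, hxb⟩
    · rintro ⟨hx, hxb⟩
      exact ⟨⟨hx, hBc x (mem_cen.2 ⟨hx, hxb⟩)⟩, hxb⟩
  have eD : (cen Mc a ⊓ cen Mc b : Subgroup (Perm α)) = cen M a ⊓ cen M b := by
    ext x
    constructor
    · intro hx
      obtain ⟨h1, h2⟩ := Subgroup.mem_inf.1 hx
      rw [eB] at h2
      rw [mem_cen, hMc, mem_stb] at h1
      exact Subgroup.mem_inf.2 ⟨mem_cen.2 ⟨h1.1.1, h1.2⟩, h2⟩
    · intro hx
      obtain ⟨h1, h2⟩ := Subgroup.mem_inf.1 hx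
      rw [mem_cen] at h1
      refine Subgroup.mem_inf.2 ⟨?_, by rw [eB]; exact h2⟩
      rw [mem_cen, hMc, mem_stb]
      exact ⟨⟨h1.1, hBc x h2⟩, h1.2⟩
  rw [eD, eB] at bw2
  -- orbit of `c` under `C_M(a)`
  obtain ⟨SA, hSA⟩ : ∃ SA : Finset α,
      SA = Finset.univ.filter (fun x => ∃ k ∈ cen M a, k c = x) := ⟨_, rfl⟩
  have hA := card_orbit_stab (cen M a) c SA (by intro x; rw [hSA]; simp)
  rw [card_stab_eq] at hA
  have eA : stb (cen M a) c = cen Mc a := by
    ext x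
    rw [mem_stb, mem_cen, mem_cen, hMc, mem_stb]
    tauto
  rw [eA] at hA
  have hSAle : SA.card ≤ 3 := by
    have h0 : SA ⊆ fixF a := by
      intro x hx
      rw [hSA] at hx
      simp only [Finset.mem_filter, Finset.mem_univ, true_and] at hx
      obtain ⟨k, hk, rfl⟩ := hx
      rw [mem_cen] at hk
      rw [mem_fixF]
      calc a (k c) = (a * k) c := rfl
        _ = (k * a) c := by rw [hk.2]
        _ = k c := by rw [Perm.mul_apply, hac]
    exact (Finset.card_le_card h0).trans (card_fixF_le h.hG h.aG h.a2 ha1)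
  -- orbit of `c` under `C_M(ab)`
  have habc : (a * b) c = c := by rw [Perm.mul_apply, hbc, hac]
  obtain ⟨SC, hSC⟩ : ∃ SC : Finset α,
      SC = Finset.univ.filter (fun x => ∃ k ∈ cen M (a * b), k c = x) := ⟨_, rfl⟩
  have hC := card_orbit_stab (cen M (a * b)) c SC (by intro x; rw [hSC]; simp)
  rw [card_stab_eq] at hC
  have eC : stb (cen M (a * b)) c = cen Mc (a * b) := by
    ext x
    rw [mem_stb, mem_cen, mem_cen, hMc, mem_stb]
    tauto
  rw [eC] at hC
  have hSCfix : ∀ x ∈ SC, (a * b) x = x := by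
    intro x hx
    rw [hSC] at hx
    simp only [Finset.mem_filter, Finset.mem_univ, true_and] at hx
    obtain ⟨k, hk, rfl⟩ := hx
    rw [mem_cen] at hk
    calc (a * b) (k c) = ((a * b) * k) c := rfl
      _ = (k * (a * b)) c := by rw [hk.2]
      _ = k c := by rw [Perm.mul_apply k, habc]
  have hSCle : SC.card ≤ 3 := by
    have h0 : SC ⊆ fixF (a * b) := fun x hx => mem_fixF.2 (hSCfix x hx)
    exact (Finset.card_le_card h0).trans
      (card_fixF_le h.hG (G.mul_mem h.aG h.bG) h.ab_sq h.ab_ne_one)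
  have hMcard := M_card h hM c hcp hcq
  rw [← hMc] at hMcard
  have hpos : 0 < Nat.card (cen Mc a) * Nat.card (cen M b) * Nat.card (cen Mc (a * b)) :=
    Nat.mul_pos (Nat.mul_pos Nat.card_pos Nat.card_pos) Nat.card_pos
  have hxy : SA.card * SC.card = Fintype.card α - 2 :=
    Nat.eq_of_mul_eq_mul_right hpos (bw_arith _ _ _ _ _ _ _ _ _ _ _ bw1 bw2 hA hC hMcard)
  obtain ⟨k, hk⟩ := n_odd h hM
  have hn := h.hn
  obtain ⟨x, hx⟩ : ∃ x, x = SA.card := ⟨_, rfl⟩
  obtain ⟨y, hy⟩ : ∃ y, y = SC.card := ⟨_, rfl⟩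
  rw [← hx] at hxy hSAle
  rw [← hy] at hxy hSCle
  have hxy3 : x = 3 ∧ y = 3 := by
    interval_cases x <;> interval_cases y <;> omega
  refine ⟨by rw [hxy3.1, hxy3.2] at hxy; omega, ?_⟩
  have h1 : 1 < SC.card := by rw [← hy, hxy3.2]; norm_num
  obtain ⟨e, he, hec⟩ := Finset.exists_mem_ne h1 c
  exact ⟨e, hec, hSCfix e he⟩

theorem semireg (h : Cfg G p q r s a b) (hM : MP G p q a b M) (hn11 : Fintype.card α = 11)
    (x : α) (hxp : x ≠ p) (hxq : x ≠ q) (m : Perm α) (hm : m ∈ M) (hmx : m x = x) : m = 1 := by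
  obtain ⟨X, hX⟩ : ∃ X : Subgroup (Perm α), X = stb (W2 G p q) x := ⟨_, rfl⟩
  have memX : ∀ k, k ∈ X ↔ k ∈ G ∧ k p = p ∧ k q = q ∧ k x = x := by
    intro k
    rw [hX, mem_stb, mem_W2]
    tauto
  obtain ⟨hmG, hmp, hmq⟩ := hM.le m hm
  have hmX : m ∈ X := (memX m).2 ⟨hmG, hmp, hmq, hmx⟩
  obtain ⟨Q, hQ⟩ : ∃ Q : Subgroup X, Q = (stb M x).subgroupOf X := ⟨_, rfl⟩
  have memQ : ∀ k : X, k ∈ Q ↔ (k : Perm α) ∈ M ∧ (k : Perm α) x = x := by
    intro k
    rw [hQ, Subgroup.mem_subgroupOf, mem_stb]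
  haveI : Q.Normal := by
    constructor
    intro n hn g
    rw [memQ] at hn ⊢
    obtain ⟨hgG, hgp, hgq, hgx⟩ := (memX g.1).1 g.2
    refine ⟨hM.normW g.1 hgG hgp hgq n.1 hn.1, ?_⟩
    show (g.1 * n.1 * g.1⁻¹) x = x
    rw [Perm.mul_apply, Perm.mul_apply, inv_apply_fix hgx, hn.2, hgx]
  have hQodd : Odd (Nat.card Q) := by
    have hle : stb M x ≤ X := by
      intro k hk
      rw [mem_stb] at hk
      obtain ⟨hkG, hkp, hkq⟩ := hM.le k hk.1
      exact (memX k).2 ⟨hkG, hkp, hkq, hk.2⟩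
    have e : Nat.card Q = Nat.card (stb M x) := by
      rw [hQ]
      exact Nat.card_congr (Subgroup.subgroupOfEquivOfLe hle).toEquiv
    rw [e]
    exact Odd.of_dvd_nat hM.odd (Subgroup.card_dvd_of_le (stb_le M x))
  apply Perm.ext
  intro y
  show m y = y
  by_cases hyp : y = p
  · rw [hyp]; exact hmp
  by_cases hyq : y = q
  · rw [hyq]; exact hmq
  by_cases hyx : y = x
  · rw [hyx]; exact hmx
  have hS : ∀ z, z ∈ ((Finset.univ.erase p).erase q).erase x ↔ ∃ k ∈ X, k y = z := by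
    intro z
    simp only [Finset.mem_erase, Finset.mem_univ, and_true]
    constructor
    · rintro ⟨hzx, hzq, hzp⟩
      obtain ⟨g, hgG, hgp, hgq, hgx, hgy⟩ := h.hG.trans4 p q x y p q x z h.pq (Ne.symm hxp)
        (Ne.symm hyp) (Ne.symm hxq) (Ne.symm hyq) (Ne.symm hyx) h.pq (Ne.symm hxp) (Ne.symm hzp)
        (Ne.symm hxq) (Ne.symm hzq) (Ne.symm hzx)
      exact ⟨g, (memX g).2 ⟨hgG, hgp, hgq, hgx⟩, hgy⟩
    · rintro ⟨k, hk, rfl⟩
      obtain ⟨_, hkp, hkq, hkx⟩ := (memX k).1 hk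
      exact ⟨fun e => hyx (k.injective (e.trans hkx.symm)),
        fun e => hyq (k.injective (e.trans hkq.symm)),
        fun e => hyp (k.injective (e.trans hkp.symm))⟩
  have hcard : Nat.card X = 2 ^ 3 * Nat.card (MulAction.stabilizer X y) := by
    have h1 := card_orbit_stab X y _ hS
    rw [h1, Finset.card_erase_of_mem
        (Finset.mem_erase.2 ⟨hxq, Finset.mem_erase.2 ⟨hxp, Finset.mem_univ x⟩⟩),
      Finset.card_erase_of_mem (Finset.mem_erase.2 ⟨h.pq.symm, Finset.mem_univ q⟩),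
      Finset.card_erase_of_mem (Finset.mem_univ p), Finset.card_univ, hn11]
    rfl
  have hoddS : Odd (Nat.card (MulAction.stabilizer X y)) := by
    apply odd_card_of_forall_odd
    intro k
    have hk := (memX k.1.1).1 k.1.2
    have hky : k.1.1 y = y := k.2
    have h1 := h.hG.odd4 k.1.1 hk.1 p q x y h.pq (Ne.symm hxp) (Ne.symm hyp) (Ne.symm hxq)
      (Ne.symm hyq) (Ne.symm hyx) hk.2.1 hk.2.2.1 hk.2.2.2 hky
    rw [← Subgroup.orderOf_coe, ← Subgroup.orderOf_coe]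
    exact h1
  have hR := normal_odd_le_stabilizer y Q hQodd 3 hcard hoddS
  have hmQ : (⟨m, hmX⟩ : X) ∈ Q := (memQ _).2 ⟨hm, hmx⟩
  exact hR hmQ

theorem b_centralizes (h : Cfg G p q r s a b) (hM : MP G p q a b M)
    (hn11 : Fintype.card α = 11) (k : Perm α) (hkG : k ∈ G) (hkp : k p = p) (hkq : k q = q)
    (hkr : k r = r) (hks : k s = s) : b * k = k * b := by
  have hmem := hM.comm k hkG hkp hkq
  have hfix : (b * k * b⁻¹ * k⁻¹) r = r := by
    rw [Perm.mul_apply, Perm.mul_apply, Perm.mul_apply, inv_apply_fix hkr,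
      inv_apply_of_eq h.b_s, hks, h.b_s]
  have h1 := semireg h hM hn11 r h.pr.symm h.qr.symm _ hmem hfix
  calc b * k = (b * k * b⁻¹ * k⁻¹) * (k * b) := by group
    _ = k * b := by rw [h1, one_mul]

end Cfsg.Agent.Lib.helper16.Hall4
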