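-- helper16: M. Hall's theorem on 4-fold transitive groups with odd four-point stabilisers,
-- part F: degree at least 8 forces degree 11 and trivial four-point stabilisers (final).
import Mathlib
import Cfsg.Agent.Lib.helper16.Hall4A
import Cfsg.Agent.Lib.helper16.Hall4B
import Cfsg.Agent.Lib.helper16.Hall4C
import Cfsg.Agent.Lib.helper16.Hall4D
import Cfsg.Agent.Lib.helper16.Hall4E

set_option autoImplicit false
set_option linter.style.haveILetI false
set_option linter.unusedSectionVars false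
set_option linter.unusedVariables false

namespace Cfsg.Agent.Lib.helper16.Hall4

open Equiv

variable {α : Type*} [Fintype α] [DecidableEq α]
variable {G : Subgroup (Perm α)} {p q r s : α} {a b : Perm α}

theorem hall4_main (h : Cfg G p q r s a b) :
    Fintype.card α = 11 ∧ ∀ k ∈ G, k p = p → k q = q → k r = r → k s = s → k = 1 := by
  obtain ⟨M, hM⟩ := exists_MP h
  obtain ⟨M', hM'⟩ := exists_MP h.swap
  obtain ⟨c, hcp, hcq, hcr, hcs, hac, hbc⟩ := exists_c h hM
  obtain ⟨hn11, e, hec, habe⟩ := bw_count h hM hcp hcq hac hbc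
  refine ⟨hn11, ?_⟩
  intro k hkG hkp hkq hkr hks
  have hbk : b * k = k * b := b_centralizes h hM hn11 k hkG hkp hkq hkr hks
  have hak : a * k = k * a := b_centralizes h.swap hM' hn11 k hkG hkr hks hkp hkq
  have ha1 := h.a_ne_one
  have hb1 := h.b_ne_one
  have hab2 := h.ab_sq
  have hab1 := h.ab_ne_one
  have habG : a * b ∈ G := G.mul_mem h.aG h.bG
  have habc : (a * b) c = c := by rw [Perm.mul_apply, hbc, hac]
  have hkc : k c = c := by
    by_contra hne
    have hf : b (k c) = k c := by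
      calc b (k c) = (b * k) c := rfl
        _ = (k * b) c := by rw [hbk]
        _ = k c := by rw [Perm.mul_apply, hbc]
    have h1 : k c ≠ p := fun e1 => hcp (k.injective (e1.trans hkp.symm))
    have h2 : k c ≠ q := fun e1 => hcq (k.injective (e1.trans hkq.symm))
    exact no_four_fixed h.hG h.bG h.b2 hb1 h.pq (Ne.symm hcp) (Ne.symm h1) (Ne.symm hcq)
      (Ne.symm h2) (Ne.symm hne) h.b_p h.b_q hbc hf
  have habk : (a * b) * k = k * (a * b) := by
    calc a * b * k = a * (b * k) := by group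
      _ = a * (k * b) := by rw [hbk]
      _ = (a * k) * b := by group
      _ = (k * a) * b := by rw [hak]
      _ = k * (a * b) := by group
  have hfixk : ∀ x, (a * b) x = x → (a * b) (k x) = k x := by
    intro x hx
    calc (a * b) (k x) = ((a * b) * k) x := rfl
      _ = (k * (a * b)) x := by rw [habk]
      _ = k x := by rw [Perm.mul_apply k, hx]
  have hkodd : Odd (orderOf k) :=
    h.hG.odd4 k hkG p q r s h.pq h.pr h.ps h.qr h.qs h.rs hkp hkq hkr hks
  have hke : k e = e := by
    by_contra hne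
    have h1 : k e ≠ c := fun e1 => hec (k.injective (e1.trans hkc.symm))
    have hkk : k (k e) = e := by
      by_contra hne2
      have h2 : k (k e) ≠ c := fun e1 => h1 (k.injective (e1.trans hkc.symm))
      have h3 : k (k e) ≠ k e := fun e1 => hne (k.injective e1)
      exact no_four_fixed h.hG habG hab2 hab1 (Ne.symm hec) (Ne.symm h1) (Ne.symm h2)
        (Ne.symm hne) (Ne.symm hne2) (Ne.symm h3) habc habe (hfixk e habe)
        (hfixk _ (hfixk e habe))
    obtain ⟨j, hj⟩ := hkodd
    have hk2 : (k * k) e = e := hkk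
    have hpow : (k * k) ^ (j + 1) = k := by
      rw [← pow_two, ← pow_mul, show 2 * (j + 1) = (2 * j + 1) + 1 by ring, pow_succ, ← hj,
        pow_orderOf_eq_one, one_mul]
    have h5 : ((k * k) ^ (j + 1)) e = e := pow_apply_fix hk2 _
    rw [hpow] at h5
    exact hne h5
  have her : e ≠ r := by
    intro e1
    rw [e1, Perm.mul_apply, h.b_r, h.a_s] at habe
    exact h.rs habe.symm
  have hes : e ≠ s := by
    intro e1
    rw [e1, Perm.mul_apply, h.b_s, h.a_r] at habe
    exact h.rs habe
  have hep : e ≠ p := by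
    intro e1
    rw [e1, Perm.mul_apply, h.b_p, h.a_p] at habe
    exact h.pq habe.symm
  have heq : e ≠ q := by
    intro e1
    rw [e1, Perm.mul_apply, h.b_q, h.a_q] at habe
    exact h.pq habe
  have hsr := semireg h hM hn11
  have hcomm : ∀ f, f ≠ p → f ≠ q → k f = f → ∃ m ∈ M, m c = f ∧ m * k = k * m := by
    intro f hfp hfq hkf
    obtain ⟨m, hm, hmc⟩ := M_trans h hM c f hcp hcq hfp hfq
    refine ⟨m, hm, hmc, ?_⟩
    have hconj : k * m * k⁻¹ ∈ M := hM.normW k hkG hkp hkq m hm
    have h1 : (m⁻¹ * (k * m * k⁻¹)) c = c := by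
      rw [Perm.mul_apply, Perm.mul_apply, Perm.mul_apply, inv_apply_fix hkc, hmc, hkf]
      exact inv_apply_of_eq hmc
    have h2 := hsr c hcp hcq _ (M.mul_mem (M.inv_mem hm) hconj) h1
    calc m * k = m * 1 * k := by group
      _ = m * (m⁻¹ * (k * m * k⁻¹)) * k := by rw [h2]
      _ = k * m := by group
  obtain ⟨m1, hm1, hm1c, hm1k⟩ := hcomm c hcp hcq hkc
  obtain ⟨m2, hm2, hm2c, hm2k⟩ := hcomm r h.pr.symm h.qr.symm hkr
  obtain ⟨m3, hm3, hm3c, hm3k⟩ := hcomm s h.ps.symm h.qs.symm hks
  obtain ⟨m4, hm4, hm4c, hm4k⟩ := hcomm e hep heq hke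
  have hM9 : Nat.card M = 9 := by
    have h1 := M_card h hM c hcp hcq
    have h2 : stb M c = ⊥ := by
      rw [eq_bot_iff]
      intro x hx
      rw [mem_stb] at hx
      exact Subgroup.mem_bot.2 (hsr c hcp hcq x hx.1 hx.2)
    rw [h2, Subgroup.card_bot, hn11] at h1
    exact h1
  have hne : ∀ {m m' : Perm α} {f f' : α}, m c = f → m' c = f' → f ≠ f' → m ≠ m' := by
    intro m m' f f' h1 h2 hff e1
    rw [e1] at h1
    exact hff (h1.symm.trans h2)
  have d12 : m1 ≠ m2 := hne hm1c hm2c hcr
  have d13 : m1 ≠ m3 := hne hm1c hm3c hcs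
  have d14 : m1 ≠ m4 := hne hm1c hm4c (Ne.symm hec)
  have d23 : m2 ≠ m3 := hne hm2c hm3c h.rs
  have d24 : m2 ≠ m4 := hne hm2c hm4c (Ne.symm her)
  have d34 : m3 ≠ m4 := hne hm3c hm4c (Ne.symm hes)
  have h4 : 4 ≤ Nat.card (cen M k) := by
    have hsub : (({m1, m2, m3, m4} : Finset (Perm α)) : Set (Perm α)) ⊆
        (cen M k : Set (Perm α)) := by
      intro x hx
      simp only [Finset.coe_insert, Finset.coe_singleton, Set.mem_insert_iff,
        Set.mem_singleton_iff] at hx
      rcases hx with rfl | rfl | rfl | rfl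
      · exact mem_cen.2 ⟨hm1, hm1k⟩
      · exact mem_cen.2 ⟨hm2, hm2k⟩
      · exact mem_cen.2 ⟨hm3, hm3k⟩
      · exact mem_cen.2 ⟨hm4, hm4k⟩
    have hcard : ({m1, m2, m3, m4} : Finset (Perm α)).card = 4 := by
      rw [Finset.card_insert_of_notMem (by simp [d12, d13, d14]),
        Finset.card_insert_of_notMem (by simp [d23, d24]), Finset.card_pair d34]
    have h6 := Set.ncard_le_ncard hsub (Set.toFinite _)
    rw [Set.ncard_coe_finset, hcard] at h6
    have h7 : Nat.card (cen M k) = (cen M k : Set (Perm α)).ncard :=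
      Nat.card_coe_set_eq (cen M k : Set (Perm α))
    rw [h7]
    exact h6
  have hdvd : Nat.card (cen M k) ∣ 9 := by
    rw [← hM9]
    exact Subgroup.card_dvd_of_le (cen_le M k)
  have h9 : Nat.card (cen M k) = 9 := by
    have hle := Nat.le_of_dvd (by norm_num) hdvd
    obtain ⟨d, hd⟩ : ∃ d, d = Nat.card (cen M k) := ⟨_, rfl⟩
    rw [← hd] at h4 hdvd hle ⊢
    interval_cases d <;> omega
  have heqM : cen M k = M := Subgroup.eq_of_le_of_card_ge (cen_le M k) (by rw [h9, hM9])
  have hall : ∀ m ∈ M, m * k = k * m := by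
    intro m hm
    rw [← heqM] at hm
    exact (mem_cen.1 hm).2
  apply Perm.ext
  intro x
  show k x = x
  by_cases hxp : x = p
  · rw [hxp]; exact hkp
  by_cases hxq : x = q
  · rw [hxq]; exact hkq
  obtain ⟨m, hm, hmc⟩ := M_trans h hM c x hcp hcq hxp hxq
  calc k x = k (m c) := by rw [hmc]
    _ = (k * m) c := rfl
    _ = (m * k) c := by rw [hall m hm]
    _ = m (k c) := rfl
    _ = x := by rw [hkc, hmc]

/-- **M. Hall**, the large case: a 4-fold transitive group of degree at least 8 in which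
elements fixing four points have odd order has degree 11 and trivial four-point stabilisers. -/
theorem hall4_big {G : Subgroup (Perm α)} (hG : H4 G) (hn : 8 ≤ Fintype.card α) {p q r s : α}
    (hpq : p ≠ q) (hpr : p ≠ r) (hps : p ≠ s) (hqr : q ≠ r) (hqs : q ≠ s) (hrs : r ≠ s) :
    Fintype.card α = 11 ∧ ∀ k ∈ G, k p = p → k q = q → k r = r → k s = s → k = 1 := by
  obtain ⟨a, haG, b, hbG, ha2, hb2, hab, hap, haq, har, has, hbp, hbq, hbr, hbs⟩ :=
    exists_V hG hpq hpr hps hqr hqs hrs
  exact hall4_main (a := a) (b := b) ⟨hG, hn, hpq, hpr, hps, hqr, hqs, hrs, haG, hbG, ha2, hb2,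
    hab, hap, haq, har, has, hbp, hbq, hbr, hbs⟩

end Cfsg.Agent.Lib.helper16.Hall4
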