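import Mathlib
import Cfsg.Agent.Lib.helper16.QuatAut
import Cfsg.Agent.Lib.helper67.Frobenius
import Cfsg.Agent.Lib.helper26.ABGTransport

/-!
Structure of a finite group `H` with a unique involution, an involutory automorphism with at most
two fixed points, at most two elements of order `3`, and no subgroup of index `2` (helper16).

Main result `structure_of_bad`: such a group has `|H| = 8 * c * 3 ^ e` with `c ∣ |Z(H)|` prime to
`6`, `6 ∣ |Z(H)|`, `|H| ≤ 24 |Z(H)|` and is not commutative.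
-/

set_option autoImplicit false
set_option linter.style.haveILetI false

namespace Cfsg.Agent.Lib.helper16.Index2

open Subgroup Cfsg.Agent.Lib.helper59 Cfsg.Agent.Lib.helper67 Cfsg.Agent.Lib.helper16.QuatAut

lemma coe_pow_eq_one {X : Type*} [Group X] {R : Subgroup X} {x : X} (hx : x ∈ R) {n : ℕ}
    (h : (⟨x, hx⟩ : R) ^ n = 1) : x ^ n = 1 := by
  have := congrArg Subtype.val h
  simpa using this

lemma eq_top_of_mul_mem {H : Type*} [Group H] (C : Subgroup H)
    (h : ∀ x y : H, x ∉ C → y ∉ C → x * y ∈ C) (hbad : ∀ N : Subgroup H, N.index ≠ 2) :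
    C = ⊤ := by
  by_contra hne
  obtain ⟨a, ha⟩ : ∃ a, a ∉ C := by
    by_contra hall
    push Not at hall
    exact hne (eq_top_iff.mpr fun x _ => hall x)
  apply hbad C
  rw [Subgroup.index_eq_two_iff]
  refine ⟨a, fun b => ?_⟩
  by_cases hb : b ∈ C
  · right
    exact ⟨hb, fun hba => ha (by simpa using C.mul_mem (C.inv_mem hb) hba)⟩
  · left
    exact ⟨h b a hb ha, hb⟩

lemma uniqueOrderP_two_subgroup {X : Type*} [Group X]
    (hinv : ∀ x y : X, x ≠ 1 → y ≠ 1 → x ^ 2 = 1 → y ^ 2 = 1 → x = y) (R : Subgroup X) :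
    UniqueOrderP 2 R := by
  haveI : Fact (Nat.Prime 2) := ⟨Nat.prime_two⟩
  apply uniqueOrderP_of 2 R
  intro x y hx hy hx2 hy2
  have h1 : (x : X) = y := hinv x y (fun e => hx (Subtype.ext e)) (fun e => hy (Subtype.ext e))
    (by exact_mod_cast congrArg Subtype.val hx2) (by exact_mod_cast congrArg Subtype.val hy2)
  have h2 : y = x := Subtype.ext h1.symm
  rw [h2]; exact mem_zpowers x

lemma uniqueOrderP_three_subgroup {X : Type*} [Group X]
    (hF2 : ∀ g h : X, g ≠ 1 → h ≠ 1 → g ^ 3 = 1 → h ^ 3 = 1 → h = g ∨ h = g⁻¹) (R : Subgroup X) :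
    UniqueOrderP 3 R := by
  haveI : Fact (Nat.Prime 3) := ⟨Nat.prime_three⟩
  apply uniqueOrderP_of 3 R
  intro x y hx hy hx3 hy3
  rcases hF2 (x : X) (y : X) (fun e => hx (Subtype.ext e)) (fun e => hy (Subtype.ext e))
    (by exact_mod_cast congrArg Subtype.val hx3) (by exact_mod_cast congrArg Subtype.val hy3)
    with h | h
  · have h2 : y = x := Subtype.ext h
    rw [h2]; exact mem_zpowers x
  · have h2 : y = x⁻¹ := Subtype.ext h
    rw [h2]; exact inv_mem (mem_zpowers x)

lemma exists_bad_of_not_frobCond {X : Type*} [Group X] [Finite X]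
    (hinv : ∀ x y : X, x ≠ 1 → y ≠ 1 → x ^ 2 = 1 → y ^ 2 = 1 → x = y)
    (h : ¬ FrobCond 2 X) :
    ∃ (R : Subgroup X) (g : X), IsPGroup 2 R ∧ Odd (orderOf g) ∧
      g ∉ centralizer (R : Set X) ∧ 3 ∣ orderOf g := by
  unfold FrobCond at h
  push Not at h
  obtain ⟨R, hR, g, hg, hcop, hgc⟩ := h
  have hodd : Odd (orderOf g) := Nat.coprime_two_right.mp hcop
  have hU : UniqueOrderP 2 R := uniqueOrderP_two_subgroup hinv R
  rcases normalizer_odd R hR hU g hg (orderOf g) hodd (pow_orderOf_eq_one g) with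
    h1 | ⟨_, _, h3, _⟩
  · exact absurd h1 hgc
  · exact ⟨R, g, hR, hodd, hgc, h3⟩

lemma frobCond_two_of_not_three_dvd {X : Type*} [Group X] [Finite X]
    (hinv : ∀ x y : X, x ≠ 1 → y ≠ 1 → x ^ 2 = 1 → y ^ 2 = 1 → x = y)
    (h3 : ¬ 3 ∣ Nat.card X) : FrobCond 2 X := by
  by_contra h
  obtain ⟨R, g, _, _, _, h3g⟩ := exists_bad_of_not_frobCond hinv h
  exact h3 (h3g.trans (orderOf_dvd_natCard g))

lemma central_of_F2 {H : Type*} [Group H]
    (hF2 : ∀ g h : H, g ≠ 1 → h ≠ 1 → g ^ 3 = 1 → h ^ 3 = 1 → h = g ∨ h = g⁻¹)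
    (hbad : ∀ N : Subgroup H, N.index ≠ 2) (t : H) (ht1 : t ≠ 1) (ht3 : t ^ 3 = 1) :
    ∀ h : H, h * t = t * h := by
  have hconj : ∀ h : H, h * t * h⁻¹ = t ∨ h * t * h⁻¹ = t⁻¹ := by
    intro h
    refine hF2 t (h * t * h⁻¹) ht1 ?_ ht3 ?_
    · intro h1
      apply ht1
      have h2 : t = h⁻¹ * (h * t * h⁻¹) * h := by group
      rw [h2, h1]; group
    · rw [conj_pow, ht3]; group
  have hC : centralizer ({t} : Set H) = ⊤ := by
    apply eq_top_of_mul_mem _ _ hbad
    intro x y hx hy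
    rw [mem_centralizer_singleton_iff] at hx hy ⊢
    have hxt : x * t * x⁻¹ = t⁻¹ :=
      (hconj x).resolve_left (fun h1 => hx (mul_inv_eq_iff_eq_mul.mp h1))
    have hyt : y * t * y⁻¹ = t⁻¹ :=
      (hconj y).resolve_left (fun h1 => hy (mul_inv_eq_iff_eq_mul.mp h1))
    have hxt' : x * t = t⁻¹ * x := mul_inv_eq_iff_eq_mul.mp hxt
    have hyt' : y * t = t⁻¹ * y := mul_inv_eq_iff_eq_mul.mp hyt
    have h2 : x * t⁻¹ = t * x := by
      calc x * t⁻¹ = t * (t⁻¹ * x) * t⁻¹ := by group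
        _ = t * (x * t) * t⁻¹ := by rw [hxt']
        _ = t * x := by group
    symm
    calc t * (x * y) = (t * x) * y := by group
      _ = x * t⁻¹ * y := by rw [h2]
      _ = x * (t⁻¹ * y) := by group
      _ = x * (y * t) := by rw [hyt']
      _ = x * y * t := by group
  intro h
  have hh : h ∈ centralizer ({t} : Set H) := hC ▸ mem_top h
  exact mem_centralizer_singleton_iff.mp hh

lemma frobCond_three {H : Type*} [Group H] [Finite H]
    (hF2 : ∀ g h : H, g ≠ 1 → h ≠ 1 → g ^ 3 = 1 → h ^ 3 = 1 → h = g ∨ h = g⁻¹)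
    (hcen : ∀ t : H, t ≠ 1 → t ^ 3 = 1 → ∀ h : H, h * t = t * h) : FrobCond 3 H := by
  intro Q hQ g hg hcop
  haveI : Fact (Nat.Prime 3) := ⟨Nat.prime_three⟩
  have hQU : UniqueOrderP 3 Q := uniqueOrderP_three_subgroup hF2 Q
  have hQc : IsCyclic Q := isCyclic_of_odd_of_uniqueOrderP (by norm_num) _ Q rfl hQ hQU
  have hcomm : ∀ a ∈ Q, ∀ b ∈ Q, a * b = b * a := comm_of_isCyclic_subgroup Q hQc
  rw [mem_centralizer_iff]
  intro y hy
  by_contra hne
  have hnorm : ∀ x ∈ Q, g * x * g⁻¹ ∈ Q := fun x hx => (mem_normalizer_iff.mp hg x).mp hx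
  have hwpow : ∀ x ∈ Q, ∀ j : ℕ, g * x ^ j * g⁻¹ * (x ^ j)⁻¹ = (g * x * g⁻¹ * x⁻¹) ^ j := by
    intro x hx j
    have hc : Commute (g * x * g⁻¹) x⁻¹ := hcomm _ (hnorm x hx) _ (Q.inv_mem hx)
    rw [hc.mul_pow, conj_pow, inv_pow]
  obtain ⟨w, hwdef⟩ : ∃ w : H, w = g * y * g⁻¹ * y⁻¹ := ⟨_, rfl⟩
  have hwQ : w ∈ Q := by rw [hwdef]; exact Q.mul_mem (hnorm y hy) (Q.inv_mem hy)
  have hw1 : w ≠ 1 := by
    intro h1
    apply hne
    rw [hwdef] at h1
    have h2 : g * y * g⁻¹ = y := mul_inv_eq_one.mp h1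
    exact (mul_inv_eq_iff_eq_mul.mp h2).symm
  obtain ⟨i, hi⟩ : ∃ i, orderOf w = 3 ^ i := by
    obtain ⟨k, hk⟩ := hQ ⟨w, hwQ⟩
    have hk' : w ^ 3 ^ k = 1 := coe_pow_eq_one hwQ hk
    obtain ⟨i, _, hi⟩ := (Nat.dvd_prime_pow Nat.prime_three).mp (orderOf_dvd_of_pow_eq_one hk')
    exact ⟨i, hi⟩
  have h3w : 3 ∣ orderOf w := by
    rw [hi]
    rcases Nat.eq_zero_or_pos i with rfl | hi0
    · exfalso; apply hw1; rw [← orderOf_eq_one_iff, hi]; rfl
    · exact dvd_pow_self 3 hi0.ne'
  have hw0 : orderOf w ≠ 0 := by rw [hi]; positivity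
  obtain ⟨j, hj⟩ : ∃ j : ℕ, j = orderOf w / 3 := ⟨_, rfl⟩
  have ho : orderOf (w ^ j) = 3 := by rw [hj]; exact orderOf_pow_orderOf_div hw0 h3w
  have ht1 : w ^ j ≠ 1 := by
    intro h; rw [h, orderOf_one] at ho; omega
  have ht3 : (w ^ j) ^ 3 = 1 := by rw [← ho]; exact pow_orderOf_eq_one _
  have htc := hcen (w ^ j) ht1 ht3
  have hyj : g * y ^ j * g⁻¹ = w ^ j * y ^ j := by
    have := hwpow y hy j
    rw [← hwdef] at this
    rw [← this]; group
  have hpow : ∀ k : ℕ, g ^ k * y ^ j * (g ^ k)⁻¹ = (w ^ j) ^ k * y ^ j := by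
    intro k
    induction k with
    | zero => simp
    | succ k ih =>
      have hc : g * (w ^ j) ^ k = (w ^ j) ^ k * g := by
        have : Commute g (w ^ j) := htc g
        exact (this.pow_right k)
      calc g ^ (k + 1) * y ^ j * (g ^ (k + 1))⁻¹
          = g * (g ^ k * y ^ j * (g ^ k)⁻¹) * g⁻¹ := by rw [pow_succ']; group
        _ = g * ((w ^ j) ^ k * y ^ j) * g⁻¹ := by rw [ih]
        _ = (g * (w ^ j) ^ k) * y ^ j * g⁻¹ := by group
        _ = (w ^ j) ^ k * (g * y ^ j * g⁻¹) := by rw [hc]; group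
        _ = (w ^ j) ^ k * (w ^ j * y ^ j) := by rw [hyj]
        _ = (w ^ j) ^ (k + 1) * y ^ j := by rw [pow_succ]; group
  have h1 := hpow (orderOf g)
  rw [pow_orderOf_eq_one, inv_one, one_mul, mul_one] at h1
  have h2 : (w ^ j) ^ orderOf g = 1 := by
    have : 1 * y ^ j = (w ^ j) ^ orderOf g * y ^ j := by rw [one_mul]; exact h1
    exact (mul_right_cancel this).symm
  have h3 : 3 ∣ orderOf g := by rw [← ho]; exact orderOf_dvd_of_pow_eq_one h2
  have h4 : (3 : ℕ) ∣ 1 := by
    have := Nat.dvd_gcd h3 (dvd_refl 3)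
    rwa [hcop] at this
  norm_num at h4

/-- structure of a counterexample -/
theorem structure_of_bad {H : Type*} [Group H] [Finite H]
    (z : H) (hz1 : z ≠ 1) (hz2 : z ^ 2 = 1)
    (hinv : ∀ x y : H, x ≠ 1 → y ≠ 1 → x ^ 2 = 1 → y ^ 2 = 1 → x = y)
    (σ : H ≃* H) (hσ : ∀ h, σ (σ h) = h) (hfix : ∀ h, σ h = h → h = 1 ∨ h = z)
    (hF2 : ∀ g h : H, g ≠ 1 → h ≠ 1 → g ^ 3 = 1 → h ^ 3 = 1 → h = g ∨ h = g⁻¹)
    (hbad : ∀ N : Subgroup H, N.index ≠ 2) :
    ∃ c e : ℕ, Nat.card H = 8 * c * 3 ^ e ∧ c ∣ Nat.card (center H) ∧ Nat.Coprime c 6 ∧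
      6 ∣ Nat.card (center H) ∧ Nat.card H ≤ 24 * Nat.card (center H) ∧
      ¬ (∀ x y : H, x * y = y * x) := by
  classical
  haveI : Fact (Nat.Prime 2) := ⟨Nat.prime_two⟩
  haveI : Fact (Nat.Prime 3) := ⟨Nat.prime_three⟩
  have hzc : ∀ h : H, h * z = z * h := by
    intro h
    have h1 : h * z * h⁻¹ = z := by
      apply hinv _ _ ?_ hz1 ?_ hz2
      · intro h1
        apply hz1
        have h2 : z = h⁻¹ * (h * z * h⁻¹) * h := by group
        rw [h2, h1]; group
      · rw [conj_pow, hz2]; group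
    exact mul_inv_eq_iff_eq_mul.mp h1
  have hoz : orderOf z = 2 := orderOf_eq_prime hz2 hz1
  -- no normal 2-complement
  have hnF : ¬ FrobCond 2 H := by
    intro hF
    have hnpc := hF.hasNormalPComplement
    have h2 : 2 ∣ Nat.card H := by
      have := orderOf_dvd_natCard z
      rwa [hoz] at this
    obtain ⟨P⟩ : Nonempty (Sylow 2 H) := inferInstance
    have hpos : 0 < (Nat.card H).factorization 2 :=
      Nat.Prime.factorization_pos_of_dvd Nat.prime_two Nat.card_pos.ne' h2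
    have hk : Nat.card P = 2 ^ ((Nat.card H).factorization 2 - 1 + 1) := by
      rw [Sylow.card_eq_multiplicity]
      congr 1; omega
    obtain ⟨N, hN⟩ := Cfsg.Agent.Lib.helper26.exists_index_two_of_hasNormalPComplement hnpc _ P hk
    exact hbad N hN
  obtain ⟨R, g, hR, hgodd, hgR, h3g⟩ := exists_bad_of_not_frobCond hinv hnF
  have hg0 : orderOf g ≠ 0 := (orderOf_pos g).ne'
  obtain ⟨t, ht⟩ : ∃ t : H, orderOf t = 3 :=
    ⟨g ^ (orderOf g / 3), orderOf_pow_orderOf_div hg0 h3g⟩
  have ht1 : t ≠ 1 := by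
    intro h; rw [h, orderOf_one] at ht; omega
  have ht3 : t ^ 3 = 1 := by rw [← ht]; exact pow_orderOf_eq_one t
  have hcen3 := central_of_F2 hF2 hbad
  have htc : ∀ h : H, h * t = t * h := hcen3 t ht1 ht3
  have hF3 : FrobCond 3 H := frobCond_three hF2 hcen3
  obtain ⟨M, hMn, hM⟩ := hF3.exists_normal_pprime
  haveI := hMn
  have hinvM : ∀ x y : M, x ≠ 1 → y ≠ 1 → x ^ 2 = 1 → y ^ 2 = 1 → x = y := by
    intro x y hx hy hx2 hy2
    exact Subtype.ext (hinv x y (fun e => hx (Subtype.ext e)) (fun e => hy (Subtype.ext e))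
      (by exact_mod_cast congrArg Subtype.val hx2) (by exact_mod_cast congrArg Subtype.val hy2))
  have h3M : ¬ 3 ∣ Nat.card M := by
    intro h3
    obtain ⟨x, hx⟩ := exists_prime_orderOf_dvd_card' 3 h3
    have h1 : (orderOf (x : H)).Coprime 3 := (hM x).mp x.2
    rw [Subgroup.orderOf_coe, hx] at h1
    norm_num at h1
  have hF2M : FrobCond 2 M := frobCond_two_of_not_three_dvd hinvM h3M
  obtain ⟨K', hK'n, hK'⟩ := hF2M.exists_normal_pprime
  haveI := hK'n
  obtain ⟨K, hKdef⟩ : ∃ K : Subgroup H, K = K'.map M.subtype := ⟨_, rfl⟩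
  have hK : ∀ h : H, h ∈ K ↔ (orderOf h).Coprime 3 ∧ (orderOf h).Coprime 2 := by
    intro h
    rw [hKdef, Subgroup.mem_map]
    constructor
    · rintro ⟨m, hm, rfl⟩
      refine ⟨(hM m).mp m.2, ?_⟩
      have := (hK' m).mp hm
      rwa [← Subgroup.orderOf_coe] at this
    · rintro ⟨h3, h2⟩
      have hm : h ∈ M := (hM h).mpr h3
      refine ⟨⟨h, hm⟩, (hK' _).mpr ?_, rfl⟩
      rw [Subgroup.orderOf_mk]; exact h2
  have hoσ : ∀ h : H, orderOf (σ h) = orderOf h := fun h => MulEquiv.orderOf_eq σ h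
  have hoc : ∀ x h : H, orderOf (x * h * x⁻¹) = orderOf h := fun x h => by
    have := MulEquiv.orderOf_eq (MulAut.conj x) h
    simpa using this
  have hKσ : ∀ k ∈ K, σ k ∈ K := fun k hk => by rw [hK, hoσ]; exact (hK k).mp hk
  have hKn : ∀ k ∈ K, ∀ x : H, x * k * x⁻¹ ∈ K := fun k hk x => by
    rw [hK, hoc]; exact (hK k).mp hk
  have hzK : z ∉ K := by
    intro h
    have := ((hK z).mp h).2
    rw [hoz] at this
    norm_num at this
  -- σ inverts K
  have hKinv : ∀ k ∈ K, σ k = k⁻¹ := by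
    let φ : K →* K := (σ.toMonoidHom.comp K.subtype).codRestrict K (fun k => hKσ k k.2)
    have hφ : MonoidHom.FixedPointFree φ := by
      intro k hk
      have h1 : σ (k : H) = k := congrArg Subtype.val hk
      rcases hfix _ h1 with h | h
      · exact Subtype.ext h
      · exact absurd (h ▸ k.2) hzK
    have hinvol : Function.Involutive φ := fun k => Subtype.ext (hσ k)
    intro k hk
    have h1 := MonoidHom.FixedPointFree.coe_eq_inv_of_involutive hφ hinvol
    have h2 := congrFun h1 ⟨k, hk⟩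
    exact congrArg Subtype.val h2
  -- K is central
  have hKc : ∀ k ∈ K, ∀ h : H, h * k = k * h := by
    have hI : ∀ h : H, h⁻¹ * σ h ∈ centralizer (K : Set H) := by
      intro h
      rw [mem_centralizer_iff]
      intro k hk
      have h1 : σ (h * k⁻¹ * h⁻¹) = (h * k⁻¹ * h⁻¹)⁻¹ := hKinv _ (hKn _ (K.inv_mem hk) h)
      have h2 : σ k⁻¹ = k := by rw [hKinv _ (K.inv_mem hk), inv_inv]
      rw [map_mul, map_mul, h2, map_inv] at h1
      calc k * (h⁻¹ * σ h) = h⁻¹ * (h * k⁻¹ * h⁻¹)⁻¹ * σ h := by group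
        _ = h⁻¹ * (σ h * k * (σ h)⁻¹) * σ h := by rw [h1]
        _ = h⁻¹ * σ h * k := by group
    haveI : Fintype H := Fintype.ofFinite H
    have hfib : ∀ a ∈ (Finset.univ : Finset H).image (fun h => h⁻¹ * σ h),
        ((Finset.univ : Finset H).filter (fun x => x⁻¹ * σ x = a)).card ≤ 2 := by
      intro a ha
      obtain ⟨h₀, _, rfl⟩ := Finset.mem_image.mp ha
      refine le_trans (Finset.card_le_card ?_) (Finset.card_le_two (a := h₀) (b := z * h₀))
      intro x hx
      have hx' : x⁻¹ * σ x = h₀⁻¹ * σ h₀ := (Finset.mem_filter.mp hx).2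
      have h1 : σ (x * h₀⁻¹) = x * h₀⁻¹ := by
        rw [map_mul, map_inv]
        have h2 : σ x = x * (h₀⁻¹ * σ h₀) := by rw [← hx']; group
        rw [h2]; group
      rcases hfix _ h1 with h | h
      · have : x = h₀ := by
          have := mul_inv_eq_one.mp h
          exact this
        rw [this]; simp
      · have : x = z * h₀ := by rw [← h]; group
        rw [this]; simp
    have h1 := Finset.card_le_mul_card_image (Finset.univ : Finset H) 2 hfib
    have h2 : ((Finset.univ : Finset H).image (fun h => h⁻¹ * σ h)).card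
        ≤ Nat.card (centralizer (K : Set H)) := by
      rw [Nat.card_eq_fintype_card, Fintype.card_of_subtype
        ((Finset.univ : Finset H).filter (fun x => x ∈ centralizer (K : Set H)))
        (fun x => by simp)]
      apply Finset.card_le_card
      intro x hx
      obtain ⟨h, _, rfl⟩ := Finset.mem_image.mp hx
      exact Finset.mem_filter.mpr ⟨Finset.mem_univ _, hI h⟩
    have h3 : Nat.card H ≤ 2 * Nat.card (centralizer (K : Set H)) := by
      rw [Nat.card_eq_fintype_card, ← Finset.card_univ]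
      exact le_trans h1 (Nat.mul_le_mul_left 2 h2)
    have h4 := (centralizer (K : Set H)).card_mul_index
    have h5 : (centralizer (K : Set H)).index ≠ 0 := Subgroup.index_ne_zero_of_finite
    have h6 : (centralizer (K : Set H)).index ≠ 2 := hbad _
    have h7 : 0 < Nat.card (centralizer (K : Set H)) := Nat.card_pos
    have hidx : (centralizer (K : Set H)).index = 1 := by
      by_contra hne
      have h8 : 3 ≤ (centralizer (K : Set H)).index := by omega
      have h9 : Nat.card (centralizer (K : Set H)) * 3 ≤ Nat.card H := by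
        rw [← h4]; exact Nat.mul_le_mul_left _ h8
      omega
    have htop : centralizer (K : Set H) = ⊤ := Subgroup.index_eq_one.mp hidx
    intro k hk h
    have hh : h ∈ centralizer (K : Set H) := htop ▸ mem_top h
    exact (mem_centralizer_iff.mp hh k hk).symm
  -- Sylow 2-subgroup of M
  obtain ⟨S⟩ : Nonempty (Sylow 2 M) := inferInstance
  have hcompl : K'.IsComplement' (S : Subgroup M) :=
    Cfsg.Agent.Lib.helper40.isComplement'_of_pprime_elements K' hK' S
  have hdecM : ∀ m : M, ∃ k ∈ K', ∃ s ∈ (S : Subgroup M), m = k * s := by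
    intro m
    obtain ⟨⟨k, s⟩, hks⟩ := hcompl.2 m
    exact ⟨k, k.2, s, s.2, hks.symm⟩
  have hK'c : ∀ k ∈ K', ∀ m : M, m * k = k * m := by
    intro k hk m
    have hkK : (k : H) ∈ K := by rw [hKdef]; exact ⟨k, hk, rfl⟩
    exact Subtype.ext (hKc _ hkK m)
  have h2M : ∀ m : M, (∃ j : ℕ, m ^ 2 ^ j = 1) → m ∈ (S : Subgroup M) := by
    rintro m ⟨j, hj⟩
    obtain ⟨k, hk, s, hs, rfl⟩ := hdecM m
    obtain ⟨i, hi⟩ := S.isPGroup' ⟨s, hs⟩
    have hs' : s ^ 2 ^ i = 1 := coe_pow_eq_one hs hi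
    have hcomm : Commute k s := (hK'c k hk s).symm
    have h1 : (k * s) ^ 2 ^ (i + j) = 1 := by
      rw [pow_add, mul_comm, pow_mul, hj, one_pow]
    rw [hcomm.mul_pow] at h1
    have h2 : s ^ 2 ^ (i + j) = 1 := by rw [pow_add, pow_mul, hs', one_pow]
    rw [h2, mul_one] at h1
    have h3 : orderOf k ∣ 2 ^ (i + j) := orderOf_dvd_of_pow_eq_one h1
    have h4 : (orderOf k).Coprime 2 := (hK' k).mp hk
    have h5 : orderOf k = 1 := Nat.Coprime.eq_one_of_dvd (h4.pow_right _) h3
    rw [orderOf_eq_one_iff.mp h5, one_mul]; exact hs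
  obtain ⟨Q, hQdef⟩ : ∃ Q : Subgroup H, Q = (S : Subgroup M).map M.subtype := ⟨_, rfl⟩
  have hQ : ∀ h : H, h ∈ Q ↔ ∃ j : ℕ, h ^ 2 ^ j = 1 := by
    intro h
    rw [hQdef, Subgroup.mem_map]
    constructor
    · rintro ⟨m, hm, rfl⟩
      obtain ⟨i, hi⟩ := S.isPGroup' ⟨m, hm⟩
      refine ⟨i, ?_⟩
      have := congrArg Subtype.val (congrArg Subtype.val hi)
      simpa using this
    · rintro ⟨j, hj⟩
      have hm : h ∈ M := by
        rw [hM]
        have h1 : orderOf h ∣ 2 ^ j := orderOf_dvd_of_pow_eq_one hj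
        exact Nat.Coprime.coprime_dvd_left h1 (Nat.Coprime.pow_left j (by norm_num))
      exact ⟨⟨h, hm⟩, h2M _ ⟨j, Subtype.ext (by simpa using hj)⟩, rfl⟩
  have hQn : Q.Normal := ⟨fun q hq x => by
    rw [hQ] at hq ⊢
    obtain ⟨j, hj⟩ := hq
    exact ⟨j, by rw [conj_pow, hj]; group⟩⟩
  have hQ2 : IsPGroup 2 Q := by
    intro q
    obtain ⟨j, hj⟩ := (hQ q).mp q.2
    exact ⟨j, Subtype.ext (by simpa using hj)⟩
  have hQU : UniqueOrderP 2 Q := uniqueOrderP_two_subgroup hinv Q
  have hRQ : R ≤ Q := by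
    intro x hx
    rw [hQ]
    obtain ⟨j, hj⟩ := hR ⟨x, hx⟩
    refine ⟨j, ?_⟩
    have := congrArg Subtype.val hj
    simpa using this
  have hgQ : g ∉ centralizer (Q : Set H) := fun h => hgR (Subgroup.centralizer_le hRQ h)
  have hgN : g ∈ normalizer (Q : Set H) := by
    rw [Subgroup.normalizer_eq_top]; trivial
  haveI : Finite Q := inferInstance
  obtain ⟨hQ8, hQnc, _, _⟩ := (normalizer_odd Q hQ2 hQU g hgN (orderOf g) hgodd
    (pow_orderOf_eq_one g)).resolve_left hgQ
  -- Sylow 3-subgroup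
  obtain ⟨P3⟩ : Nonempty (Sylow 3 H) := inferInstance
  have hcompl3 : M.IsComplement' (P3 : Subgroup H) :=
    Cfsg.Agent.Lib.helper40.isComplement'_of_pprime_elements M hM P3
  have hP3c : ∀ a ∈ (P3 : Subgroup H), ∀ b ∈ (P3 : Subgroup H), a * b = b * a := by
    have hU3 : UniqueOrderP 3 (P3 : Subgroup H) := uniqueOrderP_three_subgroup hF2 _
    have hc : IsCyclic (P3 : Subgroup H) :=
      isCyclic_of_odd_of_uniqueOrderP (by norm_num) _ _ rfl P3.isPGroup' hU3
    exact comm_of_isCyclic_subgroup _ hc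
  have hdec : ∀ h : H, ∃ k ∈ K, ∃ x ∈ Q, ∃ y ∈ (P3 : Subgroup H), h = k * x * y := by
    intro h
    obtain ⟨⟨m, y⟩, hmy⟩ := hcompl3.2 h
    obtain ⟨k, hk, s, hs, hks⟩ := hdecM m
    refine ⟨k, by rw [hKdef]; exact ⟨k, hk, rfl⟩, s, by rw [hQdef]; exact ⟨s, hs, rfl⟩, y, y.2, ?_⟩
    rw [← hmy]
    simp [hks]
  -- the centralizer of Q is central
  have hCZ : centralizer (Q : Set H) ≤ center H := by
    intro c hc
    rw [mem_center_iff]
    obtain ⟨k, hk, x, hx, y, hy, rfl⟩ := hdec c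
    have hkc : k ∈ centralizer (Q : Set H) :=
      mem_centralizer_iff.mpr fun q _ => (hKc k hk q)
    have hxy : x * y ∈ centralizer (Q : Set H) := by
      have := (centralizer (Q : Set H)).mul_mem ((centralizer (Q : Set H)).inv_mem hkc) hc
      simpa [mul_assoc] using this
    have hxyq : ∀ q ∈ Q, q * (x * y) = x * y * q := mem_centralizer_iff.mp hxy
    have hcomm : Commute x y := by
      have h1 := hxyq x hx
      have h2 : x * (x * y) = x * (y * x) := by rw [h1]; group
      exact mul_left_cancel h2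
    have hx8 : x ^ 8 = 1 := by
      have := pow_card_eq_one' (G := Q) (x := ⟨x, hx⟩)
      rw [hQ8] at this
      exact coe_pow_eq_one hx this
    have hy8 : y ^ 8 ∈ centralizer (Q : Set H) := by
      have := (centralizer (Q : Set H)).pow_mem hxy 8
      rwa [hcomm.mul_pow, hx8, one_mul] at this
    have hyo : Nat.Coprime 8 (orderOf y) := by
      obtain ⟨i, hi⟩ := P3.isPGroup' ⟨y, hy⟩
      have h1 : y ^ 3 ^ i = 1 := coe_pow_eq_one hy hi
      exact Nat.Coprime.coprime_dvd_right (orderOf_dvd_of_pow_eq_one h1)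
        (Nat.Coprime.pow_right i (by norm_num))
    obtain ⟨n, hn⟩ := exists_pow_eq_self_of_coprime hyo
    have hyC : y ∈ centralizer (Q : Set H) := by rw [← hn]; exact pow_mem hy8 n
    have hxC : x ∈ centralizer (Q : Set H) := by
      have := (centralizer (Q : Set H)).mul_mem hxy ((centralizer (Q : Set H)).inv_mem hyC)
      simpa using this
    have hxx : x * x = 1 := by
      have := central_sq_eq_one hQU hQ8 hQnc ⟨x, hx⟩
        (fun q => Subtype.ext ((mem_centralizer_iff.mp hxC q q.2).symm))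
      exact congrArg Subtype.val this
    have hxz : ∀ h : H, h * x = x * h := by
      by_cases hx1 : x = 1
      · intro h; rw [hx1]; simp
      · have : x = z := hinv x z hx1 hz1 (by rw [pow_two]; exact hxx) hz2
        rw [this]; exact hzc
    have hyz : ∀ h : H, h * y = y * h := by
      intro h
      obtain ⟨k', hk', x', hx', y', hy', rfl⟩ := hdec h
      have e1 : k' * y = y * k' := (hKc k' hk' y).symm
      have e2 : x' * y = y * x' := (mem_centralizer_iff.mp hyC x' hx')
      have e3 : y' * y = y * y' := hP3c y' hy' y hy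
      calc k' * x' * y' * y = k' * x' * (y' * y) := by group
        _ = k' * x' * (y * y') := by rw [e3]
        _ = k' * (x' * y) * y' := by group
        _ = k' * (y * x') * y' := by rw [e2]
        _ = (k' * y) * x' * y' := by group
        _ = y * k' * x' * y' := by rw [e1]
        _ = y * (k' * x' * y') := by group
    intro h
    calc h * (k * x * y) = (h * k) * x * y := by group
      _ = k * (h * x) * y := by rw [hKc k hk h]; group
      _ = k * x * (h * y) := by rw [hxz h]; group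
      _ = k * x * y * h := by rw [hyz h]; group
  have h24 : Nat.card H ≤ 24 * Nat.card (center H) := by
    haveI := hQn
    let φ : H →* MulAut Q := MulAut.conjNormal
    have hker : φ.ker ≤ centralizer (Q : Set H) := by
      intro c hc
      rw [mem_centralizer_iff]
      intro q hq
      have h1 : φ c ⟨q, hq⟩ = ⟨q, hq⟩ := by rw [MonoidHom.mem_ker.mp hc]; rfl
      have h2 : c * q * c⁻¹ = q := by
        have := congrArg Subtype.val h1
        simpa [φ, MulAut.conjNormal_apply] using this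
      exact (mul_inv_eq_iff_eq_mul.mp h2).symm
    have h1 : Nat.card φ.ker * Nat.card φ.range = Nat.card H := by
      rw [← Subgroup.index_ker]; exact Subgroup.card_mul_index _
    have h2 : Nat.card φ.range ≤ 24 := by
      rw [← card_mulAut_eq hQU hQ8 hQnc]; exact Subgroup.card_le_card_group _
    have h3 : Nat.card φ.ker ≤ Nat.card (center H) := Subgroup.card_le_of_le (hker.trans hCZ)
    calc Nat.card H = Nat.card φ.ker * Nat.card φ.range := h1.symm
      _ ≤ Nat.card (center H) * 24 := Nat.mul_le_mul h3 h2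
      _ = 24 * Nat.card (center H) := by ring
  have hcardM : Nat.card K' * Nat.card (S : Subgroup M) = Nat.card M := hcompl.card_mul_card
  have hcardH : Nat.card M * Nat.card (P3 : Subgroup H) = Nat.card H := hcompl3.card_mul_card
  have hcardK : Nat.card K = Nat.card K' := by
    rw [hKdef]; exact Subgroup.card_map_of_injective M.subtype_injective
  have hcardQ : Nat.card (S : Subgroup M) = 8 := by
    rw [← hQ8, hQdef]; exact (Subgroup.card_map_of_injective M.subtype_injective).symm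
  obtain ⟨e, he⟩ := IsPGroup.iff_card.mp P3.isPGroup'
  refine ⟨Nat.card K, e, ?_, ?_, ?_, ?_, h24, ?_⟩
  · rw [← hcardH, ← hcardM, hcardK, hcardQ, he]; ring
  · exact Subgroup.card_dvd_of_le (fun k hk => mem_center_iff.mpr (hKc k hk))
  · have h2 : ¬ 2 ∣ Nat.card K := by
      intro h
      obtain ⟨k, hk⟩ := exists_prime_orderOf_dvd_card' 2 h
      have := ((hK k).mp k.2).2
      rw [Subgroup.orderOf_coe, hk] at this
      norm_num at this
    have h3 : ¬ 3 ∣ Nat.card K := by
      intro h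
      obtain ⟨k, hk⟩ := exists_prime_orderOf_dvd_card' 3 h
      have := ((hK k).mp k.2).1
      rw [Subgroup.orderOf_coe, hk] at this
      norm_num at this
    have c2 : Nat.Coprime (Nat.card K) 2 :=
      ((Nat.Prime.coprime_iff_not_dvd Nat.prime_two).mpr h2).symm
    have c3 : Nat.Coprime (Nat.card K) 3 :=
      ((Nat.Prime.coprime_iff_not_dvd Nat.prime_three).mpr h3).symm
    exact Nat.Coprime.mul_right c2 c3
  · have hz' : 2 ∣ Nat.card (center H) := by
      have := orderOf_dvd_natCard (⟨z, mem_center_iff.mpr hzc⟩ : center H)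
      rwa [Subgroup.orderOf_mk, hoz] at this
    have ht' : 3 ∣ Nat.card (center H) := by
      have := orderOf_dvd_natCard (⟨t, mem_center_iff.mpr htc⟩ : center H)
      rwa [Subgroup.orderOf_mk, ht] at this
    exact Nat.Coprime.mul_dvd_of_dvd_of_dvd (by norm_num) hz' ht'
  · intro hcomm
    exact hQnc (fun x y => Subtype.ext (hcomm x y))

end Cfsg.Agent.Lib.helper16.Index2
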