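import Mathlib

/-!
Arithmetic of a group acting regularly on the non-zero elements of a finite abelian group (helper16).

`regular_arith`: if `H` acts by automorphisms on the finite abelian group `U`, regularly on `U ∖ {0}`,
then `|U| = |H| + 1` and `|U| = k ^ n` with `|Z(H)| < k`, and `n = 1` forces `H` to be commutative
(`k` is the order of the field generated by the centre of `H`).
-/

set_option autoImplicit false
set_option linter.style.haveILetI false

namespace Cfsg.Agent.Lib.helper16.Index2Arith

theorem regular_arith {H U : Type*} [Group H] [Finite H] [AddCommGroup U] [Finite U]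
    (ρ : H →* AddMonoid.End U)
    (hfree : ∀ h : H, ∀ u : U, u ≠ 0 → ρ h u = u → h = 1)
    (htrans : ∀ u v : U, u ≠ 0 → v ≠ 0 → ∃ h : H, ρ h u = v)
    (u₀ : U) (hu₀ : u₀ ≠ 0) :
    Nat.card U = Nat.card H + 1 ∧ ∃ k n : ℕ, Nat.card U = k ^ n ∧
      Nat.card (Subgroup.center H) < k ∧ (n = 1 → ∀ x y : H, x * y = y * x) := by
  classical
  have hmul : ∀ (h h' : H) (u : U), ρ (h * h') u = ρ h (ρ h' u) := by
    intro h h' u; rw [map_mul]; rfl
  have hone : ∀ u : U, ρ 1 u = u := by intro u; rw [map_one]; rfl
  have hinj : ∀ h h' : H, ρ h u₀ = ρ h' u₀ → h = h' := by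
    intro h h' e
    have h1 : ρ (h'⁻¹ * h) u₀ = u₀ := by
      rw [hmul, e, ← hmul, inv_mul_cancel, hone]
    have h2 := hfree _ u₀ hu₀ h1
    exact (inv_mul_eq_one.mp h2).symm
  have hne : ∀ h : H, ρ h u₀ ≠ 0 := by
    intro h e
    apply hu₀
    have h1 : ρ h⁻¹ (ρ h u₀) = u₀ := by rw [← hmul, inv_mul_cancel, hone]
    rw [e, map_zero] at h1
    exact h1.symm
  refine ⟨?_, ?_⟩
  · have e : H ≃ {u : U // u ≠ 0} := Equiv.ofBijective (fun h => ⟨ρ h u₀, hne h⟩)
      ⟨fun h h' e => hinj h h' (congrArg Subtype.val e), fun ⟨v, hv⟩ => by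
        obtain ⟨h, hh⟩ := htrans u₀ v hu₀ hv
        exact ⟨h, Subtype.ext hh⟩⟩
    rw [Nat.card_congr e, ← Nat.card_congr (Equiv.optionSubtypeNe (0 : U)), Finite.card_option]
  · obtain ⟨A, hAdef⟩ : ∃ A : Subring (AddMonoid.End U),
        A = Subring.closure (Set.range (fun z : Subgroup.center H => ρ z)) := ⟨_, rfl⟩
    have hAc : ∀ a ∈ A, ∀ h : H, a * ρ h = ρ h * a := by
      intro a ha h
      have hle : A ≤ Subring.centralizer (Set.range ρ) := by
        rw [hAdef]
        apply Subring.closure_le.mpr
        rintro _ ⟨z, rfl⟩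
        rw [SetLike.mem_coe, Subring.mem_centralizer_iff]
        rintro _ ⟨h, rfl⟩
        rw [← map_mul, ← map_mul, Subgroup.mem_center_iff.mp z.2 h]
      have h1 := Subring.mem_centralizer_iff.mp (hle ha) (ρ h) ⟨h, rfl⟩
      exact h1.symm
    have hAcomm : ∀ a b : A, a * b = b * a := by
      have hs : ∀ x ∈ Set.range (fun z : Subgroup.center H => ρ z),
          ∀ y ∈ Set.range (fun z : Subgroup.center H => ρ z), x * y = y * x := by
        rintro _ ⟨z, rfl⟩ _ ⟨z', rfl⟩
        show ρ z * ρ z' = ρ z' * ρ z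
        rw [← map_mul, ← map_mul, Subgroup.mem_center_iff.mp z.2 z']
      have h1 := Subring.isMulCommutative_closure hs
      rw [← hAdef] at h1
      intro a b
      exact mul_comm' a b
    have hzero : ∀ a ∈ A, ∀ u : U, u ≠ 0 → a u = 0 → a = 0 := by
      intro a ha u hu hau
      ext v
      by_cases hv : v = 0
      · rw [hv]; simp
      obtain ⟨h, rfl⟩ := htrans u v hu hv
      have h1 : a (ρ h u) = (a * ρ h) u := rfl
      rw [h1, hAc a ha h]
      show ρ h (a u) = 0
      rw [hau, map_zero]
    haveI : Nontrivial A := ⟨⟨0, 1, fun h => hu₀ (by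
      have h1 := congrArg (fun a : A => (a : AddMonoid.End U) u₀) h
      simpa using h1.symm)⟩⟩
    haveI : NoZeroDivisors A := ⟨by
      intro a b hab
      by_contra hcon
      push Not at hcon
      obtain ⟨ha, hb⟩ := hcon
      have hb' : (b : AddMonoid.End U) ≠ 0 := fun h => hb (Subtype.ext h)
      obtain ⟨u, hu⟩ : ∃ u, (b : AddMonoid.End U) u ≠ 0 := by
        by_contra hall
        push Not at hall
        exact hb' (by ext u; simpa using hall u)
      have h1 : (a : AddMonoid.End U) ((b : AddMonoid.End U) u) = 0 := by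
        have h2 := congrArg (fun c : A => (c : AddMonoid.End U) u) hab
        simpa using h2
      exact ha (Subtype.ext (hzero a a.2 _ hu h1))⟩
    letI : CommRing A := { (inferInstance : Ring A) with mul_comm := hAcomm }
    haveI : IsDomain A := NoZeroDivisors.to_isDomain A
    haveI : Finite (AddMonoid.End U) :=
      Finite.of_injective (fun f : AddMonoid.End U => (f : U → U)) DFunLike.coe_injective
    haveI : Fintype A := Fintype.ofFinite A
    letI : Field A := Fintype.fieldOfDomain A
    letI : Module A U := Module.compHom U A.subtype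
    have hsmul : ∀ (a : A) (u : U), a • u = (a : AddMonoid.End U) u := fun a u => rfl
    have hcard := Module.natCard_eq_pow_finrank (K := A) (V := U)
    refine ⟨Nat.card A, Module.finrank A U, hcard, ?_, ?_⟩
    · have hmem : ∀ z : Subgroup.center H, ρ z ∈ A := by
        intro z; rw [hAdef]; exact Subring.subset_closure ⟨z, rfl⟩
      haveI : Fintype (Subgroup.center H) := Fintype.ofFinite _
      rw [Nat.card_eq_fintype_card, Nat.card_eq_fintype_card]
      apply Fintype.card_lt_of_injective_not_surjective
        (fun z : Subgroup.center H => (⟨ρ z, hmem z⟩ : A))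
      · intro z z' e
        exact Subtype.ext (hinj _ _ (by
          have h1 := congrArg (fun a : A => (a : AddMonoid.End U) u₀) e
          exact h1))
      · intro hsurj
        obtain ⟨z, hz⟩ := hsurj 0
        have h1 := congrArg (fun a : A => (a : AddMonoid.End U) u₀) hz
        exact hne z (by simpa using h1)
    · intro hn x y
      have hspan := (finrank_eq_one_iff_of_nonzero' u₀ hu₀).mp hn
      obtain ⟨a, ha⟩ := hspan (ρ x u₀)
      obtain ⟨b, hb⟩ := hspan (ρ y u₀)
      rw [hsmul] at ha hb
      apply hinj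
      have e1 : ρ (x * y) u₀ = ((b : AddMonoid.End U) * (a : AddMonoid.End U)) u₀ := by
        rw [hmul, ← hb]
        have h1 : ρ x ((b : AddMonoid.End U) u₀) = (ρ x * (b : AddMonoid.End U)) u₀ := rfl
        rw [h1, ← hAc b b.2 x]
        show (b : AddMonoid.End U) (ρ x u₀) = _
        rw [← ha]; rfl
      have e2 : ρ (y * x) u₀ = ((a : AddMonoid.End U) * (b : AddMonoid.End U)) u₀ := by
        rw [hmul, ← ha]
        have h1 : ρ y ((a : AddMonoid.End U) u₀) = (ρ y * (a : AddMonoid.End U)) u₀ := rfl
        rw [h1, ← hAc a a.2 y]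
        show (a : AddMonoid.End U) (ρ y u₀) = _
        rw [← hb]; rfl
      rw [e1, e2]
      have h3 : (b : AddMonoid.End U) * (a : AddMonoid.End U)
          = (a : AddMonoid.End U) * (b : AddMonoid.End U) := congrArg Subtype.val (hAcomm b a)
      rw [h3]

end Cfsg.Agent.Lib.helper16.Index2Arith
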