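import Mathlib
import Cfsg.Agent.Lib.helper16.Index2
import Cfsg.Agent.Lib.helper16.Index2Arith

/-!
A group `H` acting regularly on the non-zero elements of a finite abelian group `U` of odd order,
with an involutory automorphism `σ` having at most one non-trivial fixed point and with at most two
elements of order `3`, has a `σ`-invariant subgroup of index `2` (helper16).
-/

set_option autoImplicit false
set_option linter.style.haveILetI false

namespace Cfsg.Agent.Lib.helper16.Index2Main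

open Cfsg.Agent.Lib.helper16.Index2 Cfsg.Agent.Lib.helper16.Index2Arith

lemma exists_invariant_index_two {H : Type*} [Group H] (σ : H ≃* H) (hσ : ∀ h, σ (σ h) = h)
    (N₀ : Subgroup H) (hN₀ : N₀.index = 2) :
    ∃ N : Subgroup H, N.index = 2 ∧ ∀ n ∈ N, σ n ∈ N := by
  by_cases hall : ∀ h, h ∈ N₀ ↔ σ h ∈ N₀
  · exact ⟨N₀, hN₀, fun n hn => (hall n).mp hn⟩
  · obtain ⟨a, ha⟩ := not_forall.mp hall
    let N : Subgroup H :=
      { carrier := {h | h ∈ N₀ ↔ σ h ∈ N₀}
        mul_mem' := by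
          intro x y hx hy
          simp only [Set.mem_ofPred_eq] at hx hy ⊢
          rw [map_mul, Subgroup.mul_mem_iff_of_index_two hN₀,
            Subgroup.mul_mem_iff_of_index_two hN₀, hx, hy]
        one_mem' := by simp [N₀.one_mem]
        inv_mem' := by
          intro x hx
          simp only [Set.mem_ofPred_eq] at hx ⊢
          rw [map_inv, Subgroup.inv_mem_iff, Subgroup.inv_mem_iff]
          exact hx }
    have hmem : ∀ h, h ∈ N ↔ (h ∈ N₀ ↔ σ h ∈ N₀) := fun h => Iff.rfl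
    refine ⟨N, ?_, ?_⟩
    · rw [Subgroup.index_eq_two_iff]
      refine ⟨a, fun b => ?_⟩
      rw [hmem, hmem, map_mul, Subgroup.mul_mem_iff_of_index_two hN₀,
        Subgroup.mul_mem_iff_of_index_two hN₀]
      unfold Xor
      tauto
    · intro n hn
      rw [hmem] at hn ⊢
      rw [hσ]
      exact hn.symm

lemma arith_false (cH cZ k n c e : ℕ) (h1 : cH + 1 = k ^ n) (hZk : cZ < k) (h6 : 6 ∣ cZ)
    (hZ0 : 0 < cZ) (h24 : cH ≤ 24 * cZ) (hH : cH = 8 * c * 3 ^ e) (hcZ : c ∣ cZ)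
    (hc6 : Nat.Coprime c 6) (hn : 2 ≤ n) : False := by
  have hZ6 : 6 ≤ cZ := Nat.le_of_dvd hZ0 h6
  have hk7 : 7 ≤ k := by omega
  have hk2 : k ^ 2 ≤ k ^ n := Nat.pow_le_pow_right (by omega) hn
  have hk23 : k ≤ 23 := by
    by_contra hcon
    have h2 : 24 * k ≤ k * k := Nat.mul_le_mul_right k (by omega)
    have h3 : k ^ 2 = k * k := by ring
    omega
  have hn2 : n = 2 := by
    by_contra hcon
    have h3 : k ^ 3 ≤ k ^ n := Nat.pow_le_pow_right (by omega) (by omega)
    have h4 : k ^ 3 = k * k * k := by ring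
    have h5 : 7 * 7 * k ≤ k * k * k :=
      Nat.mul_le_mul_right k (Nat.mul_le_mul hk7 hk7)
    omega
  subst hn2
  have hcZ36 : cZ ∣ 36 := by
    have hZ22 : cZ ≤ 22 := by omega
    interval_cases cZ <;> omega
  have hc36 : Nat.Coprime c 36 := by
    have h2 := Nat.Coprime.pow_right 2 hc6
    norm_num at h2
    exact h2
  have hc1 : c = 1 := Nat.Coprime.eq_one_of_dvd hc36 (hcZ.trans hcZ36)
  subst hc1
  have he : e ≤ 4 := by
    by_contra hcon
    have h2 : 3 ^ 5 ≤ 3 ^ e := Nat.pow_le_pow_right (by norm_num) (by omega)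
    norm_num at h2
    omega
  interval_cases e <;> interval_cases k <;> norm_num at h1 hH <;> omega

/-- the main abstract theorem -/
theorem exists_index_two {H U : Type*} [Group H] [Finite H] [AddCommGroup U] [Finite U]
    (ρ : H →* AddMonoid.End U)
    (hfree : ∀ h : H, ∀ u : U, u ≠ 0 → ρ h u = u → h = 1)
    (htrans : ∀ u v : U, u ≠ 0 → v ≠ 0 → ∃ h : H, ρ h u = v)
    (hodd : Odd (Nat.card U)) (h3 : 3 ≤ Nat.card U)
    (σ : H ≃* H) (hσ : ∀ h, σ (σ h) = h)
    (hfix : ∀ h₁ h₂ : H, σ h₁ = h₁ → σ h₂ = h₂ → h₁ ≠ 1 → h₂ ≠ 1 → h₁ = h₂)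
    (hF2 : ∀ g h : H, g ≠ 1 → h ≠ 1 → g ^ 3 = 1 → h ^ 3 = 1 → h = g ∨ h = g⁻¹) :
    ∃ N : Subgroup H, N.index = 2 ∧ ∀ n ∈ N, σ n ∈ N := by
  classical
  haveI : Fact (Nat.Prime 2) := ⟨Nat.prime_two⟩
  obtain ⟨u₀, hu₀⟩ : ∃ u : U, u ≠ 0 := by
    haveI : Nontrivial U := (Finite.one_lt_card_iff_nontrivial).mp (by omega)
    exact exists_ne 0
  obtain ⟨hcardU, k, n, hkn, hZk, hn1⟩ := regular_arith ρ hfree htrans u₀ hu₀
  have hmul : ∀ (h h' : H) (u : U), ρ (h * h') u = ρ h (ρ h' u) := by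
    intro h h' u; rw [map_mul]; rfl
  have hone : ∀ u : U, ρ 1 u = u := by intro u; rw [map_one]; rfl
  have hinj : ∀ h h' : H, ρ h u₀ = ρ h' u₀ → h = h' := by
    intro h h' e
    have h1 : ρ (h'⁻¹ * h) u₀ = u₀ := by
      rw [hmul, e, ← hmul, inv_mul_cancel, hone]
    have h2 := hfree _ u₀ hu₀ h1
    exact (inv_mul_eq_one.mp h2).symm
  -- involutions act as `-1`
  have hneg : ∀ x : H, x ≠ 1 → x ^ 2 = 1 → ∀ u : U, ρ x u = -u := by
    intro x hx1 hx2 u
    have h1 : ρ x (u + ρ x u) = u + ρ x u := by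
      rw [map_add, ← hmul, ← pow_two, hx2, hone, add_comm]
    have h2 : u + ρ x u = 0 := by
      by_contra hne
      exact hx1 (hfree x _ hne h1)
    exact (neg_eq_of_add_eq_zero_right h2).symm
  have hinv : ∀ x y : H, x ≠ 1 → y ≠ 1 → x ^ 2 = 1 → y ^ 2 = 1 → x = y := by
    intro x y hx hy hx2 hy2
    apply hinj
    rw [hneg x hx hx2, hneg y hy hy2]
  -- an involution exists
  have h2H : 2 ∣ Nat.card H := by
    obtain ⟨m, hm⟩ := hodd
    omega
  obtain ⟨z, hz⟩ := exists_prime_orderOf_dvd_card' 2 h2H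
  have hz1 : z ≠ 1 := by
    intro h; rw [h, orderOf_one] at hz; omega
  have hz2 : z ^ 2 = 1 := by rw [← hz]; exact pow_orderOf_eq_one z
  have hσz : σ z = z := by
    apply hinv _ _ ?_ hz1 ?_ hz2
    · intro h
      apply hz1
      have := congrArg σ.symm h
      simpa using this
    · rw [← map_pow, hz2, map_one]
  have hfix' : ∀ h, σ h = h → h = 1 ∨ h = z := by
    intro h hh
    by_cases h1 : h = 1
    · left; exact h1
    · right; exact hfix h z hh hσz h1 hz1
  by_contra hcon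
  have hbad : ∀ N : Subgroup H, N.index ≠ 2 := by
    intro N hN
    exact hcon (exists_invariant_index_two σ hσ N hN)
  obtain ⟨c, e, hH, hcZ, hc6, h6, h24, hnc⟩ :=
    structure_of_bad z hz1 hz2 hinv σ hσ hfix' hF2 hbad
  have hn2 : 2 ≤ n := by
    rcases Nat.lt_or_ge n 2 with h | h
    · exfalso
      interval_cases n
      · rw [pow_zero] at hkn
        have : 0 < Nat.card H := Nat.card_pos
        omega
      · exact hnc (hn1 rfl)
    · exact h
  exact arith_false (Nat.card H) (Nat.card (Subgroup.center H)) k n c e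
    (by rw [← hcardU, hkn]) hZk h6 Nat.card_pos h24 hH hcZ hc6 hn2

end Cfsg.Agent.Lib.helper16.Index2Main
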