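import Mathlib
import Cfsg.Agent.Lib.helper21.SimpleIndex

/-!
S0420 piece F2 (helper16): a simple group of order 7920 acting on 12 points with the
bisection data of the Sylow 5-subgroups has a subgroup of order 720.
-/

set_option autoImplicit false
open scoped Pointwise

namespace Cfsg.Agent.Lib.helper16.M11U

/-- fixed points of an element of prime order on an invariant finite set -/
theorem f2_fix_mod {K X : Type*} [Group K] [MulAction K X] [DecidableEq X]
    (p : ℕ) [Fact p.Prime] (g : K) (hg : g ^ p = 1) (W : Finset X)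
    (hW : ∀ x ∈ W, g • x ∈ W) :
    (W.filter fun x => g • x = x).card ≡ W.card [MOD p] := by
  classical
  let f : Function.End W := fun w => ⟨g • w.1, hW w.1 w.2⟩
  have hpow : ∀ n : ℕ, ∀ w : W, ((f ^ n) w : X) = g ^ n • (w : X) := by
    intro n
    induction n with
    | zero => intro w; rw [pow_zero, pow_zero, one_smul]; rfl
    | succ n ih =>
      intro w
      have h1 : (f ^ (n + 1)) w = f ((f ^ n) w) := by rw [pow_succ']; rfl
      rw [h1, pow_succ', mul_smul, ← ih w]
  have hf : f ^ p ^ 1 = 1 := by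
    funext w
    apply Subtype.ext
    rw [pow_one, hpow, hg, one_smul]
    rfl
  have h := Equiv.Perm.card_fixedPoints_modEq (f := f) (p := p) (n := 1) hf
  rw [Fintype.card_coe] at h
  have h2 : Fintype.card (Function.fixedPoints f) = (W.filter fun x => g • x = x).card := by
    rw [← Fintype.card_coe]
    apply Fintype.card_congr
    exact
      { toFun := fun w => ⟨w.1.1, Finset.mem_filter.mpr ⟨w.1.2, congrArg Subtype.val w.2⟩⟩
        invFun := fun x => ⟨⟨x.1, (Finset.mem_filter.mp x.2).1⟩,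
          Subtype.ext (Finset.mem_filter.mp x.2).2⟩
        left_inv := fun w => rfl
        right_inv := fun x => rfl }
  rw [h2] at h
  exact h.symm

theorem f2_smul_compl {K X : Type*} [Group K] [MulAction K X] [Fintype X] [DecidableEq X]
    (g : K) (B : Finset X) : g • Bᶜ = (g • B)ᶜ := by
  apply Finset.coe_injective
  rw [Finset.coe_smul_finset, Finset.coe_compl, Finset.coe_compl, Finset.coe_smul_finset,
    Set.smul_set_compl]

/-- the stabilizer of the bisection `{B, Bᶜ}` -/
def f2_S {K X : Type*} [Group K] [MulAction K X] [Fintype X] [DecidableEq X] (B : Finset X) :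
    Subgroup K where
  carrier := {g | g • B = B ∨ g • B = Bᶜ}
  one_mem' := Or.inl (one_smul _ _)
  mul_mem' := by
    intro a b ha hb
    show (a * b) • B = B ∨ (a * b) • B = Bᶜ
    rw [mul_smul]
    rcases hb with hb | hb
    · rw [hb]; exact ha
    · rw [hb, f2_smul_compl]
      rcases ha with ha | ha
      · right; rw [ha]
      · left; rw [ha, compl_compl]
  inv_mem' := by
    intro a ha
    show a⁻¹ • B = B ∨ a⁻¹ • B = Bᶜ
    rcases ha with ha | ha
    · left; rw [inv_smul_eq_iff, ha]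
    · right; rw [inv_smul_eq_iff, f2_smul_compl, ha, compl_compl]

theorem f2_index_two {K : Type*} [Group K] {X : Type*} [Fintype X] [DecidableEq X] [MulAction K X]
    (B : Finset X) (hne : B ≠ Bᶜ) (hall : ∀ g : K, g • B = B ∨ g • B = Bᶜ) (f : K)
    (hf : f • B = Bᶜ) : (MulAction.stabilizer K B).index = 2 := by
  rw [Subgroup.index_eq_two_iff]
  refine ⟨f, fun b => ?_⟩
  rw [MulAction.mem_stabilizer_iff, MulAction.mem_stabilizer_iff, mul_smul, hf, f2_smul_compl]
  rcases hall b with h | h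
  · right; rw [h]; exact ⟨rfl, fun h2 => hne h2.symm⟩
  · left; rw [h, compl_compl]; exact ⟨rfl, fun h2 => hne h2.symm⟩

/-- Sylow counting inside a subgroup `S`, for a subgroup `Q ≤ S` of prime order `p` with
`p ^ 2 ∤ |S|`. -/
theorem f2_syl_count {G : Type*} [Group G] [Finite G] (p : ℕ) [Fact p.Prime] (S Q : Subgroup G)
    (hQS : Q ≤ S) (hQ : Nat.card Q = p) (hp2 : ¬ p * p ∣ Nat.card S) :
    ∃ n : ℕ, n ≡ 1 [MOD p] ∧
      n * Nat.card (Subgroup.normalizer (Q : Set G) ⊓ S : Subgroup G) = Nat.card S ∧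
      (∀ Q' : Subgroup G, Q' ≤ S → Nat.card Q' = p → Q' ≠ Q → 2 ≤ n) := by
  classical
  have key : ∀ Q' : Subgroup G, Q' ≤ S → Nat.card Q' = p →
      ∃ R : Sylow p S, (R : Subgroup S) = Q'.subgroupOf S := by
    intro Q' hQ'S hQ'
    have hc : Nat.card (Q'.subgroupOf S) = p := by
      rw [Nat.card_congr (Subgroup.subgroupOfEquivOfLe hQ'S).toEquiv, hQ']
    have hpg : IsPGroup p (Q'.subgroupOf S) := IsPGroup.of_card (n := 1) (by rw [hc, pow_one])
    obtain ⟨R, hR⟩ := hpg.exists_le_sylow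
    refine ⟨R, ?_⟩
    symm
    apply Subgroup.eq_of_le_of_card_ge hR
    rw [hc]
    obtain ⟨j, hj⟩ := IsPGroup.iff_card.mp R.isPGroup'
    have hdvd : Nat.card (R : Subgroup S) ∣ Nat.card S := Subgroup.card_subgroup_dvd_card _
    rw [hj] at hdvd ⊢
    rcases j with _ | _ | j
    · simpa using (Fact.out : p.Prime).one_le
    · simp
    · exfalso
      apply hp2
      refine dvd_trans ?_ hdvd
      exact ⟨p ^ j, by ring⟩
  obtain ⟨R, hR⟩ := key Q hQS hQ
  refine ⟨Nat.card (Sylow p S), card_sylow_modEq_one p S, ?_, ?_⟩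
  · rw [Sylow.card_eq_index_normalizer R]
    have h1 : Subgroup.normalizer ((R : Subgroup S) : Set S)
        = (Subgroup.normalizer (Q : Set G) ⊓ S).subgroupOf S := by
      rw [hR, Subgroup.inf_subgroupOf_right]
      exact (Subgroup.subgroupOf_normalizer_eq hQS).symm
    have h2 : Nat.card ((Subgroup.normalizer (Q : Set G) ⊓ S).subgroupOf S)
        = Nat.card (Subgroup.normalizer (Q : Set G) ⊓ S : Subgroup G) :=
      Nat.card_congr (Subgroup.subgroupOfEquivOfLe inf_le_right).toEquiv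
    rw [← h2, ← h1, mul_comm]
    exact Subgroup.card_mul_index _
  · intro Q' hQ'S hQ' hne
    obtain ⟨R', hR'⟩ := key Q' hQ'S hQ'
    have hRR' : R ≠ R' := by
      intro h
      apply hne
      have h3 : Q'.subgroupOf S = Q.subgroupOf S := by rw [← hR', ← hR, h]
      apply le_antisymm
      · intro x hx
        have : (⟨x, hQ'S hx⟩ : S) ∈ Q'.subgroupOf S := Subgroup.mem_subgroupOf.mpr hx
        rw [h3] at this
        exact Subgroup.mem_subgroupOf.mp this
      · intro x hx
        have : (⟨x, hQS hx⟩ : S) ∈ Q.subgroupOf S := Subgroup.mem_subgroupOf.mpr hx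
        rw [← h3] at this
        exact Subgroup.mem_subgroupOf.mp this
    by_contra hlt
    have h1 : Nat.card (Sylow p S) ≤ 1 := by omega
    have : Subsingleton (Sylow p S) := Finite.card_le_one_iff_subsingleton.mp h1
    exact hRR' (Subsingleton.elim _ _)

/-- no group of order 120 with the bisection data -/
theorem f2_no120 {K : Type*} [Group K] [Finite K] {X : Type*} [Fintype X] [DecidableEq X]
    [MulAction K X] (hK : Nat.card K = 120)
    (hfix5 : ∀ k : K, orderOf k = 5 → (Finset.univ.filter fun x : X => k • x = x).card = 2)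
    (hfix3 : ∀ z : K, orderOf z = 3 → (Finset.univ.filter fun x : X => z • x = x).card = 3)
    (B : Finset X) (hB : B.card = 6) (hBc : Bᶜ.card = 6)
    (hall : ∀ g : K, g • B = B ∨ g • B = Bᶜ) (f : K) (hf : f • B = Bᶜ)
    (k : K) (hk : orderOf k = 5) (hkB : k • B = B) : False := by
  classical
  have hp5 : Fact (Nat.Prime 5) := ⟨by norm_num⟩
  have hp3 : Fact (Nat.Prime 3) := ⟨by norm_num⟩
  have hBne : B ≠ Bᶜ := by
    intro h
    obtain ⟨x, hx⟩ := Finset.card_pos.mp (by rw [hB]; norm_num : 0 < B.card)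
    have h2 : x ∈ Bᶜ := h ▸ hx
    exact (Finset.mem_compl.mp h2) hx
  have hidx := f2_index_two B hBne hall f hf
  obtain ⟨T, hTdef⟩ : ∃ T : Subgroup K, T = MulAction.stabilizer K B := ⟨_, rfl⟩
  rw [← hTdef] at hidx
  have hTcard : Nat.card T = 60 := by
    have := Subgroup.card_mul_index T
    rw [hidx, hK] at this
    omega
  have hTn : T.Normal := Subgroup.normal_of_index_eq_two hidx
  have memT : ∀ g : K, g ∈ T ↔ g • B = B := fun g => by
    rw [hTdef]; exact MulAction.mem_stabilizer_iff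
  have memTc : ∀ g : K, g ∈ T → g • Bᶜ = Bᶜ := fun g hg => by
    rw [f2_smul_compl, (memT g).mp hg]
  have hkT : k ∈ T := (memT k).mpr hkB
  obtain ⟨z, hz⟩ := exists_prime_orderOf_dvd_card' (G := T) 3 (by rw [hTcard]; norm_num)
  have hz3 : orderOf (z : K) = 3 := by rw [Subgroup.orderOf_coe]; exact hz
  have hinv : ∀ g ∈ T, ∀ x ∈ B, g • x ∈ B := by
    intro g hg x hx
    have h1 : g • x ∈ g • B := Finset.smul_mem_smul_finset hx
    rwa [(memT g).mp hg] at h1
  have hinvc : ∀ g ∈ T, ∀ x ∈ Bᶜ, g • x ∈ Bᶜ := by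
    intro g hg x hx
    have h1 : g • x ∈ g • Bᶜ := Finset.smul_mem_smul_finset hx
    rwa [memTc g hg] at h1
  have hk5 : k ^ 5 = 1 := by rw [← hk]; exact pow_orderOf_eq_one k
  have hkfB : (B.filter fun x => k • x = x).card = 1 := by
    have h1 := f2_fix_mod 5 k hk5 B (hinv k hkT)
    have h2 : (B.filter fun x => k • x = x).card ≤ 2 := by
      rw [← hfix5 k hk]
      exact Finset.card_le_card (Finset.filter_subset_filter _ (Finset.subset_univ _))
    rw [hB] at h1
    have h3 : (B.filter fun x => k • x = x).card % 5 = 6 % 5 := h1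
    omega
  obtain ⟨a, ha⟩ := Finset.card_eq_one.mp hkfB
  have haB : a ∈ B ∧ k • a = a := by
    have h1 : a ∈ B.filter fun x => k • x = x := by rw [ha]; exact Finset.mem_singleton_self a
    have h2 := Finset.mem_filter.mp h1
    exact h2
  have hauniq : ∀ b ∈ B, k • b = b → b = a := by
    intro b hb hkb
    have h1 : b ∈ B.filter fun x => k • x = x := Finset.mem_filter.mpr ⟨hb, hkb⟩
    rw [ha] at h1
    exact Finset.mem_singleton.mp h1
  obtain ⟨O, hO⟩ : ∃ O : Finset X, ∀ x, x ∈ O ↔ x ∈ MulAction.orbit T a :=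
    ⟨Finset.univ.filter (fun x => x ∈ MulAction.orbit T a), fun x => by simp⟩
  have hOB : O ⊆ B := by
    intro x hx
    obtain ⟨t, rfl⟩ := (hO x).mp hx
    exact hinv t t.2 a haB.1
  have hOk : ∀ x ∈ O, k • x ∈ O := by
    intro x hx
    obtain ⟨t, rfl⟩ := (hO x).mp hx
    exact (hO _).mpr ⟨⟨k, hkT⟩ * t, by
      show ((⟨k, hkT⟩ : T) * t) • a = k • (t • a)
      rw [mul_smul]; rfl⟩
  have haO : a ∈ O := (hO _).mpr (MulAction.mem_orbit_self a)
  have hOfix : (O.filter fun x => k • x = x) = {a} := by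
    ext x
    rw [Finset.mem_filter, Finset.mem_singleton]
    constructor
    · rintro ⟨hx, hkx⟩
      exact hauniq x (hOB hx) hkx
    · rintro rfl
      exact ⟨haO, haB.2⟩
  have hOcard : O.card = 1 ∨ O.card = 6 := by
    have h1 := f2_fix_mod 5 k hk5 O hOk
    rw [hOfix, Finset.card_singleton] at h1
    have h2 : O.card ≤ 6 := hB ▸ Finset.card_le_card hOB
    have h3 : 1 % 5 = O.card % 5 := h1
    omega
  have hzT : (z : K) ∈ T := z.2
  have hz33 : (z : K) ^ 3 = 1 := by rw [← hz3]; exact pow_orderOf_eq_one _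
  rcases hOcard with h1 | h6
  · have hTa : ∀ t ∈ T, t • a = a := by
      intro t ht
      have h2 : t • a ∈ O := (hO _).mpr ⟨⟨t, ht⟩, rfl⟩
      obtain ⟨c, hc⟩ := Finset.card_eq_one.mp h1
      have h3 := haO
      rw [hc, Finset.mem_singleton] at h2 h3
      rw [h2, h3]
    have hTfa : ∀ t ∈ T, t • (f • a) = f • a := by
      intro t ht
      have h2 : f⁻¹ * t * f ∈ T := by
        have := hTn.conj_mem t ht f⁻¹
        rwa [inv_inv] at this
      have h3 := hTa _ h2
      rw [mul_smul, mul_smul, inv_smul_eq_iff] at h3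
      exact h3
    have hfa : f • a ∈ Bᶜ := by
      have h2 : f • a ∈ f • B := Finset.smul_mem_smul_finset haB.1
      rwa [hf] at h2
    have hzB : 3 ≤ (B.filter fun x => (z : K) • x = x).card := by
      have h1 := f2_fix_mod 3 (z : K) hz33 B (hinv _ hzT)
      have h2 : 0 < (B.filter fun x => (z : K) • x = x).card :=
        Finset.card_pos.mpr ⟨a, Finset.mem_filter.mpr ⟨haB.1, hTa _ hzT⟩⟩
      rw [hB] at h1
      have h3 : (B.filter fun x => (z : K) • x = x).card % 3 = 6 % 3 := h1
      omega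
    have hzBc : 3 ≤ (Bᶜ.filter fun x => (z : K) • x = x).card := by
      have h1 := f2_fix_mod 3 (z : K) hz33 Bᶜ (hinvc _ hzT)
      have h2 : 0 < (Bᶜ.filter fun x => (z : K) • x = x).card :=
        Finset.card_pos.mpr ⟨f • a, Finset.mem_filter.mpr ⟨hfa, hTfa _ hzT⟩⟩
      rw [hBc] at h1
      have h3 : (Bᶜ.filter fun x => (z : K) • x = x).card % 3 = 6 % 3 := h1
      omega
    have htot : (B.filter fun x => (z : K) • x = x).card +
        (Bᶜ.filter fun x => (z : K) • x = x).card ≤
        (Finset.univ.filter fun x : X => (z : K) • x = x).card := by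
      rw [← Finset.card_union_of_disjoint (Finset.disjoint_filter_filter disjoint_compl_right)]
      exact Finset.card_le_card (Finset.union_subset
        (Finset.filter_subset_filter _ (Finset.subset_univ _))
        (Finset.filter_subset_filter _ (Finset.subset_univ _)))
    rw [hfix3 _ hz3] at htot
    omega
  · have hOeq : O = B := Finset.eq_of_subset_of_card_le hOB (by rw [hB, h6])
    have hnofix : ∀ w ∈ T, orderOf w = 3 → ∀ b ∈ B, w • b ≠ b := by
      intro w hw hw3 b hb hwb
      have hbO : b ∈ MulAction.orbit T a := (hO b).mp (hOeq ▸ hb)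
      have horb : MulAction.orbit T b = MulAction.orbit T a := MulAction.orbit_eq_iff.mpr hbO
      have hnc : (MulAction.orbit T b).ncard = 6 := by
        rw [horb, ← h6, ← Set.ncard_coe_finset O]
        congr 1
        ext x
        exact (hO x).symm
      have hst := MulAction.index_stabilizer T b
      rw [hnc] at hst
      have hcm := Subgroup.card_mul_index (MulAction.stabilizer T b)
      rw [hst, hTcard] at hcm
      have h10 : Nat.card (MulAction.stabilizer T b) = 10 := by omega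
      have hmem : (⟨w, hw⟩ : T) ∈ MulAction.stabilizer T b := MulAction.mem_stabilizer_iff.mpr hwb
      have ho : orderOf (⟨w, hw⟩ : T) = 3 := by
        rw [← Subgroup.orderOf_coe]; exact hw3
      have hd : 3 ∣ 10 := by
        rw [← h10, ← ho]
        exact Subgroup.orderOf_dvd_natCard _ hmem
      omega
    have hempty : (Finset.univ.filter fun x : X => (z : K) • x = x) = ∅ := by
      rw [Finset.filter_eq_empty_iff]
      intro x _ hzx
      by_cases hx : x ∈ B
      · exact hnofix _ hzT hz3 x hx hzx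
      · have hx' : f⁻¹ • x ∈ B := by
          have h1 : f⁻¹ • x ∈ f⁻¹ • Bᶜ := Finset.smul_mem_smul_finset (Finset.mem_compl.mpr hx)
          have h2 : f⁻¹ • Bᶜ = B := by rw [← hf, inv_smul_smul]
          rwa [h2] at h1
        have hw : f⁻¹ * (z : K) * f ∈ T := by
          have := hTn.conj_mem _ hzT f⁻¹
          rwa [inv_inv] at this
        have hw3 : orderOf (f⁻¹ * (z : K) * f) = 3 := by
          have h1 := MulEquiv.orderOf_eq (MulAut.conj f⁻¹) (z : K)
          rw [MulAut.conj_apply, inv_inv] at h1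
          rw [h1, hz3]
        exact hnofix _ hw hw3 (f⁻¹ • x) hx' (by rw [mul_smul, mul_smul, smul_inv_smul, hzx])
    have h3 := hfix3 _ hz3
    rw [hempty] at h3
    simp at h3

theorem f2_core {G : Type*} [Group G] [Finite G] [IsSimpleGroup G]
    (hG : Nat.card G = 7920) {X : Type*} [Fintype X] [DecidableEq X] [MulAction G X]
    (hX : Fintype.card X = 12)
    (h5 : ∀ Q : Subgroup G, Nat.card Q = 5 → Nat.card (Subgroup.normalizer (Q : Set G)) = 20)
    (h11 : ∀ P : Subgroup G, Nat.card P = 11 →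
      Nat.card (Subgroup.normalizer (P : Set G)) = 55)
    (hfix5 : ∀ k : G, orderOf k = 5 → (Finset.univ.filter fun x : X => k • x = x).card = 2)
    (hfix3 : ∀ z : G, orderOf z = 3 → (Finset.univ.filter fun x : X => z • x = x).card = 3)
    (Q Q' : Subgroup G) (hQ : Nat.card Q = 5) (hQ' : Nat.card Q' = 5) (hQQ' : Q' ≠ Q)
    (B : Finset X) (hB : B.card = 6)
    (hN : ∀ g ∈ Subgroup.normalizer (Q : Set G), g • B = B ∨ g • B = Bᶜ)
    (hN' : ∀ g ∈ Subgroup.normalizer (Q' : Set G), g • B = B ∨ g • B = Bᶜ)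
    (f : G) (hfN : f ∈ Subgroup.normalizer (Q : Set G)) (hf : f • B = Bᶜ)
    (hQB : ∀ q ∈ Q, q • B = B) :
    ∃ H : Subgroup G, Nat.card H = 720 := by
  classical
  have hp5 : Fact (Nat.Prime 5) := ⟨by norm_num⟩
  have hp11 : Fact (Nat.Prime 11) := ⟨by norm_num⟩
  have hBc : Bᶜ.card = 6 := by rw [Finset.card_compl, hX, hB]
  have hBne : B ≠ Bᶜ := by
    intro h
    obtain ⟨x, hx⟩ := Finset.card_pos.mp (by rw [hB]; norm_num : 0 < B.card)
    have h2 : x ∈ Bᶜ := h ▸ hx
    exact (Finset.mem_compl.mp h2) hx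
  obtain ⟨S, hS⟩ : ∃ S : Subgroup G, S = f2_S (K := G) B := ⟨_, rfl⟩
  have memS : ∀ g : G, g ∈ S ↔ (g • B = B ∨ g • B = Bᶜ) := fun g => by rw [hS]; rfl
  have hNS : Subgroup.normalizer (Q : Set G) ≤ S := fun g hg => (memS g).mpr (hN g hg)
  have hN'S : Subgroup.normalizer (Q' : Set G) ≤ S := fun g hg => (memS g).mpr (hN' g hg)
  have hQS : Q ≤ S := Subgroup.le_normalizer.trans hNS
  have hQ'S : Q' ≤ S := Subgroup.le_normalizer.trans hN'S
  have hfS : f ∈ S := hNS hfN
  have hStop : S ≠ ⊤ := by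
    intro htop
    have hall : ∀ g : G, g • B = B ∨ g • B = Bᶜ := fun g =>
      (memS g).mp (htop ▸ Subgroup.mem_top g)
    have hidx := f2_index_two B hBne hall f hf
    have hn := Subgroup.normal_of_index_eq_two hidx
    rcases hn.eq_bot_or_eq_top with h | h
    · rw [h, Subgroup.index_bot, hG] at hidx; omega
    · rw [h, Subgroup.index_top] at hidx; omega
  have hfact := Cfsg.Agent.Lib.helper21.card_dvd_factorial_index_of_simple S hStop
  have hmi := Subgroup.card_mul_index S
  rw [hG] at hfact hmi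
  have hidx11 : 11 ≤ S.index := by
    by_contra hlt
    have h10 : S.index ≤ 10 := by omega
    have h1 : S.index.factorial ∣ Nat.factorial 10 := Nat.factorial_dvd_factorial h10
    have h2 : 7920 ∣ Nat.factorial 10 := hfact.trans h1
    revert h2
    decide
  have h25 : ¬ 5 * 5 ∣ Nat.card S := by
    intro h
    have h2 : 5 * 5 ∣ 7920 := by
      rw [← hmi]; exact Dvd.dvd.mul_right h _
    omega
  obtain ⟨n, hn1, hn2, hn3⟩ := f2_syl_count 5 S Q hQS hQ h25
  have hinf : Subgroup.normalizer (Q : Set G) ⊓ S = Subgroup.normalizer (Q : Set G) :=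
    inf_eq_left.mpr hNS
  rw [hinf, h5 Q hQ] at hn2
  have hn2' : 2 ≤ n := hn3 Q' hQ'S hQ' hQQ'
  have hm : Nat.card S ≤ 720 := by nlinarith
  have hn36 : n ≤ 36 := by omega
  have hdvdS : Nat.card S ∣ 7920 := ⟨S.index, hmi.symm⟩
  have hcases : n = 6 ∨ n = 11 ∨ n = 36 := by
    have h1 : n % 5 = 1 % 5 := hn1
    rw [← hn2] at hdvdS
    interval_cases n <;> omega
  rcases hcases with rfl | rfl | rfl
  · exfalso
    have hS120 : Nat.card S = 120 := by omega
    obtain ⟨k, hk⟩ := exists_prime_orderOf_dvd_card' (G := Q) 5 (by rw [hQ])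
    have hkS : (k : G) ∈ S := hQS k.2
    have hk5 : orderOf (k : G) = 5 := by rw [Subgroup.orderOf_coe]; exact hk
    refine f2_no120 (K := S) (X := X) hS120 ?_ ?_ B hB hBc ?_ ⟨f, hfS⟩ hf ⟨(k : G), hkS⟩ ?_ ?_
    · intro s hs
      exact hfix5 (s : G) (by rw [Subgroup.orderOf_coe]; exact hs)
    · intro s hs
      exact hfix3 (s : G) (by rw [Subgroup.orderOf_coe]; exact hs)
    · intro g
      exact (memS g).mp g.2
    · rw [← Subgroup.orderOf_coe]; exact hk5
    · exact hQB _ k.2
  · exfalso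
    have hS220 : Nat.card S = 220 := by omega
    obtain ⟨x, hx⟩ := exists_prime_orderOf_dvd_card' (G := S) 11 (by rw [hS220]; norm_num)
    have hx11 : orderOf (x : G) = 11 := by rw [Subgroup.orderOf_coe]; exact hx
    have hP : Nat.card (Subgroup.zpowers (x : G)) = 11 := by rw [Nat.card_zpowers, hx11]
    have hPS : Subgroup.zpowers (x : G) ≤ S := by rw [Subgroup.zpowers_le]; exact x.2
    have h121 : ¬ 11 * 11 ∣ Nat.card S := by rw [hS220]; norm_num
    obtain ⟨n, hn1, hn2, -⟩ := f2_syl_count 11 S _ hPS hP h121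
    have hd1 : Nat.card (Subgroup.normalizer (Subgroup.zpowers (x : G) : Set G) ⊓ S : Subgroup G)
        ∣ 55 := by
      rw [← h11 _ hP]; exact Subgroup.card_dvd_of_le inf_le_left
    have hd2 : 11 ∣
        Nat.card (Subgroup.normalizer (Subgroup.zpowers (x : G) : Set G) ⊓ S : Subgroup G) := by
      rw [← hP]; exact Subgroup.card_dvd_of_le (le_inf Subgroup.le_normalizer hPS)
    obtain ⟨c, hc⟩ : ∃ c,
        Nat.card (Subgroup.normalizer (Subgroup.zpowers (x : G) : Set G) ⊓ S : Subgroup G) = c :=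
      ⟨_, rfl⟩
    rw [hc] at hd1 hd2 hn2
    rw [hS220] at hn2
    have hc55 : c ≤ 55 := Nat.le_of_dvd (by norm_num) hd1
    have hc' : c = 11 ∨ c = 55 := by interval_cases c <;> omega
    have hn1' : n % 11 = 1 % 11 := hn1
    rcases hc' with rfl | rfl <;> omega
  · exact ⟨S, by omega⟩

/-- PIECE F2: a subgroup of order 720 from the bisections. -/
theorem exists_card_720_of_bisections {G : Type*} [Group G] [Finite G] [IsSimpleGroup G]
    (hG : Nat.card G = 7920) {X : Type*} [Fintype X] [DecidableEq X] [MulAction G X]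
    [MulAction.IsPretransitive G X] (hX : Fintype.card X = 12)
    (h5 : ∀ Q : Subgroup G, Nat.card Q = 5 →
      Nat.card (Subgroup.normalizer (Q : Set G)) = 20 ∧ Subgroup.centralizer (Q : Set G) ≤ Q)
    (h11 : ∀ P : Subgroup G, Nat.card P = 11 →
      Nat.card (Subgroup.normalizer (P : Set G)) = 55)
    (hfix5 : ∀ k : G, orderOf k = 5 → (Finset.univ.filter fun x : X => k • x = x).card = 2)
    (hfix3 : ∀ z : G, orderOf z = 3 → (Finset.univ.filter fun x : X => z • x = x).card = 3)
    (hbis : ∀ Q : Subgroup G, Nat.card Q = 5 →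
      ∃ A₁ A₂ : Finset X, A₁.card = 6 ∧ A₂.card = 6 ∧ A₁ ≠ A₂ ∧ A₁ ≠ A₂ᶜ ∧
        (∀ g ∈ Subgroup.normalizer (Q : Set G), g • A₁ = A₁ ∨ g • A₁ = A₁ᶜ) ∧
        (∀ g ∈ Subgroup.normalizer (Q : Set G), g • A₂ = A₂ ∨ g • A₂ = A₂ᶜ) ∧
        (∃ f ∈ Subgroup.normalizer (Q : Set G), f • A₁ = A₁ᶜ) ∧
        (∃ f ∈ Subgroup.normalizer (Q : Set G), f • A₂ = A₂ᶜ) ∧
        (∀ q ∈ Q, q • A₁ = A₁) ∧ (∀ q ∈ Q, q • A₂ = A₂)) :
    ∃ H : Subgroup G, Nat.card H = 720 := by
  classical
  have hp5 : Fact (Nat.Prime 5) := ⟨by norm_num⟩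
  have hcard5 : ∀ P : Sylow 5 G, Nat.card (P : Subgroup G) = 5 := by
    intro P
    obtain ⟨j, hj⟩ := IsPGroup.iff_card.mp P.isPGroup'
    have h1 := Subgroup.card_mul_index (P : Subgroup G)
    have h2 := P.not_dvd_index
    rw [hG, hj] at h1
    rw [hj]
    rcases j with _ | _ | j
    · exfalso
      apply h2
      rw [pow_zero, one_mul] at h1
      rw [h1]; norm_num
    · simp
    · exfalso
      have h3 : 25 ∣ 7920 := by
        rw [← h1]
        exact ⟨5 ^ j * (P : Subgroup G).index, by ring⟩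
      omega
  have hn5 : Nat.card (Sylow 5 G) = 396 := by
    obtain ⟨P⟩ : Nonempty (Sylow 5 G) := inferInstance
    rw [Sylow.card_eq_index_normalizer P]
    have h1 := (h5 P (hcard5 P)).1
    have h2 := Subgroup.card_mul_index (Subgroup.normalizer ((P : Subgroup G) : Set G))
    rw [h1, hG] at h2
    have h3 : (Subgroup.normalizer ((P : Subgroup G) : Set G)).index = 396 := by omega
    exact h3
  choose A₁ A₂ hA using fun P : Sylow 5 G => hbis (P : Subgroup G) (hcard5 P)
  have hXne : Nonempty X := by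
    rw [← Fintype.card_pos_iff, hX]; norm_num
  obtain ⟨x₀⟩ := hXne
  obtain ⟨rep, hrepdef⟩ : ∃ rep : Finset X → Finset X,
      ∀ A, rep A = if x₀ ∈ A then A else Aᶜ := ⟨_, fun _ => rfl⟩
  obtain ⟨Bs, hBsdef⟩ : ∃ Bs : Sylow 5 G × Bool → Finset X,
      ∀ P b, Bs (P, b) = if b then A₁ P else A₂ P := ⟨fun pb => if pb.2 then A₁ pb.1 else A₂ pb.1,
        fun _ _ => rfl⟩
  have hBcard : ∀ pb, (Bs pb).card = 6 := by
    rintro ⟨P, b⟩
    rw [hBsdef]
    cases b
    · simpa using (hA P).2.1
    · simpa using (hA P).1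
  have hrep : ∀ A : Finset X, rep A = A ∨ rep A = Aᶜ := fun A => by
    rw [hrepdef]; by_cases h : x₀ ∈ A <;> simp [h]
  have hrepmem : ∀ A, x₀ ∈ rep A := fun A => by
    rw [hrepdef]; by_cases h : x₀ ∈ A <;> simp [h]
  have hrepcard : ∀ A : Finset X, A.card = 6 → (rep A).card = 6 := by
    intro A hA6
    rcases hrep A with h | h
    · rw [h, hA6]
    · rw [h, Finset.card_compl, hX, hA6]
  have : Fintype (Sylow 5 G) := Fintype.ofFinite _
  have hpig : ∃ x ∈ (Finset.univ : Finset (Sylow 5 G × Bool)),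
      ∃ y ∈ (Finset.univ : Finset (Sylow 5 G × Bool)),
        x ≠ y ∧ (rep (Bs x)).erase x₀ = (rep (Bs y)).erase x₀ := by
    apply Finset.exists_ne_map_eq_of_card_lt_of_maps_to
      (t := Finset.powersetCard 5 (Finset.univ.erase x₀))
    · rw [Finset.card_powersetCard, Finset.card_erase_of_mem (Finset.mem_univ _),
        Finset.card_univ, hX, Finset.card_univ, Fintype.card_prod, Fintype.card_bool,
        ← Nat.card_eq_fintype_card, hn5]
      decide
    · intro pb _
      refine Finset.mem_powersetCard.mpr ⟨Finset.erase_subset_erase _ (Finset.subset_univ _), ?_⟩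
      rw [Finset.card_erase_of_mem (hrepmem _), hrepcard _ (hBcard pb)]
  obtain ⟨⟨P, b⟩, -, ⟨P', b'⟩, -, hne, heq⟩ := hpig
  have heq' : rep (Bs (P, b)) = rep (Bs (P', b')) := by
    rw [← Finset.insert_erase (hrepmem (Bs (P, b))), heq, Finset.insert_erase (hrepmem _)]
  have hPP' : P' ≠ P := by
    rintro rfl
    have hb : b ≠ b' := fun h => hne (by rw [h])
    have h12 : rep (A₁ P') = rep (A₂ P') := by
      rw [hBsdef, hBsdef] at heq'
      cases b <;> cases b'
      · exact absurd rfl hb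
      · simpa using heq'.symm
      · simpa using heq'
      · exact absurd rfl hb
    obtain ⟨-, -, hn1, hn2, -⟩ := hA P'
    rcases hrep (A₁ P') with h1 | h1 <;> rcases hrep (A₂ P') with h2 | h2
    · exact hn1 (by rw [← h1, ← h2, h12])
    · exact hn2 (by rw [← h1, h12, h2])
    · exact hn2 (by rw [← compl_compl (A₁ P'), ← h1, h12, h2])
    · exact hn1 (compl_injective (by rw [← h1, ← h2, h12]))
  have hdata : ∀ (P : Sylow 5 G) (b : Bool),
      (∀ g ∈ Subgroup.normalizer ((P : Subgroup G) : Set G),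
        g • Bs (P, b) = Bs (P, b) ∨ g • Bs (P, b) = (Bs (P, b))ᶜ) ∧
      (∃ f ∈ Subgroup.normalizer ((P : Subgroup G) : Set G), f • Bs (P, b) = (Bs (P, b))ᶜ) ∧
      (∀ q ∈ (P : Subgroup G), q • Bs (P, b) = Bs (P, b)) := by
    intro P b
    obtain ⟨-, -, -, -, h1, h2, h3, h4, h5', h6⟩ := hA P
    rw [hBsdef]
    cases b
    · exact ⟨h2, h4, h6⟩
    · exact ⟨h1, h3, h5'⟩
  obtain ⟨hN, ⟨f, hfN, hf⟩, hQB⟩ := hdata P b
  obtain ⟨hN'0, -, -⟩ := hdata P' b'
  have hrel : Bs (P', b') = Bs (P, b) ∨ Bs (P', b') = (Bs (P, b))ᶜ := by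
    rcases hrep (Bs (P, b)) with h1 | h1 <;> rcases hrep (Bs (P', b')) with h2 | h2
    · left; rw [← h2, ← heq', h1]
    · right; rw [← compl_compl (Bs (P', b')), ← h2, ← heq', h1]
    · right; rw [← h2, ← heq', h1]
    · left; exact compl_injective (by rw [← h2, ← heq', h1])
  have hN' : ∀ g ∈ Subgroup.normalizer ((P' : Subgroup G) : Set G),
      g • Bs (P, b) = Bs (P, b) ∨ g • Bs (P, b) = (Bs (P, b))ᶜ := by
    intro g hg
    rcases hrel with h | h
    · rw [← h]; exact hN'0 g hg
    · have h' : Bs (P, b) = (Bs (P', b'))ᶜ := by rw [h, compl_compl]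
      rcases hN'0 g hg with h2 | h2
      · left; rw [h', f2_smul_compl, h2]
      · right; rw [h', f2_smul_compl, h2]
  refine f2_core hG hX (fun Q hQ => (h5 Q hQ).1) h11 hfix5 hfix3 (P : Subgroup G)
    (P' : Subgroup G) (hcard5 P) (hcard5 P') ?_ (Bs (P, b)) (hBcard _) hN hN' f hfN hf hQB
  intro h
  exact hPP' (Sylow.ext h)

end Cfsg.Agent.Lib.helper16.M11U
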