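import Mathlib
import Cfsg.Agent.Lib.helper68.HallPet
import Cfsg.Agent.Lib.helper3.PGroupFrattini

set_option autoImplicit false

namespace Cfsg.Agent.Lib.helper79.P3

open Cfsg.Agent.Lib.helper68

/-- FRAT (racing copy by helper16): `gam G 2` lies in the Frattini subgroup of the `3`-group `G`. -/
theorem h16_p3_frat {G : Type*} [Group G] [Finite G] (n : ℕ) (hn : 3 ≤ n) (hG : Nat.card G = 3 ^ n)
    (H : Subgroup G) (h : H ⊔ gam G 2 = ⊤) : H = ⊤ := by
  haveI : Fact (Nat.Prime 3) := ⟨Nat.prime_three⟩
  have hP : IsPGroup 3 G := IsPGroup.of_card hG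
  have hle : gam G 2 ≤ frattini G := by
    have h1 : gam G 2 = commutator G := by
      unfold gam
      show (⊤ : Subgroup G).lowerCentralSeries 1 = commutator G
      rw [Subgroup.lowerCentralSeries_succ, Subgroup.lowerCentralSeries_zero]
      rfl
    rw [h1]
    exact Cfsg.Agent.Lib.helper3.commutator_le_frattini hP
  apply frattini_nongenerating
  exact top_le_iff.mp (h ▸ sup_le_sup_left hle H)

end Cfsg.Agent.Lib.helper79.P3
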