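import Mathlib
import Cfsg.Agent.Lib.helper3.PGroupNormal

set_option autoImplicit false

namespace Cfsg.Agent.Lib.helper79.P3

/-- SYL9 (racing copy by helper16). -/
theorem h16_p3_sylow9 {G : Type*} [Group G] [Finite G] (hG : Nat.card G = 81)
    (hZ : Nat.card (Subgroup.center G) = 3) (M : Subgroup G) (hM : Nat.card M = 27)
    (hMc : ∀ a ∈ M, ∀ b ∈ M, a * b = b * a) (hMe : ∀ a ∈ M, a ^ 3 = 1) :
    ∃ W : Sylow 3 (Equiv.Perm (Fin 9)), Nonempty (G ≃* ↥(W : Subgroup (Equiv.Perm (Fin 9)))) := by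
  classical
  haveI : Fact (Nat.Prime 3) := ⟨Nat.prime_three⟩
  have hP : IsPGroup 3 G := IsPGroup.of_card (n := 4) (by rw [hG]; norm_num)
  letI : CommGroup ↥M := { (inferInstance : Group ↥M) with
    mul_comm := fun a b => Subtype.ext (hMc a a.2 b b.2) }
  have hM3 : ∀ m : ↥M, m ^ 3 = 1 := fun m => Subtype.ext (by simpa using hMe m m.2)
  set Z' : Subgroup ↥M := (Subgroup.center G).subgroupOf M with hZ'
  have hZ'card : Nat.card Z' ≤ 3 := by
    rw [← hZ]
    exact Nat.card_le_card_of_injective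
      (fun z : Z' => (⟨((z : ↥M) : G), Subgroup.mem_subgroupOf.mp z.2⟩ : Subgroup.center G)) (by
      intro a b hab
      have := congrArg (fun t : Subgroup.center G => (t : G)) hab
      exact Subtype.ext (Subtype.ext this))
  obtain ⟨B, -, hBZ, hmax⟩ := Finite.exists_le_maximal
    (p := fun B : Subgroup ↥M => B ⊓ Z' = ⊥) (a := ⊥) (bot_inf_eq _)
  have hcover : ∀ m : ↥M, m ∈ B ⊔ Z' := by
    intro m
    by_contra hm
    have hp : (B ⊔ Subgroup.zpowers m) ⊓ Z' = ⊥ := by
      rw [eq_bot_iff]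
      intro g hg
      rw [Subgroup.mem_inf] at hg
      obtain ⟨hg1, hg2⟩ := hg
      obtain ⟨b, hb, y, hy, rfl⟩ := Subgroup.mem_sup.mp hg1
      rw [Subgroup.mem_bot]
      by_cases hy1 : y = 1
      · subst hy1
        rw [mul_one] at hg2 ⊢
        have hbb : b ∈ B ⊓ Z' := ⟨hb, hg2⟩
        rw [hBZ] at hbb
        exact Subgroup.mem_bot.mp hbb
      · exfalso
        apply hm
        have hyBZ : y ∈ B ⊔ Z' := by
          have hyy : y = b⁻¹ * (b * y) := by group
          rw [hyy]
          exact Subgroup.mul_mem_sup (B.inv_mem hb) hg2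
        obtain ⟨k, rfl⟩ := Subgroup.mem_zpowers_iff.mp hy
        have hm3 : m ^ (3 : ℤ) = 1 := by exact_mod_cast hM3 m
        have hk : k % 3 + 3 * (k / 3) = k := by omega
        have hred : m ^ k = m ^ (k % 3) := by
          conv_lhs => rw [← hk]
          rw [zpow_add, zpow_mul, hm3, one_zpow, mul_one]
        have h012 : k % 3 = 0 ∨ k % 3 = 1 ∨ k % 3 = 2 := by omega
        rcases h012 with h0 | h1 | h2
        · exact absurd (by rw [hred, h0, zpow_zero]) hy1
        · rw [hred, h1, zpow_one] at hyBZ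
          exact hyBZ
        · rw [hred, h2] at hyBZ
          have hmm : m = (m ^ (2 : ℤ)) ^ (2 : ℤ) := by
            rw [← zpow_mul]
            have h4 : m ^ ((2 : ℤ) * 2) = m ^ (3 : ℤ) * m := by
              rw [← zpow_add_one]
              norm_num
            rw [h4, hm3, one_mul]
          rw [hmm]
          exact Subgroup.zpow_mem _ hyBZ 2
    have hle : B ⊔ Subgroup.zpowers m ≤ B := hmax hp le_sup_left
    exact hm (Subgroup.mem_sup_left (hle (Subgroup.mem_sup_right (Subgroup.mem_zpowers m))))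
  have hcard : 27 ≤ Nat.card B * 3 := by
    have hsurj : Function.Surjective (fun q : B × Z' => ((q.1 : ↥M) * (q.2 : ↥M) : ↥M)) := by
      intro m
      obtain ⟨b, hb, z, hz, rfl⟩ := Subgroup.mem_sup.mp (hcover m)
      exact ⟨(⟨b, hb⟩, ⟨z, hz⟩), rfl⟩
    have h1 := Nat.card_le_card_of_surjective _ hsurj
    rw [hM, Nat.card_prod] at h1
    calc 27 ≤ Nat.card B * Nat.card Z' := h1
      _ ≤ Nat.card B * 3 := Nat.mul_le_mul_left _ hZ'card
  have hBdvd : Nat.card B ∣ 27 := by
    rw [← hM]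
    exact Subgroup.card_subgroup_dvd_card B
  set B₀ : Subgroup G := B.map M.subtype with hB₀
  have hB₀card : Nat.card B₀ = Nat.card B :=
    (Nat.card_congr (Subgroup.equivMapOfInjective B M.subtype M.subtype_injective).toEquiv).symm
  have hcore : B₀.normalCore = ⊥ := by
    by_contra hne
    obtain ⟨z, hzN, hzC, hz1, -⟩ :=
      Cfsg.Agent.Lib.helper3.exists_central_of_normal_ne_bot hP B₀.normalCore hne
    have hzB : z ∈ B₀ := Subgroup.normalCore_le B₀ hzN
    obtain ⟨b, hb, rfl⟩ := Subgroup.mem_map.mp hzB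
    have hbb : b ∈ B ⊓ Z' := ⟨hb, Subgroup.mem_subgroupOf.mpr hzC⟩
    rw [hBZ] at hbb
    apply hz1
    rw [Subgroup.mem_bot.mp hbb]
    rfl
  have hinj : Function.Injective (MulAction.toPermHom G (G ⧸ B₀)) := by
    rw [← MonoidHom.ker_eq_bot_iff, ← Subgroup.normalCore_eq_ker]
    exact hcore
  have hidx : Nat.card B₀ * B₀.index = 81 := by
    rw [Subgroup.card_mul_index, hG]
  have hBpos : 0 < Nat.card B := Nat.card_pos
  have hB9 : Nat.card B = 9 ∨ Nat.card B = 27 := by
    obtain ⟨c, hc⟩ := hBdvd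
    have hc3 : c ≤ 3 := by
      by_contra hcon
      have : Nat.card B * 4 ≤ Nat.card B * c := Nat.mul_le_mul_left _ (by omega)
      omega
    interval_cases c <;> omega
  have hcardQ : Nat.card (G ⧸ B₀) = B₀.index := rfl
  have hidx9 : B₀.index = 9 := by
    rcases hB9 with h9 | h27
    · rw [hB₀card, h9] at hidx
      omega
    · exfalso
      rw [hB₀card, h27] at hidx
      have h3 : B₀.index = 3 := by omega
      have hle := Nat.card_le_card_of_injective _ hinj
      rw [Nat.card_perm, hcardQ, h3, hG] at hle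
      norm_num [Nat.factorial] at hle
  have e : (G ⧸ B₀) ≃ Fin 9 := Finite.equivFinOfCardEq (hcardQ.trans hidx9)
  set φ : G →* Equiv.Perm (Fin 9) :=
    (e.permCongrHom).toMonoidHom.comp (MulAction.toPermHom G (G ⧸ B₀)) with hφ
  have hφinj : Function.Injective φ := by
    rw [hφ]
    exact (e.permCongrHom).injective.comp hinj
  have hfac : (Nat.card (Equiv.Perm (Fin 9))).factorization 3 = 4 := by
    rw [Nat.card_perm, Nat.card_fin]
    have h9 : Nat.factorial 9 = 3 ^ 4 * 4480 := by norm_num [Nat.factorial]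
    rw [h9, Nat.factorization_mul (by norm_num) (by norm_num),
      Nat.Prime.factorization_pow Nat.prime_three]
    simp [Nat.factorization_eq_zero_of_not_dvd (show ¬ 3 ∣ 4480 by norm_num)]
  have hWcard : Nat.card φ.range = 3 ^ (Nat.card (Equiv.Perm (Fin 9))).factorization 3 := by
    rw [hfac, ← Nat.card_congr (MonoidHom.ofInjective hφinj).toEquiv, hG]
    norm_num
  exact ⟨Sylow.ofCard φ.range hWcard, ⟨MonoidHom.ofInjective hφinj⟩⟩

end Cfsg.Agent.Lib.helper79.P3
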