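-- helper16: projective general linear groups over isomorphic rings are isomorphic.
import Mathlib
import Cfsg.Agent.Lib.helper18.PSLCongr

set_option autoImplicit false

namespace Cfsg.Agent.Lib.helper16

/-- A ring isomorphism induces an isomorphism of general linear groups. -/
noncomputable def glCongr {n : Type*} [DecidableEq n] [Fintype n] {R S : Type*} [CommRing R]
    [CommRing S] (e : R ≃+* S) : Matrix.GeneralLinearGroup n R ≃* Matrix.GeneralLinearGroup n S :=
  Units.mapEquiv ((RingEquiv.mapMatrix e : Matrix n n R ≃+* Matrix n n S).toMulEquiv)

/-- A ring isomorphism induces an isomorphism of projective general linear groups. -/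
noncomputable def pglCongr {n : Type*} [DecidableEq n] [Fintype n] {R S : Type*} [CommRing R]
    [CommRing S] (e : R ≃+* S) :
    Matrix.ProjGenLinGroup n R ≃* Matrix.ProjGenLinGroup n S :=
  QuotientGroup.congr (Subgroup.center (Matrix.GeneralLinearGroup n R))
    (Subgroup.center (Matrix.GeneralLinearGroup n S)) (glCongr e)
    (Cfsg.Agent.Lib.helper18.map_center_mulEquiv (glCongr e))

/-- The projective general linear groups over two finite fields of the same order. -/
theorem nonempty_pglCongr_of_card_eq {n : Type*} [DecidableEq n] [Fintype n] {K K' : Type*}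
    [Field K] [Fintype K] [Field K'] [Fintype K'] (h : Fintype.card K = Fintype.card K') :
    Nonempty (Matrix.ProjGenLinGroup n K ≃* Matrix.ProjGenLinGroup n K') :=
  ⟨pglCongr (FiniteField.ringEquivOfCardEq h)⟩

end Cfsg.Agent.Lib.helper16
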