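-- helper16: transitive groups of degree `p + 1` and order `(p + 1) p d` with `d < p`:
-- the Sylow `p`-subgroup of a point stabiliser, double transitivity, three-point stabilisers.
import Mathlib

set_option autoImplicit false
set_option linter.style.haveILetI false
set_option linter.unusedSectionVars false
set_option linter.unusedVariables false

namespace Cfsg.Agent.Lib.helper16.PP1

open MulAction

section Struct

variable {G : Type*} {Ω : Type*} [Group G] [MulAction G Ω]

/-- The order of a doubly transitive group. -/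
theorem two_trans_card [Finite G] [Finite Ω] (h2 : IsMultiplyPretransitive G Ω 2) {a b : Ω}
    (hab : a ≠ b) :
    Nat.card G = Nat.card Ω * (Nat.card Ω - 1) *
      Nat.card (stabilizer G a ⊓ stabilizer G b : Subgroup G) := by
  have hs : ({a, b} : Set Ω).ncard = 2 := Set.ncard_pair hab
  have h := h2.index_of_fixingSubgroup_mul hs
  have hfix : fixingSubgroup G ({a, b} : Set Ω) = stabilizer G a ⊓ stabilizer G b := by
    ext g
    simp [mem_fixingSubgroup_iff, Subgroup.mem_inf]
  rw [hfix] at h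
  have hn2 : 2 ≤ Nat.card Ω := by
    haveI : Nontrivial Ω := ⟨⟨a, b, hab⟩⟩
    exact Finite.one_lt_card
  obtain ⟨m, hm⟩ : ∃ m, Nat.card Ω = m + 2 := ⟨Nat.card Ω - 2, by omega⟩
  rw [hm] at h ⊢
  simp only [Nat.add_sub_cancel] at h
  rw [Nat.factorial_succ, Nat.factorial_succ] at h
  have hpos := Nat.factorial_pos m
  have hidx : (stabilizer G a ⊓ stabilizer G b : Subgroup G).index = (m + 2) * (m + 1) := by
    apply Nat.eq_of_mul_eq_mul_right hpos
    rw [h]; ring
  rw [← Subgroup.index_mul_card (stabilizer G a ⊓ stabilizer G b : Subgroup G), hidx]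
  simp

/-- Structure of a transitive group of degree `p + 1` and order `(p + 1) p d`, `d < p`. -/
theorem pp1_structure [Finite G] [Fintype Ω] [FaithfulSMul G Ω] [IsPretransitive G Ω] {p d : ℕ}
    (hp : p.Prime) (hα : Fintype.card Ω = p + 1) (hG : Nat.card G = (p + 1) * p * d)
    (hd : d < p) (a : Ω) :
    ∃ H : Subgroup G, H ≤ stabilizer G a ∧ Nat.card H = p ∧
      (∀ u ∈ H, u ≠ 1 → ∀ c : Ω, u • c = c → c = a) ∧
      (∀ u ∈ H, ∀ v ∈ H, u * v = v * u) ∧
      (∀ x ∈ stabilizer G a, ∀ u ∈ H, x * u * x⁻¹ ∈ H) ∧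
      (∀ c e : Ω, c ≠ a → e ≠ a → ∃ u ∈ H, u • c = e) ∧
      IsMultiplyPretransitive G Ω 2 ∧
      (∀ g : G, ∀ x y z : Ω, x ≠ y → y ≠ z → x ≠ z → g • x = x → g • y = y → g • z = z →
        g = 1) := by
  classical
  haveI : Fact p.Prime := ⟨hp⟩
  have hp2 := hp.two_le
  have hd0 : 0 < d := by
    rcases Nat.eq_zero_or_pos d with h | h
    · rw [h, mul_zero] at hG
      exact absurd hG Nat.card_pos.ne'
    · exact h
  have hLcard : Nat.card (stabilizer G a) = p * d := by
    have h2 := Subgroup.card_mul_index (stabilizer G a)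
    rw [MulAction.index_stabilizer_of_transitive G a, Nat.card_eq_fintype_card (α := Ω), hα,
      hG] at h2
    have h3 : Nat.card (stabilizer G a) * (p + 1) = (p * d) * (p + 1) := by rw [h2]; ring
    exact Nat.eq_of_mul_eq_mul_right (by omega) h3
  obtain ⟨u₀, hu₀⟩ := exists_prime_orderOf_dvd_card' (G := stabilizer G a) p
    (by rw [hLcard]; exact dvd_mul_right p d)
  obtain ⟨u, hu⟩ : ∃ u : G, u = (u₀ : G) := ⟨_, rfl⟩
  have huo : orderOf u = p := by rw [hu, Subgroup.orderOf_coe]; exact hu₀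
  have hua : u • a = a := by rw [hu]; exact u₀.2
  have hu1 : u ≠ 1 := by
    intro h
    rw [h, orderOf_one] at huo
    omega
  obtain ⟨H, hH⟩ : ∃ H : Subgroup G, H = Subgroup.zpowers u := ⟨_, rfl⟩
  have hHmem : ∀ v, v ∈ H ↔ ∃ i : ℤ, u ^ i = v := by
    intro v
    rw [hH]
    exact Subgroup.mem_zpowers_iff
  have huH : u ∈ H := (hHmem u).mpr ⟨1, zpow_one u⟩
  have hHcard : Nat.card H = p := by rw [hH, Nat.card_zpowers, huo]
  have hHa : H ≤ stabilizer G a := by
    rw [hH]
    exact Subgroup.zpowers_le.mpr (mem_stabilizer_iff.mpr hua)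
  have hHcomm : ∀ v ∈ H, ∀ w ∈ H, v * w = w * v := by
    intro v hv w hw
    obtain ⟨i, rfl⟩ := (hHmem v).mp hv
    obtain ⟨j, rfl⟩ := (hHmem w).mp hw
    rw [← zpow_add, ← zpow_add, add_comm]
  have hgen : ∀ w ∈ H, w ≠ 1 → ∀ v ∈ H, ∃ i : ℤ, w ^ i = v := by
    intro w hw hw1 v hv
    have h1 : Subgroup.zpowers (⟨w, hw⟩ : H) = ⊤ :=
      zpowers_eq_top_of_prime_card hHcard (fun h => hw1 (congrArg Subtype.val h))
    have h2 : (⟨v, hv⟩ : H) ∈ Subgroup.zpowers (⟨w, hw⟩ : H) := by rw [h1]; trivial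
    obtain ⟨i, hi⟩ := Subgroup.mem_zpowers_iff.mp h2
    refine ⟨i, ?_⟩
    have h3 := congrArg Subtype.val hi
    simpa using h3
  have hHfix : ∀ v ∈ H, v ≠ 1 → ∀ c : Ω, v • c = c → c = a := by
    intro v hv hv1 c hc
    by_contra hca
    have hfixall : ∀ w ∈ H, w • c = c := by
      intro w hw
      obtain ⟨i, rfl⟩ := hgen v hv hv1 w hw
      exact mem_stabilizer_iff.mp (Subgroup.zpow_mem _ (mem_stabilizer_iff.mpr hc) i)
    have hP : IsPGroup p H := IsPGroup.of_card (n := 1) (by rw [hHcard, pow_one])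
    have hmod := hP.card_modEq_card_fixedPoints Ω
    have hsub : ({c, a} : Set Ω) ⊆ fixedPoints H Ω := by
      intro x hx
      rw [mem_fixedPoints]
      intro w
      rcases hx with rfl | rfl
      · exact hfixall w w.2
      · exact hHa w.2
    have hcard2 : 2 ≤ (fixedPoints H Ω).ncard := by
      rw [← Set.ncard_pair hca]
      exact Set.ncard_le_ncard hsub (Set.toFinite _)
    rw [Nat.card_coe_set_eq, Nat.card_eq_fintype_card, hα] at hmod
    have hle : (fixedPoints H Ω).ncard ≤ p + 1 := by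
      rw [← hα, ← Nat.card_eq_fintype_card]
      exact Set.ncard_le_card _
    have h1 : (p + 1) % p = 1 := by
      rw [Nat.add_mod_left]
      exact Nat.mod_eq_of_lt (by omega)
    have h2 : (fixedPoints H Ω).ncard % p = 1 := by
      have h3 : (p + 1) % p = (fixedPoints H Ω).ncard % p := hmod
      rw [← h3, h1]
    have h4 := Nat.div_add_mod (fixedPoints H Ω).ncard p
    rw [h2] at h4
    have h5 : 1 ≤ (fixedPoints H Ω).ncard / p := by
      by_contra hcon
      have h6 : (fixedPoints H Ω).ncard / p = 0 := Nat.lt_one_iff.mp (not_le.mp hcon)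
      rw [h6, mul_zero] at h4
      omega
    have h7 : p ≤ p * ((fixedPoints H Ω).ncard / p) := Nat.le_mul_of_pos_right p h5
    have h8 : p + 1 ≤ (fixedPoints H Ω).ncard := by
      obtain ⟨k, hk⟩ : ∃ k, k = p * ((fixedPoints H Ω).ncard / p) := ⟨_, rfl⟩
      rw [← hk] at h4 h7
      omega
    have hall : fixedPoints H Ω = Set.univ := by
      apply Set.eq_of_subset_of_ncard_le (Set.subset_univ _) _ (Set.toFinite _)
      rw [Set.ncard_univ, Nat.card_eq_fintype_card, hα]
      exact h8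
    apply hu1
    apply FaithfulSMul.eq_of_smul_eq_smul (α := Ω)
    intro x
    rw [one_smul]
    have hx : x ∈ fixedPoints H Ω := by rw [hall]; trivial
    exact hx ⟨u, huH⟩
  have htransH : ∀ c e : Ω, c ≠ a → e ≠ a → ∃ v ∈ H, v • c = e := by
    intro c e hc he
    have hmem : ∀ v : H, (v : G) • c ≠ a := by
      intro v h
      apply hc
      have hva : (v : G) • a = a := hHa v.2
      exact MulAction.injective (v : G) (h.trans hva.symm)
    have hinj : Function.Injective
        (fun v : H => (⟨(v : G) • c, hmem v⟩ : {e : Ω // e ≠ a})) := by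
      intro v w hvw
      have h1 : (v : G) • c = (w : G) • c := congrArg Subtype.val hvw
      have h2 : ((w : G)⁻¹ * (v : G)) • c = c := by
        rw [mul_smul, h1, inv_smul_smul]
      by_contra hne
      have h3 : (w : G)⁻¹ * (v : G) ≠ 1 := by
        intro h
        apply hne
        apply Subtype.ext
        exact (inv_mul_eq_one.mp h).symm
      exact hc (hHfix _ (H.mul_mem (H.inv_mem w.2) v.2) h3 c h2)
    have hcard : Nat.card H = Nat.card {e : Ω // e ≠ a} := by
      have h1 : Nat.card {e : Ω // e ≠ a} = Fintype.card Ω - 1 := by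
        rw [Nat.card_eq_fintype_card, Fintype.card_subtype, Finset.filter_ne',
          Finset.card_erase_of_mem (Finset.mem_univ a), Finset.card_univ]
      rw [h1, hHcard, hα]
      omega
    have hbij := (Nat.bijective_iff_injective_and_card _).mpr ⟨hinj, hcard⟩
    obtain ⟨v, hv⟩ := hbij.2 ⟨e, he⟩
    exact ⟨v, v.2, congrArg Subtype.val hv⟩
  have hnorm : ∀ x ∈ stabilizer G a, ∀ v ∈ H, x * v * x⁻¹ ∈ H := by
    intro x hx
    have hkey : x * u * x⁻¹ ∈ H := by
      by_contra hy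
      have hmemL : ∀ vw : H × H, (vw.1 : G) * (x * (vw.2 : G) * x⁻¹) ∈ stabilizer G a := by
        intro vw
        exact Subgroup.mul_mem _ (hHa vw.1.2)
          (Subgroup.mul_mem _ (Subgroup.mul_mem _ hx (hHa vw.2.2)) (Subgroup.inv_mem _ hx))
      have hinj : Function.Injective (fun vw : H × H =>
          (⟨(vw.1 : G) * (x * (vw.2 : G) * x⁻¹), hmemL vw⟩ : stabilizer G a)) := by
        rintro ⟨v₁, w₁⟩ ⟨v₂, w₂⟩ h
        have h1 : (v₁ : G) * (x * (w₁ : G) * x⁻¹) = (v₂ : G) * (x * (w₂ : G) * x⁻¹) :=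
          congrArg Subtype.val h
        have h2 : x * ((w₂ : G) * (w₁ : G)⁻¹) * x⁻¹ = (v₂ : G)⁻¹ * (v₁ : G) := by
          have e1 : x * ((w₂ : G) * (w₁ : G)⁻¹) * x⁻¹
              = (x * (w₂ : G) * x⁻¹) * (x * (w₁ : G) * x⁻¹)⁻¹ := by group
          have e2 : x * (w₂ : G) * x⁻¹ = (v₂ : G)⁻¹ * ((v₁ : G) * (x * (w₁ : G) * x⁻¹)) := by
            rw [h1]; group
          rw [e1, e2]; group
        have hw : (w₂ : G) * (w₁ : G)⁻¹ = 1 := by
          by_contra hw1
          obtain ⟨i, hi⟩ := hgen _ (H.mul_mem w₂.2 (H.inv_mem w₁.2)) hw1 u huH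
          apply hy
          rw [← hi, ← conj_zpow, h2]
          exact H.zpow_mem (H.mul_mem (H.inv_mem v₂.2) v₁.2) i
        have hw' : w₁ = w₂ := by
          apply Subtype.ext
          exact (mul_inv_eq_one.mp hw).symm
        have hv' : v₁ = v₂ := by
          apply Subtype.ext
          rw [hw'] at h1
          exact mul_right_cancel h1
        rw [hv', hw']
      have hle := Nat.card_le_card_of_injective _ hinj
      rw [Nat.card_prod, hHcard, hLcard] at hle
      have : p ≤ d := Nat.le_of_mul_le_mul_left hle (by omega)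
      omega
    intro v hv
    obtain ⟨i, rfl⟩ := (hHmem v).mp hv
    rw [← conj_zpow]
    exact H.zpow_mem hkey i
  have h2t : IsMultiplyPretransitive G Ω 2 := by
    rw [is_two_pretransitive_iff]
    intro x y x' y' hxy hxy'
    obtain ⟨g₁, hg₁⟩ := exists_smul_eq G x a
    obtain ⟨g₂, hg₂⟩ := exists_smul_eq G x' a
    have h1 : g₁ • y ≠ a := by
      rw [← hg₁]
      exact fun h => hxy (MulAction.injective g₁ h).symm
    have h2 : g₂ • y' ≠ a := by
      rw [← hg₂]
      exact fun h => hxy' (MulAction.injective g₂ h).symm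
    obtain ⟨v, hv, hvy⟩ := htransH _ _ h1 h2
    have hva : v • a = a := hHa hv
    refine ⟨g₂⁻¹ * v * g₁, ?_, ?_⟩
    · rw [mul_smul, mul_smul, hg₁, hva, inv_smul_eq_iff, hg₂]
    · rw [mul_smul, mul_smul, hvy, inv_smul_smul]
  refine ⟨H, hHa, hHcard, hHfix, hHcomm, hnorm, htransH, h2t, ?_⟩
  intro g x y z hxy hyz hxz hgx hgy hgz
  obtain ⟨h, hh⟩ := exists_smul_eq G x a
  have hb' : h • y ≠ a := by
    rw [← hh]
    exact fun e => hxy (MulAction.injective h e).symm
  have hc' : h • z ≠ a := by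
    rw [← hh]
    exact fun e => hxz (MulAction.injective h e).symm
  have hbc' : h • y ≠ h • z := fun e => hyz (MulAction.injective h e)
  have hg'a : (h * g * h⁻¹) • a = a := by
    rw [mul_smul, mul_smul, inv_smul_eq_iff.mpr hh.symm, hgx, hh]
  have hg'b : (h * g * h⁻¹) • (h • y) = h • y := by
    rw [mul_smul, mul_smul, inv_smul_smul, hgy]
  have hg'c : (h * g * h⁻¹) • (h • z) = h • z := by
    rw [mul_smul, mul_smul, inv_smul_smul, hgz]
  obtain ⟨g', hg'⟩ : ∃ g' : G, g' = h * g * h⁻¹ := ⟨_, rfl⟩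
  rw [← hg'] at hg'a hg'b hg'c
  obtain ⟨u₁, hu₁H, hu₁⟩ := htransH _ _ hb' hc'
  have hu₁1 : u₁ ≠ 1 := by
    intro e
    rw [e, one_smul] at hu₁
    exact hbc' hu₁
  have hconj : g' * u₁ * g'⁻¹ ∈ H := hnorm g' (mem_stabilizer_iff.mpr hg'a) u₁ hu₁H
  have hcomm1 : g' * u₁ = u₁ * g' := by
    have h1 : (u₁⁻¹ * (g' * u₁ * g'⁻¹)) • (h • y) = h • y := by
      rw [mul_smul, mul_smul, mul_smul, inv_smul_eq_iff.mpr hg'b.symm, hu₁, hg'c,
        inv_smul_eq_iff, hu₁]
    have h2 : u₁⁻¹ * (g' * u₁ * g'⁻¹) = 1 := by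
      by_contra hne
      exact hb' (hHfix _ (H.mul_mem (H.inv_mem hu₁H) hconj) hne _ h1)
    have h3 : g' * u₁ * g'⁻¹ = u₁ := by
      have e1 : g' * u₁ * g'⁻¹ = u₁ * (u₁⁻¹ * (g' * u₁ * g'⁻¹)) := by group
      rw [e1, h2, mul_one]
    calc g' * u₁ = (g' * u₁ * g'⁻¹) * g' := by group
      _ = u₁ * g' := by rw [h3]
  have hcommall : ∀ v ∈ H, g' * v = v * g' := by
    intro v hv
    obtain ⟨i, rfl⟩ := hgen u₁ hu₁H hu₁1 v hv
    exact (Commute.zpow_right hcomm1 i).eq
  have hg'1 : g' = 1 := by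
    apply FaithfulSMul.eq_of_smul_eq_smul (α := Ω)
    intro w
    rw [one_smul]
    by_cases hw : w = a
    · rw [hw]; exact hg'a
    · obtain ⟨v, hv, hvw⟩ := htransH _ _ hb' hw
      rw [← hvw, ← mul_smul, hcommall v hv, mul_smul, hg'b]
  have e1 : g = h⁻¹ * g' * h := by rw [hg']; group
  rw [e1, hg'1]
  group

end Struct

end Cfsg.Agent.Lib.helper16.PP1
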