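-- helper16: a doubly transitive group of degree `p + 1` with a regular normal subgroup of even
-- order and a cyclic regular Sylow subgroup in the point stabiliser is a group of semi-affine
-- maps of a field with `2^n` elements.
import Mathlib
import Cfsg.Agent.Lib.helper16.ZassAbField
import Cfsg.Agent.Lib.helper16.FieldIrr
import Cfsg.Agent.Lib.helper16.PP1Struct

set_option autoImplicit false
set_option linter.style.haveILetI false
set_option linter.unusedSectionVars false
set_option linter.unusedVariables false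

namespace Cfsg.Agent.Lib.helper16.PP1

open MulAction Cfsg.Agent.Lib.helper16.ZassAb

/-- The ring automorphisms of a Galois field `GF(p^n)` form a group of order `n`. -/
theorem card_ringAut_galoisField (p n : ℕ) [Fact p.Prime] (hn : n ≠ 0) :
    Nat.card (GaloisField p n ≃+* GaloisField p n) = n := by
  have hcomm : ∀ (φ : GaloisField p n ≃+* GaloisField p n) (x : ZMod p),
      φ (algebraMap (ZMod p) (GaloisField p n) x) = algebraMap (ZMod p) (GaloisField p n) x := by
    intro φ x
    have h1 : (φ : GaloisField p n →+* GaloisField p n).comp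
        (algebraMap (ZMod p) (GaloisField p n)) = algebraMap (ZMod p) (GaloisField p n) :=
      Subsingleton.elim _ _
    exact DFunLike.congr_fun h1 x
  have e : (GaloisField p n ≃+* GaloisField p n) ≃
      (GaloisField p n ≃ₐ[ZMod p] GaloisField p n) :=
    { toFun := fun φ => AlgEquiv.ofRingEquiv (f := φ) (hcomm φ)
      invFun := fun ψ => ψ.toRingEquiv
      left_inv := fun φ => RingEquiv.ext (fun x => rfl)
      right_inv := fun ψ => AlgEquiv.ext (fun x => rfl) }
  rw [Nat.card_congr e, IsGalois.card_aut_eq_finrank, GaloisField.finrank p hn]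

section Aff

variable {G : Type*} {Ω : Type*} [Group G] [MulAction G Ω]

theorem affine_case [Finite G] [Fintype Ω] [FaithfulSMul G Ω] {a b : Ω} (hab : a ≠ b)
    (H : Subgroup G) (hHa : H ≤ stabilizer G a) (hHcard : Nat.card H + 1 = Fintype.card Ω)
    (hHfix : ∀ u ∈ H, u ≠ 1 → ∀ c : Ω, u • c = c → c = a)
    (hHcomm : ∀ u ∈ H, ∀ v ∈ H, u * v = v * u)
    (hnorm : ∀ x ∈ stabilizer G a, ∀ u ∈ H, x * u * x⁻¹ ∈ H)
    (htransH : ∀ c e : Ω, c ≠ a → e ≠ a → ∃ u ∈ H, u • c = e)
    (N : Subgroup G) (hN : N.Normal) (hNtr : ∀ x y : Ω, ∃ n ∈ N, n • x = y)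
    (hNfree : ∀ n ∈ N, ∀ x : Ω, n • x = x → n = 1)
    (heven : Even (Fintype.card Ω)) :
    ∃ n : ℕ, n ≠ 0 ∧ Fintype.card Ω = 2 ^ n ∧ ∃ e : Ω ≃ GaloisField 2 n,
      (∀ g : G, ∃ (s : (GaloisField 2 n)ˣ) (β : GaloisField 2 n)
        (φ : GaloisField 2 n ≃+* GaloisField 2 n),
        ∀ x : Ω, e (g • x) = (s : GaloisField 2 n) * φ (e x) + β) ∧
      Nat.card ↥(stabilizer G a ⊓ stabilizer G b : Subgroup G) ∣ n := by
  classical
  have hba : b ≠ a := Ne.symm hab
  have hNbij : Function.Bijective (fun n : N => (n : G) • a) := by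
    constructor
    · intro n m h
      have h' : (n : G) • a = (m : G) • a := h
      have h1 : ((m : G)⁻¹ * (n : G)) • a = a := by rw [mul_smul, h', inv_smul_smul]
      have h2 := hNfree _ (N.mul_mem (N.inv_mem m.2) n.2) a h1
      apply Subtype.ext
      exact (inv_mul_eq_one.mp h2).symm
    · intro y
      obtain ⟨n, hn, hny⟩ := hNtr a y
      exact ⟨⟨n, hn⟩, hny⟩
  have hNcard : Nat.card N = Fintype.card Ω := by
    rw [← Nat.card_eq_fintype_card]
    exact Nat.card_congr (Equiv.ofBijective _ hNbij)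
  have hconjfree : ∀ u ∈ H, u ≠ 1 → ∀ n ∈ N, u * n * u⁻¹ = n → n = 1 := by
    intro u hu hu1 n hn h
    have hua : u • a = a := hHa hu
    have h1 : u • (n • a) = n • a := by
      have e1 : u * n = n * u := by
        calc u * n = (u * n * u⁻¹) * u := by group
          _ = n * u := by rw [h]
      rw [← mul_smul, e1, mul_smul, hua]
    exact hNfree n hn a (hHfix u hu hu1 _ h1)
  haveI : Fact (Nat.Prime 2) := ⟨Nat.prime_two⟩
  obtain ⟨j, hj⟩ := exists_prime_orderOf_dvd_card' (G := N) 2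
    (by rw [hNcard]; exact even_iff_two_dvd.mp heven)
  have hj1 : (j : G) ≠ 1 := by
    intro h
    have h1 : j = 1 := Subtype.ext h
    rw [h1, orderOf_one] at hj
    omega
  have hj2 : (j : G) * (j : G) = 1 := by
    have h1 := pow_orderOf_eq_one j
    rw [hj] at h1
    have h2 := congrArg Subtype.val h1
    simpa [sq] using h2
  have hconjmem : ∀ u : H, (u : G) * (j : G) * (u : G)⁻¹ ∈ N := fun u => hN.conj_mem _ j.2 _
  haveI : Fintype N := Fintype.ofFinite N
  have hmemj : ∀ u : H, (⟨(u : G) * (j : G) * (u : G)⁻¹, hconjmem u⟩ : N) ≠ 1 := by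
    intro u h
    apply hj1
    have h1 : (u : G) * (j : G) * (u : G)⁻¹ = 1 := congrArg Subtype.val h
    have e : (j : G) = (u : G)⁻¹ * ((u : G) * (j : G) * (u : G)⁻¹) * (u : G) := by group
    rw [e, h1]
    group
  have hinj : Function.Injective (fun u : H =>
      (⟨⟨(u : G) * (j : G) * (u : G)⁻¹, hconjmem u⟩, hmemj u⟩ : {n : N // n ≠ 1})) := by
    intro u v h
    have h1 : (u : G) * (j : G) * (u : G)⁻¹ = (v : G) * (j : G) * (v : G)⁻¹ :=
      congrArg (fun x : {n : N // n ≠ 1} => ((x : N) : G)) h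
    by_contra hne
    have h3 : (v : G)⁻¹ * (u : G) ≠ 1 := fun h' =>
      hne (Subtype.ext (inv_mul_eq_one.mp h').symm)
    have h4 : ((v : G)⁻¹ * (u : G)) * (j : G) * ((v : G)⁻¹ * (u : G))⁻¹ = (j : G) := by
      have e : ((v : G)⁻¹ * (u : G)) * (j : G) * ((v : G)⁻¹ * (u : G))⁻¹
          = (v : G)⁻¹ * ((u : G) * (j : G) * (u : G)⁻¹) * (v : G) := by group
      rw [e, h1]
      group
    exact hj1 (hconjfree _ (H.mul_mem (H.inv_mem v.2) u.2) h3 _ j.2 h4)
  have hcardHN : Nat.card H = Nat.card {n : N // n ≠ 1} := by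
    have h1 : Nat.card {n : N // n ≠ 1} = Fintype.card N - 1 := by
      rw [Nat.card_eq_fintype_card, Fintype.card_subtype, Finset.filter_ne',
        Finset.card_erase_of_mem (Finset.mem_univ 1), Finset.card_univ]
    rw [h1, ← Nat.card_eq_fintype_card, hNcard]
    omega
  have hbij := (Nat.bijective_iff_injective_and_card _).mpr ⟨hinj, hcardHN⟩
  have hsq : ∀ n ∈ N, n * n = 1 := by
    intro n hn
    by_cases hn1 : n = 1
    · rw [hn1, mul_one]
    · obtain ⟨u, hu⟩ := hbij.2 ⟨⟨n, hn⟩, fun h => hn1 (congrArg Subtype.val h)⟩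
      have h1 : (u : G) * (j : G) * (u : G)⁻¹ = n :=
        congrArg (fun x : {n : N // n ≠ 1} => ((x : N) : G)) hu
      rw [← h1]
      have e : (u : G) * (j : G) * (u : G)⁻¹ * ((u : G) * (j : G) * (u : G)⁻¹)
          = (u : G) * ((j : G) * (j : G)) * (u : G)⁻¹ := by group
      rw [e, hj2]
      group
  have hNcomm : ∀ n ∈ N, ∀ m ∈ N, n * m = m * n := by
    intro n hn m hm
    have e1 : (n * m)⁻¹ = n * m := inv_eq_of_mul_eq_one_left (hsq _ (N.mul_mem hn hm))
    have e2 : n⁻¹ = n := inv_eq_of_mul_eq_one_left (hsq n hn)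
    have e3 : m⁻¹ = m := inv_eq_of_mul_eq_one_left (hsq m hm)
    calc n * m = (n * m)⁻¹ := e1.symm
      _ = m⁻¹ * n⁻¹ := mul_inv_rev n m
      _ = m * n := by rw [e2, e3]
  letI cg : CommGroup N :=
    { (inferInstance : Group N) with
      mul_comm := fun n m => Subtype.ext (hNcomm n n.2 m m.2) }
  let conj : H → N → N := fun u n => ⟨(u : G) * (n : G) * (u : G)⁻¹, hN.conj_mem _ n.2 _⟩
  have hconj : ∀ (u : H) (n : N), ((conj u n : N) : G) = (u : G) * (n : G) * (u : G)⁻¹ :=
    fun u n => rfl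
  let ρ : H →* AddMonoid.End (Additive N) :=
    { toFun := fun k => AddMonoidHom.mk' (fun z => Additive.ofMul (conj k (Additive.toMul z)))
        (by
          intro z w
          show Additive.ofMul (conj k (Additive.toMul z * Additive.toMul w)) =
            Additive.ofMul (conj k (Additive.toMul z) * conj k (Additive.toMul w))
          congr 1
          apply Subtype.ext
          rw [Subgroup.coe_mul, hconj, hconj, hconj, Subgroup.coe_mul]
          group)
      map_one' := by
        apply AddMonoidHom.ext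
        intro z
        show Additive.ofMul (conj 1 (Additive.toMul z)) = z
        have h1 : conj 1 (Additive.toMul z) = Additive.toMul z := by
          apply Subtype.ext
          rw [hconj]
          simp
        rw [h1]
        rfl
      map_mul' := by
        intro k k'
        apply AddMonoidHom.ext
        intro z
        show Additive.ofMul (conj (k * k') (Additive.toMul z)) =
          Additive.ofMul (conj k (conj k' (Additive.toMul z)))
        congr 1
        apply Subtype.ext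
        rw [hconj, hconj, hconj, Subgroup.coe_mul]
        group }
  have hρ : ∀ (k : H) (z : Additive N),
      ((Additive.toMul (ρ k z) : N) : G) = (k : G) * ((Additive.toMul z : N) : G) * (k : G)⁻¹ :=
    fun k z => rfl
  have hfree : ∀ k : H, k ≠ 1 → ∀ z : Additive N, ρ k z = z → z = 0 := by
    intro k hk z hz
    have hc : (k : G) * ((Additive.toMul z : N) : G) * (k : G)⁻¹
        = ((Additive.toMul z : N) : G) := by
      rw [← hρ, hz]
    have h1 := hconjfree (k : G) k.2 (fun h => hk (Subtype.ext h)) _ (Additive.toMul z : N).2 hc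
    have h2 : (Additive.toMul z : N) = 1 := Subtype.ext h1
    exact h2
  have hcardA : Nat.card (Additive N) = Nat.card N := rfl
  have hirr : ∀ B : AddSubgroup (Additive N), (∀ k : H, ∀ x ∈ B, ρ k x ∈ B) →
      B = ⊥ ∨ B = ⊤ := by
    intro B hB
    have h1 := card_sub_one_dvd ρ hfree B hB
    have hBpos : 0 < Nat.card B := Nat.card_pos
    obtain ⟨m, hm⟩ := h1
    rcases Nat.eq_zero_or_pos m with h | h
    · left
      rw [h, mul_zero] at hm
      exact AddSubgroup.eq_bot_of_card_eq B (by omega)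
    · right
      have h2 : Nat.card H ≤ Nat.card H * m := Nat.le_mul_of_pos_right _ h
      exact AddSubgroup.eq_top_of_le_card B (by rw [hcardA, hNcard]; omega)
  have hcomm : ∀ u v : H, u * v = v * u := fun u v => Subtype.ext (hHcomm u u.2 v v.2)
  obtain ⟨nb, hnbN, hnb⟩ := hNtr a b
  have he₁ : (Additive.ofMul (⟨nb, hnbN⟩ : N) : Additive N) ≠ 0 := by
    intro h
    have h1 : (⟨nb, hnbN⟩ : N) = 1 := h
    have h2 : nb = 1 := congrArg Subtype.val h1
    rw [h2, one_smul] at hnb
    exact hab hnb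
  obtain ⟨pp, n, hpp, ψ, θ, hn0, hcardA', hψbij, hψadd, hψ1, hρψ, hθ0, hθmul, hθinj⟩ :=
    exists_field_irr ρ hcomm hfree hirr _ he₁
  have hψ0 : ψ 0 = 0 := by
    have h1 := hψadd 0 0
    rw [add_zero] at h1
    have h2 : ψ 0 + ψ 0 = ψ 0 + 0 := by rw [add_zero]; exact h1.symm
    exact add_left_cancel h2
  have hpp2 : pp = 2 := by
    have h1 : ψ (1 + 1) = ψ 0 := by
      rw [hψadd, hψ1, hψ0]
      show Additive.ofMul ((⟨nb, hnbN⟩ : N) * ⟨nb, hnbN⟩) = 0
      have h2 : (⟨nb, hnbN⟩ : N) * ⟨nb, hnbN⟩ = 1 := Subtype.ext (hsq nb hnbN)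
      rw [h2]
      rfl
    have h2 : (1 : GaloisField pp n) + 1 = 0 := hψbij.1 h1
    have h3 : ((2 : ℕ) : GaloisField pp n) = 0 := by
      rw [← h2]
      norm_num
    have h4 : pp ∣ 2 := (CharP.cast_eq_zero_iff (GaloisField pp n) pp 2).mp h3
    exact (Nat.prime_dvd_prime_iff_eq hpp.out Nat.prime_two).mp h4
  subst hpp2
  have hcardΩ : Fintype.card Ω = 2 ^ n := by rw [← hNcard, ← hcardA', hcardA]
  haveI : Fintype (GaloisField 2 n) := Fintype.ofFinite _
  have hθsurj : ∀ κ : GaloisField 2 n, κ ≠ 0 → ∃ u : H, θ u = κ := by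
    have hinjθ : Function.Injective
        (fun u : H => (⟨θ u, hθ0 u⟩ : {z : GaloisField 2 n // z ≠ 0})) :=
      fun u v h => hθinj (congrArg Subtype.val h)
    have hc : Nat.card H = Nat.card {z : GaloisField 2 n // z ≠ 0} := by
      have h1 : Nat.card {z : GaloisField 2 n // z ≠ 0} = Fintype.card (GaloisField 2 n) - 1 := by
        rw [Nat.card_eq_fintype_card, Fintype.card_subtype, Finset.filter_ne',
          Finset.card_erase_of_mem (Finset.mem_univ 0), Finset.card_univ]
      have h2 : Fintype.card (GaloisField 2 n) = 2 ^ n := by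
        rw [← Nat.card_eq_fintype_card]
        exact GaloisField.card 2 n hn0
      rw [h1, h2]
      omega
    have hb := (Nat.bijective_iff_injective_and_card _).mpr ⟨hinjθ, hc⟩
    intro κ hκ
    obtain ⟨u, hu⟩ := hb.2 ⟨κ, hκ⟩
    exact ⟨u, congrArg Subtype.val hu⟩
  obtain ⟨U, hU⟩ : ∃ U : GaloisField 2 n → G,
      ∀ z, U z = ((Additive.toMul (ψ z) : N) : G) := ⟨_, fun _ => rfl⟩
  have hUN : ∀ z, U z ∈ N := fun z => by rw [hU]; exact (Additive.toMul (ψ z) : N).2
  have hUadd : ∀ z w, U (z + w) = U z * U w := by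
    intro z w
    rw [hU, hU, hU, hψadd]
    rfl
  have hU0 : U 0 = 1 := by
    rw [hU, hψ0]
    rfl
  have hU1 : U 1 = nb := by
    rw [hU, hψ1]
    rfl
  have hUinj : ∀ z w, U z = U w → z = w := by
    intro z w h
    apply hψbij.1
    rw [hU, hU] at h
    have h1 : (Additive.toMul (ψ z) : N) = Additive.toMul (ψ w) := Subtype.ext h
    exact h1
  have hUsurj : ∀ m ∈ N, ∃ z, U z = m := by
    intro m hm
    obtain ⟨z, hz⟩ := hψbij.2 (Additive.ofMul (⟨m, hm⟩ : N))
    refine ⟨z, ?_⟩
    rw [hU, hz]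
    rfl
  have hEbij : Function.Bijective (fun z : GaloisField 2 n => U z • a) := by
    constructor
    · intro z w h
      have h' : U z • a = U w • a := h
      apply hUinj
      have h1 : ((U w)⁻¹ * U z) • a = a := by rw [mul_smul, h', inv_smul_smul]
      have h2 := hNfree _ (N.mul_mem (N.inv_mem (hUN w)) (hUN z)) a h1
      exact (inv_mul_eq_one.mp h2).symm
    · intro y
      obtain ⟨m, hm, hmy⟩ := hNtr a y
      obtain ⟨z, hz⟩ := hUsurj m hm
      exact ⟨z, by show U z • a = y; rw [hz, hmy]⟩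
  obtain ⟨E, hE⟩ : ∃ E : GaloisField 2 n ≃ Ω, ∀ z, E z = U z • a :=
    ⟨Equiv.ofBijective _ hEbij, fun z => rfl⟩
  have hNact : ∀ m ∈ N, ∃ β, ∀ z, m • E z = E (z + β) := by
    intro m hm
    obtain ⟨β, hβ⟩ := hUsurj m hm
    refine ⟨β, fun z => ?_⟩
    rw [hE, hE, hUadd, ← mul_smul, ← hβ, hNcomm _ (hUN β) _ (hUN z)]
  -- conjugation in coordinates
  choose cF hcF using fun (k : G) (z : GaloisField 2 n) =>
    hUsurj (k * U z * k⁻¹) (hN.conj_mem _ (hUN z) k)
  have hcFadd : ∀ k z w, cF k (z + w) = cF k z + cF k w := by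
    intro k z w
    apply hUinj
    rw [hcF, hUadd, hUadd, hcF, hcF]
    group
  have hcFmul : ∀ k k' z, cF (k * k') z = cF k (cF k' z) := by
    intro k k' z
    apply hUinj
    rw [hcF, hcF, hcF]
    group
  have hcFone : ∀ z, cF 1 z = z := by
    intro z
    apply hUinj
    rw [hcF]
    group
  have hcFact : ∀ k : G, k • a = a → ∀ z, k • E z = E (cF k z) := by
    intro k hk z
    rw [hE, hE, hcF, mul_smul, mul_smul, inv_smul_eq_iff.mpr hk.symm]
  have hcFH : ∀ u : H, ∀ z, cF (u : G) z = θ u * z := by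
    intro u z
    apply hUinj
    rw [hcF, hU (θ u * z), ← hρψ, hρ, hU]
  have hcF0 : ∀ k, cF k 0 = 0 := by
    intro k
    have h1 := hcFadd k 0 0
    rw [add_zero] at h1
    have h2 : cF k 0 + cF k 0 = cF k 0 + 0 := by rw [add_zero]; exact h1.symm
    exact add_left_cancel h2
  have hKmem : ∀ k : G, k ∈ stabilizer G a ⊓ stabilizer G b ↔ k • a = a ∧ k • b = b := by
    intro k
    rw [Subgroup.mem_inf, mem_stabilizer_iff, mem_stabilizer_iff]
  have hcFK1 : ∀ k : G, k • a = a → k • b = b → cF k 1 = 1 := by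
    intro k hka hkb
    apply hUinj
    rw [hcF, hU1]
    have h1 : ((nb)⁻¹ * (k * nb * k⁻¹)) • a = a := by
      rw [mul_smul, mul_smul, mul_smul, inv_smul_eq_iff.mpr hka.symm, hnb, hkb, inv_smul_eq_iff,
        hnb]
    have h2 := hNfree _ (N.mul_mem (N.inv_mem hnbN) (hN.conj_mem _ hnbN k)) a h1
    exact (inv_mul_eq_one.mp h2).symm
  have hcFKmul : ∀ k : G, k • a = a → k • b = b → ∀ z w, cF k (z * w) = cF k z * cF k w := by
    intro k hka hkb z w
    by_cases hz : z = 0
    · rw [hz, zero_mul, hcF0, zero_mul]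
    · obtain ⟨u, hu⟩ := hθsurj z hz
      have hu' : k * (u : G) * k⁻¹ ∈ H := hnorm k (mem_stabilizer_iff.mpr hka) u u.2
      have hkey : ∀ w', cF k (θ u * w') = θ ⟨_, hu'⟩ * cF k w' := by
        intro w'
        rw [← hcFH u, ← hcFmul, ← hcFH ⟨_, hu'⟩, ← hcFmul]
        congr 1
        group
      have h1 := hkey 1
      rw [mul_one, hcFK1 k hka hkb, mul_one] at h1
      rw [← hu, hkey w, h1]
  -- the homomorphism from the two-point stabiliser to the automorphisms of the field
  let Φ : ↥(stabilizer G a ⊓ stabilizer G b : Subgroup G) →*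
      (GaloisField 2 n ≃+* GaloisField 2 n) :=
    { toFun := fun k =>
        { toFun := cF (k : G)
          invFun := cF ((k : G)⁻¹)
          left_inv := fun z => by rw [← hcFmul, inv_mul_cancel, hcFone]
          right_inv := fun z => by rw [← hcFmul, mul_inv_cancel, hcFone]
          map_mul' := hcFKmul (k : G) ((hKmem _).mp k.2).1 ((hKmem _).mp k.2).2
          map_add' := hcFadd (k : G) }
      map_one' := RingEquiv.ext (fun z => hcFone z)
      map_mul' := fun k k' => RingEquiv.ext (fun z => hcFmul (k : G) (k' : G) z) }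
  have hΦ : ∀ (k : ↥(stabilizer G a ⊓ stabilizer G b : Subgroup G)) (z : GaloisField 2 n),
      Φ k z = cF (k : G) z := fun k z => rfl
  have hΦinj : Function.Injective Φ := by
    rw [injective_iff_map_eq_one]
    intro k hk
    apply Subtype.ext
    apply FaithfulSMul.eq_of_smul_eq_smul (α := Ω)
    intro y
    rw [Subgroup.coe_one, one_smul]
    obtain ⟨z, rfl⟩ := E.surjective y
    have hka := ((hKmem _).mp k.2).1
    rw [hcFact (k : G) hka z, ← hΦ, hk]
    rfl
  have hdvd : Nat.card ↥(stabilizer G a ⊓ stabilizer G b : Subgroup G) ∣ n := by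
    have h1 := Subgroup.card_dvd_of_injective Φ hΦinj
    rwa [card_ringAut_galoisField 2 n hn0] at h1
  refine ⟨n, hn0, hcardΩ, E.symm, ?_, hdvd⟩
  intro g
  obtain ⟨m, hm, hma⟩ := hNtr a (g • a)
  have hg₀a : (m⁻¹ * g) • a = a := by rw [mul_smul, ← hma, inv_smul_smul]
  have hg₀b : (m⁻¹ * g) • b ≠ a := by
    intro h
    exact hba (MulAction.injective (m⁻¹ * g) (h.trans hg₀a.symm))
  obtain ⟨u, hu, hub⟩ := htransH b _ hba hg₀b
  have hua : u • a = a := hHa hu
  have hka : (u⁻¹ * (m⁻¹ * g)) • a = a := by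
    rw [mul_smul, hg₀a, inv_smul_eq_iff, hua]
  have hkb : (u⁻¹ * (m⁻¹ * g)) • b = b := by
    rw [mul_smul, ← hub, inv_smul_smul]
  obtain ⟨β, hβ⟩ := hNact m hm
  refine ⟨Units.mk0 (θ ⟨u, hu⟩) (hθ0 _), β, Φ ⟨_, (hKmem _).mpr ⟨hka, hkb⟩⟩, ?_⟩
  intro x
  rw [Equiv.symm_apply_eq, Units.val_mk0, hΦ]
  obtain ⟨z, rfl⟩ := E.surjective x
  rw [Equiv.symm_apply_apply]
  have e1 : g = m * u * (u⁻¹ * (m⁻¹ * g)) := by group
  have e2 : g • E z = m • (u • ((u⁻¹ * (m⁻¹ * g)) • E z)) := by
    rw [← mul_smul, ← mul_smul, ← e1]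
  rw [e2, hcFact _ hka z, hcFact u hua, hcFH ⟨u, hu⟩, hβ]

end Aff

end Cfsg.Agent.Lib.helper16.PP1
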