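-- helper16: transitive groups of degree `p + 1` and order `(p + 1) p d`, `d < p`: the case
-- analysis (sharply triply transitive, `PSL(2, p)`, or semi-affine over a field of order `2^q`).
import Mathlib
import Cfsg.Prelude.Def_LieExceptional
import Cfsg.Agent.Lib.helper1.Frob
import Cfsg.Agent.Lib.helper16.ZassAbCase
import Cfsg.Agent.Lib.helper16.PP1Aff

set_option autoImplicit false
set_option linter.style.haveILetI false
set_option linter.unusedSectionVars false
set_option linter.unusedVariables false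

namespace Cfsg.Agent.Lib.helper16.PP1

open Cfsg Cfsg.Agent.Lib.helper19 Cfsg.Agent.Lib.helper16.ZassOdd
  Cfsg.Agent.Lib.helper16.ZassSimple Cfsg.Agent.Lib.helper16.Feit MulAction
  Cfsg.Agent.Lib.helper16.ZassAb

open scoped Pointwise

universe u

/-- The dichotomy for Zassenhaus groups with abelian kernel, keeping track of the order of the
two-point stabiliser. -/
theorem zass_ab_result' {G : Type u} {Ω : Type*} [Group G] [Finite G] [MulAction G Ω]
    [Fintype Ω] (hZ : Cfsg.IsZassenhausGroup G Ω) {a b : Ω} (hab : a ≠ b)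
    (H : Subgroup G) (hHa : H ≤ stabilizer G a) (hHcard : Nat.card H + 1 = Fintype.card Ω)
    (hHfix : ∀ u ∈ H, u ≠ 1 → ∀ c : Ω, u • c = c → c = a)
    (hHcomm : ∀ u ∈ H, ∀ v ∈ H, u * v = v * u) :
    (Nat.card ↥(stabilizer G a ⊓ stabilizer G b) = Fintype.card Ω - 2 ∧
      MulAction.IsMultiplyPretransitive G Ω 3 ∧
      ∀ t : Fin 3 ↪ Ω, MulAction.stabilizer G t = ⊥) ∨
    (2 * Nat.card ↥(stabilizer G a ⊓ stabilizer G b) + 2 = Fintype.card Ω ∧
      ∃ (K : Type) (_ : Field K) (_ : Fintype K), ringChar K ≠ 2 ∧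
        Fintype.card K + 1 = Fintype.card Ω ∧
        Nonempty (G ≃* Matrix.ProjectiveSpecialLinearGroup (Fin 2) K)) := by
  obtain ⟨d, hd⟩ : ∃ d, d = Nat.card ↥(stabilizer G a ⊓ stabilizer G b) := ⟨_, rfl⟩
  have hN3 : 3 ≤ Fintype.card Ω := by
    have h3 := zass_three_le_card hZ (Ω := Ω)
    rwa [Nat.card_eq_fintype_card] at h3
  have hbound : Fintype.card Ω - 2 ≤ 2 * d := by
    rcases Nat.even_or_odd d with he | ho
    · rw [hd] at he ⊢
      exact Cfsg.Agent.S0741.result hZ hab he
    · obtain ⟨h, hh⟩ : ∃ h, Fintype.card Ω = h + 1 := ⟨Fintype.card Ω - 1, by omega⟩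
      rcases feit_general (Nat.card G) G rfl hZ hab h d hh hd.symm ho H hHa hHcard hHfix with
        h1 | ⟨-, ⟨u, v, huv⟩, -⟩
      · omega
      · exact absurd (Subtype.ext (hHcomm u u.2 v v.2)) huv
  have hdvd := (two_stab_dvd hZ hab).1
  rw [← hd] at hdvd
  have hdpos : 0 < d := by rw [hd]; exact Nat.card_pos
  have hcases : d = Fintype.card Ω - 2 ∨ 2 * d + 2 = Fintype.card Ω := by
    obtain ⟨m, hm⟩ := hdvd
    have hm1 : 1 ≤ m := by
      by_contra hcon
      have hm0 : m = 0 := by omega
      rw [hm0, mul_zero] at hm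
      omega
    have hm2 : m ≤ 2 := by
      by_contra hcon
      have h3 : 3 ≤ m := by omega
      have h4 : d * 3 ≤ d * m := Nat.mul_le_mul_left d h3
      omega
    rcases Nat.lt_or_ge m 2 with h | h
    · left
      have hm' : m = 1 := by omega
      rw [hm', mul_one] at hm
      exact hm.symm
    · right
      have hm' : m = 2 := by omega
      rw [hm'] at hm
      omega
  rcases hcases with hc | hc
  · left
    rw [← hd]
    exact ⟨hc, sharp3_of_card hZ hab (by rw [← hd]; exact hc)⟩
  · right
    rw [hd] at hc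
    obtain ⟨t, ht2, hta, htb, hinv⟩ := swaps_all hZ hab H hHa hHcard hHfix hHcomm hc
    exact ⟨hc, zass_ab_psl hZ hab H hHa hHcard hHfix hHcomm hc t ht2 hta htb hinv⟩

/-- A finite transitive group in which only the identity fixes two points has a regular normal
subgroup (the Frobenius kernel). -/
theorem exists_regular_normal_of_sharp2 {G : Type*} {Ω : Type*} [Group G] [MulAction G Ω]
    [Finite G] [Finite Ω] [IsPretransitive G Ω] (a : Ω)
    (hsharp : ∀ g : G, ∀ x y : Ω, x ≠ y → g • x = x → g • y = y → g = 1) :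
    ∃ N : Subgroup G, N.Normal ∧ (∀ x y : Ω, ∃ n ∈ N, n • x = y) ∧
      (∀ n ∈ N, ∀ x : Ω, n • x = x → n = 1) := by
  classical
  have hTI : ∀ x ∈ (⊤ : Subgroup G), x ∉ stabilizer G a →
      stabilizer G a ⊓ (MulAut.conj x • stabilizer G a) = ⊥ := by
    intro x _ hx
    rw [eq_bot_iff]
    intro y hy
    obtain ⟨hy1, hy2⟩ := Subgroup.mem_inf.mp hy
    rw [Cfsg.Agent.Lib.helper1.mem_conj_smul, mem_stabilizer_iff] at hy2
    rw [mem_stabilizer_iff] at hy1 hx
    rw [Subgroup.mem_bot]
    apply hsharp y a (x • a) (fun h => hx h.symm) hy1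
    have h1 : y • x • a = x • ((x⁻¹ * y * x) • a) := by
      rw [← mul_smul, ← mul_smul]
      congr 1
      group
    rw [h1, hy2]
  obtain ⟨M, hM, -, hMcard⟩ := Cfsg.Agent.Lib.helper1.frobenius_internal ⊤ (stabilizer G a) hTI
  have hMn : M.Normal := by
    refine ⟨fun x hx g => ?_⟩
    rw [hM] at hx ⊢
    refine ⟨Subgroup.mem_top _, ?_⟩
    rcases hx.2 with h1 | h2
    · left
      rw [h1]
      group
    · right
      intro h _ hcon
      apply h2 (g⁻¹ * h) (Subgroup.mem_top _)
      rw [Cfsg.Agent.Lib.helper1.mem_conj_smul] at hcon ⊢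
      have h3 : (g⁻¹ * h)⁻¹ * x * (g⁻¹ * h) = h⁻¹ * (g * x * g⁻¹) * h := by group
      rw [h3]
      exact hcon
  have hMfree : ∀ n ∈ M, ∀ x : Ω, n • x = x → n = 1 := by
    intro n hn x hx
    rw [hM] at hn
    rcases hn.2 with h1 | h2
    · exact h1
    · exfalso
      obtain ⟨g, hg⟩ := exists_smul_eq G a x
      apply h2 g (Subgroup.mem_top _)
      rw [Cfsg.Agent.Lib.helper1.mem_conj_smul, mem_stabilizer_iff]
      rw [← hg] at hx
      rw [mul_smul, mul_smul, hx, inv_smul_smul]
  have hcard : Nat.card M = Nat.card Ω := by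
    rw [inf_top_eq, Subgroup.card_top] at hMcard
    have h1 := Subgroup.index_mul_card (stabilizer G a)
    rw [index_stabilizer_of_transitive] at h1
    have hpos : 0 < Nat.card (stabilizer G a) := Nat.card_pos
    exact Nat.eq_of_mul_eq_mul_right hpos (hMcard.trans h1.symm)
  have hbij : Function.Bijective (fun n : M => (n : G) • a) := by
    rw [Nat.bijective_iff_injective_and_card]
    refine ⟨?_, hcard⟩
    intro n m h
    have h' : (n : G) • a = (m : G) • a := h
    have h1 : ((m : G)⁻¹ * (n : G)) • a = a := by rw [mul_smul, h', inv_smul_smul]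
    have h2 := hMfree _ (M.mul_mem (M.inv_mem m.2) n.2) a h1
    apply Subtype.ext
    exact (inv_mul_eq_one.mp h2).symm
  refine ⟨M, hMn, ?_, hMfree⟩
  intro x y
  obtain ⟨n, hn⟩ := hbij.2 x
  obtain ⟨m, hm⟩ := hbij.2 y
  refine ⟨(m : G) * (n : G)⁻¹, M.mul_mem m.2 (M.inv_mem n.2), ?_⟩
  have hn' : (n : G) • a = x := hn
  have hm' : (m : G) • a = y := hm
  rw [mul_smul, ← hn', inv_smul_smul, hm']

/-- The classification of transitive groups of degree `p + 1` and order `(p + 1) p d` with
`d < p`, for an abstract faithful action. -/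
theorem pp1_main {G : Type u} {Ω : Type*} [Group G] [Finite G] [MulAction G Ω] [Fintype Ω]
    [FaithfulSMul G Ω] [IsPretransitive G Ω] {p d : ℕ}
    (hp : p.Prime) (hα : Fintype.card Ω = p + 1) (hG : Nat.card G = (p + 1) * p * d)
    (hd : d < p) :
    (d = p - 1 ∧ IsMultiplyPretransitive G Ω 3 ∧ ∀ t : Fin 3 ↪ Ω, stabilizer G t = ⊥) ∨
    (2 * d = p - 1 ∧ ∃ (K : Type) (_ : Field K) (_ : Fintype K), Fintype.card K = p ∧
      Nonempty (G ≃* Matrix.ProjectiveSpecialLinearGroup (Fin 2) K)) ∨
    (∃ q : ℕ, q.Prime ∧ p + 1 = 2 ^ q ∧ (d = 1 ∨ d = q) ∧ ∃ e : Ω ≃ GaloisField 2 q,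
      ∀ g : G, ∃ (s : (GaloisField 2 q)ˣ) (β : GaloisField 2 q)
        (φ : GaloisField 2 q ≃+* GaloisField 2 q),
        ∀ x : Ω, e (g • x) = (s : GaloisField 2 q) * φ (e x) + β) := by
  classical
  have hp2 := hp.two_le
  haveI : Nontrivial Ω := Fintype.one_lt_card_iff_nontrivial.mp (by omega)
  obtain ⟨a, b, hab⟩ := exists_pair_ne Ω
  obtain ⟨H, hHa, hHp, hHfix, hHcomm, hnorm, htransH, h2t, h3pt⟩ :=
    pp1_structure hp hα hG hd a
  have hHcard : Nat.card H + 1 = Fintype.card Ω := by rw [hHp, hα]
  have hKcard : ∀ x y : Ω, x ≠ y → Nat.card ↥(stabilizer G x ⊓ stabilizer G y) = d := by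
    intro x y hxy
    have h := two_trans_card h2t hxy
    rw [Nat.card_eq_fintype_card (α := Ω), hα, hG] at h
    simp only [Nat.add_sub_cancel] at h
    have hpos : 0 < (p + 1) * p := by positivity
    exact (Nat.eq_of_mul_eq_mul_left hpos h).symm
  have hd0 : 0 < d := by
    rw [← hKcard a b hab]
    exact Nat.card_pos
  have h2 : ∀ {a b c d : Ω}, a ≠ b → c ≠ d → ∃ g : G, g • a = c ∧ g • b = d :=
    MulAction.is_two_pretransitive_iff.mp h2t
  have hsharp : ∀ t : Fin 3 ↪ Ω, stabilizer G t = ⊥ := by
    intro t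
    rw [eq_bot_iff]
    intro g hg
    rw [MulAction.mem_stabilizer_iff] at hg
    have hgi : ∀ i, g • t i = t i := fun i => by
      rw [← Function.Embedding.smul_apply, hg]
    have ht01 : t 0 ≠ t 1 := fun h => by simpa using t.injective h
    have ht02 : t 0 ≠ t 2 := fun h => by simpa using t.injective h
    have ht12 : t 1 ≠ t 2 := fun h => by simpa using t.injective h
    rw [Subgroup.mem_bot]
    exact h3pt g (t 0) (t 1) (t 2) ht01 ht12 ht02 (hgi 0) (hgi 1) (hgi 2)
  rcases hp.eq_two_or_odd' with hp2' | hpodd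
  · -- `p = 2`: the symmetric group on three points
    left
    subst hp2'
    refine ⟨by omega, ?_, hsharp⟩
    have h4 : ∀ w x y z : Ω, w ≠ x → w ≠ y → w ≠ z → x ≠ y → x ≠ z → y ≠ z → False := by
      intro w x y z hwx hwy hwz hxy hxz hyz
      have hc : ({w, x, y, z} : Finset Ω).card = 4 := by
        rw [Finset.card_insert_of_notMem, Finset.card_insert_of_notMem,
          Finset.card_insert_of_notMem, Finset.card_singleton]
        · simp [hyz]
        · simp [hxy, hxz]
        · simp [hwx, hwy, hwz]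
      have := Finset.card_le_univ ({w, x, y, z} : Finset Ω)
      omega
    refine ⟨fun s t => ?_⟩
    have hs01 : s 0 ≠ s 1 := fun h => by simpa using s.injective h
    have hs02 : s 0 ≠ s 2 := fun h => by simpa using s.injective h
    have hs12 : s 1 ≠ s 2 := fun h => by simpa using s.injective h
    have ht01 : t 0 ≠ t 1 := fun h => by simpa using t.injective h
    have ht02 : t 0 ≠ t 2 := fun h => by simpa using t.injective h
    have ht12 : t 1 ≠ t 2 := fun h => by simpa using t.injective h
    obtain ⟨g, h0, h1⟩ := h2 hs01 ht01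
    have hy0 : g • s 2 ≠ t 0 := by
      rw [← h0]
      exact fun h => hs02 (MulAction.injective g h).symm
    have hy1 : g • s 2 ≠ t 1 := by
      rw [← h1]
      exact fun h => hs12 (MulAction.injective g h).symm
    have e2 : g • s 2 = t 2 := by
      by_contra hcon
      exact h4 (t 0) (t 1) (t 2) (g • s 2) ht01 ht02 (Ne.symm hy0) ht12 (Ne.symm hy1)
        (Ne.symm hcon)
    refine ⟨g, ?_⟩
    ext i
    rw [Function.Embedding.smul_apply]
    fin_cases i
    · exact h0
    · exact h1
    · exact e2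
  · -- `p` odd
    have heven : Even (Fintype.card Ω) := by
      rw [hα]
      exact hpodd.add_one
    by_cases hreg : ∃ N : Subgroup G, N.Normal ∧ (∀ x y : Ω, ∃ n ∈ N, n • x = y) ∧
        (∀ n ∈ N, ∀ x : Ω, n • x = x → n = 1)
    · -- the affine case
      right; right
      obtain ⟨N, hN, hNtr, hNfree⟩ := hreg
      obtain ⟨n, hn0, hcardn, e, hsemi, hdvd⟩ :=
        affine_case hab H hHa hHcard hHfix hHcomm hnorm htransH N hN hNtr hNfree heven
      rw [hKcard a b hab] at hdvd
      have hpn : p + 1 = 2 ^ n := by rw [← hα, hcardn]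
      have hn1 : n ≠ 1 := by
        intro h
        rw [h] at hpn
        omega
      have hprime : (2 ^ n - 1).Prime := by
        have : 2 ^ n - 1 = p := by omega
        rw [this]
        exact hp
      have hnprime := (Nat.prime_of_pow_sub_one_prime hn1 hprime).2
      exact ⟨n, hnprime, hpn, (Nat.dvd_prime hnprime).mp hdvd, e, hsemi⟩
    · -- the Zassenhaus case
      have hd2 : 2 ≤ d := by
        by_contra hcon
        have hd1 : d = 1 := by omega
        apply hreg
        apply exists_regular_normal_of_sharp2 a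
        intro g x y hxy hx hy
        have hmem : g ∈ stabilizer G x ⊓ stabilizer G y :=
          Subgroup.mem_inf.mpr ⟨hx, hy⟩
        have hc1 : Nat.card ↥(stabilizer G x ⊓ stabilizer G y) = 1 := by
          rw [hKcard x y hxy, hd1]
        have hbot := Subgroup.card_eq_one.mp hc1
        rw [hbot, Subgroup.mem_bot] at hmem
        exact hmem
      have hZ : Cfsg.IsZassenhausGroup G Ω := by
        refine ⟨inferInstance, h2t, h3pt, ?_, ?_⟩
        · have hc : 1 < Nat.card ↥(stabilizer G a ⊓ stabilizer G b) := by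
            rw [hKcard a b hab]
            omega
          haveI : Nontrivial ↥(stabilizer G a ⊓ stabilizer G b) :=
            Finite.one_lt_card_iff_nontrivial.mp hc
          obtain ⟨g, hg⟩ := exists_ne (1 : ↥(stabilizer G a ⊓ stabilizer G b))
          have hgm := Subgroup.mem_inf.mp g.2
          refine ⟨(g : G), fun h => hg (Subtype.ext h), a, b, hab, hgm.1, hgm.2⟩
        · intro N hN hNpre
          by_contra hcon
          push Not at hcon
          apply hreg
          refine ⟨N, hN, ?_, ?_⟩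
          · intro x y
            obtain ⟨n, hn⟩ := hNpre.exists_smul_eq x y
            exact ⟨(n : G), n.2, hn⟩
          · intro n hn x hx
            have hmem : (⟨n, hn⟩ : N) ∈ stabilizer N x := by
              rw [mem_stabilizer_iff]
              exact hx
            rw [hcon x, Subgroup.mem_bot] at hmem
            exact congrArg Subtype.val hmem
      rcases zass_ab_result' hZ hab H hHa hHcard hHfix hHcomm with ⟨hc, h3, hsh⟩ | ⟨hc, K, fK, ftK, -, hcK, hiso⟩
      · left
        rw [hKcard a b hab, hα] at hc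
        exact ⟨by omega, h3, hsh⟩
      · right; left
        rw [hKcard a b hab, hα] at hc
        rw [hα] at hcK
        exact ⟨by omega, K, fK, ftK, by omega, hiso⟩

end Cfsg.Agent.Lib.helper16.PP1
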