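import Mathlib

/-! S5238 block F, leaf FC sub-split (helper45, table s5238c), racing copies of C1 `strict` and
C3 `cg_centralizer` (helper16). -/

namespace Cfsg.Agent.Lib.helper45.PearlC

theorem h16_pc13_card_mul_relIndex {G : Type*} [Group G] (H K : Subgroup G) (hHK : H ≤ K) :
    Nat.card H * H.relIndex K = Nat.card K := by
  have h1 := Subgroup.card_mul_index (H.subgroupOf K)
  have h2 : Nat.card (H.subgroupOf K) = Nat.card H :=
    Nat.card_congr (Subgroup.subgroupOfEquivOfLe hHK).toEquiv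
  rw [h2] at h1
  exact h1

/-- C1 STRICT (S): a proper inclusion of subgroups of a finite `p`-group has index `≥ p`. -/
theorem h16_strict {G : Type*} [Group G] [Finite G] (p : ℕ) [Fact p.Prime] (n : ℕ)
    (hG : Nat.card G = p ^ n) (A B : Subgroup G) (hAB : A < B) :
    p * Nat.card ↥A ≤ Nat.card ↥B := by
  have hp : p.Prime := Fact.out
  have h1 := h16_pc13_card_mul_relIndex A B hAB.le
  have hne1 : A.relIndex B ≠ 1 := by
    intro h
    rw [Subgroup.relIndex_eq_one] at h
    exact (not_le_of_gt hAB) h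
  have hdvd : A.relIndex B ∣ p ^ n := by
    rw [← hG]
    exact (Subgroup.relIndex_dvd_card A B).trans (Subgroup.card_subgroup_dvd_card B)
  obtain ⟨j, -, hj⟩ := (Nat.dvd_prime_pow hp).mp hdvd
  have hj0 : j ≠ 0 := by
    rintro rfl
    exact hne1 (by rw [hj, pow_zero])
  have hple : p ≤ A.relIndex B := by
    rw [hj]
    calc p = p ^ 1 := (pow_one p).symm
      _ ≤ p ^ j := Nat.pow_le_pow_right hp.pos (Nat.one_le_iff_ne_zero.mpr hj0)
  rw [← h1, mul_comm]
  exact Nat.mul_le_mul_left _ hple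

/-- C3 GENERATION (S/M). -/
theorem h16_cg_centralizer {G : Type*} [Group G] [Finite G] (p : ℕ)
    (hstrict : ∀ A B : Subgroup G, A < B → p * Nat.card ↥A ≤ Nat.card ↥B)
    (E D : Subgroup G) (hDE : D ≤ E) (hidx : Nat.card ↥E ≤ p * Nat.card ↥D)
    (e : G) (he : e ∈ E) (heD : e ∉ D) (g : G)
    (hgD : ∀ d ∈ D, d * g = g * d) (hge : e * g = g * e) :
    g ∈ Subgroup.centralizer (E : Set G) := by
  have hKE : D ⊔ Subgroup.zpowers e ≤ E :=
    sup_le hDE ((Subgroup.zpowers_le).mpr he)
  have heK : e ∈ D ⊔ Subgroup.zpowers e :=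
    (le_sup_right : Subgroup.zpowers e ≤ _) (Subgroup.mem_zpowers e)
  have hlt : D < D ⊔ Subgroup.zpowers e :=
    lt_of_le_of_ne le_sup_left (fun h => heD (h ▸ heK))
  have hcard := hstrict _ _ hlt
  have hEq : D ⊔ Subgroup.zpowers e = E :=
    Subgroup.eq_of_le_of_card_ge hKE (hidx.trans hcard)
  have hKc : D ⊔ Subgroup.zpowers e ≤ Subgroup.centralizer ({g} : Set G) := by
    apply sup_le
    · intro d hd
      rw [Subgroup.mem_centralizer_iff]
      intro h hh
      rw [Set.mem_singleton_iff.mp hh]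
      exact (hgD d hd).symm
    · rw [Subgroup.zpowers_le, Subgroup.mem_centralizer_iff]
      intro h hh
      rw [Set.mem_singleton_iff.mp hh]
      exact hge.symm
  rw [Subgroup.mem_centralizer_iff]
  intro h hh
  have h1 : h ∈ Subgroup.centralizer ({g} : Set G) := hKc (hEq ▸ hh)
  exact (Subgroup.mem_centralizer_iff.mp h1 g rfl).symm

end Cfsg.Agent.Lib.helper45.PearlC
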