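import Mathlib

/-! S5238 block F, leaf FC sub-split (helper45, table s5238c), piece C2 `inf_step` (helper16). -/

namespace Cfsg.Agent.Lib.helper45.PearlC

theorem h16_pc_card_mul_relIndex {G : Type*} [Group G] (H K : Subgroup G) (hHK : H ≤ K) :
    Nat.card H * H.relIndex K = Nat.card K := by
  have h1 := Subgroup.card_mul_index (H.subgroupOf K)
  have h2 : Nat.card (H.subgroupOf K) = Nat.card H :=
    Nat.card_congr (Subgroup.subgroupOfEquivOfLe hHK).toEquiv
  rw [h2] at h1
  exact h1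

/-- C2 STEP (S): `|A ⊓ B : A ⊓ C| ≤ |B : C|` for `C ≤ B`, cross-multiplied. -/
theorem h16_inf_step {G : Type*} [Group G] [Finite G] (A B C : Subgroup G) (hCB : C ≤ B) :
    Nat.card ↥(A ⊓ B) * Nat.card ↥C ≤ Nat.card ↥(A ⊓ C) * Nat.card ↥B := by
  have h1 := h16_pc_card_mul_relIndex C B hCB
  have hne : C.relIndex B ≠ 0 := by
    intro h0
    rw [h0, mul_zero] at h1
    have : 0 < Nat.card B := Nat.card_pos
    omega
  have hle : A ⊓ C ≤ A ⊓ B := inf_le_inf_left A hCB
  have h2 := h16_pc_card_mul_relIndex (A ⊓ C) (A ⊓ B) hle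
  have h3 : (A ⊓ C).relIndex (A ⊓ B) = C.relIndex (A ⊓ B) := by
    have : A ⊓ C = C ⊓ (A ⊓ B) := by
      apply le_antisymm
      · exact le_inf inf_le_right hle
      · exact le_inf (inf_le_right.trans inf_le_left) inf_le_left
    rw [this, Subgroup.inf_relIndex_right]
  have h4 : C.relIndex (A ⊓ B) ≤ C.relIndex B :=
    Subgroup.relIndex_le_of_le_right inf_le_right hne
  calc Nat.card ↥(A ⊓ B) * Nat.card ↥C
      = Nat.card ↥(A ⊓ C) * ((A ⊓ C).relIndex (A ⊓ B) * Nat.card ↥C) := by rw [← h2]; ring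
    _ ≤ Nat.card ↥(A ⊓ C) * (C.relIndex B * Nat.card ↥C) := by
        apply Nat.mul_le_mul_left
        apply Nat.mul_le_mul_right
        rw [h3]
        exact h4
    _ = Nat.card ↥(A ⊓ C) * Nat.card ↥B := by rw [← h1]; ring

end Cfsg.Agent.Lib.helper45.PearlC
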