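import Mathlib

/-! S5238 block F, leaf FC sub-split (helper45, table s5238c), piece C4 `center_card` (helper16). -/

namespace Cfsg.Agent.Lib.helper45.PearlC

/-- C4 CENTER (M): `C := C_G(E)` has order `p` and equals `Z(G)`. -/
theorem h16_center_card {G : Type*} [Group G] [Finite G] (p : ℕ) [Fact p.Prime] (n : ℕ)
    (hG : Nat.card G = p ^ n) (E : Subgroup G) (hE : Nat.card ↥E = p ^ 3)
    (hna : ¬ IsMulCommutative ↥E) (hC : Subgroup.centralizer (E : Set G) ≤ E)
    (hcg : ∀ (D : Subgroup G), D ≤ E → Nat.card ↥E ≤ p * Nat.card ↥D → ∀ e ∈ E, e ∉ D →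
      ∀ g : G, (∀ d ∈ D, d * g = g * d) → e * g = g * e →
        g ∈ Subgroup.centralizer (E : Set G)) :
    Nat.card ↥(Subgroup.centralizer (E : Set G)) = p ∧
      Subgroup.center G = Subgroup.centralizer (E : Set G) := by
  classical
  have hp : p.Prime := Fact.out
  have hGp : IsPGroup p G := IsPGroup.of_card hG
  -- `C ≠ E`
  have hCne : Subgroup.centralizer (E : Set G) ≠ E := by
    intro h
    apply hna
    refine ⟨⟨fun a b => ?_⟩⟩
    have hb : (b : G) ∈ Subgroup.centralizer (E : Set G) := by rw [h]; exact b.2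
    exact Subtype.ext (Subgroup.mem_centralizer_iff.mp hb a a.2)
  obtain ⟨e, heE, heC⟩ := SetLike.exists_of_lt (lt_of_le_of_ne hC hCne)
  -- the order of `C`
  obtain ⟨j, hj3, hj⟩ := (Nat.dvd_prime_pow hp).mp (hE ▸ Subgroup.card_dvd_of_le hC)
  have hlt : ¬ (Nat.card ↥E ≤ p * Nat.card ↥(Subgroup.centralizer (E : Set G))) := by
    intro hle
    apply heC
    refine hcg _ hC hle e heE heC e ?_ rfl
    intro d hd
    exact (Subgroup.mem_centralizer_iff.mp hd e heE).symm
  have hj1 : j ≤ 1 := by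
    by_contra hcon
    apply hlt
    rw [hE, hj, ← pow_succ']
    exact Nat.pow_le_pow_right hp.pos (by omega)
  -- the centre
  have hZC : Subgroup.center G ≤ Subgroup.centralizer (E : Set G) :=
    Subgroup.center_le_centralizer _
  haveI : Nontrivial G := by
    have h1 : 1 < Nat.card ↥E := by
      rw [hE]
      exact Nat.one_lt_pow (by norm_num) hp.one_lt
    obtain ⟨a, b, hab⟩ := (Finite.one_lt_card_iff_nontrivial.mp h1).exists_pair_ne
    exact ⟨⟨(a : G), (b : G), fun h => hab (Subtype.ext h)⟩⟩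
  haveI := hGp.center_nontrivial
  have hZ1 : 1 < Nat.card ↥(Subgroup.center G) := Finite.one_lt_card
  have hZdvd : Nat.card ↥(Subgroup.center G) ∣ p ^ j := hj ▸ Subgroup.card_dvd_of_le hZC
  have hj0 : j = 1 := by
    rcases Nat.eq_zero_or_pos j with h0 | h0
    · rw [h0, pow_zero, Nat.dvd_one] at hZdvd
      omega
    · omega
  rw [hj0, pow_one] at hZdvd hj
  have hZp : Nat.card ↥(Subgroup.center G) = p := by
    rcases (Nat.dvd_prime hp).mp hZdvd with h | h
    · omega
    · exact h
  refine ⟨hj, ?_⟩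
  exact Subgroup.eq_of_le_of_card_ge hZC (by rw [hj, hZp])

end Cfsg.Agent.Lib.helper45.PearlC
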