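import Mathlib
import Cfsg.Agent.Lib.helper68.HallPet

/-! S5238 block G, sub-block J, piece J7 (helper16, racing copy under a prefixed name;
self-contained: carries its own prefixed copies of J5 and J6). -/

set_option autoImplicit false

namespace Cfsg.Agent.Lib.helper52.PearlJ

open Cfsg.Agent.Lib.helper68

theorem h16_card_mul_relIndex {G : Type*} [Group G] (H K : Subgroup G) (hHK : H ≤ K) :
    Nat.card H * H.relIndex K = Nat.card K := by
  have h1 := Subgroup.card_mul_index (H.subgroupOf K)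
  have h2 : Nat.card (H.subgroupOf K) = Nat.card H :=
    Nat.card_congr (Subgroup.subgroupOfEquivOfLe hHK).toEquiv
  rw [h2] at h1
  exact h1

/-- J5 (prefixed copy). -/
theorem h16_jp_inter_le {G : Type*} [Group G] [Finite G] (K A B : Subgroup G) (hBA : B ≤ A) (c : ℕ)
    (hidx : Nat.card A = c * Nat.card B) : Nat.card ↥(K ⊓ A) ≤ c * Nat.card ↥(K ⊓ B) := by
  have hBpos : 0 < Nat.card B := Nat.card_pos
  have h1 := h16_card_mul_relIndex B A hBA
  have hc : B.relIndex A = c := by
    have : Nat.card B * B.relIndex A = Nat.card B * c := by rw [h1, hidx, mul_comm]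
    exact Nat.eq_of_mul_eq_mul_left hBpos this
  have hne : B.relIndex A ≠ 0 := by
    intro h0
    rw [h0, mul_zero] at h1
    have : 0 < Nat.card A := Nat.card_pos
    omega
  have hle : K ⊓ B ≤ K ⊓ A := inf_le_inf_left K hBA
  have h2 := h16_card_mul_relIndex (K ⊓ B) (K ⊓ A) hle
  have h3 : (K ⊓ B).relIndex (K ⊓ A) = B.relIndex (K ⊓ A) := by
    have : K ⊓ B = B ⊓ (K ⊓ A) := by
      apply le_antisymm
      · exact le_inf inf_le_right hle
      · exact le_inf (inf_le_right.trans inf_le_left) inf_le_left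
    rw [this, Subgroup.inf_relIndex_right]
  have h4 : B.relIndex (K ⊓ A) ≤ B.relIndex A :=
    Subgroup.relIndex_le_of_le_right inf_le_right hne
  rw [← h2, h3, mul_comm]
  exact Nat.mul_le_mul_right _ (h4.trans hc.le)

/-- J6 (prefixed copy, with the order of `G` instead of `IsPGroup`). -/
theorem h16_jp_proper_card {G : Type*} [Group G] [Finite G] (p : ℕ) [Fact p.Prime] (n : ℕ)
    (hG : Nat.card G = p ^ n)
    (A B : Subgroup G) (hBA : B ≤ A) (g : G) (hgA : g ∈ A) (hgB : g ∉ B) :
    p * Nat.card B ≤ Nat.card A := by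
  have hp : p.Prime := Fact.out
  have h1 := h16_card_mul_relIndex B A hBA
  have hne1 : B.relIndex A ≠ 1 := by
    intro h
    rw [Subgroup.relIndex_eq_one] at h
    exact hgB (h hgA)
  have hdvd : B.relIndex A ∣ p ^ n := by
    rw [← hG]
    exact (Subgroup.relIndex_dvd_card B A).trans (Subgroup.card_subgroup_dvd_card A)
  obtain ⟨j, -, hj⟩ := (Nat.dvd_prime_pow hp).mp hdvd
  have hj0 : j ≠ 0 := by
    rintro rfl
    exact hne1 (by rw [hj, pow_zero])
  have hple : p ≤ B.relIndex A := by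
    rw [hj]
    calc p = p ^ 1 := (pow_one p).symm
      _ ≤ p ^ j := Nat.pow_le_pow_right hp.pos (Nat.one_le_iff_ne_zero.mpr hj0)
  rw [← h1, mul_comm]
  exact Nat.mul_le_mul_left _ hple

/-- J7 (L). Jump counting. -/
theorem h16_jp_count {G : Type*} [Group G] [Finite G] (p : ℕ) [Fact p.Prime] (n : ℕ)
    (hG : Nat.card G = p ^ n) (hn : p + 2 ≤ n)
    (hchain : ∀ i, 2 ≤ i → i ≤ n → Nat.card (gam G i) = p ^ (n - i))
    (hpow : ∀ i, 2 ≤ i → i + p ≤ n → ∀ m ∈ gam G i, m ∉ gam G (i + 1) →
      m ^ p ∈ gam G (i + p - 1) ∧ m ^ p ∉ gam G (i + p))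
    (K U : Subgroup G) (hU : ∀ k ∈ K, k ^ p ∈ U) :
    Nat.card ↥(K ⊓ gam G 2) ≤ p ^ (p - 1) * Nat.card U := by
  have hp : p.Prime := Fact.out
  have hp1 : 1 ≤ p := hp.pos
  have key : ∀ j i, 2 ≤ i → i + j + p = n + 1 →
      Nat.card ↥(K ⊓ gam G i) ≤ p ^ (p - 1) * Nat.card ↥(U ⊓ gam G (i + p - 1)) := by
    intro j
    induction j with
    | zero =>
      intro i h2 hij
      have hin : i ≤ n := by omega
      have h1 : Nat.card ↥(K ⊓ gam G i) ≤ Nat.card (gam G i) :=
        Subgroup.card_le_of_le inf_le_right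
      rw [hchain i h2 hin] at h1
      have h3 : n - i = p - 1 := by omega
      rw [h3] at h1
      have hpos : 1 ≤ Nat.card ↥(U ⊓ gam G (i + p - 1)) := Nat.card_pos
      calc Nat.card ↥(K ⊓ gam G i) ≤ p ^ (p - 1) := h1
        _ = p ^ (p - 1) * 1 := (mul_one _).symm
        _ ≤ p ^ (p - 1) * Nat.card ↥(U ⊓ gam G (i + p - 1)) := Nat.mul_le_mul_left _ hpos
    | succ j ih =>
      intro i h2 hij
      have hip : i + p ≤ n := by omega
      have hin : i + 1 ≤ n := by omega
      have ih' := ih (i + 1) (by omega) (by omega)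
      have e1 : i + 1 + p - 1 = i + p := by omega
      rw [e1] at ih'
      have hanti : gam G (i + 1) ≤ gam G i := gam_antitone (Nat.le_succ i)
      have hantiU : U ⊓ gam G (i + p) ≤ U ⊓ gam G (i + p - 1) :=
        inf_le_inf_left U (gam_antitone (by omega))
      by_cases hcase : ∀ k ∈ K ⊓ gam G i, k ∈ gam G (i + 1)
      · -- no jump at `i`
        have heq : K ⊓ gam G i = K ⊓ gam G (i + 1) := by
          apply le_antisymm
          · intro k hk
            exact Subgroup.mem_inf.mpr ⟨(Subgroup.mem_inf.mp hk).1, hcase k hk⟩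
          · exact inf_le_inf_left K hanti
        rw [heq]
        exact ih'.trans (Nat.mul_le_mul_left _ (Subgroup.card_le_of_le hantiU))
      · -- a jump at `i`
        push Not at hcase
        obtain ⟨k, hk, hk'⟩ := hcase
        obtain ⟨hkK, hki⟩ := Subgroup.mem_inf.mp hk
        obtain ⟨g1, g2⟩ := hpow i h2 hip k hki hk'
        have hgU : k ^ p ∈ U ⊓ gam G (i + p - 1) := Subgroup.mem_inf.mpr ⟨hU k hkK, g1⟩
        have hgU' : k ^ p ∉ U ⊓ gam G (i + p) := fun h => g2 (Subgroup.mem_inf.mp h).2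
        have hJ6 := h16_jp_proper_card p n hG _ _ hantiU (k ^ p) hgU hgU'
        have hci : Nat.card (gam G i) = p * Nat.card (gam G (i + 1)) := by
          rw [hchain i h2 (by omega), hchain (i + 1) (by omega) hin]
          have : n - i = (n - (i + 1)) + 1 := by omega
          rw [this, pow_succ, mul_comm]
        have hJ5 := h16_jp_inter_le K (gam G i) (gam G (i + 1)) hanti p hci
        calc Nat.card ↥(K ⊓ gam G i) ≤ p * Nat.card ↥(K ⊓ gam G (i + 1)) := hJ5
          _ ≤ p * (p ^ (p - 1) * Nat.card ↥(U ⊓ gam G (i + p))) := Nat.mul_le_mul_left _ ih'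
          _ = p ^ (p - 1) * (p * Nat.card ↥(U ⊓ gam G (i + p))) := by ring
          _ ≤ p ^ (p - 1) * Nat.card ↥(U ⊓ gam G (i + p - 1)) := Nat.mul_le_mul_left _ hJ6
  have h := key (n + 1 - p - 2) 2 le_rfl (by omega)
  exact h.trans (Nat.mul_le_mul_left _ (Subgroup.card_le_of_le inf_le_left))

end Cfsg.Agent.Lib.helper52.PearlJ
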