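import Mathlib
import Cfsg.Agent.Lib.helper54.PGroupAux

/-! S5238 block G, step (7): abstract jump lemma (helper16).

A finite `p`-group `Q` with a descending chain `P 2 = ⊤ ≥ P 3 ≥ … ≥ P n = ⊥` whose factors are
"cyclic" (`hcyc`) and on which `p`-th powers shift the depth by exactly `p - 1` for depths
`i` with `i + p ≤ n` (`hF4`) is generated by at most `p - 1` elements. -/

set_option autoImplicit false

namespace Cfsg.Agent.Lib.helper16

theorem h16_jump_gen {Q : Type*} [Group Q] [Finite Q] (p : ℕ) [Fact p.Prime] (hQ : IsPGroup p Q)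
    (n : ℕ) (P : ℕ → Subgroup Q) (hanti : ∀ i, P (i + 1) ≤ P i) (htop : P 2 = ⊤) (hbot : P n = ⊥)
    (hcyc : ∀ i, 2 ≤ i → ∀ h ∈ P i, h ∉ P (i + 1) → ∀ h' ∈ P i, ∃ e : ℕ, h' * (h ^ e)⁻¹ ∈ P (i + 1))
    (hF4 : ∀ i, 2 ≤ i → i + p ≤ n → ∀ h ∈ P i, h ∉ P (i + 1) →
      h ^ p ∈ P (i + p - 1) ∧ h ^ p ∉ P (i + p)) :
    ∃ T : Finset Q, T.card ≤ p - 1 ∧ Subgroup.closure (T : Set Q) = ⊤ := by
  classical
  have hp : p.Prime := Fact.out
  have hp1 : 1 ≤ p := hp.pos
  have hanti' : ∀ k i, P (i + k) ≤ P i := by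
    intro k
    induction k with
    | zero => intro i; exact le_rfl
    | succ k ih => intro i; exact (hanti (i + k)).trans (ih i)
  have hdeep : ∀ i, n ≤ i → P i = ⊥ := by
    intro i hi
    obtain ⟨k, rfl⟩ := Nat.exists_eq_add_of_le hi
    exact le_bot_iff.mp (hbot ▸ hanti' k n)
  -- jumps
  let J : Finset ℕ := (Finset.Ico 2 n).filter (fun i => ∃ h ∈ P i, h ∉ P (i + 1))
  let Jlow : Finset ℕ := J.filter (fun i => i + p ≤ n)
  let sh : ℕ → ℕ := fun i => i + p - 1
  have hsh_inj : Function.Injective sh := by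
    intro a b h
    simp only [sh] at h
    omega
  have hJ : ∀ i, i ∈ J ↔ (2 ≤ i ∧ i < n) ∧ ∃ h ∈ P i, h ∉ P (i + 1) := by
    intro i
    simp only [J, Finset.mem_filter, Finset.mem_Ico]
  have hJlow : ∀ i, i ∈ Jlow ↔ i ∈ J ∧ i + p ≤ n := by
    intro i
    simp only [Jlow, Finset.mem_filter]
  have hsh_mem : ∀ i ∈ Jlow, sh i ∈ J := by
    intro i hi
    obtain ⟨hiJ, hip⟩ := (hJlow i).mp hi
    obtain ⟨⟨h2, hn⟩, h, hh, hh'⟩ := (hJ i).mp hiJ
    obtain ⟨h1, h1'⟩ := hF4 i h2 hip h hh hh'
    rw [hJ]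
    refine ⟨⟨by simp only [sh]; omega, by simp only [sh]; omega⟩, h ^ p, h1, ?_⟩
    have : sh i + 1 = i + p := by simp only [sh]; omega
    rw [this]
    exact h1'
  let I : Finset ℕ := J \ Jlow.image sh
  have hIcard : I.card ≤ p - 1 := by
    have hsub : Jlow.image sh ⊆ J := by
      intro x hx
      obtain ⟨i, hi, rfl⟩ := Finset.mem_image.mp hx
      exact hsh_mem i hi
    have h1 : I.card = J.card - (Jlow.image sh).card := Finset.card_sdiff_of_subset hsub
    rw [Finset.card_image_of_injective _ hsh_inj] at h1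
    have h2 : Jlow.card + (J.filter (fun i => ¬ (i + p ≤ n))).card = J.card :=
      Finset.card_filter_add_card_filter_not (fun i => i + p ≤ n)
    have h3 : (J.filter (fun i => ¬ (i + p ≤ n))).card ≤ p - 1 := by
      calc (J.filter (fun i => ¬ (i + p ≤ n))).card ≤ (Finset.Ico (n + 1 - p) n).card := by
            apply Finset.card_le_card
            intro i hi
            rw [Finset.mem_filter, hJ] at hi
            rw [Finset.mem_Ico]
            omega
        _ ≤ p - 1 := by
            rw [Nat.card_Ico]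
            omega
    omega
  -- choose representatives
  have hch : ∀ i, i ∈ J → ∃ h ∈ P i, h ∉ P (i + 1) := fun i hi => ((hJ i).mp hi).2
  choose! w hw using hch
  refine ⟨I.image w, Finset.card_image_le.trans hIcard, ?_⟩
  apply frattini_nongenerating
  have key : ∀ d i, 2 ≤ i → n ≤ i + d →
      P i ≤ Subgroup.closure ((I.image w : Finset Q) : Set Q) ⊔ frattini Q := by
    intro d
    induction d with
    | zero =>
      intro i _ hni
      rw [hdeep i (by omega)]
      exact bot_le
    | succ d ih =>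
      intro i h2 hni h' hh'
      by_cases hmem : h' ∈ P (i + 1)
      · exact ih (i + 1) (by omega) (by omega) hmem
      · by_cases hin : i < n
        · have hiJ : i ∈ J := (hJ i).mpr ⟨⟨h2, hin⟩, h', hh', hmem⟩
          by_cases hiI : i ∈ I
          · obtain ⟨e, he⟩ := hcyc i h2 (w i) (hw i hiJ).1 (hw i hiJ).2 h' hh'
            have h1 := ih (i + 1) (by omega) (by omega) he
            have h2' : w i ∈ Subgroup.closure ((I.image w : Finset Q) : Set Q) ⊔ frattini Q :=
              (le_sup_left : Subgroup.closure ((I.image w : Finset Q) : Set Q) ≤ _)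
                (Subgroup.subset_closure (Finset.mem_coe.mpr (Finset.mem_image_of_mem w hiI)))
            have heq : h' = (h' * (w i ^ e)⁻¹) * (w i ^ e) := by group
            rw [heq]
            exact Subgroup.mul_mem _ h1 (Subgroup.pow_mem _ h2' e)
          · have hsh : i ∈ Jlow.image sh := by
              by_contra hc
              exact hiI (Finset.mem_sdiff.mpr ⟨hiJ, hc⟩)
            obtain ⟨j, hj, rfl⟩ := Finset.mem_image.mp hsh
            obtain ⟨hjJ, hjp⟩ := (hJlow j).mp hj
            have hj2 : 2 ≤ j := ((hJ j).mp hjJ).1.1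
            obtain ⟨g1, g2⟩ := hF4 j hj2 hjp (w j) (hw j hjJ).1 (hw j hjJ).2
            have hsh1 : sh j + 1 = j + p := by simp only [sh]; omega
            have g2' : w j ^ p ∉ P (sh j + 1) := by rw [hsh1]; exact g2
            obtain ⟨e, he⟩ := hcyc (sh j) h2 (w j ^ p) g1 g2' h' hh'
            have h1 := ih (sh j + 1) (by omega) (by omega) he
            have h2' : w j ^ p ∈ Subgroup.closure ((I.image w : Finset Q) : Set Q) ⊔ frattini Q :=
              (le_sup_right : frattini Q ≤ _)
                (Cfsg.Agent.Lib.helper54.pow_prime_mem_frattini hQ (w j))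
            have heq : h' = (h' * ((w j ^ p) ^ e)⁻¹) * ((w j ^ p) ^ e) := by group
            rw [heq]
            exact Subgroup.mul_mem _ h1 (Subgroup.pow_mem _ h2' e)
        · rw [hdeep i (by omega)] at hh'
          rw [Subgroup.mem_bot.mp hh']
          exact Subgroup.one_mem _
  have hfin := key n 2 le_rfl (by omega)
  rw [htop] at hfin
  exact top_le_iff.mp hfin

end Cfsg.Agent.Lib.helper16
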