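import Mathlib
import Cfsg.Agent.Lib.helper16.PermChar

/-!
# The rank of a transitive permutation group as the norm of the permutation character
-/

set_option autoImplicit false
open Cfsg

namespace Cfsg.Agent.Lib.helper16

open Cfsg.Agent.Lib.helper4

section Rank

variable {G : Type*} [Group G] {Ω : Type*} [MulAction G Ω]

/-- Fixed points on pairs. -/
theorem card_fixedBy_prod (g : G) :
    Nat.card (MulAction.fixedBy (Ω × Ω) g) =
      Nat.card (MulAction.fixedBy Ω g) * Nat.card (MulAction.fixedBy Ω g) := by
  rw [← Nat.card_prod]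
  apply Nat.card_congr
  exact
    { toFun := fun p => (⟨p.1.1, congrArg Prod.fst p.2⟩, ⟨p.1.2, congrArg Prod.snd p.2⟩)
      invFun := fun q => ⟨(q.1.1, q.2.1), Prod.ext q.1.2 q.2.2⟩
      left_inv := fun p => rfl
      right_inv := fun q => rfl }

/-- For a transitive action, orbits on pairs correspond to orbits of a point stabiliser. -/
theorem card_orbits_prod_eq [MulAction.IsPretransitive G Ω] (a : Ω) :
    Nat.card (MulAction.orbitRel.Quotient G (Ω × Ω)) =
      Nat.card (MulAction.orbitRel.Quotient (MulAction.stabilizer G a) Ω) := by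
  symm
  let F : MulAction.orbitRel.Quotient (MulAction.stabilizer G a) Ω →
      MulAction.orbitRel.Quotient G (Ω × Ω) :=
    Quotient.map' (fun b => (a, b)) (by
      intro b b' h
      have h' : b ∈ MulAction.orbit (MulAction.stabilizer G a) b' := h
      obtain ⟨⟨g, hg⟩, rfl⟩ := h'
      show (a, (⟨g, hg⟩ : MulAction.stabilizer G a) • b') ∈ MulAction.orbit G (a, b')
      exact ⟨g, Prod.ext hg rfl⟩)
  apply Nat.card_congr (Equiv.ofBijective F ⟨?_, ?_⟩)
  · intro q q'
    induction q using Quotient.inductionOn' with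
    | _ b =>
    induction q' using Quotient.inductionOn' with
    | _ b' =>
    intro h
    have h1 : (Quotient.mk'' (a, b) : MulAction.orbitRel.Quotient G (Ω × Ω)) =
        Quotient.mk'' (a, b') := h
    rw [Quotient.eq''] at h1
    have h2 : (a, b) ∈ MulAction.orbit G (a, b') := h1
    obtain ⟨g, hg⟩ := h2
    have hga : g • a = a := congrArg Prod.fst hg
    have hgb : g • b' = b := congrArg Prod.snd hg
    apply Quotient.sound'
    show b ∈ MulAction.orbit (MulAction.stabilizer G a) b'
    exact ⟨⟨g, hga⟩, hgb⟩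
  · intro q
    induction q using Quotient.inductionOn' with
    | _ p =>
    obtain ⟨x, y⟩ := p
    obtain ⟨g, rfl⟩ := MulAction.exists_smul_eq G a x
    refine ⟨Quotient.mk'' (g⁻¹ • y), ?_⟩
    show (Quotient.mk'' (a, g⁻¹ • y) : MulAction.orbitRel.Quotient G (Ω × Ω)) =
      Quotient.mk'' (g • a, y)
    apply Quotient.sound'
    show (a, g⁻¹ • y) ∈ MulAction.orbit G (g • a, y)
    exact ⟨g⁻¹, Prod.ext (inv_smul_smul g a) rfl⟩

/-- The norm of the permutation character of a transitive action is the rank. -/
theorem classInner_perm_self [Fintype G] [Fintype Ω] [MulAction.IsPretransitive G Ω] (a : Ω) :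
    classInner (fun g : G => (Nat.card (MulAction.fixedBy Ω g) : ℂ))
      (fun g : G => (Nat.card (MulAction.fixedBy Ω g) : ℂ)) =
      Nat.card (MulAction.orbitRel.Quotient (MulAction.stabilizer G a) Ω) := by
  classical
  unfold classInner
  have hB := MulAction.sum_card_fixedBy_eq_card_orbits_mul_card_group G (Ω × Ω)
  have h2 : (∑ g : G, (Nat.card (MulAction.fixedBy Ω g) : ℂ) *
      (starRingEnd ℂ) (Nat.card (MulAction.fixedBy Ω g) : ℂ)) =
      (Nat.card (MulAction.orbitRel.Quotient (MulAction.stabilizer G a) Ω) : ℂ) *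
        (Fintype.card G : ℂ) := by
    rw [← card_orbits_prod_eq a, Nat.card_eq_fintype_card (α := MulAction.orbitRel.Quotient G (Ω × Ω))]
    rw [← Nat.cast_mul, ← hB]
    push_cast
    apply Finset.sum_congr rfl
    intro g _
    rw [Complex.conj_natCast, ← Nat.card_eq_fintype_card, card_fixedBy_prod]
    push_cast
    rfl
  rw [h2, Nat.card_eq_fintype_card (α := G)]
  have : (Fintype.card G : ℂ) ≠ 0 := by exact_mod_cast Fintype.card_ne_zero
  field_simp


/-- Decomposition of the permutation character of a transitive action: multiplicities `m`,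
degrees `d`, the degree formula, the rank formula, and multiplicity one of the trivial
character. -/
theorem perm_decomp [Fintype G] [Fintype Ω] [MulAction.IsPretransitive G Ω]
    [Fintype (IrrCharacter G)] (a : Ω) :
    ∃ (m d : IrrCharacter G → ℕ),
      (∀ χ : IrrCharacter G,
        classInner (fun g : G => (Nat.card (MulAction.fixedBy Ω g) : ℂ)) (χ : G → ℂ) = m χ) ∧
      (∀ χ : IrrCharacter G, (χ : G → ℂ) 1 = d χ) ∧ (∀ χ, 0 < d χ) ∧
      Fintype.card Ω = ∑ χ, m χ * d χ ∧
      Nat.card (MulAction.orbitRel.Quotient (MulAction.stabilizer G a) Ω) = ∑ χ, m χ ^ 2 ∧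
      m ⟨fun _ => 1, isIrrCharacter_one'⟩ = 1 := by
  classical
  have hne : Nonempty Ω := ⟨a⟩
  have hπ : (fun g : G => (Nat.card (MulAction.fixedBy Ω g) : ℂ)) =
      (Cfsg.permRep ℂ G Ω).character := by
    funext g; exact (permRep_character g).symm
  have hπchar : IsCharacter G (fun g : G => (Nat.card (MulAction.fixedBy Ω g) : ℂ)) := by
    rw [hπ]; exact isCharacter_of_rep _
  choose m hm using fun χ : IrrCharacter G => exists_nat_classInner_irr hπchar χ.2
  choose d hdpos hd using fun χ : IrrCharacter G => exists_pos_nat_degree χ.2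
  have hsum := classFunction_eq_sum_irr (isClassFunction_of_isCharacter hπchar)
  simp_rw [hm] at hsum
  refine ⟨m, d, hm, hd, hdpos, ?_, ?_, ?_⟩
  · have h1 := congrFun hsum 1
    simp only [Finset.sum_apply, Pi.smul_apply, smul_eq_mul, hd] at h1
    have hfix : Nat.card (MulAction.fixedBy Ω (1 : G)) = Fintype.card Ω := by
      rw [← Nat.card_eq_fintype_card]
      exact Nat.card_congr (Equiv.subtypeUnivEquiv (fun x => by simp [MulAction.mem_fixedBy]))
    rw [hfix] at h1
    exact_mod_cast h1
  · have h1 := classInner_perm_self (G := G) (Ω := Ω) a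
    have h2 := classInner_sum_irr_smul (G := G) (fun χ => (m χ : ℂ)) (fun χ => (m χ : ℂ))
    rw [← hsum] at h2
    rw [h1] at h2
    simp only [Complex.conj_natCast] at h2
    have h3 : ((Nat.card (MulAction.orbitRel.Quotient (MulAction.stabilizer G a) Ω) : ℕ) : ℂ) =
        ((∑ χ, m χ ^ 2 : ℕ) : ℂ) := by
      rw [h2]; push_cast
      apply Finset.sum_congr rfl
      intro χ _; ring
    exact_mod_cast h3
  · have h1 := classInner_perm_one (G := G) (Ω := Ω)
    have h2 := hm ⟨fun _ => 1, isIrrCharacter_one'⟩
    rw [h1] at h2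
    exact_mod_cast h2.symm

/-- Class equation for the action of a point stabiliser. -/
theorem card_eq_sum_suborbits [Fintype Ω] (a : Ω)
    [Fintype (MulAction.orbitRel.Quotient (MulAction.stabilizer G a) Ω)] :
    Fintype.card Ω = ∑ ω : MulAction.orbitRel.Quotient (MulAction.stabilizer G a) Ω,
      Nat.card (MulAction.orbit (MulAction.stabilizer G a) ω.out) := by
  rw [← Nat.card_eq_fintype_card,
    Nat.card_congr (MulAction.selfEquivSigmaOrbits (MulAction.stabilizer G a) Ω), Nat.card_sigma]

end Rank

end Cfsg.Agent.Lib.helper16
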