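import Mathlib
import Cfsg.Prelude.Def_GeometricClasses
import Cfsg.Agent.Lib.helper24.SfoDefs

/-! S5977/S5978 block [A], sub-split KUNIQ, piece FIB (helper16, racing copy, prefixed name). -/

set_option autoImplicit false

namespace Cfsg.Agent.Lib.helper2

open Cfsg.Geo Matrix Cfsg.Agent.Lib.helper24

/-- FIB -/
theorem h16_qfu_fib {F : Type*} [Field F] [Fintype F] {ι : Type} [Fintype ι] [DecidableEq ι]
    (Q : (ι → F) → F) (δ : F) [Fact (∀ r : F, r ^ 2 ≠ δ + 0 * r)]
    (d : ℕ) (Φ : (Fin d → QuadraticAlgebra F δ 0) ≃+ (ι → F))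
    (qk : (ι → F) → QuadraticAlgebra F δ 0) (hre : ∀ v, (qk v).re = Q v) :
    Nat.card {v : ι → F // Q v = 1} =
      ∑ b : F, sfoCount (fun k => qk (Φ k)) (⟨1, b⟩ : QuadraticAlgebra F δ 0) := by
  classical
  have : Finite (QuadraticAlgebra F δ 0) :=
    Finite.of_equiv _ (QuadraticAlgebra.equivProd δ 0).symm
  -- step 1: transport along `Φ`
  have e1 : {v : ι → F // Q v = 1} ≃
      {k : Fin d → QuadraticAlgebra F δ 0 // (qk (Φ k)).re = 1} :=
    Equiv.subtypeEquiv Φ.symm.toEquiv (fun v => by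
      simp only [AddEquiv.toEquiv_eq_coe, EquivLike.coe_coe, AddEquiv.apply_symm_apply]
      rw [hre])
  -- step 2: fibres of the imaginary part
  have e2 := (Equiv.sigmaFiberEquiv
    (fun k : {k : Fin d → QuadraticAlgebra F δ 0 // (qk (Φ k)).re = 1} => (qk (Φ k.1)).im)).symm
  -- step 3: each fibre
  have e3 : ∀ b : F, {x : {k : Fin d → QuadraticAlgebra F δ 0 // (qk (Φ k)).re = 1} //
        (qk (Φ x.1)).im = b} ≃
      {k : Fin d → QuadraticAlgebra F δ 0 // qk (Φ k) = (⟨1, b⟩ : QuadraticAlgebra F δ 0)} :=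
    fun b => (Equiv.subtypeSubtypeEquivSubtypeInter
        (fun k : Fin d → QuadraticAlgebra F δ 0 => (qk (Φ k)).re = 1)
        (fun k : Fin d → QuadraticAlgebra F δ 0 => (qk (Φ k)).im = b)).trans
      (Equiv.subtypeEquivRight (fun k => by
        rw [QuadraticAlgebra.ext_iff]))
  rw [Nat.card_congr e1, Nat.card_congr e2, Nat.card_sigma]
  apply Finset.sum_congr rfl
  intro b _
  rw [Nat.card_congr (e3 b)]
  rfl

end Cfsg.Agent.Lib.helper2
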