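import Mathlib
import Cfsg.Prelude.Def_GeometricClasses
import Cfsg.Agent.Lib.helper24.SfoDefs

/-! S5977/S5978 block [A], sub-split KUNIQ, piece ISOSQ (helper16, racing copy, prefixed name). -/

set_option autoImplicit false

namespace Cfsg.Agent.Lib.helper2

open Cfsg.Geo Matrix Cfsg.Agent.Lib.helper24

/-- ISOSQ -/
theorem h16_qfu_iso_of_sq {E : Type*} [Field E] {m : ℕ}
    (Q Q' : (Fin (m + 1) → E) → E) (P P' : GL (Fin (m + 1)) E) (c c' s : E) (hc : c ≠ 0)
    (hcs : c = s ^ 2 * c')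
    (hP : ∀ x : Fin (m + 1) → E, Q ((P : Matrix (Fin (m + 1)) (Fin (m + 1)) E) *ᵥ x) =
      ∑ j, (if j = Fin.last m then c else 1) * x j ^ 2)
    (hP' : ∀ x : Fin (m + 1) → E, Q' ((P' : Matrix (Fin (m + 1)) (Fin (m + 1)) E) *ᵥ x) =
      ∑ j, (if j = Fin.last m then c' else 1) * x j ^ 2) :
    ∃ T : GL (Fin (m + 1)) E, ∀ x : Fin (m + 1) → E,
      Q' ((T : Matrix (Fin (m + 1)) (Fin (m + 1)) E) *ᵥ x) = Q x := by
  classical
  have hs : s ≠ 0 := by
    rintro rfl
    apply hc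
    rw [hcs]
    ring
  have hσ : ∀ j : Fin (m + 1), (if j = Fin.last m then s else (1 : E)) ≠ 0 := by
    intro j
    split_ifs
    · exact hs
    · exact one_ne_zero
  have hS1 : Matrix.diagonal (fun j : Fin (m + 1) => if j = Fin.last m then s else (1 : E)) *
      Matrix.diagonal (fun j : Fin (m + 1) => (if j = Fin.last m then s else (1 : E))⁻¹) = 1 := by
    rw [Matrix.diagonal_mul_diagonal]
    have : (fun i : Fin (m + 1) => (if i = Fin.last m then s else (1 : E)) *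
        (if i = Fin.last m then s else (1 : E))⁻¹) = fun _ => 1 := by
      funext i
      exact mul_inv_cancel₀ (hσ i)
    rw [this, Matrix.diagonal_one]
  have hS2 : Matrix.diagonal (fun j : Fin (m + 1) => (if j = Fin.last m then s else (1 : E))⁻¹) *
      Matrix.diagonal (fun j : Fin (m + 1) => if j = Fin.last m then s else (1 : E)) = 1 := by
    rw [Matrix.diagonal_mul_diagonal]
    have : (fun i : Fin (m + 1) => (if i = Fin.last m then s else (1 : E))⁻¹ *
        (if i = Fin.last m then s else (1 : E))) = fun _ => 1 := by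
      funext i
      exact inv_mul_cancel₀ (hσ i)
    rw [this, Matrix.diagonal_one]
  refine ⟨P' * ⟨_, _, hS1, hS2⟩ * P⁻¹, ?_⟩
  intro x
  have hx : (P : Matrix (Fin (m + 1)) (Fin (m + 1)) E) *ᵥ
      (((P⁻¹ : GL (Fin (m + 1)) E) : Matrix (Fin (m + 1)) (Fin (m + 1)) E) *ᵥ x) = x := by
    rw [Matrix.mulVec_mulVec, ← Units.val_mul, mul_inv_cancel, Units.val_one, Matrix.one_mulVec]
  have h1 : ((P' * ⟨_, _, hS1, hS2⟩ * P⁻¹ : GL (Fin (m + 1)) E) :
        Matrix (Fin (m + 1)) (Fin (m + 1)) E) *ᵥ x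
      = (P' : Matrix (Fin (m + 1)) (Fin (m + 1)) E) *ᵥ
        (Matrix.diagonal (fun j : Fin (m + 1) => if j = Fin.last m then s else (1 : E)) *ᵥ
          (((P⁻¹ : GL (Fin (m + 1)) E) : Matrix (Fin (m + 1)) (Fin (m + 1)) E) *ᵥ x)) := by
    rw [Units.val_mul, Units.val_mul, ← Matrix.mulVec_mulVec, ← Matrix.mulVec_mulVec]
  rw [h1, hP']
  conv_rhs => rw [← hx, hP]
  apply Finset.sum_congr rfl
  intro j _
  rw [Matrix.mulVec_diagonal]
  split_ifs with hj
  · rw [hcs]; ring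
  · ring

end Cfsg.Agent.Lib.helper2
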