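import Mathlib
import Cfsg.Agent.Lib.helper16.PermEntry
import Cfsg.Agent.Lib.helper16.PermRank

/-!
# Tools for orbital matrices: entries of the trivial idempotent, of squares of adjacency
operators, and fixed points of point stabilisers in primitive groups
-/

set_option autoImplicit false
open Cfsg

namespace Cfsg.Agent.Lib.helper16

open Cfsg.Agent.Lib.helper4
open scoped ComplexConjugate

section Rank3

variable {G : Type*} [Group G] {Ω : Type*} [Fintype Ω] [MulAction G Ω]

/-- For a transitive action, all matrix entries of the trivial central idempotent are `1/n`. -/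
theorem isoIdem_one_entry [Fintype G] [DecidableEq Ω] [MulAction.IsPretransitive G Ω] (x y : Ω) :
    (isoIdem (Cfsg.permRep ℂ G Ω) (fun _ => (1 : ℂ)) (Pi.single y 1)) x =
      1 / (Fintype.card Ω : ℂ) := by
  classical
  rw [isoIdem_perm_entry]
  have hval : ∀ g : G, idemFun (fun _ : G => (1 : ℂ)) g = 1 / (Nat.card G : ℂ) := by
    intro g
    unfold idemFun
    simp
  simp_rw [hval]
  rw [← Finset.sum_filter, Finset.sum_const, nsmul_eq_mul]
  obtain ⟨g₀, hg₀⟩ := MulAction.exists_smul_eq G y x
  have hcard : (Finset.univ.filter (fun g : G => g • y = x)).card =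
      Nat.card (MulAction.stabilizer G y) := by
    rw [← Nat.card_eq_finsetCard]
    apply Nat.card_congr
    refine ⟨fun g => ⟨g₀⁻¹ * g.1, ?_⟩, fun h => ⟨g₀ * h.1, ?_⟩, ?_, ?_⟩
    · have h1 : g.1 • y = x := (Finset.mem_filter.mp g.2).2
      rw [MulAction.mem_stabilizer_iff, mul_smul, h1, ← hg₀, inv_smul_smul]
    · have h1 : h.1 • y = y := h.2
      exact Finset.mem_filter.mpr ⟨Finset.mem_univ _, by rw [mul_smul, h1, hg₀]⟩
    · intro g
      apply Subtype.ext
      simp
    · intro h
      apply Subtype.ext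
      simp
  have hos := MulAction.card_orbit_mul_card_stabilizer_eq_card_group G y
  have horb : Fintype.card (MulAction.orbit G y) = Fintype.card Ω := by
    rw [← Nat.card_eq_fintype_card, ← Nat.card_eq_fintype_card]
    exact Nat.card_congr (Equiv.subtypeUnivEquiv (fun z => by
      rw [MulAction.orbit_eq_univ]; trivial))
  rw [horb] at hos
  rw [hcard, Nat.card_eq_fintype_card, Nat.card_eq_fintype_card, ← hos]
  have h1 : (Fintype.card Ω : ℂ) ≠ 0 := by
    have : Nonempty Ω := ⟨x⟩
    exact_mod_cast Fintype.card_ne_zero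
  have h2 : (Fintype.card (MulAction.stabilizer G y) : ℂ) ≠ 0 := by
    exact_mod_cast Fintype.card_ne_zero
  push_cast
  field_simp

open Classical in
/-- Matrix entries of the square of an adjacency operator count paths of length two. -/
theorem adjOp_sq_entry (R : Ω → Ω → Prop) (x y : Ω) :
    adjOp R (adjOp R (Pi.single y 1)) x = (Nat.card {z // R x z ∧ R z y} : ℂ) := by
  rw [adjOp_apply]
  simp_rw [adjOp_entry]
  rw [← sum_ite_one_eq_card]
  apply Finset.sum_congr rfl
  intro z _
  by_cases h1 : R x z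
  · by_cases h2 : R z y
    · rw [if_pos h1, if_pos h2, if_pos ⟨h1, h2⟩]
    · rw [if_pos h1, if_neg h2, if_neg (fun h => h2 h.2)]
  · rw [if_neg h1, if_neg (fun h => h1 h.1)]

omit [Fintype Ω] in
/-- In a primitive action in which the point stabiliser does not fix every point, the point
stabiliser fixes no second point. -/
theorem orbit_card_ne_one_of_isPreprimitive [Finite G] (hprim : MulAction.IsPreprimitive G Ω)
    (a₀ : Ω)
    (hrank : Nat.card (MulAction.orbitRel.Quotient (MulAction.stabilizer G a₀) Ω) ≠ Nat.card Ω)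
    (b : Ω) (hb : b ≠ a₀) : Nat.card (MulAction.orbit (MulAction.stabilizer G a₀) b) ≠ 1 := by
  intro h1
  have htrans : MulAction.IsPretransitive G Ω := hprim.toIsPretransitive
  have hnt : Nontrivial Ω := ⟨⟨b, a₀, hb⟩⟩
  have hfix : ∀ h : G, h ∈ MulAction.stabilizer G a₀ → h • b = b := by
    intro h hh
    have hsub := (Nat.card_eq_one_iff_unique.mp h1).1
    have h2 : (⟨h • b, ⟨⟨h, hh⟩, rfl⟩⟩ : MulAction.orbit (MulAction.stabilizer G a₀) b) =
        ⟨b, MulAction.mem_orbit_self b⟩ := Subsingleton.elim _ _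
    exact congrArg Subtype.val h2
  have hco : IsCoatom (MulAction.stabilizer G a₀) := by
    have := hprim
    exact MulAction.IsPreprimitive.isCoatom_stabilizer_of_isPreprimitive (G := G) a₀
  obtain ⟨g, hg⟩ := MulAction.exists_smul_eq G a₀ b
  have hle : MulAction.stabilizer G a₀ ≤ MulAction.stabilizer G b := fun h hh => hfix h hh
  have hconj : MulAction.stabilizer G b =
      (MulAction.stabilizer G a₀).map (MulAut.conj g).toMonoidHom := by
    rw [← hg]; exact MulAction.stabilizer_smul_eq_stabilizer_map_conj g a₀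
  have heq : MulAction.stabilizer G a₀ = MulAction.stabilizer G b := by
    apply Subgroup.eq_of_le_of_card_ge hle
    rw [hconj, Subgroup.card_map_of_injective (MulAut.conj g).injective]
  have hgN : g ∈ Subgroup.normalizer (MulAction.stabilizer G a₀ : Set G) := by
    rw [Subgroup.mem_normalizer_iff]
    intro h
    constructor
    · intro hh
      have h2 : g * h * g⁻¹ ∈ MulAction.stabilizer G b := by
        rw [hconj]
        exact ⟨h, hh, by simp [MulAut.conj_apply]⟩
      rw [heq]; exact h2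
    · intro hh
      rw [heq, hconj] at hh
      obtain ⟨h', hh', he⟩ := hh
      have h3 : g * h' * g⁻¹ = g * h * g⁻¹ := by simpa [MulAut.conj_apply] using he
      have h4 : h' = h := by
        have := mul_left_cancel (mul_right_cancel h3)
        exact this
      rw [← h4]; exact hh'
  have hgH : g ∉ MulAction.stabilizer G a₀ := by
    intro hgH
    rw [MulAction.mem_stabilizer_iff, hg] at hgH
    exact hb hgH
  have hNtop : Subgroup.normalizer (MulAction.stabilizer G a₀ : Set G) = ⊤ := by
    apply hco.2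
    exact lt_of_le_of_ne Subgroup.le_normalizer (fun h => hgH (h ▸ hgN))
  have hnormal : (MulAction.stabilizer G a₀).Normal := Subgroup.normalizer_eq_top_iff.mp hNtop
  have hall : ∀ (h : G), h ∈ MulAction.stabilizer G a₀ → ∀ x : Ω, h • x = x := by
    intro h hh x
    obtain ⟨n, rfl⟩ := MulAction.exists_smul_eq G a₀ x
    have h5 : n⁻¹ * h * n⁻¹⁻¹ ∈ MulAction.stabilizer G a₀ := hnormal.conj_mem h hh n⁻¹
    rw [inv_inv, MulAction.mem_stabilizer_iff, mul_smul, mul_smul, inv_smul_eq_iff] at h5
    exact h5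
  apply hrank
  symm
  apply Nat.card_congr
  refine Equiv.ofBijective (fun x => (Quotient.mk'' x :
    MulAction.orbitRel.Quotient (MulAction.stabilizer G a₀) Ω)) ⟨?_, ?_⟩
  · intro x y hxy
    have h6 : x ∈ MulAction.orbit (MulAction.stabilizer G a₀) y := Quotient.exact' hxy
    obtain ⟨⟨h, hh⟩, rfl⟩ := h6
    exact hall h hh y
  · intro q
    induction q using Quotient.inductionOn' with
    | _ x => exact ⟨x, rfl⟩

/-- The Diophantine core of the Wielandt-type rank 3 computation. -/
theorem wielandt_dioph (k m : ℕ) (β : ℤ) (d : ℕ) (hd : d = 0 ∨ d = k) (hm : 2 ≤ m)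
    (hk2 : 2 ≤ k) (hk : k + 3 ≤ 2 * m)
    (h : (2 * (d : ℤ)) = 2 * ((k : ℤ) + ((m : ℤ) - 1) * β) ^ 2 + ((m : ℤ) - 1) * β ^ 2) :
    ∃ a : ℕ, 0 < a ∧ m = 2 * a ^ 2 + 2 * a + 1 ∧
      (k = a * (2 * a + 1) ∨ k = (a + 1) * (2 * a + 1)) := by
  obtain ⟨w, hw⟩ : ∃ w : ℤ, w = (k : ℤ) + ((m : ℤ) - 1) * β := ⟨_, rfl⟩
  rw [← hw] at h
  have hm1 : (1 : ℤ) ≤ (m : ℤ) - 1 := by omega
  rcases hd with rfl | rfl
  · exfalso
    have h' : 2 * w ^ 2 + ((m : ℤ) - 1) * β ^ 2 = 0 := by
      have h0 := h
      simp only [Nat.cast_zero, mul_zero] at h0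
      linarith
    have h1 : 0 ≤ ((m : ℤ) - 1) * β ^ 2 := mul_nonneg (by omega) (sq_nonneg β)
    have h2 : w ^ 2 = 0 := by nlinarith [sq_nonneg w]
    have h3 : β ^ 2 = 0 := by nlinarith [sq_nonneg β, sq_nonneg w]
    have hw0 : w = 0 := by simpa using h2
    have hβ0 : β = 0 := by simpa using h3
    rw [hw0, hβ0] at hw
    simp at hw
    omega
  · have hkw : (d : ℤ) = w - ((m : ℤ) - 1) * β := by rw [hw]; ring
    have hmain : 2 * (w * (w - 1)) + ((m : ℤ) - 1) * (β * (β + 2)) = 0 := by
      rw [hkw] at h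
      linear_combination -h
    have hww : 0 ≤ w * (w - 1) := by
      rcases le_or_gt w 0 with h0 | h0
      · nlinarith
      · nlinarith
    have hββ : β * (β + 2) ≤ 0 := by
      by_contra hcon
      push Not at hcon
      nlinarith
    have hβlo : -2 ≤ β := by nlinarith
    have hβhi : β ≤ 0 := by nlinarith
    interval_cases β
    · -- β = -2
      exfalso
      have h1 : w * (w - 1) = 0 := by linarith
      rcases mul_eq_zero.mp h1 with h2 | h2
      · rw [h2] at hkw; omega
      · have : w = 1 := by omega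
        rw [this] at hkw; omega
    · -- β = -1
      have h1 : 2 * (w * (w - 1)) = (m : ℤ) - 1 := by linarith
      have hk' : (d : ℤ) = w + ((m : ℤ) - 1) := by rw [hkw]; ring
      rcases le_or_gt w 0 with h0 | h0
      · obtain ⟨a, ha⟩ : ∃ a : ℕ, (a : ℤ) = -w := ⟨(-w).toNat, Int.toNat_of_nonneg (by omega)⟩
        have hwa : w = -(a : ℤ) := by omega
        subst hwa
        have hm' : (m : ℤ) = 2 * (a : ℤ) ^ 2 + 2 * a + 1 := by linear_combination -h1
        have hk'' : (d : ℤ) = (a : ℤ) * (2 * a + 1) := by rw [hk', hm']; ring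
        refine ⟨a, ?_, by exact_mod_cast hm', Or.inl (by exact_mod_cast hk'')⟩
        by_contra ha0
        have : a = 0 := by omega
        subst this
        simp at hm'
        omega
      · obtain ⟨a, ha⟩ : ∃ a : ℕ, (a : ℤ) = w - 1 := ⟨(w - 1).toNat, Int.toNat_of_nonneg (by omega)⟩
        have hwa : w = (a : ℤ) + 1 := by omega
        subst hwa
        have hm' : (m : ℤ) = 2 * (a : ℤ) ^ 2 + 2 * a + 1 := by linear_combination -h1
        have hk'' : (d : ℤ) = ((a : ℤ) + 1) * (2 * a + 1) := by rw [hk', hm']; ring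
        refine ⟨a, ?_, by exact_mod_cast hm', Or.inr (by exact_mod_cast hk'')⟩
        by_contra ha0
        have : a = 0 := by omega
        subst this
        simp at hm'
        omega
    · -- β = 0
      exfalso
      have h1 : w * (w - 1) = 0 := by linarith
      rcases mul_eq_zero.mp h1 with h2 | h2
      · rw [h2] at hkw; omega
      · have : w = 1 := by omega
        rw [this] at hkw; omega

/-- The complex algebra behind the Wielandt-type rank 3 computation. -/
theorem wielandt_alg (k m d N₂ N₃ s t : ℂ) (hm : m ≠ 0)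
    (E1 : 0 = k + s * (m - 1) + t * m)
    (E2 : d + s * t = (k - s) * (k - t) * (1 / (2 * m)))
    (E3 : N₂ - (s + t) = (k - s) * (k - t) * (1 / (2 * m)))
    (E4 : N₃ = (k - s) * (k - t) * (1 / (2 * m))) :
    2 * d = 2 * (k + (m - 1) * (N₂ - N₃)) ^ 2 + (m - 1) * (N₂ - N₃) ^ 2 := by
  have hβ : s + t = N₂ - N₃ := by rw [E4, ← E3]; ring
  obtain ⟨β, hβd⟩ : ∃ β, β = N₂ - N₃ := ⟨_, rfl⟩
  rw [← hβd] at hβ ⊢
  have ht : t = -k - (m - 1) * β := by linear_combination -E1 - (m - 1) * hβ
  have hs : s = k + m * β := by linear_combination hβ - ht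
  have h4 : N₃ * (2 * m) = (k - s) * (k - t) := by rw [E4]; field_simp
  have h2 : (d + s * t) * (2 * m) = (k - s) * (k - t) := by rw [E2]; field_simp
  have h5 : 2 * N₃ = -β * (2 * k + (m - 1) * β) := by
    apply mul_right_cancel₀ hm
    rw [hs, ht] at h4
    linear_combination h4
  have h6 : d = N₃ - s * t := by
    have h7 : (d + s * t - N₃) * (2 * m) = 0 := by linear_combination h2 - h4
    rcases mul_eq_zero.mp h7 with h | h
    · linear_combination h
    · exfalso
      rcases mul_eq_zero.mp h with h' | h'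
      · norm_num at h'
      · exact hm h'
  rw [h6, hs, ht]
  linear_combination h5

/-- The set of points `z` joined to `a` in both directions by the orbital of `(a, b)` is either
empty or the whole suborbit. -/
theorem card_paired_rel (a b : Ω) :
    Nat.card {z // (∃ g : G, g • a = a ∧ g • b = z) ∧ (∃ g : G, g • a = z ∧ g • b = a)} = 0 ∨
    Nat.card {z // (∃ g : G, g • a = a ∧ g • b = z) ∧ (∃ g : G, g • a = z ∧ g • b = a)} =
      Nat.card {z // ∃ g : G, g • a = a ∧ g • b = z} := by
  by_cases hex : ∃ z, (∃ g : G, g • a = a ∧ g • b = z) ∧ (∃ g : G, g • a = z ∧ g • b = a)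
  · right
    obtain ⟨z, ⟨h, h1, h2⟩, ⟨g, h3, h4⟩⟩ := hex
    have hu1 : (h⁻¹ * g) • a = b := by rw [mul_smul, h3, ← h2, inv_smul_smul]
    have hu2 : (h⁻¹ * g) • b = a := by rw [mul_smul, h4, inv_smul_eq_iff, h1]
    apply Nat.card_congr
    apply Equiv.subtypeEquivRight
    intro y
    constructor
    · exact fun hy => hy.1
    · rintro ⟨f, hf1, hf2⟩
      refine ⟨⟨f, hf1, hf2⟩, f * (h⁻¹ * g), ?_, ?_⟩
      · rw [mul_smul, hu1, hf2]
      · rw [mul_smul, hu2, hf1]
  · left
    rw [Nat.card_eq_zero]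
    left
    exact ⟨fun z => hex ⟨z.1, z.2⟩⟩

/-- In a rank 3 action, besides the suborbit of `b ≠ a₀` there is a third suborbit. -/
theorem exists_third_suborbit (a₀ : Ω)
    (hrank : Nat.card (MulAction.orbitRel.Quotient (MulAction.stabilizer G a₀) Ω) = 3)
    (b : Ω) (hb : b ≠ a₀) :
    ∃ b' : Ω, b' ≠ a₀ ∧ b' ∉ MulAction.orbit (MulAction.stabilizer G a₀) b ∧
      Nat.card (MulAction.orbit (MulAction.stabilizer G a₀) b) +
        Nat.card (MulAction.orbit (MulAction.stabilizer G a₀) b') + 1 ≤ Fintype.card Ω := by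
  classical
  have hfinQ : Fintype (MulAction.orbitRel.Quotient (MulAction.stabilizer G a₀) Ω) :=
    Fintype.ofFinite _
  obtain ⟨q₀, hq₀⟩ : ∃ q : MulAction.orbitRel.Quotient (MulAction.stabilizer G a₀) Ω,
    Quotient.mk'' a₀ = q := ⟨_, rfl⟩
  obtain ⟨q₁, hq₁⟩ : ∃ q : MulAction.orbitRel.Quotient (MulAction.stabilizer G a₀) Ω,
    Quotient.mk'' b = q := ⟨_, rfl⟩
  have hfix : ∀ x : Ω, x ∈ MulAction.orbit (MulAction.stabilizer G a₀) a₀ → x = a₀ := by
    rintro x ⟨⟨h, hh⟩, rfl⟩
    exact hh
  have h01 : q₀ ≠ q₁ := by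
    intro h
    rw [← hq₀, ← hq₁] at h
    obtain ⟨⟨g, hg⟩, hgb⟩ : a₀ ∈ MulAction.orbit (MulAction.stabilizer G a₀) b :=
      Quotient.exact' h
    have hgb' : g • b = a₀ := hgb
    have hg' : g • a₀ = a₀ := hg
    apply hb
    apply smul_left_cancel g
    rw [hgb', hg']
  have hex : ∃ q : MulAction.orbitRel.Quotient (MulAction.stabilizer G a₀) Ω,
      q ≠ q₀ ∧ q ≠ q₁ := by
    by_contra hcon
    push Not at hcon
    have hsub : (Finset.univ : Finset (MulAction.orbitRel.Quotient
        (MulAction.stabilizer G a₀) Ω)) ⊆ {q₀, q₁} := by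
      intro q _
      by_cases h : q = q₀
      · simp [h]
      · simp [hcon q h]
    have hc := Finset.card_le_card hsub
    rw [Finset.card_univ, ← Nat.card_eq_fintype_card, hrank] at hc
    have := Finset.card_le_two (a := q₀) (b := q₁)
    omega
  obtain ⟨q, hq0, hq1⟩ := hex
  have hout : ∀ q' : MulAction.orbitRel.Quotient (MulAction.stabilizer G a₀) Ω,
      (Quotient.mk'' q'.out : MulAction.orbitRel.Quotient (MulAction.stabilizer G a₀) Ω) = q' :=
    fun q' => Quotient.out_eq' q'
  have hb'0 : q.out ≠ a₀ := by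
    intro h
    apply hq0
    rw [← hout q, h, hq₀]
  have hb'1 : q.out ∉ MulAction.orbit (MulAction.stabilizer G a₀) b := by
    intro h
    apply hq1
    rw [← hout q, ← hq₁]
    exact Quotient.sound' h
  refine ⟨q.out, hb'0, hb'1, ?_⟩
  have hsum := card_eq_sum_suborbits (G := G) a₀
  have hle := Finset.sum_le_sum_of_subset (f := fun ω : MulAction.orbitRel.Quotient
    (MulAction.stabilizer G a₀) Ω => Nat.card (MulAction.orbit (MulAction.stabilizer G a₀) ω.out))
    (Finset.subset_univ ({q₀, q₁, q} : Finset _))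
  rw [Finset.sum_insert (by simp [h01, Ne.symm hq0]), Finset.sum_pair (Ne.symm hq1)] at hle
  have hpos : 0 < Nat.card (MulAction.orbit (MulAction.stabilizer G a₀) q₀.out) := by
    have : Nonempty (MulAction.orbit (MulAction.stabilizer G a₀) q₀.out) :=
      ⟨⟨_, MulAction.mem_orbit_self _⟩⟩
    exact Nat.card_pos
  have hq1o : MulAction.orbit (MulAction.stabilizer G a₀) q₁.out =
      MulAction.orbit (MulAction.stabilizer G a₀) b := by
    apply MulAction.orbit_eq_iff.mpr
    have h3 : (Quotient.mk'' q₁.out : MulAction.orbitRel.Quotient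
        (MulAction.stabilizer G a₀) Ω) = Quotient.mk'' b := (hout q₁).trans hq₁.symm
    exact Quotient.exact' h3
  rw [hq1o] at hle
  omega

end Rank3

end Cfsg.Agent.Lib.helper16
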