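import Mathlib
import Cfsg.Agent.Lib.helper26.S4409Defs

/-! S4409 piece KFN4 (helper16): `NoP Y` transferred to subgroups of `↥Y`. -/

set_option autoImplicit false

namespace Cfsg.Agent.Lib.helper26.S4409

variable {G : Type*} [Group G]

theorem kfn4 (Y : Subgroup G) (hN : NoP Y) :
    ∀ A : Subgroup ↥Y, IsMulCommutative ↥A → Nat.card ↥A = 8 → IsCyclic ↥A := by
  intro A hA h8
  let e : ↥A ≃* ↥(A.map Y.subtype) := A.equivMapOfInjective Y.subtype Y.subtype_injective
  have hle : A.map Y.subtype ≤ Y := by
    rintro _ ⟨a, _, rfl⟩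
    exact a.2
  have hc : IsMulCommutative ↥(A.map Y.subtype) := by
    refine ⟨⟨fun x y => ?_⟩⟩
    have h := hA.is_comm.comm (e.symm x) (e.symm y)
    have := congrArg e h
    simpa using this
  have hcard : Nat.card ↥(A.map Y.subtype) = 8 := by
    rw [← Nat.card_congr e.toEquiv]; exact h8
  have hcyc := hN _ hle hc hcard
  exact isCyclic_of_surjective e.symm.toMonoidHom e.symm.surjective
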