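import Mathlib
import Cfsg.Agent.Lib.helper26.S4409Defs

/-! S4409 piece QZ (helper16): centre and unique involution of a quaternion subgroup of order 8. -/

set_option autoImplicit false

namespace Cfsg.Agent.Lib.helper26.S4409

variable {G : Type*} [Group G]

theorem qz (M : Subgroup G) (hQ : IsQ8 M) : ∃ z : G, z ∈ M ∧ z ≠ 1 ∧ z * z = 1 ∧
    (∀ m ∈ M, m * m = 1 → m = 1 ∨ m = z) ∧
    M ⊓ Subgroup.centralizer (M : Set G) = Subgroup.zpowers z ∧ Nat.card ↥M = 8 := by
  obtain ⟨e⟩ := hQ
  have k1 : (QuaternionGroup.a 2 : QuaternionGroup 2) ≠ 1 := by decide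
  have k2 : (QuaternionGroup.a 2 : QuaternionGroup 2) * QuaternionGroup.a 2 = 1 := by decide
  have k3 : ∀ m : QuaternionGroup 2, m * m = 1 → m = 1 ∨ m = QuaternionGroup.a 2 := by decide
  have k4 : ∀ m : QuaternionGroup 2, (∀ y, m * y = y * m) → (m = 1 ∨ m = QuaternionGroup.a 2) := by
    decide
  have k5 : ∀ y : QuaternionGroup 2, QuaternionGroup.a 2 * y = y * QuaternionGroup.a 2 := by decide
  set z' : ↥M := e.symm (QuaternionGroup.a 2) with hz'
  have ez : e z' = QuaternionGroup.a 2 := by simp [hz']
  have hz1 : z' ≠ 1 := by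
    intro h
    apply k1
    rw [← ez, h, map_one]
  have hz2 : z' * z' = 1 := by
    apply e.injective
    rw [map_mul, ez, k2, map_one]
  have hinv : ∀ m : ↥M, m * m = 1 → m = 1 ∨ m = z' := by
    intro m hm
    have h := k3 (e m) (by rw [← map_mul, hm, map_one])
    rcases h with h | h
    · left; apply e.injective; rw [h, map_one]
    · right; apply e.injective; rw [h, ez]
  have hcen : ∀ m : ↥M, (∀ y : ↥M, m * y = y * m) → m = 1 ∨ m = z' := by
    intro m hm
    have h := k4 (e m) (by
      intro y
      obtain ⟨y', rfl⟩ := e.surjective y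
      rw [← map_mul, hm, map_mul])
    rcases h with h | h
    · left; apply e.injective; rw [h, map_one]
    · right; apply e.injective; rw [h, ez]
  have hzc : ∀ y : ↥M, z' * y = y * z' := by
    intro y
    apply e.injective
    rw [map_mul, map_mul, ez, k5]
  refine ⟨(z' : G), z'.2, ?_, ?_, ?_, ?_, ?_⟩
  · intro h
    apply hz1
    exact Subtype.ext h
  · have := congrArg Subtype.val hz2
    simpa using this
  · intro m hm hmm
    rcases hinv ⟨m, hm⟩ (Subtype.ext (by simpa using hmm)) with h | h
    · left; simpa using congrArg Subtype.val h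
    · right; simpa using congrArg Subtype.val h
  · apply le_antisymm
    · intro x hx
      have hxM : x ∈ M := hx.1
      have hxC : ∀ g ∈ (M : Set G), g * x = x * g := Subgroup.mem_centralizer_iff.mp hx.2
      have h := hcen ⟨x, hxM⟩ (by
        intro y
        apply Subtype.ext
        simpa using (hxC y y.2).symm)
      rcases h with h | h
      · have : x = 1 := by simpa using congrArg Subtype.val h
        rw [this]; exact one_mem _
      · have : x = (z' : G) := by simpa using congrArg Subtype.val h
        rw [this]; exact Subgroup.mem_zpowers _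
    · rw [Subgroup.zpowers_le]
      refine ⟨z'.2, ?_⟩
      refine Subgroup.mem_centralizer_iff.mpr ?_
      intro m hm
      have := congrArg Subtype.val (hzc ⟨m, hm⟩)
      simpa using this.symm
  · rw [Nat.card_congr e.toEquiv, Nat.card_eq_fintype_card, QuaternionGroup.card]
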