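import Mathlib
import Cfsg.Agent.Lib.helper26.S4409Defs
import Cfsg.Agent.Lib.helper59.AutQ8
import Cfsg.Agent.Lib.helper16.S4409_QZ

/-! S4409 piece Q8LA (helper16): a 2-group normalizing a quaternion subgroup `Q` of order 8 with
`C_X(Q) ≤ Q` has order dividing 16. -/

set_option autoImplicit false

namespace Cfsg.Agent.Lib.helper26.S4409

variable {G : Type*} [Group G]

theorem q8la [Finite G] (X Q : Subgroup G) (hX : IsPGroup 2 ↥X) (hQX : Q ≤ X)
    (hn : X ≤ Subgroup.normalizer (Q : Set G)) (hQ : IsQ8 Q)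
    (hC : X ⊓ Subgroup.centralizer (Q : Set G) ≤ Q) : Nat.card ↥X ∣ 16 := by
  obtain ⟨z, hzQ, hz1, hz2, -, hcen, -⟩ := qz Q hQ
  obtain ⟨e⟩ := hQ
  let φ : ↥X →* MulAut ↥Q := Q.normalizerMonoidHom.comp (Subgroup.inclusion hn)
  have h1 : Nat.card ↥X = Nat.card φ.ker * Nat.card φ.range := by
    rw [← Subgroup.card_mul_index φ.ker, Subgroup.index_ker]
  -- the kernel
  have hker : Nat.card φ.ker ∣ 2 := by
    have hle : φ.ker.map X.subtype ≤ Subgroup.zpowers z := by
      rintro _ ⟨x, hx, rfl⟩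
      rw [← hcen]
      have hx' : Subgroup.inclusion hn x ∈ Q.normalizerMonoidHom.ker := hx
      rw [Subgroup.normalizerMonoidHom_ker, Subgroup.mem_subgroupOf] at hx'
      have hxc : (x : G) ∈ Subgroup.centralizer (Q : Set G) := hx'
      exact ⟨hC ⟨x.2, hxc⟩, hxc⟩
    have hcard : Nat.card (φ.ker.map X.subtype) = Nat.card φ.ker :=
      (Nat.card_congr (φ.ker.equivMapOfInjective X.subtype X.subtype_injective).toEquiv).symm
    have hz : Nat.card (Subgroup.zpowers z) = 2 := by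
      rw [Nat.card_zpowers]
      exact orderOf_eq_prime (by rw [pow_two]; exact hz2) hz1
    rw [← hcard, ← hz]
    exact Subgroup.card_dvd_of_le hle
  -- the range
  have haut : Nat.card (MulAut ↥Q) = 24 := by
    rw [Nat.card_congr (MulAut.congr e).toEquiv]
    exact Cfsg.Agent.Lib.helper59.AutQ8.card_mulAut
  have hr24 : Nat.card φ.range ∣ 24 := by
    rw [← haut]; exact Subgroup.card_subgroup_dvd_card _
  obtain ⟨n, hn2⟩ := hX.exists_card_eq
  have hr2 : Nat.card φ.range ∣ 2 ^ n := by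
    rw [← hn2, h1]; exact Dvd.intro_left _ rfl
  obtain ⟨j, -, hj⟩ := (Nat.dvd_prime_pow Nat.prime_two).mp hr2
  have hj3 : j ≤ 3 := by
    by_contra hcon
    have h16 : 2 ^ 4 ∣ 24 := by
      refine (pow_dvd_pow 2 (by omega : 4 ≤ j)).trans ?_
      rw [← hj]; exact hr24
    norm_num at h16
  have hr8 : Nat.card φ.range ∣ 8 := by
    rw [hj]; exact pow_dvd_pow 2 hj3
  rw [h1]
  exact mul_dvd_mul hker hr8
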