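-- helper16: a doubly transitive group whose point stabiliser is `T ⋊ D` with `T` regular on the
-- remaining points, `D` (the two-point stabiliser) transitive on the other points and having a
-- subgroup of index two invariant under an involution swapping the two points, has a subgroup
-- of index two (a "Bruhat" closure argument).
import Mathlib

set_option autoImplicit false
set_option linter.style.haveILetI false
set_option linter.unusedSectionVars false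
set_option linter.unusedVariables false

namespace Cfsg.Agent.Lib.helper16.Sharp3Idx

open MulAction

variable {G : Type*} [Group G] {Ω : Type*} [MulAction G Ω]

set_option maxHeartbeats 1600000 in
theorem index_two_of_bn {a b : Ω} (hab : a ≠ b)
    (T : Subgroup G) (hTa : T ≤ stabilizer G a)
    (hTn : ∀ x ∈ stabilizer G a, ∀ t ∈ T, x * t * x⁻¹ ∈ T)
    (hTtr : ∀ c e : Ω, c ≠ a → e ≠ a → ∃ t ∈ T, t • c = e)
    (hTfree : ∀ t ∈ T, t ≠ 1 → ∀ c : Ω, t • c = c → c = a)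
    (hT1 : ∃ t ∈ T, t ≠ 1)
    (hDtr : ∀ y z : Ω, y ≠ a → y ≠ b → z ≠ a → z ≠ b →
      ∃ k : G, k • a = a ∧ k • b = b ∧ k • y = z)
    (N₀ : Subgroup G) (hN₀ : N₀ ≤ stabilizer G a ⊓ stabilizer G b)
    (hidx : N₀.relIndex (stabilizer G a ⊓ stabilizer G b) = 2)
    (s : G) (hsa : s • a = b) (hsb : s • b = a) (hss : s * s = 1)
    (hsN : ∀ n ∈ N₀, s * n * s⁻¹ ∈ N₀) :
    ∃ S : Subgroup G, S.index = 2 := by
  classical
  obtain ⟨D, hD⟩ : ∃ D : Subgroup G, D = stabilizer G a ⊓ stabilizer G b := ⟨_, rfl⟩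
  rw [← hD] at hN₀ hidx
  have hDmem : ∀ x : G, x ∈ D ↔ x • a = a ∧ x • b = b := by
    intro x
    rw [hD, Subgroup.mem_inf, mem_stabilizer_iff, mem_stabilizer_iff]
  have hba : b ≠ a := Ne.symm hab
  have hsinv : s⁻¹ = s := inv_eq_of_mul_eq_one_left hss
  have hTfix : ∀ t ∈ T, t • a = a := fun t ht => mem_stabilizer_iff.mp (hTa ht)
  have hDa : ∀ d ∈ D, d ∈ stabilizer G a := fun d hd =>
    mem_stabilizer_iff.mpr ((hDmem d).mp hd).1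
  -- arithmetic modulo `N₀`
  have hidx' : (N₀.subgroupOf D).index = 2 := hidx
  have hZ1 : ∀ d ∈ D, ∀ d' ∈ D, (d * d' ∈ N₀ ↔ (d ∈ N₀ ↔ d' ∈ N₀)) := by
    intro d hd d' hd'
    have h := Subgroup.mul_mem_iff_of_index_two hidx' (a := ⟨d, hd⟩) (b := ⟨d', hd'⟩)
    simpa [Subgroup.mem_subgroupOf] using h
  have hZ2 : ∀ d : G, (d⁻¹ ∈ N₀ ↔ d ∈ N₀) := fun d => inv_mem_iff
  have hDs : ∀ d ∈ D, s * d * s⁻¹ ∈ D := by
    intro d hd
    rw [hDmem] at hd ⊢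
    rw [hsinv]
    constructor
    · rw [mul_smul, mul_smul, hsa, hd.2, hsb]
    · rw [mul_smul, mul_smul, hsb, hd.1, hsa]
  have hZ3 : ∀ d ∈ D, (s * d * s⁻¹ ∈ N₀ ↔ d ∈ N₀) := by
    intro d hd
    constructor
    · intro h
      have h2 := hsN _ h
      have h3 : s * (s * d * s⁻¹) * s⁻¹ = d := by
        rw [hsinv]
        calc s * (s * d * s) * s = (s * s) * d * (s * s) := by group
          _ = d := by rw [hss, one_mul, mul_one]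
      rwa [h3] at h2
    · exact hsN d
  obtain ⟨h₁, hh₁D, hh₁N⟩ : ∃ h₁ ∈ D, h₁ ∉ N₀ := by
    by_contra hcon
    push Not at hcon
    have h1 : N₀.relIndex D = 1 := Subgroup.relIndex_eq_one.mpr (fun x hx => hcon x hx)
    omega
  have hNn : ∀ d ∈ D, ∀ n ∈ N₀, d * n * d⁻¹ ∈ N₀ := by
    intro d hd n hn
    have e1 := hZ1 n (hN₀ hn) d⁻¹ (D.inv_mem hd)
    have e2 := hZ1 d hd (n * d⁻¹) (D.mul_mem (hN₀ hn) (D.inv_mem hd))
    have e3 := hZ2 d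
    rw [mul_assoc]
    tauto
  -- the subgroup `B₀ = T N₀`
  obtain ⟨B₀, hB₀mem⟩ : ∃ B₀ : Subgroup G, ∀ x, x ∈ B₀ ↔ ∃ t ∈ T, ∃ n ∈ N₀, x = t * n := by
    refine ⟨{ carrier := {x | ∃ t ∈ T, ∃ n ∈ N₀, x = t * n}
              one_mem' := ⟨1, T.one_mem, 1, N₀.one_mem, (mul_one 1).symm⟩
              mul_mem' := ?_
              inv_mem' := ?_ }, fun x => Iff.rfl⟩
    · rintro x y ⟨t, ht, n, hn, rfl⟩ ⟨t', ht', n', hn', rfl⟩
      refine ⟨t * (n * t' * n⁻¹), T.mul_mem ht (hTn n (hDa n (hN₀ hn)) t' ht'), n * n',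
        N₀.mul_mem hn hn', ?_⟩
      group
    · rintro x ⟨t, ht, n, hn, rfl⟩
      refine ⟨n⁻¹ * t⁻¹ * n⁻¹⁻¹, hTn n⁻¹ (hDa n⁻¹ (D.inv_mem (hN₀ hn))) t⁻¹ (T.inv_mem ht), n⁻¹,
        N₀.inv_mem hn, ?_⟩
      group
  have hNB : ∀ n ∈ N₀, n ∈ B₀ := fun n hn =>
    (hB₀mem n).mpr ⟨1, T.one_mem, n, hn, (one_mul n).symm⟩
  have hTB : ∀ t ∈ T, t ∈ B₀ := fun t ht =>
    (hB₀mem t).mpr ⟨t, ht, 1, N₀.one_mem, (mul_one t).symm⟩
  have hB₀a : ∀ x ∈ B₀, x • a = a := by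
    intro x hx
    obtain ⟨t, ht, n, hn, rfl⟩ := (hB₀mem x).mp hx
    rw [mul_smul, ((hDmem n).mp (hN₀ hn)).1, hTfix t ht]
  -- decompositions of the point stabiliser
  have hGa : ∀ x : G, x • a = a → ∃ τ ∈ T, ∃ d ∈ D, x = τ * d := by
    intro x hx
    have hxb : x • b ≠ a := fun h => hba (smul_left_cancel x (h.trans hx.symm))
    obtain ⟨τ, hτ, hτb⟩ := hTtr b (x • b) hba hxb
    refine ⟨τ, hτ, τ⁻¹ * x, (hDmem _).mpr ⟨?_, ?_⟩, by group⟩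
    · rw [mul_smul, hx, inv_smul_eq_iff, hTfix τ hτ]
    · rw [mul_smul, ← hτb, inv_smul_smul]
  have hGa' : ∀ x : G, x • a = a → ∃ d ∈ D, ∃ τ ∈ T, x = d * τ := by
    intro x hx
    have hx' : x⁻¹ • a = a := by rw [inv_smul_eq_iff, hx]
    obtain ⟨τ, hτ, d, hd, h⟩ := hGa x⁻¹ hx'
    refine ⟨d⁻¹, D.inv_mem hd, τ⁻¹, T.inv_mem hτ, ?_⟩
    rw [← mul_inv_rev, ← h, inv_inv]
  have hBru : ∀ w : G, w • a = b → ∀ g : G, g • a ≠ a →
      ∃ τ ∈ T, ∃ x : G, x • a = a ∧ g = τ * w * x := by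
    intro w hw g hg
    obtain ⟨τ, hτ, hτb⟩ := hTtr b (g • a) hba hg
    refine ⟨τ, hτ, (τ * w)⁻¹ * g, ?_, by group⟩
    rw [mul_smul, ← hτb, inv_smul_eq_iff, mul_smul, hw]
  -- the two-point stabiliser is transitive on `T \ {1}` by conjugation
  have hconj : ∀ t ∈ T, t ≠ 1 → ∀ t' ∈ T, t' ≠ 1 → ∃ d ∈ D, t' = d * t * d⁻¹ := by
    intro t ht ht1 t' ht' ht'1
    have hy1 : t • b ≠ a := fun h => hba (smul_left_cancel t (h.trans (hTfix t ht).symm))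
    have hy2 : t • b ≠ b := fun h => hba (hTfree t ht ht1 b h)
    have hy1' : t' • b ≠ a := fun h => hba (smul_left_cancel t' (h.trans (hTfix t' ht').symm))
    have hy2' : t' • b ≠ b := fun h => hba (hTfree t' ht' ht'1 b h)
    obtain ⟨k, hka, hkb, hky⟩ := hDtr (t • b) (t' • b) hy1 hy2 hy1' hy2'
    refine ⟨k, (hDmem k).mpr ⟨hka, hkb⟩, ?_⟩
    have hu : t'⁻¹ * (k * t * k⁻¹) ∈ T :=
      T.mul_mem (T.inv_mem ht') (hTn k (mem_stabilizer_iff.mpr hka) t ht)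
    have hkb' : k⁻¹ • b = b := by rw [inv_smul_eq_iff, hkb]
    have hub : (t'⁻¹ * (k * t * k⁻¹)) • b = b := by
      rw [mul_smul, mul_smul, mul_smul, hkb', hky, inv_smul_smul]
    by_contra hne
    have hu1 : t'⁻¹ * (k * t * k⁻¹) ≠ 1 := fun h => hne (inv_mul_eq_one.mp h)
    exact hba (hTfree _ hu hu1 b hub)
  -- the Bruhat normal form of `s t₀ s⁻¹`
  obtain ⟨t₀, ht₀, ht₀1⟩ := hT1
  have hsinva : s⁻¹ • a = b := by rw [hsinv, hsa]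
  have hg₀a : (s * t₀ * s⁻¹) • a ≠ a := by
    rw [mul_smul, mul_smul, hsinva]
    intro h
    have h2 : t₀ • b = b := smul_left_cancel s (h.trans hsb.symm)
    exact hba (hTfree t₀ ht₀ ht₀1 b h2)
  obtain ⟨τ₁, hτ₁, x', hx'a, hg₀⟩ := hBru s hsa _ hg₀a
  obtain ⟨d', hd', τ₂, hτ₂, rfl⟩ := hGa' x' hx'a
  obtain ⟨x, hxdef⟩ : ∃ x : G, x = s * d' * s⁻¹ := ⟨_, rfl⟩
  have hxD : x ∈ D := by rw [hxdef]; exact hDs d' hd'
  have hg₀' : s * t₀ * s⁻¹ = τ₁ * x * s * τ₂ := by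
    rw [hg₀, hxdef]
    group
  have hstar : ∀ t ∈ T, t ≠ 1 → ∃ τ ∈ T, ∃ y ∈ D, ∃ τ' ∈ T, (y ∈ N₀ ↔ x ∈ N₀) ∧
      s * t * s⁻¹ = τ * y * s * τ' := by
    intro t ht ht1
    obtain ⟨d, hd, rfl⟩ := hconj t₀ ht₀ ht₀1 t ht ht1
    obtain ⟨e, hedef⟩ : ∃ e : G, e = s * d * s⁻¹ := ⟨_, rfl⟩
    have heD : e ∈ D := by rw [hedef]; exact hDs d hd
    have heN : e ∈ N₀ ↔ d ∈ N₀ := by rw [hedef]; exact hZ3 d hd
    have he : d⁻¹ * s * e = s := by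
      rw [hedef]
      calc d⁻¹ * s * (s * d * s⁻¹) = d⁻¹ * (s * s) * d * s⁻¹ := by group
        _ = s⁻¹ := by rw [hss]; group
        _ = s := hsinv
    refine ⟨e * τ₁ * e⁻¹, hTn e (hDa e heD) τ₁ hτ₁, e * x * d⁻¹,
      D.mul_mem (D.mul_mem heD hxD) (D.inv_mem hd), e * τ₂ * e⁻¹, hTn e (hDa e heD) τ₂ hτ₂,
      ?_, ?_⟩
    · have e1 := hZ1 e heD (x * d⁻¹) (D.mul_mem hxD (D.inv_mem hd))
      have e2 := hZ1 x hxD d⁻¹ (D.inv_mem hd)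
      have e3 := hZ2 d
      rw [mul_assoc]
      tauto
    · have h1 : s * (d * t₀ * d⁻¹) * s⁻¹ = e * (s * t₀ * s⁻¹) * e⁻¹ := by
        rw [hedef]; group
      rw [h1, hg₀']
      calc e * (τ₁ * x * s * τ₂) * e⁻¹ = e * τ₁ * x * s * τ₂ * e⁻¹ := by group
        _ = e * τ₁ * x * (d⁻¹ * s * e) * τ₂ * e⁻¹ := by rw [he]
        _ = e * τ₁ * e⁻¹ * (e * x * d⁻¹) * s * (e * τ₂ * e⁻¹) := by group
  -- the right representative `w` of the Weyl element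
  obtain ⟨w, hwa, hww, hwN, hwT⟩ : ∃ w : G, w • a = b ∧ w * w ∈ N₀ ∧
      (∀ n ∈ N₀, w * n * w⁻¹ ∈ N₀) ∧
      (∀ t ∈ T, t ≠ 1 → ∃ β ∈ B₀, ∃ β' ∈ B₀, w * t * w⁻¹ = β * w * β') := by
    by_cases hx : x ∈ N₀
    · refine ⟨s, hsa, by rw [hss]; exact N₀.one_mem, hsN, ?_⟩
      intro t ht ht1
      obtain ⟨τ, hτ, y, hy, τ', hτ', hyN, h⟩ := hstar t ht ht1
      exact ⟨τ * y, (hB₀mem _).mpr ⟨τ, hτ, y, hyN.mpr hx, rfl⟩, τ', hTB τ' hτ', h⟩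
    · have hh₁s : s * h₁ * s⁻¹ ∉ N₀ := fun h => hh₁N ((hZ3 h₁ hh₁D).mp h)
      have hh₁s' : s * h₁⁻¹ * s⁻¹ ∉ N₀ := fun h =>
        hh₁N ((hZ2 h₁).mp ((hZ3 h₁⁻¹ (D.inv_mem hh₁D)).mp h))
      refine ⟨h₁ * s, ?_, ?_, ?_, ?_⟩
      · rw [mul_smul, hsa, ((hDmem h₁).mp hh₁D).2]
      · have h1 : h₁ * s * (h₁ * s) = h₁ * (s * h₁ * s⁻¹) := by
          rw [hsinv]; group
        rw [h1]
        have e1 := hZ1 h₁ hh₁D (s * h₁ * s⁻¹) (hDs h₁ hh₁D)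
        tauto
      · intro n hn
        have h1 : h₁ * s * n * (h₁ * s)⁻¹ = h₁ * (s * n * s⁻¹) * h₁⁻¹ := by group
        rw [h1]
        exact hNn h₁ hh₁D _ (hsN n hn)
      · intro t ht ht1
        obtain ⟨τ, hτ, y, hy, τ', hτ', hyN, h⟩ := hstar t ht ht1
        have hyN' : y ∉ N₀ := fun h' => hx (hyN.mp h')
        have hν : h₁ * y * (s * h₁⁻¹ * s⁻¹) * h₁⁻¹ ∈ N₀ := by
          have p1 : h₁ * y ∈ N₀ :=
            (hZ1 h₁ hh₁D y hy).mpr ⟨fun h => absurd h hh₁N, fun h => absurd h hyN'⟩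
          have p2 : h₁ * y * (s * h₁⁻¹ * s⁻¹) ∉ N₀ := fun h =>
            hh₁s' (((hZ1 (h₁ * y) (D.mul_mem hh₁D hy) (s * h₁⁻¹ * s⁻¹)
              (hDs _ (D.inv_mem hh₁D))).mp h).mp p1)
          exact (hZ1 (h₁ * y * (s * h₁⁻¹ * s⁻¹))
            (D.mul_mem (D.mul_mem hh₁D hy) (hDs _ (D.inv_mem hh₁D))) h₁⁻¹
            (D.inv_mem hh₁D)).mpr
            ⟨fun h => absurd h p2, fun h => absurd ((hZ2 h₁).mp h) hh₁N⟩
        have hβ : h₁ * τ * h₁⁻¹ * (h₁ * y * (s * h₁⁻¹ * s⁻¹) * h₁⁻¹) ∈ B₀ :=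
          (hB₀mem _).mpr ⟨h₁ * τ * h₁⁻¹, hTn h₁ (hDa h₁ hh₁D) τ hτ,
            h₁ * y * (s * h₁⁻¹ * s⁻¹) * h₁⁻¹, hν, rfl⟩
        refine ⟨h₁ * τ * h₁⁻¹ * (h₁ * y * (s * h₁⁻¹ * s⁻¹) * h₁⁻¹), hβ,
          h₁ * τ' * h₁⁻¹, hTB _ (hTn h₁ (hDa h₁ hh₁D) τ' hτ'), ?_⟩
        have h1 : h₁ * s * t * (h₁ * s)⁻¹ = h₁ * (s * t * s⁻¹) * h₁⁻¹ := by group
        rw [h1, h]
        group
  have hwwB : w * w ∈ B₀ := hNB _ hww
  -- conjugates of `B₀` by `w`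
  have hK' : ∀ z ∈ B₀, w * z * w⁻¹ ∈ B₀ ∨ ∃ β ∈ B₀, ∃ β' ∈ B₀, w * z * w⁻¹ = β * w * β' := by
    intro z hz
    obtain ⟨t, ht, n, hn, rfl⟩ := (hB₀mem z).mp hz
    have h1 : w * (t * n) * w⁻¹ = (w * t * w⁻¹) * (w * n * w⁻¹) := by group
    by_cases ht1 : t = 1
    · left
      rw [h1, ht1, mul_one, mul_inv_cancel, one_mul]
      exact hNB _ (hwN n hn)
    · right
      obtain ⟨β, hβ, β', hβ', h⟩ := hwT t ht ht1
      refine ⟨β, hβ, β' * (w * n * w⁻¹), B₀.mul_mem hβ' (hNB _ (hwN n hn)), ?_⟩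
      rw [h1, h]
      group
  -- the subgroup `B₀ ∪ B₀ w B₀`
  obtain ⟨S, hSmem⟩ : ∃ S : Subgroup G, ∀ g, g ∈ S ↔
      (g ∈ B₀ ∨ ∃ β ∈ B₀, ∃ β' ∈ B₀, g = β * w * β') := by
    refine ⟨{ carrier := {g | g ∈ B₀ ∨ ∃ β ∈ B₀, ∃ β' ∈ B₀, g = β * w * β'}
              one_mem' := Or.inl B₀.one_mem
              mul_mem' := ?_
              inv_mem' := ?_ }, fun g => Iff.rfl⟩
    · rintro g g' (hg | ⟨β, hβ, β', hβ', rfl⟩) (hg' | ⟨γ, hγ, γ', hγ', rfl⟩)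
      · exact Or.inl (B₀.mul_mem hg hg')
      · refine Or.inr ⟨g * γ, B₀.mul_mem hg hγ, γ', hγ', ?_⟩
        group
      · refine Or.inr ⟨β, hβ, β' * g', B₀.mul_mem hβ' hg', ?_⟩
        group
      · have h1 : β * w * β' * (γ * w * γ') = β * (w * (β' * γ) * w⁻¹) * (w * w) * γ' := by
          group
        rcases hK' (β' * γ) (B₀.mul_mem hβ' hγ) with h | ⟨δ, hδ, δ', hδ', h⟩
        · left
          show β * w * β' * (γ * w * γ') ∈ B₀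
          rw [h1]
          exact B₀.mul_mem (B₀.mul_mem (B₀.mul_mem hβ h) hwwB) hγ'
        · right
          refine ⟨β * δ, B₀.mul_mem hβ hδ, δ' * (w * w) * γ',
            B₀.mul_mem (B₀.mul_mem hδ' hwwB) hγ', ?_⟩
          rw [h1, h]
          group
    · rintro g (hg | ⟨β, hβ, β', hβ', rfl⟩)
      · exact Or.inl (B₀.inv_mem hg)
      · refine Or.inr ⟨β'⁻¹, B₀.inv_mem hβ', (w * w)⁻¹ * β⁻¹,
          B₀.mul_mem (B₀.inv_mem hwwB) (B₀.inv_mem hβ), ?_⟩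
        group
  refine ⟨S, ?_⟩
  -- `h₁ ∉ S`
  have hh₁S : h₁ ∉ S := by
    intro h
    rcases (hSmem h₁).mp h with h | ⟨β, hβ, β', hβ', h⟩
    · obtain ⟨t, ht, n, hn, hh⟩ := (hB₀mem h₁).mp h
      have ht' : t = h₁ * n⁻¹ := by rw [hh]; group
      have htb : t • b = b := by
        rw [ht', mul_smul]
        have hnb : n⁻¹ • b = b := by rw [inv_smul_eq_iff, ((hDmem n).mp (hN₀ hn)).2]
        rw [hnb, ((hDmem h₁).mp hh₁D).2]
      have ht1 : t = 1 := by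
        by_contra hne
        exact hba (hTfree t ht hne b htb)
      rw [ht1, one_mul] at hh
      rw [hh] at hh₁N
      exact hh₁N hn
    · have h1 : h₁ • a = a := ((hDmem h₁).mp hh₁D).1
      rw [h, mul_smul, mul_smul, hB₀a β' hβ', hwa] at h1
      exact hba (smul_left_cancel β (h1.trans (hB₀a β hβ).symm))
  have hcover : ∀ g : G, g ∈ S ∨ g * h₁ ∈ S := by
    intro g
    by_cases hg : g • a = a
    · obtain ⟨τ, hτ, d, hd, rfl⟩ := hGa g hg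
      by_cases hdN : d ∈ N₀
      · exact Or.inl ((hSmem _).mpr (Or.inl ((hB₀mem _).mpr ⟨τ, hτ, d, hdN, rfl⟩)))
      · right
        have e1 := hZ1 d hd h₁ hh₁D
        have hdh : d * h₁ ∈ N₀ := by tauto
        exact (hSmem _).mpr (Or.inl ((hB₀mem _).mpr ⟨τ, hτ, d * h₁, hdh, by group⟩))
    · obtain ⟨τ, hτ, x₂, hx₂a, rfl⟩ := hBru w hwa g hg
      obtain ⟨τ', hτ', d, hd, rfl⟩ := hGa x₂ hx₂a
      by_cases hdN : d ∈ N₀
      · exact Or.inl ((hSmem _).mpr (Or.inr ⟨τ, hTB τ hτ, τ' * d,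
          (hB₀mem _).mpr ⟨τ', hτ', d, hdN, rfl⟩, rfl⟩))
      · right
        have e1 := hZ1 d hd h₁ hh₁D
        have hdh : d * h₁ ∈ N₀ := by tauto
        exact (hSmem _).mpr (Or.inr ⟨τ, hTB τ hτ, τ' * (d * h₁),
          (hB₀mem _).mpr ⟨τ', hτ', d * h₁, hdh, rfl⟩, by group⟩)
  rw [Subgroup.index_eq_two_iff]
  refine ⟨h₁, fun g => ?_⟩
  by_cases hg : g ∈ S
  · right
    refine ⟨hg, fun h => hh₁S ?_⟩
    have h2 : h₁ = g⁻¹ * (g * h₁) := by group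
    rw [h2]
    exact S.mul_mem (S.inv_mem hg) h
  · left
    rcases hcover g with h | h
    · exact absurd h hg
    · exact ⟨h, hg⟩

end Cfsg.Agent.Lib.helper16.Sharp3Idx
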