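import Mathlib
import Cfsg.Agent.Lib.helper16.Sharp3

/-!
# Sharply triply transitive groups of degree `p^f + 1`, `p` odd, `f` odd, are `PGL(2, p^f)`
-/

set_option autoImplicit false
set_option linter.style.haveILetI false

namespace Cfsg.Agent.Lib.helper16

open Cfsg.Agent.Lib.helper15.NearField

section NFOdd

variable {K : Type*} [Cfsg.NearField K]

/-- Right multiplication by `-1` is negation in a near-field of characteristic not 2 with
commutative addition. -/
theorem nf_mul_neg_one (hadd : ∀ x y : K, x + y = y + x) (h2 : (1 : K) + 1 ≠ 0) (a : K) :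
    a * (-1) = -a := by
  have hnn : (-1 : K) * (-1) = 1 := by rw [nf_neg_mul, one_mul, neg_neg]
  have hRR : a * (-1) * (-1) = a := by rw [mul_assoc, hnn, mul_one]
  by_contra hne
  have hz : a + a * (-1) ≠ 0 := fun h => hne (eq_neg_of_add_eq_zero_right h)
  have hfix : (a + a * (-1)) * (-1) = a + a * (-1) := by
    rw [nf_right_distrib, hRR, hadd]
  obtain ⟨b, -, hb1, hb2⟩ := nf_exists_inv _ hz
  have h1 : (-1 : K) = 1 := by
    calc (-1 : K) = b * (a + a * (-1)) * (-1) := by rw [hb2, one_mul]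
      _ = b * ((a + a * (-1)) * (-1)) := mul_assoc _ _ _
      _ = 1 := by rw [hfix, hb2]
  apply h2
  have h3 : (1 : K) + -1 = 0 := add_neg_cancel 1
  rwa [h1] at h3

theorem nf_mul_neg (hadd : ∀ x y : K, x + y = y + x) (h2 : (1 : K) + 1 ≠ 0) (a b : K) :
    a * (-b) = -(a * b) := by
  have h1 : -b = (-1 : K) * b := by rw [nf_neg_mul, one_mul]
  rw [h1, ← mul_assoc, nf_mul_neg_one hadd h2, nf_neg_mul]

/-- The characteristic data of a finite near-field of order `p ^ f`. -/
theorem nf_char_of_card [Finite K] {p f : ℕ} (hp : p.Prime) (hcard : Nat.card K = p ^ f) :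
    (∀ x y : K, x + y = y + x) ∧ ∀ x : K, p • x = 0 := by
  obtain ⟨p', j, hp', hj, hcard', hadd, hchar'⟩ := finite_nearField (F := K)
  have h1 : p' ∣ p ^ f := by
    rw [← hcard, hcard']
    exact dvd_pow_self p' (by omega)
  have h2 : p' = p := (Nat.prime_dvd_prime_iff_eq hp' hp).mp (hp'.dvd_of_dvd_pow h1)
  subst h2
  exact ⟨hadd, hchar'⟩

theorem nf_addOrderOf_one {p : ℕ} (hp : p.Prime) (hchar : ∀ x : K, p • x = 0) :
    addOrderOf (1 : K) = p :=
  haveI : Fact p.Prime := ⟨hp⟩
  addOrderOf_eq_prime (hchar 1) (fun h => nf_zero_ne_one h.symm)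

theorem nf_nsmul_one_eq_iff {p : ℕ} (hp : p.Prime) (hchar : ∀ x : K, p • x = 0) (m m' : ℕ) :
    m • (1 : K) = m' • (1 : K) ↔ m ≡ m' [MOD p] := by
  rw [nsmul_eq_nsmul_iff_modEq, nf_addOrderOf_one hp hchar]

theorem nf_nsmul_one_mul (m : ℕ) (x : K) : (m • (1 : K)) * x = m • x := by
  rw [nf_nsmul_mul, one_mul]

theorem nf_nsmul_one_pow (n k : ℕ) : (n • (1 : K)) ^ k = (n ^ k) • (1 : K) := by
  induction k with
  | zero => simp
  | succ k ih => rw [pow_succ, ih, nf_nsmul_mul, one_mul, ← mul_nsmul, pow_succ, mul_comm]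

/-- A prime field element generating the multiplicative group of the prime field. -/
theorem nf_exists_prim {p : ℕ} (hp : p.Prime) (hchar : ∀ x : K, p • x = 0) :
    ∃ (n n' : ℕ) (h : Kˣ), (h : K) = n • (1 : K) ∧ n * n' ≡ 1 [MOD p] ∧ orderOf h = p - 1 := by
  haveI : Fact p.Prime := ⟨hp⟩
  obtain ⟨g, hg⟩ := IsCyclic.exists_generator (α := (ZMod p)ˣ)
  have hordg : orderOf g = p - 1 := by
    rw [orderOf_eq_card_of_forall_mem_zpowers hg, Nat.card_eq_fintype_card, ZMod.card_units]
  have hn : (((g : ZMod p).val : ℕ) : ZMod p) = g := ZMod.natCast_zmod_val _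
  have hn' : ((((g⁻¹ : (ZMod p)ˣ) : ZMod p).val : ℕ) : ZMod p) = ((g⁻¹ : (ZMod p)ˣ) : ZMod p) :=
    ZMod.natCast_zmod_val _
  set n := (g : ZMod p).val with hndef
  set n' := ((g⁻¹ : (ZMod p)ˣ) : ZMod p).val with hn'def
  have hnn' : n * n' ≡ 1 [MOD p] := by
    rw [← ZMod.natCast_eq_natCast_iff]
    push_cast
    rw [hn, hn']
    exact g.mul_inv
  have hpow : ∀ k : ℕ, n ^ k ≡ 1 [MOD p] ↔ orderOf g ∣ k := by
    intro k
    rw [← ZMod.natCast_eq_natCast_iff, orderOf_dvd_iff_pow_eq_one]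
    push_cast
    rw [hn, ← Units.val_pow_eq_pow_val, Units.val_eq_one]
  have hne : n • (1 : K) ≠ 0 := by
    intro h0
    have h1 : n • (1 : K) = 0 • (1 : K) := by rw [h0, zero_smul]
    rw [nf_nsmul_one_eq_iff hp hchar, ← ZMod.natCast_eq_natCast_iff, hn] at h1
    simp at h1
  refine ⟨n, n', (nf_isUnit hne).unit, rfl, hnn', ?_⟩
  have hkey : ∀ k : ℕ, (nf_isUnit hne).unit ^ k = 1 ↔ orderOf g ∣ k := by
    intro k
    rw [← hpow k, ← nf_nsmul_one_eq_iff (K := K) hp hchar, one_smul, ← nf_nsmul_one_pow,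
      ← Units.val_inj, Units.val_pow_eq_pow_val, IsUnit.unit_spec, Units.val_one]
  rw [← hordg]
  apply Nat.dvd_antisymm
  · rw [orderOf_dvd_iff_pow_eq_one, hkey]
  · rw [← hkey, pow_orderOf_eq_one]

end NFOdd

section Sign

variable {K : Type*} [Cfsg.NearField K] [Fintype K] [DecidableEq K]

omit [Fintype K] [DecidableEq K] in
theorem mulRight_pow_apply (u : Kˣ) (k : ℕ) (x : K) :
    ((Units.mulRight u) ^ k) x = x * ((u ^ k : Kˣ) : K) := by
  induction k with
  | zero => simp
  | succ k ih =>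
    rw [pow_succ', Equiv.Perm.mul_apply, ih]
    show x * ((u ^ k : Kˣ) : K) * (u : K) = _
    rw [mul_assoc, ← Units.val_mul, ← pow_succ]

/-- Right multiplication by a generator of the multiplicative group of the prime field is an odd
permutation of a near-field of order `p ^ f`, `p` and `f` odd. -/
theorem sign_mulRight_prim {p f : ℕ} (hp : p.Prime) (hp2 : p ≠ 2) (hf : Odd f)
    (hcard : Fintype.card K = p ^ f) (h : Kˣ) (hord : orderOf h = p - 1) :
    Equiv.Perm.sign (Units.mulRight h) = -1 := by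
  have hp3 : 3 ≤ p := by
    have := hp.two_le
    omega
  have h1 : h ≠ 1 := by
    intro h1
    rw [h1, orderOf_one] at hord
    omega
  have hsupp : (Units.mulRight h).support = Finset.univ.erase 0 := by
    ext x
    rw [Equiv.Perm.mem_support, Finset.mem_erase, Units.mulRight_apply]
    constructor
    · intro hx
      refine ⟨?_, Finset.mem_univ _⟩
      rintro rfl
      exact hx (nf_zero_mul _)
    · rintro ⟨hx, -⟩ hxh
      obtain ⟨u, rfl⟩ := nf_isUnit hx
      apply h1
      have h2 : u * h = u := Units.ext hxh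
      exact mul_eq_left.mp h2
  have hpow1 : (Units.mulRight h) ^ (p - 1) = 1 := by
    ext x
    rw [mulRight_pow_apply, ← hord, pow_orderOf_eq_one, Units.val_one, mul_one,
      Equiv.Perm.one_apply]
  have hall : ∀ l ∈ (Units.mulRight h).cycleType, l = p - 1 := by
    intro l hl
    have hd1 : l ∣ p - 1 :=
      (Equiv.Perm.dvd_of_mem_cycleType hl).trans (orderOf_dvd_of_pow_eq_one hpow1)
    obtain ⟨c, t, hσ, hd, hc, hcl⟩ := Equiv.Perm.mem_cycleType_iff.mp hl
    have hc' := hc
    obtain ⟨x, hx, -⟩ := hc'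
    have htx : t x = x := (hd x).resolve_left hx
    have hx0 : x ≠ 0 := by
      rintro rfl
      have h0 : (Units.mulRight h) 0 = 0 := by
        show (0 : K) * (h : K) = 0
        exact nf_zero_mul _
      rw [hσ, Equiv.Perm.mul_apply, htx] at h0
      exact hx h0
    have hcl1 : c ^ l = 1 := by
      rw [← hcl, ← hc.orderOf]
      exact pow_orderOf_eq_one c
    have hfix : ((Units.mulRight h) ^ l) x = x := by
      rw [hσ, hd.commute.mul_pow, hcl1, one_mul]
      exact Equiv.Perm.pow_apply_eq_self_of_apply_eq_self htx l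
    rw [mulRight_pow_apply] at hfix
    obtain ⟨u, rfl⟩ := nf_isUnit hx0
    have h2 : u * h ^ l = u := Units.ext hfix
    have h3 : h ^ l = 1 := mul_eq_left.mp h2
    have hd2 : p - 1 ∣ l := by
      rw [← hord]
      exact orderOf_dvd_of_pow_eq_one h3
    exact Nat.dvd_antisymm hd1 hd2
  have hrep := Multiset.eq_replicate_card.mpr hall
  set c := Multiset.card (Units.mulRight h).cycleType with hc
  have hsum : c * (p - 1) = p ^ f - 1 := by
    have h2 := Equiv.Perm.sum_cycleType (Units.mulRight h)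
    rw [hsupp, Finset.card_erase_of_mem (Finset.mem_univ _), Finset.card_univ, hcard, hrep,
      Multiset.sum_replicate, smul_eq_mul] at h2
    exact h2
  have hpodd : Odd p := hp.eq_two_or_odd'.resolve_left hp2
  have hS : ∑ k ∈ Finset.range f, p ^ k = c := by
    rw [Nat.geomSum_eq hp.two_le]
    exact Nat.div_eq_of_eq_mul_left (by omega) hsum.symm
  have hcodd : Odd c := by
    rw [← hS, Finset.odd_sum_iff_odd_card_odd]
    have hfil : Finset.filter (fun x => Odd (p ^ x)) (Finset.range f) = Finset.range f :=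
      Finset.filter_true_of_mem (fun x _ => hpodd.pow)
    rw [hfil, Finset.card_range]
    exact hf
  rw [Equiv.Perm.sign_of_cycleType, ← hc, hrep, Multiset.sum_replicate, smul_eq_mul, hsum]
  apply Odd.neg_one_pow
  have hev : Even (p ^ f - 1) := by
    have h3 : Odd (p ^ f) := hpodd.pow
    rcases h3 with ⟨m, hm⟩
    exact ⟨m, by omega⟩
  exact hev.add_odd hcodd

end Sign

section Abstract

/-- An involutive additive map on a finite abelian group of odd exponent `p` splits it as the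
product of its `+1` and `-1` eigenspaces. -/
theorem card_eq_mul_of_involutive {A : Type*} [AddCommGroup A] [Finite A] {p : ℕ} (hp : Odd p)
    (hchar : ∀ x : A, p • x = 0) (g : A → A) (hgadd : ∀ x y : A, g (x + y) = g x + g y)
    (hg : ∀ x, g (g x) = x) :
    Nat.card A = Nat.card {x : A // g x = x} * Nat.card {x : A // g x = -x} := by
  obtain ⟨c, hc⟩ := hp
  let G : A →+ A := AddMonoidHom.mk' g hgadd
  have hG : ∀ x, G x = g x := fun x => rfl
  have hhalf : ∀ z : A, (c + 1) • (z + z) = z := by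
    intro z
    calc (c + 1) • (z + z) = (c + 1) • z + (c + 1) • z := nsmul_add _ _ _
      _ = ((c + 1) + (c + 1)) • z := (add_nsmul _ _ _).symm
      _ = (p + 1) • z := by
        rw [hc]
        congr 1
        omega
      _ = p • z + z := succ_nsmul _ _
      _ = z := by rw [hchar, zero_add]
  rw [← Nat.card_prod]
  apply Nat.card_congr
  refine
    { toFun := fun x => (⟨(c + 1) • (x + g x), ?_⟩, ⟨(c + 1) • (x - g x), ?_⟩)
      invFun := fun ab => (ab.1 : A) + (ab.2 : A)
      left_inv := ?_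
      right_inv := ?_ }
  · rw [← hG, map_nsmul, map_add, hG, hG, hg, add_comm (g x) x]
  · rw [← hG, map_nsmul, map_sub, hG, hG, hg, ← smul_neg, neg_sub]
  · intro x
    show (c + 1) • (x + g x) + (c + 1) • (x - g x) = x
    rw [← nsmul_add]
    have h2 : x + g x + (x - g x) = x + x := by abel
    rw [h2, hhalf]
  · rintro ⟨⟨a, ha⟩, ⟨b, hb⟩⟩
    have h3 : g (a + b) = a - b := by rw [hgadd, ha, hb, sub_eq_add_neg]
    apply Prod.ext
    · apply Subtype.ext
      show (c + 1) • (a + b + g (a + b)) = a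
      rw [h3]
      have h4 : a + b + (a - b) = a + a := by abel
      rw [h4, hhalf]
    · apply Subtype.ext
      show (c + 1) • (a + b - g (a + b)) = b
      rw [h3]
      have h4 : a + b - (a - b) = b + b := by abel
      rw [h4, hhalf]

theorem kt_field {F : Type*} [Field F] (τ : F → F) (h2 : (2 : F) ≠ 0) (h1 : τ 1 = 1)
    (hne : ∀ x, x ≠ 0 → τ x ≠ 0) (hmul : ∀ x y, x ≠ 0 → y ≠ 0 → τ (x * y) = τ x * τ y)
    (hinv : ∀ x, x ≠ 0 → τ (τ x) = x)
    (hKT : ∀ x, x ≠ 0 → x ≠ 1 → τ (1 - τ (1 - τ (1 - x))) = x) :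
    ∀ m : ℕ, (m : F) ≠ 0 → τ m * m = 1 := by
  have hm1 : τ (-1) = -1 := by
    have h3 : τ (-1) * τ (-1) = 1 := by
      rw [← hmul (-1) (-1) (by simp) (by simp)]
      simp [h1]
    have h4 : (τ (-1) - 1) * (τ (-1) + 1) = 0 := by linear_combination h3
    rcases mul_eq_zero.mp h4 with h5 | h5
    · exfalso
      have h6 : τ (-1) = 1 := sub_eq_zero.mp h5
      have h7 := hinv (-1) (by simp)
      rw [h6, h1] at h7
      apply h2
      linear_combination h7
    · exact eq_neg_of_add_eq_zero_left h5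
  intro m
  induction m with
  | zero => intro h; simp at h
  | succ m ih =>
    intro hm
    by_cases hm0 : (m : F) = 0
    · push_cast
      rw [hm0, zero_add, h1, one_mul]
    have ih' := ih hm0
    push_cast at hm ⊢
    set a : F := (m : F) with ha
    have hτa : τ a ≠ 0 := hne a hm0
    have hx0 : -a ≠ 0 := neg_ne_zero.mpr hm0
    have hx1 : -a ≠ 1 := by
      intro h
      apply hm
      linear_combination -h
    have hkt := hKT (-a) hx0 hx1
    rw [sub_neg_eq_add, add_comm 1 a] at hkt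
    set u := τ (a + 1) with hu
    have hu0 : u ≠ 0 := hne _ hm
    have hu1 : u ≠ 1 := by
      intro h
      have h3 := hinv (a + 1) hm
      rw [← hu, h, h1] at h3
      apply hm0
      linear_combination -h3
    have h1u : 1 - u ≠ 0 := sub_ne_zero.mpr (Ne.symm hu1)
    set v := τ (1 - u) with hv
    have hv0 : v ≠ 0 := hne _ h1u
    have hv1 : v ≠ 1 := by
      intro h
      have h3 := hinv (1 - u) h1u
      rw [← hv, h, h1] at h3
      apply hu0
      linear_combination h3
    have h1v : 1 - v ≠ 0 := sub_ne_zero.mpr (Ne.symm hv1)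
    -- τ (1 - v) = -a
    have h5 : 1 - v = τ (-a) := by
      rw [← hkt, hinv _ h1v]
    have h6 : τ (-a) = -τ a := by
      have : -a = (-1) * a := by ring
      rw [this, hmul _ _ (by simp) hm0, hm1]
      ring
    have hτainv : τ a = a⁻¹ := eq_inv_of_mul_eq_one_left ih'
    have hv' : v = (a + 1) * a⁻¹ := by
      have : v = 1 + a⁻¹ := by
        rw [h6, hτainv] at h5
        linear_combination -h5
      rw [this]
      field_simp
    have h7 : τ v = 1 - u := hinv _ h1u
    have hainv0 : a⁻¹ ≠ 0 := inv_ne_zero hm0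
    have h8 : τ (a⁻¹) = a := by
      have h9 := hinv a hm0
      rw [hτainv] at h9
      exact h9
    rw [hv', hmul _ _ hm hainv0, ← hu, h8] at h7
    linear_combination h7

end Abstract

section KT

variable {K : Type*} [Cfsg.NearField K]

/-- A finite near-field of order `p ^ f` (`p`, `f` odd) carrying a `KT`-structure `τ` is
commutative and `τ` is inversion. -/
theorem nf_comm_of_kt [Finite K] {p f : ℕ} (hp : p.Prime) (hp2 : p ≠ 2) (hf : Odd f)
    (hcard : Nat.card K = p ^ f) (τ : K → K)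
    (hne : ∀ x : K, x ≠ 0 → τ x ≠ 0)
    (hmul : ∀ x a : K, x ≠ 0 → a ≠ 0 → τ (x * a) = τ x * τ a)
    (hinv : ∀ x : K, x ≠ 0 → τ (τ x) = x)
    (hfix : ∀ x y z : K, x ≠ 0 → y ≠ 0 → z ≠ 0 → τ x = x → τ y = y → τ z = z →
      x = y ∨ x = z ∨ y = z)
    (hKT : ∀ x : K, x ≠ 0 → x ≠ 1 →
      τ (τ (τ (x * (-1) + 1) * (-1) + 1) * (-1) + 1) = x) :
    (∀ x y : K, x * y = y * x) ∧ ∀ x : K, x ≠ 0 → x * τ x = 1 := by
  classical
  haveI : Fintype K := Fintype.ofFinite K
  obtain ⟨hadd, hchar⟩ := nf_char_of_card hp hcard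
  have hcardF : Fintype.card K = p ^ f := by rw [← Nat.card_eq_fintype_card]; exact hcard
  have h1ne : (1 : K) ≠ 0 := fun h => nf_zero_ne_one h.symm
  have hp3 : 3 ≤ p := by
    have := hp.two_le
    omega
  have hτ1 : τ 1 = 1 := by
    have h := hmul 1 1 h1ne h1ne
    rw [one_mul] at h
    obtain ⟨y, -, h2, -⟩ := nf_exists_inv (τ 1) (hne 1 h1ne)
    calc τ 1 = τ 1 * (τ 1 * y) := by rw [h2, mul_one]
      _ = τ 1 * τ 1 * y := (mul_assoc _ _ _).symm
      _ = τ 1 * y := by rw [← h]
      _ = 1 := h2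
  let φ : Kˣ →* Kˣ :=
    { toFun := fun u => ⟨τ u, τ ((u⁻¹ : Kˣ) : K),
        by rw [← hmul _ _ (nf_unit_ne_zero u) (nf_unit_ne_zero u⁻¹), u.mul_inv, hτ1],
        by rw [← hmul _ _ (nf_unit_ne_zero u⁻¹) (nf_unit_ne_zero u), u.inv_mul, hτ1]⟩
      map_one' := Units.ext hτ1
      map_mul' := fun u v => Units.ext (by
        show τ ((u : K) * (v : K)) = τ u * τ v
        exact hmul _ _ (nf_unit_ne_zero u) (nf_unit_ne_zero v)) }
  have hφval : ∀ u : Kˣ, ((φ u : Kˣ) : K) = τ u := fun u => rfl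
  have hinvol : ∀ u : Kˣ, φ (φ u) = u := by
    intro u
    apply Units.ext
    rw [hφval, hφval]
    exact hinv _ (nf_unit_ne_zero u)
  -- the sign character
  let ε : Kˣ →* ℤˣ :=
    { toFun := fun u => Equiv.Perm.sign (Units.mulRight u)
      map_one' := by
        have h : Units.mulRight (1 : Kˣ) = 1 := by
          ext x
          show x * ((1 : Kˣ) : K) = x
          rw [Units.val_one, mul_one]
        rw [h, Equiv.Perm.sign_one]
      map_mul' := fun u v => by
        have h : Units.mulRight (u * v) = Units.mulRight v * Units.mulRight u := by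
          ext x
          show x * ((u * v : Kˣ) : K) = x * (u : K) * (v : K)
          rw [Units.val_mul, mul_assoc]
        rw [h, Equiv.Perm.sign_mul, mul_comm] }
  have hεval : ∀ u : Kˣ, ε u = Equiv.Perm.sign (Units.mulRight u) := fun u => rfl
  have hεφ : ∀ u : Kˣ, ε (φ u) = ε u := by
    intro u
    let τ' : K → K := fun x => if x = 0 then 0 else τ x
    have hτ'0 : τ' 0 = 0 := if_pos rfl
    have hτ'ne : ∀ x : K, x ≠ 0 → τ' x = τ x := fun x hx => if_neg hx
    have hτ'inv : Function.Involutive τ' := by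
      intro x
      by_cases hx : x = 0
      · rw [hx, hτ'0, hτ'0]
      · rw [hτ'ne x hx, hτ'ne _ (hne x hx), hinv x hx]
    have h : Units.mulRight (φ u) =
        ((hτ'inv.toPerm τ').symm.trans (Units.mulRight u)).trans (hτ'inv.toPerm τ') := by
      ext x
      show x * ((φ u : Kˣ) : K) = τ' (τ' x * (u : K))
      rw [hφval]
      by_cases hx : x = 0
      · rw [hx, hτ'0, nf_zero_mul, nf_zero_mul, hτ'0]
      · rw [hτ'ne x hx, hτ'ne _ (nf_mul_ne_zero _ _ (hne x hx) (nf_unit_ne_zero u)),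
          hmul _ _ (hne x hx) (nf_unit_ne_zero u), hinv x hx]
    rw [hεval, hεval, h, Equiv.Perm.sign_symm_trans_trans]
  obtain ⟨n, n', h, hhval, hnn', hord⟩ := nf_exists_prim (K := K) hp hchar
  have hεh : ε h = -1 := sign_mulRight_prim hp hp2 hf hcardF h hord
  have hidx : ε.ker.index = 2 := by
    rw [Subgroup.index_ker]
    have htop : ε.range = ⊤ := by
      rw [eq_top_iff]
      intro z _
      rcases Int.units_eq_one_or z with rfl | rfl
      · exact ⟨1, map_one ε⟩
      · exact ⟨h, hεh⟩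
    rw [htop, Subgroup.card_top, Nat.card_eq_fintype_card, Fintype.card_units_int]
  have hθmem : ∀ u : Kˣ, φ u * u⁻¹ ∈ ε.ker := by
    intro u
    rw [MonoidHom.mem_ker, map_mul, map_inv, hεφ, mul_inv_cancel]
  have hθfib : ∀ u v : Kˣ, φ u * u⁻¹ = φ v * v⁻¹ → φ (v⁻¹ * u) = v⁻¹ * u := by
    intro u v huv
    rw [map_mul, map_inv]
    calc (φ v)⁻¹ * φ u = (φ v)⁻¹ * (φ u * u⁻¹) * u := by group
      _ = (φ v)⁻¹ * (φ v * v⁻¹) * u := by rw [huv]
      _ = v⁻¹ * u := by group
  have hθsurj : ∀ y ∈ ε.ker, ∃ u : Kˣ, φ u * u⁻¹ = y := by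
    have hfibcard : ∀ a ∈ (Finset.univ : Finset Kˣ).image (fun u => φ u * u⁻¹),
        ((Finset.univ : Finset Kˣ).filter (fun x => φ x * x⁻¹ = a)).card ≤ 2 := by
      intro a _
      by_contra hcon
      rw [not_le, Finset.two_lt_card_iff] at hcon
      obtain ⟨x, y, z, hx, hy, hz, hxy, hxz, hyz⟩ := hcon
      rw [Finset.mem_filter] at hx hy hz
      have h1 := hθfib y x (hy.2.trans hx.2.symm)
      have h2 := hθfib z x (hz.2.trans hx.2.symm)
      have h1' : τ ((x⁻¹ * y : Kˣ) : K) = ((x⁻¹ * y : Kˣ) : K) := by rw [← hφval, h1]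
      have h2' : τ ((x⁻¹ * z : Kˣ) : K) = ((x⁻¹ * z : Kˣ) : K) := by rw [← hφval, h2]
      rcases hfix 1 _ _ h1ne (nf_unit_ne_zero _) (nf_unit_ne_zero _) hτ1 h1' h2' with h3 | h3 | h3
      · have h4 : (1 : Kˣ) = x⁻¹ * y := Units.ext h3
        exact hxy (by rw [← mul_one x, h4, mul_inv_cancel_left])
      · have h4 : (1 : Kˣ) = x⁻¹ * z := Units.ext h3
        exact hxz (by rw [← mul_one x, h4, mul_inv_cancel_left])
      · have h4 : x⁻¹ * y = x⁻¹ * z := Units.ext h3
        exact hyz (mul_left_cancel h4)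
    have hc1 := Finset.card_le_mul_card_image (Finset.univ : Finset Kˣ) 2 hfibcard
    have hc2 := Subgroup.card_mul_index ε.ker
    rw [hidx, Nat.card_eq_fintype_card, Nat.card_eq_fintype_card] at hc2
    have hsub : (Finset.univ : Finset Kˣ).image (fun u => φ u * u⁻¹) ⊆
        (Finset.univ : Finset Kˣ).filter (fun y => y ∈ ε.ker) := by
      intro y hy
      rw [Finset.mem_image] at hy
      obtain ⟨u, -, rfl⟩ := hy
      rw [Finset.mem_filter]
      exact ⟨Finset.mem_univ _, hθmem u⟩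
    have hc3 : ((Finset.univ : Finset Kˣ).filter (fun y => y ∈ ε.ker)).card =
        Fintype.card ε.ker := by
      rw [Fintype.card_subtype]
    have heq := Finset.eq_of_subset_of_card_le hsub (by
      rw [hc3]
      rw [Finset.card_univ] at hc1
      omega)
    intro y hy
    have hy' : y ∈ (Finset.univ : Finset Kˣ).image (fun u => φ u * u⁻¹) := by
      rw [heq, Finset.mem_filter]
      exact ⟨Finset.mem_univ _, hy⟩
    rw [Finset.mem_image] at hy'
    obtain ⟨u, -, hu⟩ := hy'
    exact ⟨u, hu⟩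
  have hNinv : ∀ y ∈ ε.ker, φ y = y⁻¹ := by
    intro y hy
    obtain ⟨u, rfl⟩ := hθsurj y hy
    rw [map_mul, map_inv, hinvol, mul_inv_rev, inv_inv]
  have hNcomm : ∀ y ∈ ε.ker, ∀ z ∈ ε.ker, y * z = z * y := by
    intro y hy z hz
    have h1 := hNinv (y * z) (ε.ker.mul_mem hy hz)
    rw [map_mul, hNinv y hy, hNinv z hz, mul_inv_rev] at h1
    have h2 : (y⁻¹ * z⁻¹)⁻¹ = (z⁻¹ * y⁻¹)⁻¹ := by rw [h1]
    rw [mul_inv_rev, mul_inv_rev, inv_inv, inv_inv] at h2
    exact h2.symm
  -- the generator `h` of the prime field is not in the kernel `N` of `ε`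
  have hpodd : Odd p := hp.eq_two_or_odd'.resolve_left hp2
  have h2' : (1 : K) + 1 ≠ 0 := by
    intro h0
    have h1 : 2 • (1 : K) = 0 • (1 : K) := by rw [two_nsmul, zero_nsmul, h0]
    rw [nf_nsmul_one_eq_iff hp hchar] at h1
    have h3 : 2 % p = 0 % p := h1
    rw [Nat.mod_eq_of_lt (by omega), Nat.zero_mod] at h3
    omega
  have hhN : h ∉ ε.ker := by
    rw [MonoidHom.mem_ker, hεh]
    decide
  have hh2 : h * h ∈ ε.ker := Subgroup.mul_self_mem_of_index_two hidx h
  have hβN : ∀ y ∈ ε.ker, h⁻¹ * y * h ∈ ε.ker := by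
    intro y hy
    have h1 := (MonoidHom.normal_ker ε).conj_mem y hy h⁻¹
    rwa [inv_inv] at h1
  have hβval : ∀ y : Kˣ, (y : K) * (h : K) = n • ((h⁻¹ * y * h : Kˣ) : K) := by
    intro y
    have h1 : y * h = h * (h⁻¹ * y * h) := by group
    rw [← Units.val_mul, h1, Units.val_mul, hhval, nf_nsmul_one_mul]
  have hββ : ∀ y ∈ ε.ker, h⁻¹ * (h⁻¹ * y * h) * h = y := by
    intro y hy
    have h1 := hNcomm (h * h) hh2 y hy
    calc h⁻¹ * (h⁻¹ * y * h) * h = (h * h)⁻¹ * (y * (h * h)) := by group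
      _ = (h * h)⁻¹ * ((h * h) * y) := by rw [h1]
      _ = y := by group
  have hsplit : ∀ z : Kˣ, z ∈ ε.ker ∨ ∃ y ∈ ε.ker, z = y * h := by
    intro z
    by_cases hz : z ∈ ε.ker
    · exact Or.inl hz
    · refine Or.inr ⟨z * h⁻¹, ?_, by group⟩
      rw [Subgroup.mul_mem_iff_of_index_two hidx]
      constructor
      · intro h'; exact absurd h' hz
      · intro h'; exact absurd (ε.ker.inv_mem_iff.mp h') hhN
  have hunit : ∀ z : K, (n * n') • z = z := by
    intro z
    have h1 : (n * n') • z = 1 • z := by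
      rw [nsmul_eq_nsmul_iff_modEq]
      exact hnn'.of_dvd (addOrderOf_dvd_of_nsmul_eq_zero (hchar z))
    rw [h1, one_nsmul]
  have hnsadd : ∀ (m : ℕ) (a b : K), m • (a + b) = m • a + m • b := by
    intro m a b
    exact (show AddCommute a b from hadd a b).add_nsmul m
  obtain ⟨g, hgdef⟩ : ∃ g : K → K, ∀ x, g x = n' • (x * (h : K)) := ⟨_, fun x => rfl⟩
  have hgadd : ∀ x y : K, g (x + y) = g x + g y := by
    intro x y
    rw [hgdef, hgdef, hgdef, nf_right_distrib, hnsadd]
  have hgneg : ∀ x : K, g (-x) = -g x := by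
    intro x
    rw [hgdef, hgdef, nf_neg_mul, neg_nsmul]
  have hgsmul : ∀ (m : ℕ) (x : K), g (m • x) = m • g x := by
    intro m x
    rw [hgdef, hgdef, nf_nsmul_mul, ← mul_nsmul, ← mul_nsmul, mul_comm]
  have hgN : ∀ y ∈ ε.ker, g (y : K) = ((h⁻¹ * y * h : Kˣ) : K) := by
    intro y _
    rw [hgdef, hβval, ← mul_nsmul, hunit]
  have hg0 : g 0 = 0 := by rw [hgdef, nf_zero_mul, nsmul_zero]
  have hgg : ∀ x : K, g (g x) = x := by
    intro x
    by_cases hx : x = 0
    · rw [hx, hg0, hg0]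
    obtain ⟨z, rfl⟩ := nf_isUnit hx
    rcases hsplit z with hz | ⟨y, hy, rfl⟩
    · rw [hgN z hz, hgN _ (hβN z hz), hββ z hz]
    · rw [Units.val_mul, hβval, hgsmul, hgN _ (hβN y hy), hββ y hy, hgsmul, hgN y hy]
  have hW : ∀ v : K, g v = -v → v = 0 := by
    intro v hv
    by_contra hv0
    have hy₀ : ∃ y₀ ∈ ε.ker, g (y₀ : K) = -(y₀ : K) := by
      obtain ⟨z, rfl⟩ := nf_isUnit hv0
      rcases hsplit z with hz | ⟨y, hy, rfl⟩
      · exact ⟨z, hz, hv⟩
      · refine ⟨h⁻¹ * y * h, hβN y hy, ?_⟩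
        rw [Units.val_mul, hβval, hgsmul] at hv
        have h1 : n' • (n • g ((h⁻¹ * y * h : Kˣ) : K)) =
            n' • (-(n • ((h⁻¹ * y * h : Kˣ) : K))) := by rw [hv]
        rw [neg_nsmul, ← mul_nsmul, ← mul_nsmul, hunit, hunit] at h1
        exact h1
    obtain ⟨y₀, hy₀N, hgy₀⟩ := hy₀
    have hβy₀ : ((h⁻¹ * y₀ * h : Kˣ) : K) = -(y₀ : K) := by rw [← hgN y₀ hy₀N, hgy₀]
    have hswap : ∀ x : K, g (x * (y₀ : K)) = -(g x * (y₀ : K)) := by
      intro x
      have h1 : (y₀ : K) * (h : K) = (h : K) * (-(y₀ : K)) := by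
        rw [← hβy₀, ← Units.val_mul, ← Units.val_mul]
        congr 1
        group
      rw [hgdef, hgdef, mul_assoc, h1, ← mul_assoc, nf_mul_neg hadd h2', neg_nsmul,
        nf_nsmul_mul]
    letI acg : AddCommGroup K := { (inferInstance : AddGroup K) with add_comm := hadd }
    have hprod := card_eq_mul_of_involutive (A := K) (p := p) hpodd hchar g hgadd hgg
    have hinj : ∀ a b : K, a * (y₀ : K) = b * (y₀ : K) → a = b := fun a b hab =>
      (Units.mulRight y₀).injective hab
    have hle1 : Nat.card {x : K // g x = x} ≤ Nat.card {x : K // g x = -x} :=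
      Nat.card_le_card_of_injective
        (fun x => (⟨(x : K) * (y₀ : K), by rw [hswap, x.2]⟩ : {x : K // g x = -x})) (by
          intro a b hab
          exact Subtype.ext (hinj _ _ (congrArg Subtype.val hab)))
    have hle2 : Nat.card {x : K // g x = -x} ≤ Nat.card {x : K // g x = x} :=
      Nat.card_le_card_of_injective
        (fun x => (⟨(x : K) * (y₀ : K), by rw [hswap, x.2, nf_neg_mul, neg_neg]⟩ :
          {x : K // g x = x})) (by
          intro a b hab
          exact Subtype.ext (hinj _ _ (congrArg Subtype.val hab)))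
    have hw := le_antisymm hle1 hle2
    rw [hw, hcard] at hprod
    have hdvd : Nat.card {x : K // g x = -x} ∣ p ^ f := ⟨_, hprod⟩
    obtain ⟨i, -, hi⟩ := (Nat.dvd_prime_pow hp).mp hdvd
    rw [hi, ← pow_add] at hprod
    have hfi : f = i + i := Nat.pow_right_injective hp.two_le hprod
    exact (Nat.not_even_iff_odd.mpr hf) ⟨i, hfi⟩
  have hgid : ∀ x : K, g x = x := by
    intro x
    have h1 := hW (x + -(g x)) (by rw [hgadd, hgneg, hgg, neg_add_rev, neg_neg])
    exact (add_neg_eq_zero.mp h1).symm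
  have hRh : ∀ x : K, x * (h : K) = n • x := by
    intro x
    have h1 := hgid x
    rw [hgdef] at h1
    have h3 : n • (n' • (x * (h : K))) = n • x := by rw [h1]
    rw [← mul_nsmul, mul_comm, hunit] at h3
    exact h3
  have hhc : ∀ a : Kˣ, a * h = h * a := by
    intro a
    apply Units.ext
    rw [Units.val_mul, Units.val_mul, hRh, hhval, nf_nsmul_one_mul]
  have hcommU : ∀ a b : Kˣ, a * b = b * a := by
    intro a b
    rcases hsplit a with ha | ⟨y, hy, rfl⟩ <;> rcases hsplit b with hb | ⟨z, hz, rfl⟩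
    · exact hNcomm a ha b hb
    · calc a * (z * h) = (a * z) * h := by group
        _ = (z * a) * h := by rw [hNcomm a ha z hz]
        _ = z * (a * h) := by group
        _ = z * (h * a) := by rw [hhc a]
        _ = z * h * a := by group
    · calc y * h * b = y * (h * b) := by group
        _ = y * (b * h) := by rw [hhc b]
        _ = (y * b) * h := by group
        _ = (b * y) * h := by rw [hNcomm y hy b hb]
        _ = b * (y * h) := by group
    · calc y * h * (z * h) = y * (h * z) * h := by group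
        _ = y * (z * h) * h := by rw [hhc z]
        _ = (y * z) * h * h := by group
        _ = (z * y) * h * h := by rw [hNcomm y hy z hz]
        _ = z * (y * h) * h := by group
        _ = z * (h * y) * h := by rw [hhc y]
        _ = z * h * (y * h) := by group
  have hcomm : ∀ x y : K, x * y = y * x := by
    intro x y
    by_cases hx : x = 0
    · rw [hx, nf_zero_mul, nf_mul_zero]
    by_cases hy : y = 0
    · rw [hy, nf_zero_mul, nf_mul_zero]
    obtain ⟨u, rfl⟩ := nf_isUnit hx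
    obtain ⟨v, rfl⟩ := nf_isUnit hy
    exact congrArg Units.val (hcommU u v)
  -- transport to a field and run the `KT` induction
  obtain ⟨F, fF, ftF, e, hemul, headd, he0, he1, hecard, p', hp', hcp⟩ :=
    exists_field_equiv (K := K) hcomm
  have he_ne : ∀ a : K, a ≠ 0 → e a ≠ 0 := by
    intro a ha h0
    apply ha
    apply e.injective
    rw [h0, he0]
  have he_neg1 : e (-1) = -1 := by
    have h1 : e (-1 + 1) = e (-1) + e 1 := headd _ _
    rw [neg_add_cancel, he0, he1] at h1
    exact eq_neg_of_add_eq_zero_left h1.symm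
  have he_nsmul : ∀ m : ℕ, e (m • (1 : K)) = (m : F) := by
    intro m
    induction m with
    | zero => rw [zero_nsmul, he0, Nat.cast_zero]
    | succ m ih => rw [succ_nsmul, headd, ih, he1, Nat.cast_succ]
  have he_nu : ∀ z : K, e (z * (-1) + 1) = 1 - e z := by
    intro z
    rw [headd, hemul, he_neg1, he1]
    ring
  have h2F : (2 : F) ≠ 0 := by
    intro h0
    have h1 : e ((1 : K) + 1) = e 0 := by
      rw [headd, he1, he0]
      linear_combination h0
    exact h2' (e.injective h1)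
  obtain ⟨τF, hτFdef⟩ : ∃ τF : F → F, ∀ y, τF y = e (τ (e.symm y)) := ⟨_, fun y => rfl⟩
  have hsymm0 : ∀ y : F, y ≠ 0 → e.symm y ≠ 0 := by
    intro y hy h0
    apply hy
    rw [← e.apply_symm_apply y, h0, he0]
  have hsymm1 : e.symm 1 = 1 := by rw [e.symm_apply_eq, he1]
  have hτFe : ∀ w : K, τF (1 - e w) = e (τ (w * (-1) + 1)) := by
    intro w
    rw [hτFdef, ← he_nu, e.symm_apply_apply]
  have hKTF := kt_field τF h2F (by rw [hτFdef, hsymm1, hτ1, he1])
    (fun x hx => by
      rw [hτFdef]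
      exact he_ne _ (hne _ (hsymm0 x hx)))
    (fun x y hx hy => by
      have h1 : e.symm (x * y) = e.symm x * e.symm y := by
        rw [e.symm_apply_eq, hemul, e.apply_symm_apply, e.apply_symm_apply]
      rw [hτFdef, hτFdef, hτFdef, h1, hmul _ _ (hsymm0 x hx) (hsymm0 y hy), hemul])
    (fun x hx => by
      rw [hτFdef, hτFdef, e.symm_apply_apply, hinv _ (hsymm0 x hx), e.apply_symm_apply])
    (fun x hx0 hx1 => by
      have hz0 : e.symm x ≠ 0 := hsymm0 x hx0
      have hz1 : e.symm x ≠ 1 := by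
        intro h1
        apply hx1
        rw [← e.apply_symm_apply x, h1, he1]
      have hxz : x = e (e.symm x) := (e.apply_symm_apply x).symm
      rw [hxz, hτFe, hτFe, hτFe, hKT _ hz0 hz1])
  have hτh : τ (h : K) * (h : K) = 1 := by
    have hnF : (n : F) ≠ 0 := by
      rw [← he_nsmul, ← hhval]
      exact he_ne _ (nf_unit_ne_zero h)
    have h1 := hKTF n hnF
    have h3 : τF (n : F) = e (τ (h : K)) := by
      rw [hτFdef, ← he_nsmul, e.symm_apply_apply, ← hhval]
    rw [h3, ← he_nsmul, ← hhval, ← hemul, ← he1] at h1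
    exact e.injective h1
  refine ⟨hcomm, ?_⟩
  intro x hx
  obtain ⟨z, rfl⟩ := nf_isUnit hx
  have hNτ : ∀ y ∈ ε.ker, (y : K) * τ (y : K) = 1 := by
    intro y hy
    rw [← hφval, hNinv y hy]
    exact y.mul_inv
  rcases hsplit z with hz | ⟨y, hy, rfl⟩
  · exact hNτ z hz
  · rw [Units.val_mul, hmul _ _ (nf_unit_ne_zero y) (nf_unit_ne_zero h), mul_assoc,
      hcomm (h : K) (τ y * τ h), mul_assoc, hτh, mul_one, hNτ y hy]

end KT

section Sharp3Gen

open MulAction SubMulAction

variable {α : Type*} [Fintype α] [DecidableEq α] {G : Type*} [Group G] [Finite G] [MulAction G α]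

/-- In a sharply triply transitive group, the stabiliser of a point is the affine group of a
near-field on the remaining points, and the involution `s` swapping `∞` and `0` and fixing `1`
induces a multiplicative involution `τ` of the non-zero elements. -/
theorem exists_nearField_of_sharp3_gen
    (move3 : ∀ (p0 p1 p2 q0 q1 q2 : α), p0 ≠ p1 → p0 ≠ p2 → p1 ≠ p2 → q0 ≠ q1 → q0 ≠ q2 →
      q1 ≠ q2 → ∃ k : G, k • p0 = q0 ∧ k • p1 = q1 ∧ k • p2 = q2)
    (fix3 : ∀ (g : G) (p0 p1 p2 : α), p0 ≠ p1 → p0 ≠ p2 → p1 ≠ p2 →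
      g • p0 = p0 → g • p1 = p1 → g • p2 = p2 → g = 1)
    (h3 : 3 ≤ Fintype.card α) (inf : α) :
    ∃ (_ : Cfsg.NearField (ofStabilizer G inf)) (s : G)
      (τ : ofStabilizer G inf → ofStabilizer G inf),
      (∀ g : stabilizer G inf, ∃ a b : ofStabilizer G inf, a ≠ 0 ∧
        ∀ x : ofStabilizer G inf, g • x = x * a + b) ∧
      (∀ a b : ofStabilizer G inf, a ≠ 0 → ∃ g : stabilizer G inf,
        ∀ x : ofStabilizer G inf, g • x = x * a + b) ∧
      s • inf = ((0 : ofStabilizer G inf) : α) ∧ s • ((0 : ofStabilizer G inf) : α) = inf ∧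
      s • ((1 : ofStabilizer G inf) : α) = ((1 : ofStabilizer G inf) : α) ∧ s ≠ 1 ∧
      (∀ x : ofStabilizer G inf, x ≠ 0 → ((τ x : ofStabilizer G inf) : α) = s • (x : α)) ∧
      (∀ x : ofStabilizer G inf, x ≠ 0 → τ x ≠ 0) ∧
      (∀ x a : ofStabilizer G inf, x ≠ 0 → a ≠ 0 → τ (x * a) = τ x * τ a) ∧
      (∀ x : ofStabilizer G inf, x ≠ 0 → τ (τ x) = x) := by
  classical
  haveI : Fintype (ofStabilizer G inf) := Fintype.ofFinite _
  have hcardK : Fintype.card (ofStabilizer G inf) + 1 = Fintype.card α := by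
    have h := nat_card_ofStabilizer_add_one_eq G inf
    rwa [Nat.card_eq_fintype_card, Nat.card_eq_fintype_card] at h
  have hK2 : 2 ≤ Fintype.card (ofStabilizer G inf) := by omega
  have hmemK : ∀ x : ofStabilizer G inf, (x : α) ≠ inf := fun x => x.prop
  have h2t : ∀ a b c d : ofStabilizer G inf, a ≠ b → c ≠ d →
      ∃ g : stabilizer G inf, g • a = c ∧ g • b = d := by
    intro a b c d hab hcd
    obtain ⟨g, h0, h1, h2⟩ := move3 inf a b inf c d (hmemK a).symm (hmemK b).symm
      (fun h => hab (Subtype.ext h)) (hmemK c).symm (hmemK d).symm (fun h => hcd (Subtype.ext h))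
    exact ⟨⟨g, h0⟩, Subtype.ext h1, Subtype.ext h2⟩
  have hsh : ∀ (g : stabilizer G inf) (a b : ofStabilizer G inf), a ≠ b → g • a = a →
      g • b = b → g = 1 := by
    intro g a b hab ha hb
    apply Subtype.ext
    exact fix3 g inf a b (hmemK a).symm (hmemK b).symm (fun h => hab (Subtype.ext h))
      (mem_stabilizer_iff.mp g.2) (congrArg Subtype.val ha) (congrArg Subtype.val hb)
  obtain ⟨nf, hG, hG'⟩ := Cfsg.Agent.Lib.helper15.Sharp2NF.exists_nearField h2t hsh hK2
  letI := nf
  obtain ⟨o, ho⟩ : ∃ o : ofStabilizer G inf, o = 0 := ⟨_, rfl⟩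
  obtain ⟨e, he⟩ : ∃ e : ofStabilizer G inf, e = 1 := ⟨_, rfl⟩
  have hoe : (o : α) ≠ e := fun h => nf_zero_ne_one (by rw [← ho, ← he]; exact Subtype.ext h)
  obtain ⟨s, hs1, hs2, hs3⟩ := move3 inf o e o inf e (hmemK o).symm (hmemK e).symm hoe
    (hmemK o) hoe (hmemK e).symm
  have hss : s * s = 1 := by
    apply fix3 (s * s) inf o e (hmemK o).symm (hmemK e).symm hoe
    · rw [mul_smul, hs1, hs2]
    · rw [mul_smul, hs2, hs1]
    · rw [mul_smul, hs3, hs3]
  have hs_ne : s ≠ 1 := by
    intro h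
    rw [h, one_smul] at hs1
    exact (hmemK o) hs1.symm
  have hsinf : ∀ x : ofStabilizer G inf, x ≠ 0 → s • (x : α) ≠ inf := by
    intro x hx h
    apply hx
    rw [← ho]
    apply Subtype.ext
    have h1 : s • (x : α) = s • (o : α) := by rw [h, hs2]
    exact smul_left_cancel s h1
  let τ : ofStabilizer G inf → ofStabilizer G inf := fun x =>
    if h : s • (x : α) = inf then 0 else ⟨s • (x : α), (mem_ofStabilizer_iff G inf).mpr h⟩
  have hτval : ∀ x : ofStabilizer G inf, x ≠ 0 →
      ((τ x : ofStabilizer G inf) : α) = s • (x : α) := by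
    intro x hx
    simp only [τ, dif_neg (hsinf x hx)]
  have hτne : ∀ x : ofStabilizer G inf, x ≠ 0 → τ x ≠ 0 := by
    intro x hx h
    have h1 := hτval x hx
    rw [h, ← ho] at h1
    have h2 : s • (o : α) = (x : α) := by rw [h1, ← mul_smul, hss, one_smul]
    rw [hs2] at h2
    exact hmemK x h2.symm
  have hτmul : ∀ x a : ofStabilizer G inf, x ≠ 0 → a ≠ 0 → τ (x * a) = τ x * τ a := by
    intro x a hx ha
    obtain ⟨g, hg⟩ := hG' a 0 ha
    have hgo : (g : G) • (o : α) = (o : α) := by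
      have h := hg o
      rw [ho, nf_zero_mul, add_zero] at h
      rw [ho]
      exact congrArg Subtype.val h
    have hg'inf : (s * g * s) • inf = inf := by
      rw [mul_smul, mul_smul, hs1, hgo, hs2]
    obtain ⟨a', b', ha', hg'⟩ := hG ⟨s * g * s, hg'inf⟩
    have hg'o : (s * g * s) • (o : α) = (o : α) := by
      rw [mul_smul, mul_smul, hs2, mem_stabilizer_iff.mp g.2, hs1]
    have hb' : b' = 0 := by
      have h := hg' o
      rw [ho, nf_zero_mul, zero_add] at h
      rw [← h, ← ho]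
      exact Subtype.ext hg'o
    have hge : (g : G) • (e : α) = (a : α) := by
      have h := hg e
      rw [he, one_mul, add_zero] at h
      rw [he]
      exact congrArg Subtype.val h
    have ha'τ : a' = τ a := by
      have h := hg' e
      rw [he, one_mul, hb', add_zero] at h
      rw [← h, ← he]
      apply Subtype.ext
      show (s * g * s) • (e : α) = _
      rw [hτval a ha, mul_smul, mul_smul, hs3, hge]
    apply Subtype.ext
    have hxa : x * a ≠ 0 := nf_mul_ne_zero x a hx ha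
    rw [hτval _ hxa]
    have h1 : ((x * a : ofStabilizer G inf) : α) = (g : G) • (x : α) := by
      have h := hg x
      rw [add_zero] at h
      exact (congrArg Subtype.val h).symm
    rw [h1]
    have h2 := hg' (τ x)
    rw [hb', add_zero, ha'τ] at h2
    rw [← h2]
    show s • (g : G) • (x : α) = (s * g * s) • ((τ x : ofStabilizer G inf) : α)
    rw [hτval x hx, mul_smul, mul_smul, ← mul_smul s s, hss, one_smul]
  have hτinv : ∀ x : ofStabilizer G inf, x ≠ 0 → τ (τ x) = x := by
    intro x hx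
    apply Subtype.ext
    rw [hτval _ (hτne x hx), hτval x hx, ← mul_smul, hss, one_smul]
  refine ⟨nf, s, τ, hG, hG', ?_, ?_, ?_, hs_ne, hτval, hτne, hτmul, hτinv⟩
  · rw [← ho]; exact hs1
  · rw [← ho]; exact hs2
  · rw [← he]; exact hs3

end Sharp3Gen

section Sharp3Iso

open MulAction SubMulAction Matrix Projectivization Cfsg.Agent.Lib.helper7
open scoped LinearAlgebra.Projectivization

variable {α : Type*} [Fintype α] [DecidableEq α] {G : Type*} [Group G] [Finite G] [MulAction G α]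

omit [Finite G] in
/-- A sharply triply transitive group whose point stabiliser is the affine group of a commutative
near-field, with the involution swapping `∞` and `0` acting as inversion, is `PGL(2, F)`. -/
theorem sharp3_iso_of_comm [FaithfulSMul G α]
    (move3 : ∀ (p0 p1 p2 q0 q1 q2 : α), p0 ≠ p1 → p0 ≠ p2 → p1 ≠ p2 → q0 ≠ q1 → q0 ≠ q2 →
      q1 ≠ q2 → ∃ k : G, k • p0 = q0 ∧ k • p1 = q1 ∧ k • p2 = q2)
    (inf : α) [nf : Cfsg.NearField (ofStabilizer G inf)] (s : G)
    (hcomm : ∀ x y : ofStabilizer G inf, x * y = y * x)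
    (hG : ∀ g : stabilizer G inf, ∃ a b : ofStabilizer G inf, a ≠ 0 ∧
      ∀ x : ofStabilizer G inf, g • x = x * a + b)
    (hG' : ∀ a b : ofStabilizer G inf, a ≠ 0 → ∃ g : stabilizer G inf,
      ∀ x : ofStabilizer G inf, g • x = x * a + b)
    (hs1 : s • inf = ((0 : ofStabilizer G inf) : α))
    (hs2 : s • ((0 : ofStabilizer G inf) : α) = inf)
    (hs : ∀ x : ofStabilizer G inf, x ≠ 0 → ∃ y : ofStabilizer G inf,
      (y : α) = s • (x : α) ∧ x * y = 1) :
    ∃ (F : Type) (_ : Field F) (_ : Fintype F), Fintype.card F + 1 = Fintype.card α ∧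
      Nonempty (G ≃* Matrix.ProjGenLinGroup (Fin 2) F) := by
  classical
  obtain ⟨F, fF, ftF, e, hemul, headd, he0, he1, hecard, p, hp, hcp⟩ :=
    exists_field_equiv (K := ofStabilizer G inf) hcomm
  have hcardF : Fintype.card F + 1 = Fintype.card α := by
    rw [hecard, nat_card_ofStabilizer_add_one_eq G inf, Nat.card_eq_fintype_card]
  refine ⟨F, fF, ftF, hcardF, ?_⟩
  have hmemK : ∀ x : ofStabilizer G inf, (x : α) ≠ inf := fun x => x.prop
  -- the coordinate map
  let φ : α → ℙ F (Fin 2 → F) := fun y =>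
    if h : y = inf then p1 else pt (e ⟨y, (mem_ofStabilizer_iff G inf).mpr h⟩)
  have hφinf : φ inf = p1 := by simp only [φ, dif_pos rfl]
  have hφK : ∀ x : ofStabilizer G inf, φ (x : α) = pt (e x) := by
    intro x
    simp only [φ, dif_neg (hmemK x)]
  have hcases : ∀ y : α, y = inf ∨ ∃ x : ofStabilizer G inf, (x : α) = y := by
    intro y
    by_cases h : y = inf
    · exact Or.inl h
    · exact Or.inr ⟨⟨y, (mem_ofStabilizer_iff G inf).mpr h⟩, rfl⟩
  have hφinj : Function.Injective φ := by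
    intro y y' h
    rcases hcases y with rfl | ⟨x, rfl⟩ <;> rcases hcases y' with rfl | ⟨x', rfl⟩
    · rfl
    · rw [hφinf, hφK] at h
      exact absurd h.symm (pt_ne_p1 _)
    · rw [hφinf, hφK] at h
      exact absurd h (pt_ne_p1 _)
    · rw [hφK, hφK] at h
      rw [e.injective (pt_injective h)]
  have hφsurj : Function.Surjective φ := by
    intro q
    rcases eq_p1_or_pt q with rfl | ⟨c, rfl⟩
    · exact ⟨inf, hφinf⟩
    · refine ⟨(e.symm c : ofStabilizer G inf), ?_⟩
      rw [hφK, Equiv.apply_symm_apply]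
  have he_ne : ∀ a : ofStabilizer G inf, a ≠ 0 → e a ≠ 0 := by
    intro a ha h
    apply ha
    apply e.injective
    rw [h, he0]
  -- the subgroup of elements acting as Moebius maps
  let M : Subgroup G :=
    { carrier := {g | ∃ m : Matrix.ProjGenLinGroup (Fin 2) F, ∀ y : α, φ (g • y) = m • φ y}
      one_mem' := ⟨1, fun y => by rw [one_smul, one_smul]⟩
      mul_mem' := by
        rintro g g' ⟨m, hm⟩ ⟨m', hm'⟩
        exact ⟨m * m', fun y => by rw [mul_smul, hm, hm', mul_smul]⟩
      inv_mem' := by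
        rintro g ⟨m, hm⟩
        exact ⟨m⁻¹, fun y => by rw [eq_inv_smul_iff, ← hm, smul_inv_smul]⟩ }
  have hstabM : ∀ g : G, g • inf = inf → g ∈ M := by
    intro g hg
    obtain ⟨a, b, ha, hgx⟩ := hG ⟨g, hg⟩
    refine ⟨Matrix.ProjGenLinGroup.mk (affMat (e a) (e b) (he_ne a ha)), ?_⟩
    intro y
    rcases hcases y with rfl | ⟨x, rfl⟩
    · rw [hg, hφinf, affMat_smul_p1]
    · have h1 : g • (x : α) = ((x * a + b : ofStabilizer G inf) : α) := by
        rw [← hgx x]
        rfl
      rw [h1, hφK, hφK, affMat_smul_pt, headd, hemul]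
  have hsM : s ∈ M := by
    refine ⟨Matrix.ProjGenLinGroup.mk swapMat, ?_⟩
    intro y
    rcases hcases y with rfl | ⟨x, rfl⟩
    · rw [hs1, hφK, hφinf, swapMat_smul_p1, he0]
    · by_cases hx : x = 0
      · rw [hx, hs2, hφinf, hφK, he0, swapMat_smul_pt_zero]
      · obtain ⟨y', hy', hxy⟩ := hs x hx
        rw [← hy', hφK, hφK, swapMat_smul_pt _ (he_ne x hx)]
        congr 1
        have h2 : e x * e y' = 1 := by rw [← hemul, hxy, he1]
        exact eq_inv_of_mul_eq_one_right h2
  have hMtop : ∀ g : G, g ∈ M := by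
    intro g
    by_cases hg : g • inf = inf
    · exact hstabM g hg
    · obtain ⟨x, hx⟩ : ∃ x : ofStabilizer G inf, (x : α) = g • inf :=
        ⟨⟨g • inf, (mem_ofStabilizer_iff G inf).mpr hg⟩, rfl⟩
      have h1ne : (1 : ofStabilizer G inf) ≠ 0 := fun h => nf_zero_ne_one h.symm
      obtain ⟨t, ht⟩ := hG' 1 (-x) h1ne
      have htx : (t : G) • (x : α) = ((0 : ofStabilizer G inf) : α) := by
        have h := ht x
        rw [mul_one, add_neg_cancel] at h
        exact congrArg Subtype.val h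
      have h2 : (s * (t : G) * g) • inf = inf := by
        rw [mul_smul, mul_smul, ← hx, htx, hs2]
      have h3 : g = (t : G)⁻¹ * s⁻¹ * (s * (t : G) * g) := by group
      rw [h3]
      exact M.mul_mem (M.mul_mem (M.inv_mem (hstabM t (mem_stabilizer_iff.mp t.2)))
        (M.inv_mem hsM)) (hstabM _ h2)
  have hPGLfaith : ∀ m m' : Matrix.ProjGenLinGroup (Fin 2) F,
      (∀ q : ℙ F (Fin 2 → F), m • q = m' • q) → m = m' := by
    intro m m' h
    have h1 : m'⁻¹ * m = 1 := by
      apply eq_one_of_fix_std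
      · rw [mul_smul, h, inv_smul_smul]
      · rw [mul_smul, h, inv_smul_smul]
      · rw [mul_smul, h, inv_smul_smul]
    exact (inv_mul_eq_one.mp h1).symm
  choose ψ hψ using hMtop
  have hψuniq : ∀ (g : G) (m : Matrix.ProjGenLinGroup (Fin 2) F),
      (∀ y, φ (g • y) = m • φ y) → ψ g = m := by
    intro g m hm
    apply hPGLfaith
    intro q
    obtain ⟨y, rfl⟩ := hφsurj q
    rw [← hψ g y, hm y]
  let Ψ : G →* Matrix.ProjGenLinGroup (Fin 2) F :=
    { toFun := ψ
      map_one' := hψuniq 1 1 (fun y => by rw [one_smul, one_smul])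
      map_mul' := fun g g' => hψuniq _ _ (fun y => by rw [mul_smul, hψ, hψ, mul_smul]) }
  have hΨ : ∀ g y, φ (g • y) = Ψ g • φ y := hψ
  have hinj : Function.Injective Ψ := by
    rw [injective_iff_map_eq_one]
    intro g hg
    apply FaithfulSMul.eq_of_smul_eq_smul (α := α)
    intro y
    rw [one_smul]
    apply hφinj
    rw [hΨ, hg, one_smul]
  have hsurj : Function.Surjective Ψ := by
    intro m
    obtain ⟨y1, hy1⟩ := hφsurj (m • p1)
    obtain ⟨y2, hy2⟩ := hφsurj (m • pt 0)
    obtain ⟨y3, hy3⟩ := hφsurj (m • pt 1)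
    have h01 : (0 : F) ≠ 1 := zero_ne_one
    have h12 : y1 ≠ y2 := by
      intro h
      rw [h, hy2] at hy1
      exact pt_ne_p1 _ (smul_left_cancel m hy1)
    have h13 : y1 ≠ y3 := by
      intro h
      rw [h, hy3] at hy1
      exact pt_ne_p1 _ (smul_left_cancel m hy1)
    have h23 : y2 ≠ y3 := by
      intro h
      rw [h, hy3] at hy2
      exact h01 (pt_injective (smul_left_cancel m hy2)).symm
    have hoe : ((0 : ofStabilizer G inf) : α) ≠ ((1 : ofStabilizer G inf) : α) :=
      fun h => nf_zero_ne_one (Subtype.ext h)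
    obtain ⟨g, hg1, hg2, hg3⟩ := move3 inf ((0 : ofStabilizer G inf) : α)
      ((1 : ofStabilizer G inf) : α) y1 y2 y3 (hmemK 0).symm (hmemK 1).symm hoe h12 h13 h23
    refine ⟨g, ?_⟩
    have h1 : (Ψ g)⁻¹ * m = 1 := by
      apply eq_one_of_fix_std
      · rw [mul_smul, ← hy1, ← hg1, hΨ, inv_smul_smul, hφinf]
      · rw [p2_eq_pt, mul_smul, ← hy2, ← hg2, hΨ, inv_smul_smul, hφK, he0]
      · rw [p12_eq_pt, mul_smul, ← hy3, ← hg3, hΨ, inv_smul_smul, hφK, he1]
    exact inv_mul_eq_one.mp h1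
  exact ⟨MulEquiv.ofBijective Ψ ⟨hinj, hsurj⟩⟩

end Sharp3Iso

section Sharp3Main

open MulAction SubMulAction

variable {α : Type*} [Fintype α] [DecidableEq α] {G : Type*} [Group G] [Finite G] [MulAction G α]

/-- A finite sharply triply transitive group of degree `p ^ f + 1` with `p` an odd prime and `f`
odd is `PGL(2, F)` for a field `F` with `p ^ f` elements. -/
theorem sharp3_pf_odd_iso [FaithfulSMul G α]
    (move3 : ∀ (p0 p1 p2 q0 q1 q2 : α), p0 ≠ p1 → p0 ≠ p2 → p1 ≠ p2 → q0 ≠ q1 → q0 ≠ q2 →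
      q1 ≠ q2 → ∃ k : G, k • p0 = q0 ∧ k • p1 = q1 ∧ k • p2 = q2)
    (fix3 : ∀ (g : G) (p0 p1 p2 : α), p0 ≠ p1 → p0 ≠ p2 → p1 ≠ p2 →
      g • p0 = p0 → g • p1 = p1 → g • p2 = p2 → g = 1)
    {p f : ℕ} (hp : p.Prime) (hp2 : p ≠ 2) (hf : Odd f) (hα : Fintype.card α = p ^ f + 1) :
    ∃ (F : Type) (_ : Field F) (_ : Fintype F), Fintype.card F + 1 = Fintype.card α ∧
      Nonempty (G ≃* Matrix.ProjGenLinGroup (Fin 2) F) := by
  classical
  have hpf : 3 ≤ p ^ f := by
    have h1 : p ≤ p ^ f := Nat.le_self_pow (by rcases hf with ⟨k, hk⟩; omega) p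
    have := hp.two_le
    omega
  have hne : Nonempty α := Fintype.card_pos_iff.mp (by omega)
  obtain ⟨inf⟩ := hne
  obtain ⟨nf, s, τ, hG, hG', hs1, hs2, hs3, hs_ne, hτval, hτne, hτmul, hτinv⟩ :=
    exists_nearField_of_sharp3_gen move3 fix3 (by omega) inf
  letI := nf
  have hmemK : ∀ x : ofStabilizer G inf, (x : α) ≠ inf := fun x => x.prop
  have hcardK : Nat.card (ofStabilizer G inf) = p ^ f := by
    have h := nat_card_ofStabilizer_add_one_eq G inf
    rw [Nat.card_eq_fintype_card (α := α), hα] at h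
    omega
  have h1ne : (1 : ofStabilizer G inf) ≠ 0 := fun h => nf_zero_ne_one h.symm
  have hval_inj : ∀ x y : ofStabilizer G inf, (x : α) = (y : α) → x = y :=
    fun x y h => Subtype.ext h
  -- fixed points of `τ`
  have hfix : ∀ x y z : ofStabilizer G inf, x ≠ 0 → y ≠ 0 → z ≠ 0 → τ x = x → τ y = y →
      τ z = z → x = y ∨ x = z ∨ y = z := by
    intro x y z hx hy hz hτx hτy hτz
    by_contra hcon
    rw [not_or, not_or] at hcon
    obtain ⟨hxy, hxz, hyz⟩ := hcon
    apply hs_ne
    apply fix3 s x y z (fun h => hxy (hval_inj _ _ h)) (fun h => hxz (hval_inj _ _ h))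
      (fun h => hyz (hval_inj _ _ h))
    · rw [← hτval x hx, hτx]
    · rw [← hτval y hy, hτy]
    · rw [← hτval z hz, hτz]
  -- the element of order three
  obtain ⟨ι, hι⟩ := hG' (-1) 1 (neg_ne_zero.mpr h1ne)
  have hιval : ∀ x : ofStabilizer G inf, (ι : G) • (x : α) =
      ((x * (-1) + 1 : ofStabilizer G inf) : α) := by
    intro x
    rw [← hι x]
    rfl
  have hιinf : (ι : G) • inf = inf := mem_stabilizer_iff.mp ι.2
  have hν1 : (1 : ofStabilizer G inf) * (-1) + 1 = 0 := by rw [one_mul, neg_add_cancel]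
  have hν0 : (0 : ofStabilizer G inf) * (-1) + 1 = 1 := by rw [nf_zero_mul, zero_add]
  have hρ3 : (s * (ι : G)) * (s * (ι : G)) * (s * (ι : G)) = 1 := by
    have e1 : (s * (ι : G)) • inf = ((0 : ofStabilizer G inf) : α) := by
      rw [mul_smul, hιinf, hs1]
    have e2 : (s * (ι : G)) • ((0 : ofStabilizer G inf) : α) = ((1 : ofStabilizer G inf) : α) := by
      rw [mul_smul, hιval, hν0, hs3]
    have e3 : (s * (ι : G)) • ((1 : ofStabilizer G inf) : α) = inf := by
      rw [mul_smul, hιval, hν1, hs2]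
    apply fix3 _ inf ((0 : ofStabilizer G inf) : α) ((1 : ofStabilizer G inf) : α)
      (hmemK 0).symm (hmemK 1).symm (fun h => h1ne (hval_inj _ _ h).symm)
    · rw [mul_smul, mul_smul, e1, e2, e3]
    · rw [mul_smul, mul_smul, e2, e3, e1]
    · rw [mul_smul, mul_smul, e3, e1, e2]
  have hρ : ∀ y : ofStabilizer G inf, y ≠ 0 → y ≠ 1 →
      (s * (ι : G)) • (y : α) = ((τ (y * (-1) + 1) : ofStabilizer G inf) : α) ∧
      τ (y * (-1) + 1) ≠ 0 ∧ τ (y * (-1) + 1) ≠ 1 := by
    intro y hy0 hy1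
    have hνy : y * (-1) + 1 ≠ 0 := by
      intro h0
      apply hy1
      apply hval_inj
      have h1 : (ι : G) • (y : α) = (ι : G) • ((1 : ofStabilizer G inf) : α) := by
        rw [hιval, hιval, h0, hν1]
      exact smul_left_cancel _ h1
    have h1 : (s * (ι : G)) • (y : α) = ((τ (y * (-1) + 1) : ofStabilizer G inf) : α) := by
      rw [mul_smul, hιval, hτval _ hνy]
    refine ⟨h1, hτne _ hνy, ?_⟩
    intro h2
    apply hy0
    apply hval_inj
    have h3 : (s * (ι : G)) • (y : α) = (s * (ι : G)) • ((0 : ofStabilizer G inf) : α) := by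
      rw [h1, h2, mul_smul s, hιval, hν0, hs3]
    exact smul_left_cancel _ h3
  have hKT : ∀ x : ofStabilizer G inf, x ≠ 0 → x ≠ 1 →
      τ (τ (τ (x * (-1) + 1) * (-1) + 1) * (-1) + 1) = x := by
    intro x hx0 hx1
    obtain ⟨e1, ha0, ha1⟩ := hρ x hx0 hx1
    obtain ⟨e2, hb0, hb1⟩ := hρ _ ha0 ha1
    obtain ⟨e3, -, -⟩ := hρ _ hb0 hb1
    apply hval_inj
    rw [← e3, ← e2, ← e1, ← mul_smul, ← mul_smul, hρ3, one_smul]
  obtain ⟨hcomm, hinvτ⟩ := nf_comm_of_kt hp hp2 hf hcardK τ hτne hτmul hτinv hfix hKT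
  exact sharp3_iso_of_comm move3 inf s hcomm hG hG' hs1 hs2
    (fun x hx => ⟨τ x, hτval x hx, hinvτ x hx⟩)

end Sharp3Main

end Cfsg.Agent.Lib.helper16
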