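import Mathlib
import Cfsg.Agent.Lib.helper7.SixDefs
import Cfsg.Agent.Lib.helper62.FrobSolvB

/-!
S4291 piece SOLV (helper16): a finite solvable group with at most one involution and cyclic odd
`p`-subgroups has a normal subgroup with cyclic Sylow subgroups and quotient `1`, `V4`, `A4` or `S4`.
-/

set_option autoImplicit false

namespace Cfsg.Agent.Lib.helper16

open Cfsg.Agent.Lib.helper7.Six
open Cfsg.Agent.Lib.helper62.FrobSolv

universe u

/-- cyclic Sylow subgroups of `N` from: the image of `N` modulo an odd normal subgroup is cyclic -/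
theorem sixS_zs {G : Type u} [Group G] [Finite G] (Y : Subgroup G) [Y.Normal]
    (hY : (Nat.card Y).Coprime 2)
    (hodd : ∀ (p : ℕ) [Fact p.Prime], p ≠ 2 → ∀ P : Subgroup G, IsPGroup p P → IsCyclic P)
    (N : Subgroup G) (z : G ⧸ Y) (hz : ∀ g ∈ N, (g : G ⧸ Y) ∈ Subgroup.zpowers z) : ZS N := by
  intro p _ P
  by_cases hp : p = 2
  · subst hp
    let ψ : (P : Subgroup N) →* Subgroup.zpowers z :=
      ((QuotientGroup.mk' Y).comp (N.subtype.comp (P : Subgroup N).subtype)).codRestrict _
        (fun s => hz _ s.1.2)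
    have hψ : Function.Injective ψ := by
      rw [injective_iff_map_eq_one]
      intro s hs
      have h1 : (((s : N) : G) : G ⧸ Y) = 1 := congrArg Subtype.val hs
      have h2 : ((s : N) : G) ∈ Y := (QuotientGroup.eq_one_iff _).mp h1
      obtain ⟨k, hk⟩ := P.isPGroup' s
      have hk' : ((s : N) : G) ^ 2 ^ k = 1 := by
        have := congrArg (fun x : (P : Subgroup N) => ((x : N) : G)) hk
        simpa using this
      have h3 : orderOf ((s : N) : G) ∣ 2 ^ k := orderOf_dvd_of_pow_eq_one hk'
      have h4 : orderOf ((s : N) : G) ∣ Nat.card Y := Subgroup.orderOf_dvd_natCard _ h2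
      have h5 : orderOf ((s : N) : G) = 1 :=
        Nat.eq_one_of_dvd_coprimes (Nat.Coprime.pow_right k hY) h4 h3
      exact Subtype.ext (Subtype.ext (orderOf_eq_one_iff.mp h5))
    exact isCyclic_of_injective ψ hψ
  · have h1 : IsPGroup p ((P : Subgroup N).map N.subtype) := P.isPGroup'.map _
    have h2 : IsCyclic ((P : Subgroup N).map N.subtype) := hodd p hp _ h1
    let e := (P : Subgroup N).equivMapOfInjective N.subtype N.subtype_injective
    exact isCyclic_of_injective e.toMonoidHom e.injective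

/-- the homomorphism from a generalized quaternion group of even parameter onto the four-group -/
def sixS_quatV4 (m : ℕ) (hm : Even m) : QuaternionGroup m →* DihedralGroup 2 where
  toFun q := match q with
    | QuaternionGroup.a i => DihedralGroup.r (ZMod.castHom (dvd_mul_right 2 m) (ZMod 2) i)
    | QuaternionGroup.xa i => DihedralGroup.sr (ZMod.castHom (dvd_mul_right 2 m) (ZMod 2) i)
  map_one' := by
    show DihedralGroup.r (ZMod.castHom (dvd_mul_right 2 m) (ZMod 2) 0) = 1
    rw [map_zero]; rfl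
  map_mul' := by
    have hm0 : ((m : ℕ) : ZMod 2) = 0 := by
      rw [ZMod.natCast_eq_zero_iff]; exact hm.two_dvd
    rintro (i | i) (j | j)
    · show DihedralGroup.r _ = DihedralGroup.r _ * DihedralGroup.r _
      rw [DihedralGroup.r_mul_r, map_add]
    · show DihedralGroup.sr _ = DihedralGroup.r _ * DihedralGroup.sr _
      rw [DihedralGroup.r_mul_sr, map_sub]
    · show DihedralGroup.sr _ = DihedralGroup.sr _ * DihedralGroup.r _
      rw [DihedralGroup.sr_mul_r, map_add]
    · show DihedralGroup.r _ = DihedralGroup.sr _ * DihedralGroup.sr _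
      rw [DihedralGroup.sr_mul_sr, map_sub, map_add, map_natCast, hm0, zero_add]

theorem sixS_quatV4_eq_one {m : ℕ} {hm : Even m} {q : QuaternionGroup m}
    (h : sixS_quatV4 m hm q = 1) : ∃ i, q = QuaternionGroup.a i := by
  rcases q with i | i
  · exact ⟨i, rfl⟩
  · exfalso
    have h1 : DihedralGroup.sr (ZMod.castHom (dvd_mul_right 2 m) (ZMod 2) i) = DihedralGroup.r 0 := h
    cases h1

theorem sixS_quatV4_surjective (m : ℕ) (hm : Even m) :
    Function.Surjective (sixS_quatV4 m hm) := by
  intro y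
  rcases y with j | j
  · obtain ⟨i, hi⟩ := ZMod.ringHom_surjective (ZMod.castHom (dvd_mul_right 2 m) (ZMod 2)) j
    exact ⟨QuaternionGroup.a i, by show DihedralGroup.r _ = _; rw [hi]⟩
  · obtain ⟨i, hi⟩ := ZMod.ringHom_surjective (ZMod.castHom (dvd_mul_right 2 m) (ZMod 2)) j
    exact ⟨QuaternionGroup.xa i, by show DihedralGroup.sr _ = _; rw [hi]⟩

theorem sixS_arith (r k N : ℕ) (h24 : r ∣ 24) (hk : k = 1 ∨ k = 2) (hN : r * k = N) (h8 : 8 ∣ N)
    (hnp : ∀ j, N ≠ 2 ^ j) : r = 12 ∨ r = 24 := by
  have hr : r ≤ 24 := Nat.le_of_dvd (by norm_num) h24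
  have h3 := hnp 3
  have h4 := hnp 4
  subst hN
  rcases hk with rfl | rfl <;> interval_cases r <;> simp_all

/-- S4291 piece SOLV. -/
theorem six_exists_solvable {G : Type*} [Group G] [Finite G] (hsol : Group.IsSolvable G)
    (hUI : ∀ s t : G, s ≠ 1 → t ≠ 1 → s ^ 2 = 1 → t ^ 2 = 1 → s = t)
    (hodd : ∀ (p : ℕ) [Fact p.Prime], p ≠ 2 → ∀ P : Subgroup G, IsPGroup p P → IsCyclic P) :
    ∃ N : Subgroup G, N.Normal ∧ ZS N ∧ SixQ N := by
  classical
  have hp2 : Fact (Nat.Prime 2) := ⟨Nat.prime_two⟩
  have hUI' : UI G := hUI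
  have hYcop : (Nat.card (Cfsg.pPrimeCore 2 G)).Coprime 2 :=
    Cfsg.Agent.Lib.helper40.pPrimeCore_card_coprime 2 G
  have hYodd : Odd (Nat.card (Cfsg.pPrimeCore 2 G)) := Nat.Coprime.odd_of_right hYcop
  have hUIq : UI (G ⧸ Cfsg.pPrimeCore 2 G) := hUI'.quot _ hYodd
  have hsolq : Group.IsSolvable (G ⧸ Cfsg.pPrimeCore 2 G) := inferInstance
  have hcore : Cfsg.pPrimeCore 2 (G ⧸ Cfsg.pPrimeCore 2 G) = ⊥ :=
    Cfsg.Agent.Lib.helper60.pPrimeCore_quotient_eq_bot 2 G
  have hQ : IsPGroup 2 (Cfsg.pCore 2 (G ⧸ Cfsg.pPrimeCore 2 G)) :=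
    Cfsg.Agent.Lib.helper40.pCore_isPGroup 2 _
  have hcent := Cfsg.Agent.Lib.helper60.centralizer_pCore_le (G := G ⧸ Cfsg.pPrimeCore 2 G) 2 hcore
  suffices h : ∃ N : Subgroup G, N.Normal ∧ SixQ N ∧ ∃ z : G ⧸ Cfsg.pPrimeCore 2 G,
      ∀ g ∈ N, (g : G ⧸ Cfsg.pPrimeCore 2 G) ∈ Subgroup.zpowers z by
    obtain ⟨N, hN, hsix, z, hz⟩ := h
    exact ⟨N, hN, sixS_zs _ hYcop hodd N z hz, hsix⟩
  have hcyc_case : IsCyclic (G ⧸ Cfsg.pPrimeCore 2 G) →
      ∃ N : Subgroup G, N.Normal ∧ SixQ N ∧ ∃ z : G ⧸ Cfsg.pPrimeCore 2 G,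
        ∀ g ∈ N, (g : G ⧸ Cfsg.pPrimeCore 2 G) ∈ Subgroup.zpowers z := by
    intro hcyc
    obtain ⟨z, hz⟩ := IsCyclic.exists_generator (α := G ⧸ Cfsg.pPrimeCore 2 G)
    exact ⟨⊤, inferInstance, Or.inl rfl, z, fun g _ => hz _⟩
  by_cases hA : IsPGroup 2 (G ⧸ Cfsg.pPrimeCore 2 G)
  · rcases Cfsg.Agent.S0016.result 2 hA hUIq.uniqueOrderP with hcyc | ⟨-, n, ⟨e⟩⟩
    · exact hcyc_case hcyc
    · rcases Nat.eq_zero_or_pos n with rfl | hn
      · have e1 : (G ⧸ Cfsg.pPrimeCore 2 G) ≃* QuaternionGroup 1 := by simpa using e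
        have := QuaternionGroup.quaternionGroup_one_isCyclic
        exact hcyc_case (isCyclic_of_injective e1.toMonoidHom e1.injective)
      · have hne : NeZero (2 ^ n) := ⟨by positivity⟩
        have hev : Even (2 ^ n) := Nat.even_pow.mpr ⟨even_two, hn.ne'⟩
        let f : G →* DihedralGroup 2 := (sixS_quatV4 (2 ^ n) hev).comp
          (e.toMonoidHom.comp (QuotientGroup.mk' (Cfsg.pPrimeCore 2 G)))
        refine ⟨f.ker, inferInstance, Or.inr (Or.inl ⟨f, ?_, rfl⟩),
          e.symm (QuaternionGroup.a 1), ?_⟩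
        · exact (sixS_quatV4_surjective _ hev).comp
            (e.surjective.comp (QuotientGroup.mk'_surjective _))
        · intro g hg
          have h1 : sixS_quatV4 (2 ^ n) hev (e (g : G ⧸ Cfsg.pPrimeCore 2 G)) = 1 := hg
          obtain ⟨i, hi⟩ := sixS_quatV4_eq_one h1
          obtain ⟨k, hk⟩ := Subgroup.mem_zpowers_iff.mp (quat_a_mem_zpowers i)
          rw [Subgroup.mem_zpowers_iff]
          refine ⟨k, ?_⟩
          rw [← map_zpow, hk, ← hi, MulEquiv.symm_apply_apply]
  · have hUQ : UI (Cfsg.pCore 2 (G ⧸ Cfsg.pPrimeCore 2 G)) := hUIq.subgroup _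
    rcases Cfsg.Agent.S0016.result 2 hQ hUQ.uniqueOrderP with hcyc | ⟨-, n, ⟨e⟩⟩
    · exact absurd (Cfsg.Agent.Lib.helper60.isPGroup_two_of_cyclic_self_centralizing _ hQ hcyc
        hcent) hA
    · rcases Nat.lt_or_ge n 2 with hn | hn
      · interval_cases n
        · exfalso
          have e1 : Cfsg.pCore 2 (G ⧸ Cfsg.pPrimeCore 2 G) ≃* QuaternionGroup 1 := by simpa using e
          have hcyc : IsCyclic (Cfsg.pCore 2 (G ⧸ Cfsg.pPrimeCore 2 G)) := by
            have := QuaternionGroup.quaternionGroup_one_isCyclic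
            exact isCyclic_of_injective e1.toMonoidHom e1.injective
          exact hA (Cfsg.Agent.Lib.helper60.isPGroup_two_of_cyclic_self_centralizing _ hQ hcyc
            hcent)
        · have e2 : Cfsg.pCore 2 (G ⧸ Cfsg.pPrimeCore 2 G) ≃* QuaternionGroup 2 := by simpa using e
          obtain ⟨σ⟩ := Cfsg.Agent.S3742.result
          let cj : (G ⧸ Cfsg.pPrimeCore 2 G) →* MulAut (Cfsg.pCore 2 (G ⧸ Cfsg.pPrimeCore 2 G)) :=
            MulAut.conjNormal
          let fb : (G ⧸ Cfsg.pPrimeCore 2 G) →* Equiv.Perm (Fin 4) :=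
            σ.toMonoidHom.comp ((MulAut.congr e2).toMonoidHom.comp cj)
          let f : G →* Equiv.Perm (Fin 4) := fb.comp (QuotientGroup.mk' (Cfsg.pPrimeCore 2 G))
          obtain ⟨z, hzdef⟩ : ∃ z : G ⧸ Cfsg.pPrimeCore 2 G,
              z = ((e2.symm (QuaternionGroup.a 1) : Cfsg.pCore 2 (G ⧸ Cfsg.pPrimeCore 2 G)) :
                G ⧸ Cfsg.pPrimeCore 2 G) := ⟨_, rfl⟩
          have hker : ∀ x ∈ fb.ker, x = 1 ∨ x = z ^ 2 := by
            intro x hx
            have h1 : σ (MulAut.congr e2 (cj x)) = 1 := hx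
            have h2 : cj x = 1 := by
              have h' := σ.injective (h1.trans (map_one σ).symm)
              exact (MulAut.congr e2).injective (h'.trans (map_one _).symm)
            have h3 : x ∈ Subgroup.centralizer
                (Cfsg.pCore 2 (G ⧸ Cfsg.pPrimeCore 2 G) : Set (G ⧸ Cfsg.pPrimeCore 2 G)) :=
              mem_centralizer_of_conjNormal_eq_one _ h2
            have h4 : x ∈ Cfsg.pCore 2 (G ⧸ Cfsg.pPrimeCore 2 G) := hcent h3
            have h5 : ∀ r : QuaternionGroup 2, r * e2 ⟨x, h4⟩ = e2 ⟨x, h4⟩ * r := by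
              intro r
              have h6 := (Subgroup.mem_centralizer_iff.mp h3) (e2.symm r : G ⧸ Cfsg.pPrimeCore 2 G)
                (e2.symm r).2
              have h7 : e2.symm r * ⟨x, h4⟩ = ⟨x, h4⟩ * e2.symm r := Subtype.ext h6
              have h8 := congrArg e2 h7
              simpa using h8
            rcases q8_center _ h5 with h | h
            · left
              have : (⟨x, h4⟩ : Cfsg.pCore 2 (G ⧸ Cfsg.pPrimeCore 2 G)) = 1 :=
                e2.injective (h.trans (map_one e2).symm)
              exact congrArg Subtype.val this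
            · right
              have : (⟨x, h4⟩ : Cfsg.pCore 2 (G ⧸ Cfsg.pPrimeCore 2 G))
                  = (e2.symm (QuaternionGroup.a 1)) ^ 2 := by
                apply e2.injective
                rw [h, map_pow, MulEquiv.apply_symm_apply]
              have h9 := congrArg Subtype.val this
              rw [hzdef]
              exact h9
          have hzmem : ∀ g ∈ f.ker, (g : G ⧸ Cfsg.pPrimeCore 2 G) ∈ Subgroup.zpowers z := by
            intro g hg
            have hg' : (g : G ⧸ Cfsg.pPrimeCore 2 G) ∈ fb.ker := hg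
            rcases hker _ hg' with h | h
            · rw [h]; exact Subgroup.one_mem _
            · rw [h]; exact Subgroup.pow_mem _ (Subgroup.mem_zpowers _) 2
          have hkcard : Nat.card fb.ker = 1 ∨ Nat.card fb.ker = 2 := by
            have hsub : (fb.ker : Set (G ⧸ Cfsg.pPrimeCore 2 G)) ⊆ {1, z ^ 2} := fun x hx => hker x hx
            have h1 : Nat.card fb.ker ≤ 2 := by
              calc Nat.card fb.ker = (fb.ker : Set (G ⧸ Cfsg.pPrimeCore 2 G)).ncard :=
                    (Nat.card_coe_set_eq _)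
                _ ≤ ({1, z ^ 2} : Set (G ⧸ Cfsg.pPrimeCore 2 G)).ncard :=
                    Set.ncard_le_ncard hsub (Set.toFinite _)
                _ ≤ 2 := by
                    refine (Set.ncard_insert_le _ _).trans ?_
                    rw [Set.ncard_singleton]
            have h2 : 0 < Nat.card fb.ker := Nat.card_pos
            omega
          have hrange : Nat.card fb.range * Nat.card fb.ker
              = Nat.card (G ⧸ Cfsg.pPrimeCore 2 G) := by
            rw [← Subgroup.index_ker, mul_comm]; exact Subgroup.card_mul_index _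
          have h8 : 8 ∣ Nat.card (G ⧸ Cfsg.pPrimeCore 2 G) := by
            have hc : Nat.card (Cfsg.pCore 2 (G ⧸ Cfsg.pPrimeCore 2 G)) = 8 := by
              rw [Nat.card_congr e2.toEquiv, Nat.card_eq_fintype_card, QuaternionGroup.card]
            rw [← hc]; exact Subgroup.card_subgroup_dvd_card _
          have hperm : Nat.card (Equiv.Perm (Fin 4)) = 24 := by
            rw [Nat.card_perm, Nat.card_fin]; rfl
          have h24 : Nat.card fb.range ∣ 24 := by
            have := Subgroup.card_subgroup_dvd_card fb.range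
            rwa [hperm] at this
          have hnp : ∀ j, Nat.card (G ⧸ Cfsg.pPrimeCore 2 G) ≠ 2 ^ j :=
            fun j hj => hA (IsPGroup.of_card hj)
          have hfr : f.range = fb.range := by
            ext y
            constructor
            · rintro ⟨g, rfl⟩; exact ⟨_, rfl⟩
            · rintro ⟨x, rfl⟩
              obtain ⟨g, rfl⟩ := QuotientGroup.mk_surjective x
              exact ⟨g, rfl⟩
          rcases sixS_arith _ _ _ h24 hkcard hrange h8 hnp with h12 | h24'
          · have hidx : fb.range.index = 2 := by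
              have := Subgroup.card_mul_index fb.range
              rw [h12, hperm] at this
              omega
            have halt : fb.range = alternatingGroup (Fin 4) :=
              Equiv.Perm.eq_alternatingGroup_of_index_eq_two hidx
            have hmem : ∀ g : G, f g ∈ alternatingGroup (Fin 4) := by
              intro g
              rw [← halt]
              exact ⟨_, rfl⟩
            refine ⟨f.ker, inferInstance, Or.inr (Or.inr (Or.inl
              ⟨f.codRestrict (alternatingGroup (Fin 4)) hmem, ?_, ?_⟩)), z, hzmem⟩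
            · intro y
              have hy : (y : Equiv.Perm (Fin 4)) ∈ f.range := by
                rw [hfr, halt]; exact y.2
              obtain ⟨g, hg⟩ := hy
              exact ⟨g, Subtype.ext hg⟩
            · exact MonoidHom.ker_codRestrict _ _ _
          · have htop : fb.range = ⊤ := Subgroup.eq_top_of_card_eq _ (by rw [h24', hperm])
            refine ⟨f.ker, inferInstance, Or.inr (Or.inr (Or.inr (Or.inl ⟨f, ?_, rfl⟩))), z, hzmem⟩
            rw [← MonoidHom.range_eq_top, hfr, htop]
      · exfalso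
        have haut : IsPGroup 2 (MulAut (QuaternionGroup (2 ^ n))) :=
          Cfsg.Agent.Lib.helper87.aut_quaternion_isPGroup_two n hn
        have haut' : IsPGroup 2 (MulAut (Cfsg.pCore 2 (G ⧸ Cfsg.pPrimeCore 2 G))) :=
          haut.of_equiv (MulAut.congr e).symm
        exact hA (isPGroup_two_of_aut _ hQ haut' hcent)

end Cfsg.Agent.Lib.helper16
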