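import Mathlib
import Cfsg.Agent.Lib.helper16.U34CDefs
import Cfsg.Agent.Lib.helper15.U34C_D3
import Cfsg.Agent.Lib.helper15.U34C_D4a
import Cfsg.Agent.Lib.helper21.U34C_B2
import Cfsg.Agent.Lib.helper22.U34C_D2
import Cfsg.Agent.Lib.helper22.U34C_D4c
import Cfsg.Agent.Lib.helper27.U34C_A4b
import Cfsg.Agent.Lib.helper33.U34C_D4b
import Cfsg.Agent.Lib.helper4.U34C_A2
import Cfsg.Agent.Lib.helper43.U34C_A1
import Cfsg.Agent.Lib.helper53.U34C_B1
import Cfsg.Agent.Lib.helper6.U34C_C
import Cfsg.Agent.Lib.helper82.U34C_D1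
import Cfsg.Agent.Lib.helper82.U34C_D5
import Cfsg.Agent.Lib.helper9.U34C_A4a
import Cfsg.Agent.Lib.helper91.U34C_A4c
import Cfsg.Agent.Lib.helper97.U34C_A3

/-!
# S1903: assembly of the pieces (groups of order 320 of `U₃(4)`-involution-centralizer type)
-/

set_option autoImplicit false
set_option linter.unusedSectionVars false
set_option linter.unusedVariables false

namespace Cfsg.Agent.Lib.helper16.U34C

open Cfsg
open scoped commutatorElement
open Cfsg.Agent.Lib.helper58 Cfsg.Agent.Lib.helper7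

universe u v

/-- Abstract side: a group with the three numeric hypotheses has generators `u, x` with `Rel`. -/
theorem exists_rel {G : Type*} [Group G] [Finite G] (hG : Nat.card G = 320)
    (hD : Nat.card (commutator G) = 64)
    (hZ : IsKleinFour (Subgroup.center (commutator G))) :
    ∃ u x : G, Rel u x ∧ Subgroup.closure {u, x} = ⊤ := by
  obtain ⟨x, Z, h1⟩ := exists_d1 hG hD hZ
  have h2 := d2_of_d1 hD h1
  have h3 := helper97_d3_of_d12 hD h1 h2
  obtain ⟨u, hu, huZ, hux⟩ := exists_u hD h1 h2 h3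
  exact ⟨u, x, helper27_rel_of_u h1 h3 hu hux, helper91_gen_of_u h1 h2 hu huZ⟩

/-- A group generated by `u, x` with `Rel u x` has order at most 320. -/
theorem card_le_of_rel {H : Type*} [Group H] (u x : H) (h : Rel u x)
    (hgen : Subgroup.closure {u, x} = ⊤) : Finite H ∧ Nat.card H ≤ 320 := by
  apply helper21_card_le_of_gens _ _ _ _ _ _ _ (gens_of_rel u x h hgen)
  rw [eq_top_iff, ← hgen, Subgroup.closure_le]
  intro g hg
  apply Subgroup.subset_closure
  rcases hg with rfl | rfl
  · left; simp [cj]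
  · simp

/-- The facts about the centralizer of `tauE`. -/
theorem centData {F : Type*} [Field F] [Fintype F] (hF : Fintype.card F = 16) (l : F)
    (hl : l ^ 5 = 1) (hl1 : l ≠ 1) : CentData hF l hl := by
  obtain ⟨a, b, c, d, e⟩ := cent_basic hF l hl
  exact ⟨a, b, c, d, e, cent_upper hF l hl hl1⟩

/-- Final assembly. -/
theorem main {G : Type*} [Group G] [Finite G] (hG : Nat.card G = 320)
    (hD : Nat.card (commutator G) = 64)
    (hZ : IsKleinFour (Subgroup.center (commutator G)))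
    {F : Type*} [Field F] [Fintype F] (hF : Fintype.card F = 16) :
    ∃ t : Cfsg.PSU 3 F 4, orderOf t = 2 ∧
      Nonempty (G ≃* Subgroup.centralizer ({t} : Set (Cfsg.PSU 3 F 4))) := by
  obtain ⟨l, hl, hl1⟩ := exists_l hF
  have cd := centData hF l hl hl1
  have c320 := cent_card hF l hl hl1 cd
  obtain ⟨c64, cK⟩ := helper22_cent_klein hF cd.tc (cent_comm hF l hl hl1 cd)
  obtain ⟨t, ht2, ⟨e⟩⟩ := psu_of_su hF (tauE hF) cd.t2
  obtain ⟨u, x, hr, hg⟩ := exists_rel hG hD hZ
  have : Finite ↥(Subgroup.centralizer ({tauE hF} : Set ↥(SU 3 F 4))) :=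
    Nat.finite_of_card_ne_zero (by rw [c320]; norm_num)
  obtain ⟨u', x', hr', hg'⟩ := exists_rel c320 c64 cK
  obtain ⟨e'⟩ := iso_of_rel_core (fun u x h hgen => card_le_of_rel u x h hgen)
    u x u' x' hr hr' hg hg' hG c320
  exact ⟨t, ht2, ⟨e'.trans e.symm⟩⟩

end Cfsg.Agent.Lib.helper16.U34C
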