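-- helper16: existence of the kernel of the point stabiliser of a finite Zassenhaus group
-- (a regular normal subgroup of the point stabiliser on the remaining points), via Frobenius.
import Mathlib
import Cfsg.Prelude.Def_LieExceptional
import Cfsg.Agent.Lib.helper1.Frob
import Cfsg.Agent.Lib.helper16.FeitA

set_option autoImplicit false
set_option linter.style.haveILetI false
set_option linter.unusedSectionVars false
set_option linter.unusedVariables false

namespace Cfsg.Agent.Lib.helper16.ZassAb

open Cfsg Cfsg.Agent.Lib.helper19 Cfsg.Agent.Lib.helper16.ZassOdd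
  Cfsg.Agent.Lib.helper16.Feit Cfsg.Agent.Lib.helper1 MulAction
open scoped Pointwise

section Ker

variable {G Ω : Type*} [Group G] [Finite G] [MulAction G Ω] [Fintype Ω]

/-- The point stabiliser of a finite Zassenhaus group has a subgroup of order `n` (the degree
being `n + 1`) whose non-identity elements fix no further point: its Frobenius kernel. -/
theorem exists_kernel (hZ : Cfsg.IsZassenhausGroup G Ω) {a b : Ω} (hab : a ≠ b) :
    ∃ H : Subgroup G, H ≤ stabilizer G a ∧ Nat.card H + 1 = Fintype.card Ω ∧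
      ∀ u ∈ H, u ≠ 1 → ∀ c : Ω, u • c = c → c = a := by
  classical
  obtain ⟨L, hL⟩ : ∃ L : Subgroup G, L = stabilizer G a := ⟨_, rfl⟩
  obtain ⟨D, hD⟩ : ∃ D : Subgroup G, D = stabilizer G a ⊓ stabilizer G b := ⟨_, rfl⟩
  have hLmem : ∀ x, x ∈ L ↔ x • a = a := by
    intro x
    rw [hL, mem_stabilizer_iff]
  have hDmem : ∀ x, x ∈ D ↔ x • a = a ∧ x • b = b := by
    intro x
    rw [hD]
    exact mem_two_stab x
  have hTI : ∀ x ∈ L, x ∉ D → D ⊓ (MulAut.conj x • D) = ⊥ := by
    intro x hx hxD
    rw [eq_bot_iff]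
    intro y hy
    rw [Subgroup.mem_inf, mem_conj_smul] at hy
    obtain ⟨hy1, hy2⟩ := hy
    rw [hDmem] at hy1 hy2
    have hxa := (hLmem x).mp hx
    have hxb : x • b ≠ b := fun h => hxD ((hDmem x).mpr ⟨hxa, h⟩)
    have hxb' : x • b ≠ a := by
      intro h
      exact hab (MulAction.injective x (h.trans hxa.symm)).symm
    have hfix : y • (x • b) = x • b := by
      have h1 := hy2.2
      rw [mul_smul, mul_smul, inv_smul_eq_iff] at h1
      exact h1
    rw [Subgroup.mem_bot]
    exact hZ.2.2.1 y a b (x • b) hab (Ne.symm hxb) (Ne.symm hxb') hy1.1 hy1.2 hfix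
  obtain ⟨M, hM, -, hMcard⟩ := frobenius_internal L D hTI
  have hDL : D ⊓ L = D := inf_eq_left.mpr (by rw [hD, hL]; exact inf_le_left)
  rw [hDL] at hMcard
  refine ⟨M, ?_, ?_, ?_⟩
  · intro u hu
    rw [← hL]
    exact ((hM u).mp hu).1
  · have h1 := zass_card_eq hZ hab
    have : MulAction.IsPretransitive G Ω :=
      @MulAction.isPretransitive_of_is_two_pretransitive G Ω _ _ hZ.2.1
    have h2 := Subgroup.card_mul_index (stabilizer G a)
    rw [MulAction.index_stabilizer_of_transitive G a] at h2
    have h3 : Nat.card Ω = Fintype.card Ω := Nat.card_eq_fintype_card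
    rw [← hL] at h2
    rw [← hD] at h1
    have hN3 := zass_three_le_card hZ (Ω := Ω)
    have hDpos : 0 < Nat.card D := Nat.card_pos
    have h4 : Nat.card M * Nat.card D * Nat.card Ω
        = (Nat.card Ω - 1) * Nat.card D * Nat.card Ω := by
      rw [hMcard, h2, h1]; ring
    have h5 : Nat.card M = Nat.card Ω - 1 := by
      have h6 := Nat.eq_of_mul_eq_mul_right (by omega) h4
      exact Nat.eq_of_mul_eq_mul_right hDpos h6
    omega
  · intro u hu hu1 c hc
    by_contra hca
    have hu' := (hM u).mp hu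
    rcases hu'.2 with h | h
    · exact hu1 h
    · obtain ⟨g, hga, hgb⟩ := zass_two_trans hZ hab (Ne.symm hca)
      have hgL : g ∈ L := (hLmem g).mpr hga
      apply h g hgL
      rw [mem_conj_smul, hDmem]
      have hua := (hLmem u).mp hu'.1
      constructor
      · rw [mul_smul, mul_smul, hga, hua, inv_smul_eq_iff, hga]
      · rw [mul_smul, mul_smul, hgb, hc, inv_smul_eq_iff, hgb]

/-- The kernel is normal in the point stabiliser and regular on the remaining points. -/
theorem kernel_reg (hZ : Cfsg.IsZassenhausGroup G Ω) {a : Ω} (H : Subgroup G)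
    (hHa : H ≤ stabilizer G a) (hHcard : Nat.card H + 1 = Fintype.card Ω)
    (hHfix : ∀ u ∈ H, u ≠ 1 → ∀ c : Ω, u • c = c → c = a) :
    (H.subgroupOf (stabilizer G a)).Normal ∧
      ∀ y z : Ω, y ≠ a → z ≠ a → ∃! u : H, (u : G) • y = z := by
  have hnorm := zk_normal hZ H hHa hHcard hHfix
  constructor
  · constructor
    intro n hn g
    rw [Subgroup.mem_subgroupOf] at hn ⊢
    exact hnorm g g.2 n hn
  · intro y z hy hz
    obtain ⟨u, hu, huy⟩ := zk_trans hZ H hHa hHcard hHfix hy hz
    refine ⟨⟨u, hu⟩, huy, ?_⟩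
    intro v hv
    by_contra hne
    have h1 : (u⁻¹ * (v : G)) • y = y := by
      rw [mul_smul, hv, ← huy, inv_smul_smul]
    have h2 : u⁻¹ * (v : G) ≠ 1 := by
      intro h
      apply hne
      apply Subtype.ext
      exact (inv_mul_eq_one.mp h).symm
    exact hy (hHfix _ (H.mul_mem (H.inv_mem hu) v.2) h2 y h1)

end Ker

end Cfsg.Agent.Lib.helper16.ZassAb
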