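-- helper16: a simple Zassenhaus group is not sharply triply transitive of even degree
-- (such a group has a subgroup of index two).
import Mathlib
import Cfsg.Prelude.Def_LieExceptional
import Cfsg.Agent.S0729
import Cfsg.Agent.Lib.helper16.ZassAbCase
import Cfsg.Agent.Lib.helper16.Sharp3Index2

set_option autoImplicit false
set_option linter.style.haveILetI false
set_option linter.unusedSectionVars false
set_option linter.unusedVariables false

namespace Cfsg.Agent.Lib.helper16.ZassEven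

open Cfsg Cfsg.Agent.Lib.helper19 Cfsg.Agent.Lib.helper16.ZassOdd
  Cfsg.Agent.Lib.helper16.ZassSimple Cfsg.Agent.Lib.helper16.Feit MulAction
  Cfsg.Agent.Lib.helper16.ZassAb

universe u

variable {G : Type u} {Ω : Type*} [Group G] [MulAction G Ω] [Fintype Ω]

/-- The index-two subgroup of the two-point stabiliser of a sharply triply transitive group of
even degree, invariant under an involution swapping the two points (statement S0729 for an
abstract group action). -/
theorem exists_invariant_index_two {a b c : Ω} (hab : a ≠ b) (hac : a ≠ c)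
    (hbc : b ≠ c) (heven : Even (Fintype.card Ω)) (h6 : 6 ≤ Fintype.card Ω)
    (h3 : IsMultiplyPretransitive G Ω 3) (hsharp : ∀ t : Fin 3 ↪ Ω, stabilizer G t = ⊥)
    (s : G) (hsa : s • a = b) (hsb : s • b = a) (hsc : s • c = c) :
    ∃ N₀ : Subgroup G, N₀ ≤ stabilizer G a ⊓ stabilizer G b ∧
      N₀.relIndex (stabilizer G a ⊓ stabilizer G b) = 2 ∧ ∀ n ∈ N₀, s * n * s⁻¹ ∈ N₀ := by
  classical
  obtain ⟨φ, hφ⟩ : ∃ φ : G →* Equiv.Perm Ω, φ = MulAction.toPermHom G Ω := ⟨_, rfl⟩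
  have hφapp : ∀ (g : G) (x : Ω), φ g x = g • x := by
    intro g x
    rw [hφ]
    rfl
  obtain ⟨R, hR⟩ : ∃ R : Subgroup (Equiv.Perm Ω), R = φ.range := ⟨_, rfl⟩
  have hRsmul : ∀ (r : R) (x : Ω), r • x = (r : Equiv.Perm Ω) x := fun r x => rfl
  have hRle : ∀ σ : Equiv.Perm Ω, σ ∈ R → ∃ g : G, φ g = σ := by
    intro σ hσ
    rw [hR] at hσ
    exact hσ
  have hRex : ∀ r : R, ∃ g : G, φ g = (r : Equiv.Perm Ω) := fun r => hRle r r.2
  have hmemR : ∀ g : G, φ g ∈ R := fun g => by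
    rw [hR]
    exact ⟨g, rfl⟩
  have h3R : IsMultiplyPretransitive R Ω 3 := by
    refine ⟨fun x y => ?_⟩
    obtain ⟨g, hg⟩ := h3.exists_smul_eq x y
    refine ⟨⟨φ g, hmemR g⟩, ?_⟩
    ext i
    have h1 : (g • x) i = y i := DFunLike.congr_fun hg i
    rw [Function.Embedding.smul_apply] at h1 ⊢
    rw [hRsmul]
    exact (hφapp g (x i)).trans h1
  have hsharpR : ∀ x : Fin 3 ↪ Ω, stabilizer R x = ⊥ := by
    intro x
    rw [eq_bot_iff]
    intro r hr
    rw [mem_stabilizer_iff] at hr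
    obtain ⟨g, hg⟩ := hRex r
    have hgx : g ∈ stabilizer G x := by
      rw [mem_stabilizer_iff]
      ext i
      have h1 : (r • x) i = x i := DFunLike.congr_fun hr i
      rw [Function.Embedding.smul_apply] at h1 ⊢
      rw [hRsmul, ← hg] at h1
      exact (hφapp g (x i)).symm.trans h1
    rw [hsharp x, Subgroup.mem_bot] at hgx
    rw [Subgroup.mem_bot]
    apply Subtype.ext
    rw [← hg, hgx, map_one]
    rfl
  have hs'a : (⟨φ s, hmemR s⟩ : R) • a = b := (hφapp s a).trans hsa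
  have hs'b : (⟨φ s, hmemR s⟩ : R) • b = a := (hφapp s b).trans hsb
  have hs'c : (⟨φ s, hmemR s⟩ : R) • c = c := (hφapp s c).trans hsc
  obtain ⟨N', hN'le, -, hN'idx, hN's⟩ := Cfsg.Agent.S0729.result heven h6 R h3R hsharpR hab hac
    hbc ⟨φ s, hmemR s⟩ hs'a hs'b hs'c
  obtain ⟨ψ, hψ⟩ : ∃ ψ : G →* R, ∀ g, ((ψ g : R) : Equiv.Perm Ω) = φ g :=
    ⟨{ toFun := fun g => ⟨φ g, hmemR g⟩
       map_one' := Subtype.ext (map_one φ)
       map_mul' := fun g h => Subtype.ext (map_mul φ g h) }, fun g => rfl⟩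
  have hψsurj : ∀ r : R, ∃ g, ψ g = r := fun r => by
    obtain ⟨g, hg⟩ := hRex r
    exact ⟨g, Subtype.ext ((hψ g).trans hg)⟩
  have hψsmul : ∀ (g : G) (x : Ω), ψ g • x = g • x := fun g x => by
    rw [hRsmul, hψ]
    exact hφapp g x
  have hψs : ψ s = ⟨φ s, hmemR s⟩ := Subtype.ext (hψ s)
  refine ⟨N'.comap ψ, ?_, ?_, ?_⟩
  · intro g hg
    have h1 : ψ g ∈ stabilizer R a ⊓ stabilizer R b := hN'le (Subgroup.mem_comap.mp hg)
    rw [Subgroup.mem_inf, mem_stabilizer_iff, mem_stabilizer_iff] at h1 ⊢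
    exact ⟨(hψsmul g a).symm.trans h1.1, (hψsmul g b).symm.trans h1.2⟩
  · rw [Subgroup.relIndex_comap]
    have hmap : (stabilizer G a ⊓ stabilizer G b).map ψ = stabilizer R a ⊓ stabilizer R b := by
      ext r
      rw [Subgroup.mem_map]
      constructor
      · rintro ⟨g, hg, rfl⟩
        rw [Subgroup.mem_inf, mem_stabilizer_iff, mem_stabilizer_iff] at hg ⊢
        exact ⟨(hψsmul g a).trans hg.1, (hψsmul g b).trans hg.2⟩
      · intro hr
        obtain ⟨g, rfl⟩ := hψsurj r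
        rw [Subgroup.mem_inf, mem_stabilizer_iff, mem_stabilizer_iff] at hr
        refine ⟨g, ?_, rfl⟩
        rw [Subgroup.mem_inf, mem_stabilizer_iff, mem_stabilizer_iff]
        exact ⟨(hψsmul g a).symm.trans hr.1, (hψsmul g b).symm.trans hr.2⟩
    rw [hmap]
    exact hN'idx
  · intro n hn
    rw [Subgroup.mem_comap] at hn ⊢
    rw [map_mul, map_mul, map_inv, hψs]
    exact hN's _ hn

/-- A simple Zassenhaus group is not sharply triply transitive of even degree. -/
theorem simple_not_sharp [Finite G] [IsSimpleGroup G] (hZ : Cfsg.IsZassenhausGroup G Ω)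
    {a b : Ω} (hab : a ≠ b) (H : Subgroup G) (hHa : H ≤ stabilizer G a)
    (hHcard : Nat.card H + 1 = Fintype.card Ω)
    (hHfix : ∀ u ∈ H, u ≠ 1 → ∀ c : Ω, u • c = c → c = a)
    (hd : Nat.card ↥(stabilizer G a ⊓ stabilizer G b) = Fintype.card Ω - 2)
    (heven : Even (Nat.card ↥(stabilizer G a ⊓ stabilizer G b))) : False := by
  classical
  have hN3 : 3 ≤ Fintype.card Ω := by
    have h3 := zass_three_le_card hZ (Ω := Ω)
    rwa [Nat.card_eq_fintype_card] at h3
  have hdpos : 0 < Nat.card ↥(stabilizer G a ⊓ stabilizer G b) := Nat.card_pos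
  have hevenΩ : Even (Fintype.card Ω) := by
    obtain ⟨m, hm⟩ := heven
    exact ⟨m + 1, by omega⟩
  have h4 : 4 ≤ Fintype.card Ω := by
    obtain ⟨m, hm⟩ := heven
    omega
  obtain ⟨h3, hsharp⟩ := sharp3_of_card hZ hab hd
  have hDtr := (two_stab_dvd hZ hab).2 hd
  have hTn := zk_normal hZ H hHa hHcard hHfix
  have hTtr : ∀ c e : Ω, c ≠ a → e ≠ a → ∃ t ∈ H, t • c = e := fun c e hc he =>
    zk_trans hZ H hHa hHcard hHfix hc he
  have hT1 := zk_exists_ne_one hZ H hHa hHcard hHfix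
  obtain ⟨c, hca, hcb⟩ : ∃ c : Ω, c ≠ a ∧ c ≠ b := by
    by_contra hcon
    push Not at hcon
    have hle : Fintype.card Ω ≤ 2 := by
      have hsub : (Finset.univ : Finset Ω) ⊆ {a, b} := by
        intro x _
        by_cases hxa : x = a
        · simp [hxa]
        · simp [hcon x hxa]
      calc Fintype.card Ω = (Finset.univ : Finset Ω).card := rfl
        _ ≤ ({a, b} : Finset Ω).card := Finset.card_le_card hsub
        _ ≤ 2 := Finset.card_le_two
    omega
  obtain ⟨g₁, hg₁a, hg₁b⟩ := zass_two_trans hZ hab (Ne.symm hab)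
  have hc'a : g₁ • c ≠ a := by
    rw [← hg₁b]
    exact fun h => hcb (smul_left_cancel g₁ h)
  have hc'b : g₁ • c ≠ b := by
    rw [← hg₁a]
    exact fun h => hca (smul_left_cancel g₁ h)
  obtain ⟨k, hka, hkb, hkc⟩ := hDtr (g₁ • c) c hc'a hc'b hca hcb
  obtain ⟨s, hs⟩ : ∃ s : G, s = k * g₁ := ⟨_, rfl⟩
  have hsa : s • a = b := by rw [hs, mul_smul, hg₁a, hkb]
  have hsb : s • b = a := by rw [hs, mul_smul, hg₁b, hka]
  have hsc : s • c = c := by rw [hs, mul_smul, hkc]
  have hss : s * s = 1 := by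
    apply hZ.2.2.1 (s * s) a b c hab (Ne.symm hcb) (Ne.symm hca)
    · rw [mul_smul, hsa, hsb]
    · rw [mul_smul, hsb, hsa]
    · rw [mul_smul, hsc, hsc]
  obtain ⟨N₀, hN₀, hidx, hsN⟩ : ∃ N₀ : Subgroup G, N₀ ≤ stabilizer G a ⊓ stabilizer G b ∧
      N₀.relIndex (stabilizer G a ⊓ stabilizer G b) = 2 ∧ ∀ n ∈ N₀, s * n * s⁻¹ ∈ N₀ := by
    by_cases h6 : 6 ≤ Fintype.card Ω
    · exact exists_invariant_index_two hab (Ne.symm hca) (Ne.symm hcb) hevenΩ h6 h3 hsharp s
        hsa hsb hsc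
    · refine ⟨⊥, bot_le, ?_, ?_⟩
      · rw [Subgroup.relIndex_bot_left, hd]
        obtain ⟨m, hm⟩ := hevenΩ
        omega
      · intro n hn
        rw [Subgroup.mem_bot] at hn ⊢
        rw [hn]
        group
  obtain ⟨S, hS⟩ := Cfsg.Agent.Lib.helper16.Sharp3Idx.index_two_of_bn hab H hHa hTn hTtr hHfix
    hT1 hDtr N₀ hN₀ hidx s hsa hsb hss hsN
  have hSn := Subgroup.normal_of_index_eq_two hS
  rcases hSn.eq_bot_or_eq_top with h | h
  · rw [h, Subgroup.index_bot] at hS
    have h1 := Subgroup.card_le_card_group H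
    omega
  · rw [h, Subgroup.index_top] at hS
    omega

end Cfsg.Agent.Lib.helper16.ZassEven
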