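-- helper16: piece H (`exists_std`) of helper15's Zassenhaus split for S0690
-- (a perfect group of fixed-point-free automorphisms is SL(2,5)); see tools/S0690_SPEC.md.
import Mathlib
import Cfsg.Prelude.Def_Transfer
import Cfsg.Agent.Lib.helper15.ZassDefs

set_option autoImplicit false
set_option linter.style.haveILetI false
set_option linter.unusedSectionVars false
set_option linter.unusedVariables false

namespace Cfsg.Agent.Lib.helper16

open Cfsg.Agent.Lib.helper15.Zass

theorem zassH_preStd_ne_one {G : Type*} [Group G] {u v g : G} (h : PreStd u v g) : g ≠ 1 := by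
  intro hg
  have h1 : v = u := by rw [← h.gu, hg]; group
  have h2 := h.vu
  rw [h1] at h2
  have h3 : u = u⁻¹ := by simpa using h2
  apply h.u2
  calc u ^ 2 = u * u := pow_two u
    _ = u * u⁻¹ := by rw [← h3]
    _ = 1 := mul_inv_cancel u

theorem zassH_two_pow_ge (m n N : ℕ) (hN : N = 24 ∨ N = 48 ∨ N = 120) (hodd : Odd m)
    (h : m * 2 ^ n = N) : 8 ≤ 2 ^ n := by
  obtain ⟨j, rfl⟩ := hodd
  rcases n with _ | _ | _ | n
  · norm_num at h; omega
  · norm_num at h; omega
  · norm_num at h; omega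
  · have : 1 ≤ 2 ^ n := Nat.one_le_two_pow
    rw [pow_succ, pow_succ, pow_succ]
    omega

theorem zassH_hom_trivial {G A : Type*} [Group G] [Group A] (hperf : commutator G = ⊤)
    (f : G →* A) (hA : ∀ a b : A, a * b = b * a) (g : G) : f g = 1 := by
  have hle : commutator G ≤ f.ker := by
    rw [commutator_eq_closure, Subgroup.closure_le]
    rintro _ ⟨a, b, rfl⟩
    rw [SetLike.mem_coe, MonoidHom.mem_ker, map_commutatorElement, commutatorElement_def,
      hA (f a) (f b)]
    group
  have hg : g ∈ commutator G := by rw [hperf]; exact Subgroup.mem_top g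
  exact MonoidHom.mem_ker.1 (hle hg)

/-- a finite perfect group of even order has no normal 2-complement -/
theorem zassH_no_npc {X : Type*} [Group X] [Finite X] [Group.IsPerfect X]
    (h2 : 2 ∣ Nat.card X) : ¬ Cfsg.HasNormalPComplement 2 X := by
  haveI : Fact (Nat.Prime 2) := ⟨Nat.prime_two⟩
  rintro ⟨P, N, hN, hc⟩
  haveI := hN
  have hidx : N.index = Nat.card P := hc.symm.index_eq_card
  have hPp : IsPGroup 2 (X ⧸ N) := by
    obtain ⟨n, hn⟩ := IsPGroup.iff_card.mp P.isPGroup'
    apply IsPGroup.of_card (n := n)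
    rw [← Subgroup.index_eq_card, hidx, hn]
  haveI : Nontrivial (X ⧸ N) := by
    rw [← Finite.one_lt_card_iff_nontrivial, ← Subgroup.index_eq_card, hidx]
    have h3 := P.ne_bot_of_dvd_card h2
    by_contra hle
    push Not at hle
    exact h3 ((Subgroup.card_le_one_iff_eq_bot _).1 hle)
  haveI : Group.IsNilpotent (X ⧸ N) := hPp.isNilpotent
  exact Group.IsPerfect.not_isNilpotent (X ⧸ N) inferInstance

/-- commuting elements of order three generate a cyclic group (of order three) -/
theorem zassH_mem_zpowers {G : Type*} [Group G] [Finite G] (h : ZH G) {y y' : G}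
    (hy : orderOf y = 3) (hy' : y' ^ 3 = 1) (hc : y * y' = y' * y) :
    y' ∈ Subgroup.zpowers y := by
  haveI : Fact (Nat.Prime 3) := ⟨Nat.prime_three⟩
  have hy3 : y ^ 3 = 1 := by rw [← hy]; exact pow_orderOf_eq_one y
  obtain ⟨A, hA⟩ : ∃ A : Subgroup G, A = Subgroup.closure {y, y'} := ⟨_, rfl⟩
  have hcomm : ∀ a ∈ ({y, y'} : Set G), ∀ b ∈ ({y, y'} : Set G), a * b = b * a := by
    intro a ha b hb
    simp only [Set.mem_insert_iff, Set.mem_singleton_iff] at ha hb
    rcases ha with rfl | rfl <;> rcases hb with rfl | rfl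
    · rfl
    · exact hc
    · exact hc.symm
    · rfl
  have hAc : ∀ a ∈ Subgroup.closure {y, y'}, ∀ b ∈ Subgroup.closure {y, y'}, a * b = b * a := by
    intro a ha b hb
    have h1 := (Subgroup.closureCommGroupOfComm hcomm).mul_comm ⟨a, ha⟩ ⟨b, hb⟩
    exact congrArg Subtype.val h1
  have hA3 : ∀ a ∈ Subgroup.closure {y, y'}, a ^ 3 = 1 := by
    intro a ha
    induction ha using Subgroup.closure_induction with
    | mem x hx =>
      simp only [Set.mem_insert_iff, Set.mem_singleton_iff] at hx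
      rcases hx with rfl | rfl
      · exact hy3
      · exact hy'
    | one => exact one_pow 3
    | mul a b ha hb iha ihb =>
      have hab : Commute a b := hAc a ha b hb
      rw [hab.mul_pow, iha, ihb, one_mul]
    | inv a ha iha => rw [inv_pow, iha, inv_one]
  have hAp : IsPGroup 3 (Subgroup.closure {y, y'}) := by
    intro a
    refine ⟨1, ?_⟩
    apply Subtype.ext
    rw [pow_one]
    simpa using hA3 a.1 a.2
  rcases h.pgrp 3 _ hAp with hcyc | ⟨h32, _⟩
  · obtain ⟨γ, hγ⟩ := hcyc.exists_generator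
    have hγ3 : γ ^ 3 = 1 := Subtype.ext (by simpa using hA3 γ.1 γ.2)
    have hcard : Nat.card (Subgroup.closure {y, y'}) ∣ 3 := by
      rw [← orderOf_eq_card_of_forall_mem_zpowers hγ]
      exact orderOf_dvd_of_pow_eq_one hγ3
    have hyA : y ∈ Subgroup.closure {y, y'} := Subgroup.subset_closure (by simp)
    have hy'A : y' ∈ Subgroup.closure {y, y'} := Subgroup.subset_closure (by simp)
    have hle : Subgroup.zpowers y ≤ Subgroup.closure {y, y'} := by
      rw [Subgroup.zpowers_le]; exact hyA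
    have heq : Subgroup.zpowers y = Subgroup.closure {y, y'} := by
      apply Subgroup.eq_of_le_of_card_ge hle
      rw [Nat.card_zpowers, hy]
      exact Nat.le_of_dvd (by norm_num) hcard
    rw [heq]; exact hy'A
  · omega

set_option maxHeartbeats 400000 in
theorem exists_std {G : Type*} [Group G] [Finite G] (h : ZH G) (hperf : commutator G = ⊤)
    (hnt : Nontrivial G)
    (hPF : ∀ X : Subgroup G, ¬ Cfsg.HasNormalPComplement 2 X →
      ∃ u v g : G, u ∈ X ∧ v ∈ X ∧ g ∈ X ∧ PreStd u v g ∧ ∃ k : ℕ, orderOf g = 3 ^ k) :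
    ∃ u v x : G, Std u v x := by
  haveI : Fact (Nat.Prime 2) := ⟨Nat.prime_two⟩
  haveI : Fact (Nat.Prime 3) := ⟨Nat.prime_three⟩
  haveI hP : Group.IsPerfect G := ⟨hperf⟩
  -- a Sylow 2-subgroup is not cyclic
  have hnz : ¬ IsZGroup G := by
    intro hz
    exact (IsZGroup.commutator_lt G).ne hperf
  obtain ⟨P₀, hP₀⟩ : ∃ P₀ : Sylow 2 G, ¬ IsCyclic P₀ := by
    by_contra hcon
    push Not at hcon
    apply hnz
    constructor
    intro p hp P
    haveI : Fact p.Prime := ⟨hp⟩
    rcases h.pgrp p P P.isPGroup' with hc | ⟨h2, _⟩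
    · exact hc
    · subst h2; exact hcon P
  have h2G : 2 ∣ Nat.card G := by
    obtain ⟨n, hn⟩ := IsPGroup.iff_card.mp P₀.isPGroup'
    have hn1 : n ≠ 0 := by
      rintro rfl
      rw [pow_zero] at hn
      apply hP₀
      haveI : Subsingleton P₀ := (Nat.card_eq_one_iff_unique.1 hn).1
      exact isCyclic_of_subsingleton
    have h3 : 2 ∣ Nat.card P₀ := by rw [hn]; exact dvd_pow_self 2 hn1
    exact h3.trans (Subgroup.card_subgroup_dvd_card _)
  have hS1 : ¬ Cfsg.HasNormalPComplement 2 (⊤ : Subgroup G) := by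
    apply zassH_no_npc
    rw [Subgroup.card_top]; exact h2G
  obtain ⟨u, v, g, -, -, -, hpre, k, hk⟩ := hPF ⊤ hS1
  have hg1 := zassH_preStd_ne_one hpre
  have hk0 : k ≠ 0 := by
    rintro rfl
    rw [pow_zero, orderOf_eq_one_iff] at hk
    exact hg1 hk
  obtain ⟨y, hy⟩ : ∃ y : G, orderOf y = 3 := by
    refine ⟨g ^ 3 ^ (k - 1), ?_⟩
    rw [orderOf_pow_of_dvd (by positivity) (by rw [hk]; exact pow_dvd_pow 3 (Nat.sub_le k 1)), hk]
    obtain ⟨j, rfl⟩ := Nat.exists_eq_succ_of_ne_zero hk0
    rw [Nat.succ_sub_one, pow_succ, Nat.mul_div_cancel_left _ (by positivity)]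
  have hy3 : y ^ 3 = 1 := by rw [← hy]; exact pow_orderOf_eq_one y
  -- y is not central
  have hync : y ∉ Subgroup.center G := by
    intro hyc
    have hpow : ∀ g : G, g ^ (Subgroup.center G).index = 1 := by
      intro g
      have h1 := zassH_hom_trivial hperf (MonoidHom.transferCenterPow G)
        (fun a b => Subtype.ext (Subgroup.mem_center_iff.1 b.2 a.1)) g
      have h2 := congrArg Subtype.val h1
      rw [MonoidHom.transferCenterPow_apply] at h2
      exact h2
    obtain ⟨P₃⟩ : Nonempty (Sylow 3 G) := inferInstance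
    rcases h.pgrp 3 P₃ P₃.isPGroup' with hc | ⟨h32, _⟩
    · obtain ⟨γ, hγ⟩ := hc.exists_generator
      have hγord : orderOf γ = Nat.card P₃ := orderOf_eq_card_of_forall_mem_zpowers hγ
      have h1 : Nat.card P₃ ∣ (Subgroup.center G).index := by
        rw [← hγord, ← Subgroup.orderOf_coe]
        exact orderOf_dvd_of_pow_eq_one (hpow γ.1)
      have h3 : 3 ∣ Nat.card (Subgroup.center G) := by
        rw [← hy]; exact Subgroup.orderOf_dvd_natCard _ hyc
      have h4 : Nat.card (Subgroup.center G) * (Subgroup.center G).index = Nat.card G :=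
        Subgroup.card_mul_index _
      have h5 : 3 * Nat.card P₃ ∣ Nat.card G := by rw [← h4]; exact Nat.mul_dvd_mul h3 h1
      rw [P₃.card_eq_multiplicity, ← pow_succ'] at h5
      exact Nat.pow_succ_factorization_not_dvd Nat.card_pos.ne' Nat.prime_three h5
    · omega
  -- some conjugate of y does not commute with y
  obtain ⟨c, hc⟩ : ∃ c : G, y * (c * y * c⁻¹) ≠ (c * y * c⁻¹) * y := by
    by_contra hcon
    push Not at hcon
    have hmem : ∀ c : G, c * y * c⁻¹ ∈ Subgroup.zpowers y := by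
      intro c
      apply zassH_mem_zpowers h hy _ (hcon c)
      calc (c * y * c⁻¹) ^ 3 = c * y ^ 3 * c⁻¹ := by rw [conj_pow]
        _ = 1 := by rw [hy3]; group
    haveI hnorm : (Subgroup.zpowers y).Normal := by
      constructor
      intro n hn c
      obtain ⟨i, rfl⟩ := Subgroup.mem_zpowers_iff.1 hn
      have h1 : c * y ^ i * c⁻¹ = (c * y * c⁻¹) ^ i := by rw [conj_zpow]
      rw [h1]
      exact Subgroup.zpow_mem _ (hmem c) i
    have hAcomm : ∀ a b : MulAut (Subgroup.zpowers y), a * b = b * a := by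
      intro a b
      apply (IsCyclic.mulAutMulEquiv (Subgroup.zpowers y)).injective
      rw [map_mul, map_mul, mul_comm]
    have htriv : ∀ c : G, c * y * c⁻¹ = y := by
      intro c
      have h1 := zassH_hom_trivial hperf (MulAut.conjNormal (H := Subgroup.zpowers y)) hAcomm c
      have h2 : ((MulAut.conjNormal (H := Subgroup.zpowers y)) c ⟨y, Subgroup.mem_zpowers y⟩ : G)
          = c * y * c⁻¹ := MulAut.conjNormal_apply c ⟨y, Subgroup.mem_zpowers y⟩
      rw [h1] at h2
      exact h2.symm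
    apply hync
    rw [Subgroup.mem_center_iff]
    intro c
    calc c * y = (c * y * c⁻¹) * c := by group
      _ = y * c := by rw [htriv c]
  obtain ⟨y', hy'⟩ : ∃ y' : G, y' = c * y * c⁻¹ := ⟨_, rfl⟩
  rw [← hy'] at hc
  have hy'3 : y' ^ 3 = 1 := by rw [hy', conj_pow, hy3]; group
  obtain ⟨z, hz⟩ : ∃ z : G, z = u ^ 2 := ⟨_, rfl⟩
  have hz1 : z ≠ 1 := by rw [hz]; exact hpre.u2
  have hz2 : z ^ 2 = 1 := by rw [hz, ← pow_mul]; exact hpre.u4
  have hCS0 := h.h4 y y' z hy3 hy'3 hc hz1 hz2
  obtain ⟨K, hK⟩ : ∃ K : Subgroup G, K = Subgroup.closure {y, y', z} := ⟨_, rfl⟩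
  rw [← hK] at hCS0
  have hCS : Nat.card K = 24 ∨ Nat.card K = 48 ∨ Nat.card K = 120 := hCS0
  have hKle : K ≤ Subgroup.closure {y, y', z} := le_of_eq hK
  have hyK : y ∈ K := by rw [hK]; exact Subgroup.subset_closure (by simp)
  have hy'K : y' ∈ K := by rw [hK]; exact Subgroup.subset_closure (by simp)
  have hzK : z ∈ K := by rw [hK]; exact Subgroup.subset_closure (by simp)
  have hS5 : ¬ Cfsg.HasNormalPComplement 2 K := by
    rintro ⟨P, N, hN, hcomp⟩
    haveI := hN
    have hidx : N.index = Nat.card P := hcomp.symm.index_eq_card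
    have hmul : Nat.card N * Nat.card P = Nat.card K := hcomp.card_mul_card
    obtain ⟨n, hn⟩ := IsPGroup.iff_card.mp P.isPGroup'
    have hNodd : Odd (Nat.card N) := by
      have h1 : (P : Subgroup K).index = Nat.card N := hcomp.index_eq_card
      rw [← h1, ← Nat.not_even_iff_odd, even_iff_two_dvd]
      exact P.not_dvd_index
    have h8 : 8 ≤ Nat.card P := by
      rw [hn]
      rw [hn] at hmul
      exact zassH_two_pow_ge _ _ _ hCS hNodd hmul
    have hodd_mem : ∀ w : K, w ^ 3 = 1 → w ∈ N := by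
      intro w hw
      rw [← QuotientGroup.eq_one_iff]
      have h1 : orderOf ((w : K ⧸ N)) ∣ 3 :=
        orderOf_dvd_of_pow_eq_one (by rw [← QuotientGroup.mk_pow, hw]; rfl)
      have h2 : orderOf ((w : K ⧸ N)) ∣ 2 ^ n := by
        rw [← hn, ← hidx, Subgroup.index_eq_card]; exact orderOf_dvd_natCard _
      have h3 : orderOf ((w : K ⧸ N)) ∣ Nat.gcd 3 (2 ^ n) := Nat.dvd_gcd h1 h2
      have h4 : Nat.gcd 3 (2 ^ n) = 1 := Nat.Coprime.pow_right n (by norm_num)
      rw [h4, Nat.dvd_one, orderOf_eq_one_iff] at h3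
      exact h3
    obtain ⟨zK, hzK'⟩ : ∃ zK : K, zK = ⟨z, hzK⟩ := ⟨_, rfl⟩
    have hyN : (⟨y, hyK⟩ : K) ∈ N := hodd_mem _ (Subtype.ext (by simpa using hy3))
    have hy'N : (⟨y', hy'K⟩ : K) ∈ N := hodd_mem _ (Subtype.ext (by simpa using hy'3))
    have htop : Subgroup.zpowers zK ⊔ N = ⊤ := by
      rw [eq_top_iff]
      intro w _
      have hle : Subgroup.closure {y, y', z} ≤ (Subgroup.zpowers zK ⊔ N).map K.subtype := by
        rw [Subgroup.closure_le]
        intro t ht
        simp only [Set.mem_insert_iff, Set.mem_singleton_iff] at ht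
        rcases ht with rfl | rfl | rfl
        · exact ⟨⟨t, hyK⟩, (le_sup_right : N ≤ _) hyN, rfl⟩
        · exact ⟨⟨t, hy'K⟩, (le_sup_right : N ≤ _) hy'N, rfl⟩
        · exact ⟨zK, (le_sup_left : Subgroup.zpowers zK ≤ _) (Subgroup.mem_zpowers zK),
            by rw [hzK']; rfl⟩
      obtain ⟨w', hw', hww⟩ := hle (hKle w.2)
      have h1 : w' = w := Subtype.ext hww
      rw [← h1]; exact hw'
    have hrel : N.index ∣ 2 := by
      rw [← Subgroup.relIndex_top_right, ← htop, Subgroup.relIndex_sup_right]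
      have h1 := Subgroup.relIndex_dvd_card N (Subgroup.zpowers zK)
      have h2 : Nat.card (Subgroup.zpowers zK) ∣ 2 := by
        rw [Nat.card_zpowers]
        apply orderOf_dvd_of_pow_eq_one
        rw [hzK']
        exact Subtype.ext (by simpa using hz2)
      exact h1.trans h2
    have h9 := Nat.le_of_dvd (by norm_num) hrel
    omega
  obtain ⟨u', v', g', -, -, hg'K, hpre', k', hk'⟩ := hPF K hS5
  have hg'1 := zassH_preStd_ne_one hpre'
  have hdvd : 3 ^ k' ∣ Nat.card K := by
    rw [← hk']; exact Subgroup.orderOf_dvd_natCard K hg'K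
  have hk'1 : k' = 1 := by
    have h0 : k' ≠ 0 := by
      rintro rfl
      rw [pow_zero, orderOf_eq_one_iff] at hk'
      exact hg'1 hk'
    by_contra hne
    have h2 : 2 ≤ k' := by omega
    have h9 : 3 ^ 2 ∣ Nat.card K := (pow_dvd_pow 3 h2).trans hdvd
    rcases hCS with e | e | e <;> (rw [e] at h9; norm_num at h9)
  have ho : orderOf g' = 3 := by rw [hk', hk'1, pow_one]
  refine ⟨u', v', g', hpre'.std ?_⟩
  rw [← ho]
  exact pow_orderOf_eq_one g'

end Cfsg.Agent.Lib.helper16
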