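-- helper16: piece Q (`min_nonab_q8`) of helper15's split for S3359/S0686
-- (tools/S3359_S0686_SPEC.md): a minimal non-abelian normal subgroup centralising a maximal
-- abelian normal subgroup, not perfect, in a group whose p-subgroups are cyclic or generalised
-- quaternion, is a quaternion group of order 8.
import Mathlib

set_option autoImplicit false
set_option linter.style.haveILetI false
set_option linter.unusedVariables false

namespace Cfsg.Agent.Lib.helper16

open scoped commutatorElement

/-- in a generalised quaternion group of class at most two, `n ≤ 1` -/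
theorem zassQ_quat_class_two (n : ℕ)
    (hcl : ∀ x y z : QuaternionGroup (2 ^ n), ⁅x, y⁆ * z = z * ⁅x, y⁆) : n ≤ 1 := by
  have h1 : ⁅(QuaternionGroup.a 1 : QuaternionGroup (2 ^ n)), (QuaternionGroup.xa 0 : QuaternionGroup (2 ^ n))⁆ =
      QuaternionGroup.a 2 := by
    have e1 : ⁅(QuaternionGroup.a 1 : QuaternionGroup (2 ^ n)), (QuaternionGroup.xa 0 : QuaternionGroup (2 ^ n))⁆ *
        (QuaternionGroup.xa 0 * QuaternionGroup.a 1) =
        QuaternionGroup.a 1 * QuaternionGroup.xa 0 := by
      rw [commutatorElement_def]; group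
    have e2 : (QuaternionGroup.a 2 : QuaternionGroup (2 ^ n)) *
        (QuaternionGroup.xa 0 * QuaternionGroup.a 1) =
        QuaternionGroup.a 1 * QuaternionGroup.xa 0 := by
      rw [QuaternionGroup.xa_mul_a, QuaternionGroup.a_mul_xa, QuaternionGroup.a_mul_xa]
      congr 1
      ring
    exact mul_right_cancel (e1.trans e2.symm)
  have h2 := hcl (QuaternionGroup.a 1) (QuaternionGroup.xa 0) (QuaternionGroup.xa 0)
  rw [h1, QuaternionGroup.a_mul_xa, QuaternionGroup.xa_mul_a] at h2
  have h3 : (0 : ZMod (2 * 2 ^ n)) - 2 = 0 + 2 := by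
    injection h2
  have h4 : ((4 : ℕ) : ZMod (2 * 2 ^ n)) = 0 := by
    push_cast
    linear_combination (-1 : ZMod (2 * 2 ^ n)) * h3
  rw [ZMod.natCast_eq_zero_iff] at h4
  by_contra hn
  push Not at hn
  have h5 : 2 ^ 2 ≤ 2 ^ n := Nat.pow_le_pow_right (by norm_num) hn
  have h6 := Nat.le_of_dvd (by norm_num) h4
  omega

theorem min_nonab_q8 {H : Type*} [Group H] [Finite H]
    (hpg : ∀ (p : ℕ) [Fact p.Prime] (P : Subgroup H), IsPGroup p P →
      IsCyclic P ∨ (p = 2 ∧ ∃ n : ℕ, Nonempty (P ≃* QuaternionGroup (2 ^ n))))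
    (A : Subgroup H) (hAn : A.Normal) (hAc : IsMulCommutative A)
    (hAmax : ∀ B : Subgroup H, B.Normal → IsMulCommutative B → A ≤ B → B = A)
    (N : Subgroup H) (hNn : N.Normal) (hNle : N ≤ Subgroup.centralizer (A : Set H))
    (hNna : ¬ IsMulCommutative N)
    (hNmin : ∀ M : Subgroup H, M.Normal → M ≤ N → ¬ IsMulCommutative M → M = N)
    (hnp : commutator N ≠ ⊤) : Nonempty (N ≃* QuaternionGroup 2) := by
  haveI := hAn
  haveI := hNn
  -- elements of A commute with elements of N
  have hAN : ∀ a ∈ A, ∀ x ∈ N, a * x = x * a := by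
    intro a ha x hx
    exact Subgroup.mem_centralizer_iff.1 (hNle hx) a ha
  -- every normal commutative subgroup of N lies in A
  have hB : ∀ B : Subgroup H, B.Normal → IsMulCommutative B → B ≤ N → B ≤ A := by
    intro B hBn hBc hBN
    haveI := hBn
    have hcomm : ∀ x ∈ ((A : Set H) ∪ (B : Set H)), ∀ y ∈ ((A : Set H) ∪ (B : Set H)),
        x * y = y * x := by
      intro x hx y hy
      rcases hx with hx | hx <;> rcases hy with hy | hy
      · exact congrArg Subtype.val (mul_comm' (⟨x, hx⟩ : A) ⟨y, hy⟩)
      · exact hAN x hx y (hBN hy)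
      · exact (hAN y hy x (hBN hx)).symm
      · exact congrArg Subtype.val (mul_comm' (⟨x, hx⟩ : B) ⟨y, hy⟩)
    have hsup : A ⊔ B = Subgroup.closure ((A : Set H) ∪ (B : Set H)) := by
      rw [Subgroup.closure_union, Subgroup.closure_eq, Subgroup.closure_eq]
    have hc : IsMulCommutative (A ⊔ B : Subgroup H) := by
      rw [hsup]; exact Subgroup.isMulCommutative_closure hcomm
    have h1 := hAmax (A ⊔ B) inferInstance hc le_sup_left
    rw [← h1]; exact le_sup_right
  -- the commutator subgroup of N
  have hN'le : ⁅N, N⁆ ≤ N := Subgroup.commutator_le_right N N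
  have hN'ne : ⁅N, N⁆ ≠ N := by
    intro h
    apply hnp
    rw [← Group.isPerfect_def, Subgroup.isPerfect_iff]
    exact h
  have hN'c : IsMulCommutative (⁅N, N⁆ : Subgroup H) := by
    by_contra hnc
    exact hN'ne (hNmin _ inferInstance hN'le hnc)
  have hN'A : ⁅N, N⁆ ≤ A := hB _ inferInstance hN'c hN'le
  -- class two
  have hcl : ∀ x y z : N, ⁅x, y⁆ * z = z * ⁅x, y⁆ := by
    intro x y z
    apply Subtype.ext
    have h1 : ((⁅x, y⁆ : N) : H) ∈ A := by
      apply hN'A
      have : ((⁅x, y⁆ : N) : H) = ⁅(x : H), (y : H)⁆ := rfl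
      rw [this]
      exact Subgroup.commutator_mem_commutator x.2 y.2
    exact hAN _ h1 z.1 z.2
  -- N is nilpotent
  have hnil : Group.IsNilpotent N := by
    apply Subgroup.isNilpotent_of_ker_le_center (Abelianization.of (G := N))
    · intro c hc
      rw [Abelianization.ker_of] at hc
      rw [Subgroup.mem_center_iff]
      intro z
      have hmem : c ∈ Subgroup.closure (commutatorSet N) := by
        rw [← commutator_eq_closure]; exact hc
      induction hmem using Subgroup.closure_induction with
      | mem w hw =>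
        obtain ⟨x, y, rfl⟩ := hw
        exact (hcl x y z).symm
      | one => rw [one_mul, mul_one]
      | mul a b _ _ iha ihb =>
        have ha := iha (by rw [commutator_eq_closure]; assumption)
        have hb := ihb (by rw [commutator_eq_closure]; assumption)
        calc z * (a * b) = (z * a) * b := by group
          _ = (a * z) * b := by rw [ha]
          _ = a * (z * b) := by group
          _ = a * (b * z) := by rw [hb]
          _ = a * b * z := by group
      | inv a _ iha =>
        have ha := iha (by rw [commutator_eq_closure]; assumption)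
        calc z * a⁻¹ = a⁻¹ * (a * z) * a⁻¹ := by group
          _ = a⁻¹ * (z * a) * a⁻¹ := by rw [ha]
          _ = a⁻¹ * z := by group
  -- some Sylow subgroup of N is not commutative
  obtain ⟨φ⟩ := ((Group.isNilpotent_of_finite_tfae (G := N)).out 0 4).mp hnil
  have hex : ∃ p : (Nat.card N).primeFactors, ∃ P : Sylow p N, ∃ a ∈ P, ∃ b ∈ P,
      a * b ≠ b * a := by
    by_contra hcon
    push Not at hcon
    apply hNna
    rw [isMulCommutative_iff]
    intro x y
    have hfg : φ.symm x * φ.symm y = φ.symm y * φ.symm x := by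
      funext p P
      exact Subtype.ext (hcon p P _ (φ.symm x p P).2 _ (φ.symm y p P).2)
    have h1 := congrArg φ hfg
    rw [map_mul, map_mul, MulEquiv.apply_symm_apply, MulEquiv.apply_symm_apply] at h1
    exact h1
  obtain ⟨p, P, a, ha, b, hb, hab⟩ := hex
  haveI : Fact (p : ℕ).Prime := ⟨Nat.prime_of_mem_primeFactors p.2⟩
  haveI hPn : (P : Subgroup N).Normal := inferInstance
  haveI hPc : (P : Subgroup N).Characteristic := Sylow.characteristic_of_normal P hPn
  have hPmn : ((P : Subgroup N).map N.subtype).Normal := inferInstance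
  have hPmle : (P : Subgroup N).map N.subtype ≤ N := Subgroup.map_subtype_le _
  have hPmnc : ¬ IsMulCommutative ((P : Subgroup N).map N.subtype : Subgroup H) := by
    intro hc
    apply hab
    have h1 := mul_comm' (⟨a.1, ⟨a, ha, rfl⟩⟩ : (P : Subgroup N).map N.subtype)
      ⟨b.1, ⟨b, hb, rfl⟩⟩
    have h2 : (a : H) * (b : H) = (b : H) * (a : H) := congrArg Subtype.val h1
    exact Subtype.ext h2
  have hPN := hNmin _ hPmn hPmle hPmnc
  have hPtop : ∀ x : N, x ∈ P := by
    intro x
    have h1 : (x : H) ∈ (P : Subgroup N).map N.subtype := by rw [hPN]; exact x.2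
    obtain ⟨y, hy, hyx⟩ := h1
    have h2 : y = x := Subtype.ext hyx
    rw [← h2]; exact hy
  have hNp : IsPGroup (p : ℕ) N := by
    intro x
    obtain ⟨k, hk⟩ := P.isPGroup' ⟨x, hPtop x⟩
    exact ⟨k, by simpa using congrArg Subtype.val hk⟩
  rcases hpg p N hNp with hcyc | ⟨_, n, ⟨e⟩⟩
  · exfalso
    apply hNna
    rw [isMulCommutative_iff]
    intro x y
    obtain ⟨g, hg⟩ := hcyc.exists_generator
    obtain ⟨i, rfl⟩ := Subgroup.mem_zpowers_iff.1 (hg x)
    obtain ⟨j, rfl⟩ := Subgroup.mem_zpowers_iff.1 (hg y)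
    rw [← zpow_add, ← zpow_add, add_comm]
  · have hclQ : ∀ x y z : QuaternionGroup (2 ^ n), ⁅x, y⁆ * z = z * ⁅x, y⁆ := by
      intro x y z
      have h1 := congrArg e (hcl (e.symm x) (e.symm y) (e.symm z))
      simpa [map_commutatorElement] using h1
    have hn1 := zassQ_quat_class_two n hclQ
    have hn0 : n ≠ 0 := by
      rintro rfl
      apply hNna
      rw [isMulCommutative_iff]
      intro x y
      have hcyc : IsCyclic (QuaternionGroup (2 ^ 0)) := QuaternionGroup.quaternionGroup_one_isCyclic
      obtain ⟨g, hg⟩ := hcyc.exists_generator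
      obtain ⟨i, hi⟩ := Subgroup.mem_zpowers_iff.1 (hg (e x))
      obtain ⟨j, hj⟩ := Subgroup.mem_zpowers_iff.1 (hg (e y))
      apply e.injective
      rw [map_mul, map_mul, ← hi, ← hj, ← zpow_add, ← zpow_add, add_comm]
    have hn : n = 1 := by omega
    subst hn
    exact ⟨e⟩

end Cfsg.Agent.Lib.helper16
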