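-- helper16: piece R (`exists_perfect_normal`) of helper15's split for S3359/S0686
-- (tools/S3359_S0686_SPEC.md): a finite non-solvable group has a nontrivial perfect normal
-- subgroup (the last term of the derived series).
import Mathlib

set_option autoImplicit false

namespace Cfsg.Agent.Lib.helper16

theorem exists_perfect_normal {G : Type*} [Group G] [Finite G] (hns : ¬ Group.IsSolvable G) :
    ∃ S : Subgroup G, S.Normal ∧ S ≠ ⊥ ∧ commutator S = ⊤ := by
  have hstab : ∃ n, derivedSeries G (n + 1) = derivedSeries G n := by
    by_contra hcon
    push Not at hcon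
    have hlt : ∀ n, Nat.card (derivedSeries G (n + 1)) < Nat.card (derivedSeries G n) := by
      intro n
      have hle : derivedSeries G (n + 1) ≤ derivedSeries G n :=
        derivedSeries_antitone G (Nat.le_succ n)
      by_contra hge
      push Not at hge
      exact hcon n (Subgroup.eq_of_le_of_card_ge hle hge)
    have hbound : ∀ n, Nat.card (derivedSeries G n) + n ≤ Nat.card (derivedSeries G 0) := by
      intro n
      induction n with
      | zero => simp
      | succ n ih =>
        have := hlt n
        omega
    have := hbound (Nat.card (derivedSeries G 0) + 1)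
    omega
  obtain ⟨n, hn⟩ := hstab
  refine ⟨derivedSeries G n, derivedSeries_normal G n, ?_, ?_⟩
  · intro hbot
    exact hns ⟨⟨n, hbot⟩⟩
  · rw [← Group.isPerfect_def, Subgroup.isPerfect_iff, ← derivedSeries_succ]
    exact hn

end Cfsg.Agent.Lib.helper16
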